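import Cfsg.Agent.SuzPres.Six
import Cfsg.Agent.SuzPres.SuborbData

/-!
The action of the presented Suzuki group on the 1782 cosets, its suborbits, and simplicity.
-/

set_option autoImplicit false

namespace Cfsg.Lib.SuzPres

open Cfsg.Lib.CosetCert Cfsg.Lib.PermCert

instance actSuz : MulAction Cfsg.Spor.Suz (Fin 1782) := MulAction.compHom (Fin 1782) psi

theorem smul_def (g : Cfsg.Spor.Suz) (x : Fin 1782) : g • x = psi g x := rfl

/-- The one-letter words among the first six. -/
def sixLetters : List (List ℕ) := [[0], [1], [2], [3], [4], [5]]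

theorem im_smul {l : ℕ} (hl : l < 7) (x : Fin 1782) : ((im l • x : Fin 1782) : ℕ) = evalW tabs [l] x := by
  have h := evalW_apply im psi tabs psi_im [l] (fun a ha => by
    rw [List.mem_singleton] at ha
    exact ha ▸ hl) x
  rw [wval_cons, wval_nil, mul_one] at h
  rw [← h, ← map_inv, inv_eq_of_mul_eq_one_left (good_im.inv hl)]
  rfl

/-- The base point. -/
def p0 : Fin 1782 := ⟨0, by norm_num⟩

theorem fix_zero : ∀ l : Fin 6, evalW tabs [l.val] 0 = 0 := by decide +kernel

theorem first_six_le : first 6 ≤ MulAction.stabilizer Cfsg.Spor.Suz p0 := by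
  refine (Subgroup.closure_le _).2 ?_
  rintro _ ⟨l, hl, rfl⟩
  rw [SetLike.mem_coe, MulAction.mem_stabilizer_iff]
  exact Fin.ext ((im_smul (Nat.lt_of_lt_of_le hl (by norm_num)) p0).trans (fix_zero ⟨l, hl⟩))

/-- A set of points, as a bit mask. -/
def maskOf : List (ℕ × ℕ × ℕ) → ℕ → ℕ
  | [], s => s
  | (q, _, _) :: r, s => maskOf r (s ||| 1 <<< q)

/-- A spanning tree of an orbit of the six letters: reached, of known size, and closed. -/
def subOK (b : ℕ) (t : List (ℕ × ℕ × ℕ)) (len : ℕ) : Bool :=
  decide (b < 1782) && scanOrb tabs 1782 sixLetters (1 <<< b) t &&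
    (((List.range 1782).filter fun x => (maskOf t (1 <<< b)).testBit x).length == len) &&
    (List.range 1782).all fun x => !(maskOf t (1 <<< b)).testBit x ||
      sixLetters.all fun w => (maskOf t (1 <<< b)).testBit (evalW tabs w x)

theorem sub1_ok : subOK subBase1 subTree1 416 = true := by decide +kernel

theorem sub2_ok : subOK subBase2 subTree2 1365 = true := by decide +kernel

theorem reach {H : Subgroup Cfsg.Spor.Suz} (hH : first 6 ≤ H) {p : Fin 1782} :
    ∀ (t : List (ℕ × ℕ × ℕ)) (s : ℕ), scanOrb tabs 1782 sixLetters s t = true →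
      (∀ j, s.testBit j = true → ∃ h ∈ H, ((h • p : Fin 1782) : ℕ) = j) →
      ∀ j, (maskOf t s).testBit j = true → ∃ h ∈ H, ((h • p : Fin 1782) : ℕ) = j
  | [], _, _, hs, j, hj => hs j hj
  | (q, par, g) :: r, s, hsc, hs, j, hj => by
    simp only [scanOrb, Bool.and_eq_true, decide_eq_true_eq, beq_iff_eq] at hsc
    obtain ⟨⟨⟨⟨⟨hq, -⟩, hpar⟩, hg⟩, hev⟩, hrest⟩ := hsc
    refine reach hH r _ hrest (fun i hi => ?_) j hj
    rw [Nat.testBit_or, Bool.or_eq_true, Nat.one_shiftLeft, Nat.testBit_two_pow, decide_eq_true_eq] at hi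
    rcases hi with hi | rfl
    · exact hs i hi
    · obtain ⟨h, hh, e⟩ := hs par hpar
      have hg6 : g < 6 := hg
      have e2 : sixLetters.getD g [] = [g] := by interval_cases g <;> rfl
      rw [e2] at hev
      refine ⟨im g * h, mul_mem (hH (im_mem hg6)) hh, ?_⟩
      rw [mul_smul, im_smul (by omega), e]
      exact hev

theorem closed_six {T : Set (Fin 1782)} (h : ∀ l : Fin 6, ∀ x ∈ T, im l.val • x ∈ T) :
    ∀ g ∈ first 6, ∀ x : Fin 1782, x ∈ T ↔ g • x ∈ T := by
  intro g hg
  induction hg using Subgroup.closure_induction with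
  | mem _ hy =>
    obtain ⟨l, hl, rfl⟩ := hy
    have hl6 : l < 6 := hl
    intro x
    refine ⟨h ⟨l, hl6⟩ x, fun hx => ?_⟩
    have := h ⟨l, hl6⟩ _ hx
    rwa [← mul_smul, good_im.inv (by omega), one_smul] at this
  | one => intro x; rw [one_smul]
  | mul a b _ _ ha hb => intro x; rw [mul_smul, ← ha, ← hb]
  | inv a _ ha => intro x; rw [ha (a⁻¹ • x), smul_inv_smul]

/-- The points of a mask. -/
def maskSet (m : ℕ) : Set (Fin 1782) := {x | m.testBit x.val = true}

theorem mem_maskSet {m : ℕ} {x : Fin 1782} : x ∈ maskSet m ↔ m.testBit x.val = true := Iff.rfl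

theorem self_mem : ∀ (t : List (ℕ × ℕ × ℕ)) (s j : ℕ), s.testBit j = true → (maskOf t s).testBit j = true
  | [], _, _, h => h
  | (q, _, _) :: r, s, j, h => self_mem r _ j (by rw [Nat.testBit_or, h, Bool.true_or])

theorem letter_mem : ∀ l : Fin 6, [l.val] ∈ sixLetters := by decide +kernel

theorem mask_orbit {b : ℕ} {t : List (ℕ × ℕ × ℕ)} {len : ℕ} (h : subOK b t len = true) :
    (∀ x ∈ maskSet (maskOf t (1 <<< b)), MulAction.orbit (first 6) x = maskSet (maskOf t (1 <<< b))) ∧
      (maskSet (maskOf t (1 <<< b))).ncard = len ∧ ∃ x, x ∈ maskSet (maskOf t (1 <<< b)) := by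
  simp only [subOK, Bool.and_eq_true, decide_eq_true_eq, beq_iff_eq] at h
  obtain ⟨⟨⟨hb, hscan⟩, hlen⟩, hclosed⟩ := h
  simp only [List.all_eq_true, List.mem_range, Bool.or_eq_true, Bool.not_eq_true'] at hclosed
  have hbm : (⟨b, hb⟩ : Fin 1782) ∈ maskSet (maskOf t (1 <<< b)) :=
    self_mem t _ b (by simp [Nat.one_shiftLeft])
  have he : MulAction.orbit (first 6) (⟨b, hb⟩ : Fin 1782) = maskSet (maskOf t (1 <<< b)) := by
    refine Set.Subset.antisymm ?_ ?_
    · rintro _ ⟨g, rfl⟩
      refine (closed_six (T := maskSet (maskOf t (1 <<< b))) (fun l x hx => ?_) g g.2 _).1 hbm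
      rw [mem_maskSet] at hx ⊢
      rw [im_smul (by omega)]
      rcases hclosed x.val x.isLt with e | e
      · rw [hx] at e
        exact Bool.noConfusion e
      · exact e [l.val] (letter_mem l)
    · intro x hx
      obtain ⟨g, hg, e⟩ := reach (p := ⟨b, hb⟩) le_rfl t (1 <<< b) hscan
        (fun j hj => ⟨1, Subgroup.one_mem _, by
          rw [Nat.one_shiftLeft, Nat.testBit_two_pow, decide_eq_true_eq] at hj
          rw [one_smul]
          exact hj⟩) x.val hx
      exact ⟨⟨g, hg⟩, Fin.ext e⟩
  refine ⟨fun x hx => ?_, ?_, ⟨_, hbm⟩⟩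
  · rw [← he] at hx
    rw [MulAction.orbit_eq_iff.2 hx, he]
  classical
  rw [← hlen, Set.ncard_eq_toFinset_card', ← List.toFinset_card_of_nodup (List.nodup_range.filter _)]
  refine Finset.card_bij (fun x _ => x.val) ?_ ?_ ?_
  · intro x hx
    rw [Set.mem_toFinset] at hx
    rw [List.mem_toFinset, List.mem_filter, List.mem_range]
    exact ⟨x.isLt, hx⟩
  · exact fun x _ y _ e => Fin.ext e
  · intro j hj
    rw [List.mem_toFinset, List.mem_filter, List.mem_range] at hj
    exact ⟨⟨j, hj.1⟩, by rw [Set.mem_toFinset]; exact hj.2, rfl⟩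

/-- The mask of the shorter suborbit. -/
def mask1 : ℕ := maskOf subTree1 (1 <<< subBase1)
/-- The mask of the longer suborbit. -/
def mask2 : ℕ := maskOf subTree2 (1 <<< subBase2)

theorem orbit1 : (∀ x ∈ maskSet mask1, MulAction.orbit (first 6) x = maskSet mask1) ∧
    (maskSet mask1).ncard = 416 ∧ ∃ x, x ∈ maskSet mask1 := mask_orbit sub1_ok

theorem orbit2 : (∀ x ∈ maskSet mask2, MulAction.orbit (first 6) x = maskSet mask2) ∧
    (maskSet mask2).ncard = 1365 ∧ ∃ x, x ∈ maskSet mask2 := mask_orbit sub2_ok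

theorem cover_bool : ((List.range 1782).all fun j => decide (j = 0) || mask1.testBit j || mask2.testBit j) = true ∧
    mask1.testBit 0 = false ∧ mask2.testBit 0 = false ∧ evalW tabs [6] 0 ≠ 0 ∧
    ((List.range 1782).any fun j => mask1.testBit j && mask2.testBit (evalW tabs [6] j)) = true := by decide +kernel

theorem cover (x : Fin 1782) : x = p0 ∨ x ∈ maskSet mask1 ∨ x ∈ maskSet mask2 := by
  have := List.all_eq_true.1 cover_bool.1 x.val (List.mem_range.2 x.isLt)
  rw [Bool.or_eq_true, Bool.or_eq_true, decide_eq_true_eq, or_assoc] at this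
  exact this.imp_left fun e => Fin.ext e

theorem p0_not1 : p0 ∉ maskSet mask1 := fun h => by
  rw [mem_maskSet, show (p0 : ℕ) = 0 from rfl, cover_bool.2.1] at h
  exact Bool.noConfusion h

theorem p0_not2 : p0 ∉ maskSet mask2 := fun h => by
  rw [mem_maskSet, show (p0 : ℕ) = 0 from rfl, cover_bool.2.2.1] at h
  exact Bool.noConfusion h

theorem transitive : MulAction.IsPretransitive Cfsg.Spor.Suz (Fin 1782) := by
  set O := MulAction.orbit Cfsg.Spor.Suz p0
  have hext : ∀ {m : ℕ}, (∀ x ∈ maskSet m, MulAction.orbit (first 6) x = maskSet m) →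
      ∀ {x}, x ∈ maskSet m → x ∈ O → maskSet m ⊆ O := by
    intro m hm x hx hxO y hy
    rw [← hm x hx] at hy
    obtain ⟨g, rfl⟩ := hy
    exact MulAction.mem_orbit_of_mem_orbit (g : Cfsg.Spor.Suz) hxO
  obtain ⟨u, hu, hu12⟩ := List.any_eq_true.1 cover_bool.2.2.2.2
  rw [Bool.and_eq_true] at hu12
  have hu' : u < 1782 := List.mem_range.1 hu
  have hx1 : (⟨u, hu'⟩ : Fin 1782) ∈ maskSet mask1 := hu12.1
  have hx2 : im 6 • (⟨u, hu'⟩ : Fin 1782) ∈ maskSet mask2 := by
    rw [mem_maskSet, im_smul (by norm_num)]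
    exact hu12.2
  have hy : im 6 • p0 ∈ O := MulAction.mem_orbit p0 _
  have hy0 : im 6 • p0 ≠ p0 := fun e => cover_bool.2.2.2.1 (by
    have := congrArg Fin.val e
    rwa [im_smul (by norm_num)] at this)
  have both : maskSet mask1 ⊆ O ∧ maskSet mask2 ⊆ O := by
    rcases cover (im 6 • p0) with e | e | e
    · exact absurd e hy0
    · have h1 := hext orbit1.1 e hy
      exact ⟨h1, hext orbit2.1 hx2 (MulAction.mem_orbit_of_mem_orbit _ (h1 hx1))⟩
    · have h2 := hext orbit2.1 e hy
      refine ⟨hext orbit1.1 hx1 ?_, h2⟩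
      have := MulAction.mem_orbit_of_mem_orbit (im 6) (h2 hx2)
      rwa [← mul_smul, good_im.inv (by norm_num), one_smul] at this
  have hall : ∀ x : Fin 1782, x ∈ O := fun x => by
    rcases cover x with e | e | e
    · rw [e]; exact MulAction.mem_orbit_self _
    · exact both.1 e
    · exact both.2 e
  refine ⟨fun x y => ?_⟩
  obtain ⟨g, hg⟩ := hall x
  obtain ⟨h, hh⟩ := hall y
  exact ⟨h * g⁻¹, by rw [mul_smul, ← hg]; exact (congrArg (h • ·) (inv_smul_smul g p0)).trans hh⟩

theorem stabilizer_zero : MulAction.stabilizer Cfsg.Spor.Suz p0 = first 6 := by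
  haveI := transitive
  haveI := bound6.1
  have h1 : (MulAction.stabilizer Cfsg.Spor.Suz p0).index = 1782 := by
    rw [MulAction.index_stabilizer, MulAction.orbit_eq_univ, Set.ncard_univ, Nat.card_fin]
  refine (Subgroup.eq_of_le_of_card_ge first_six_le ?_).symm
  have := Subgroup.card_mul_index (MulAction.stabilizer Cfsg.Spor.Suz p0)
  rw [h1, card_suz] at this
  rw [card_first_six]
  omega

/-- The cosets are the points. -/
theorem quotient_equiv : ∃ e : Cfsg.Spor.Suz ⧸ first 6 ≃ Fin 1782,
    ∀ (g : Cfsg.Spor.Suz) q, e (g • q) = g • e q := by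
  haveI := transitive
  let f : Cfsg.Spor.Suz ⧸ first 6 → Fin 1782 := fun q =>
    Quotient.liftOn' q (fun g => g • p0) fun a b hab => by
      rw [QuotientGroup.leftRel_apply, ← stabilizer_zero, MulAction.mem_stabilizer_iff, mul_smul,
        inv_smul_eq_iff] at hab
      exact hab.symm
  have hf : Function.Bijective f := by
    constructor
    · intro a b
      induction a using QuotientGroup.induction_on with
      | H a =>
        induction b using QuotientGroup.induction_on with
        | H b =>
          intro h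
          rw [QuotientGroup.eq, ← stabilizer_zero, MulAction.mem_stabilizer_iff, mul_smul, inv_smul_eq_iff]
          exact h.symm
    · intro x
      obtain ⟨g, hg⟩ := MulAction.exists_smul_eq Cfsg.Spor.Suz p0 x
      exact ⟨QuotientGroup.mk g, hg⟩
  refine ⟨Equiv.ofBijective f hf, fun g q => ?_⟩
  induction q using QuotientGroup.induction_on with
  | H a => exact mul_smul g a p0

theorem orbit_image (e : Cfsg.Spor.Suz ⧸ first 6 ≃ Fin 1782)
    (he : ∀ (g : Cfsg.Spor.Suz) q, e (g • q) = g • e q) (p : Fin 1782) :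
    MulAction.orbit (first 6) (e.symm p) = e ⁻¹' MulAction.orbit (first 6) p := by
  ext q
  simp only [Set.mem_preimage, MulAction.mem_orbit_iff, Subgroup.smul_def]
  refine exists_congr fun g => ?_
  rw [← e.injective.eq_iff]
  show e ((g : Cfsg.Spor.Suz) • e.symm p) = e q ↔ (g : Cfsg.Spor.Suz) • p = e q
  rw [he, e.apply_symm_apply]

theorem suborbits : ∃ q₁ q₂ : Cfsg.Spor.Suz ⧸ first 6,
    (MulAction.orbit (first 6) q₁).ncard = 416 ∧ (MulAction.orbit (first 6) q₂).ncard = 1365 := by
  obtain ⟨e, he⟩ := quotient_equiv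
  obtain ⟨h1, c1, p1, m1⟩ := orbit1
  obtain ⟨h2, c2, p2, m2⟩ := orbit2
  refine ⟨e.symm p1, e.symm p2, ?_, ?_⟩
  · rw [orbit_image e he, Set.ncard_preimage_of_injective_subset_range e.injective (by simp [e.range_eq_univ]),
      h1 p1 m1, c1]
  · rw [orbit_image e he, Set.ncard_preimage_of_injective_subset_range e.injective (by simp [e.range_eq_univ]),
      h2 p2 m2, c2]

theorem relIndex_orbit (M : Subgroup Cfsg.Spor.Suz) :
    (first 6).relIndex M = (MulAction.orbit M p0).ncard := by
  have e : MulAction.stabilizer M p0 = (first 6).subgroupOf M := by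
    ext x
    rw [Subgroup.mem_subgroupOf, MulAction.mem_stabilizer_iff, ← stabilizer_zero, MulAction.mem_stabilizer_iff,
      Subgroup.smul_def]
  rw [Subgroup.relIndex, ← e]
  exact MulAction.index_stabilizer (G := M) p0

theorem between {M : Subgroup Cfsg.Spor.Suz} (hM : first 6 ≤ M) : M = first 6 ∨ M = ⊤ := by
  have hmul := Subgroup.relIndex_mul_index hM
  rw [index_first_six, relIndex_orbit] at hmul
  set O : Set (Fin 1782) := MulAction.orbit M p0 with hO
  have hext : ∀ {m : ℕ}, (∀ x ∈ maskSet m, MulAction.orbit (first 6) x = maskSet m) →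
      ∀ {x}, x ∈ maskSet m → x ∈ O → maskSet m ⊆ O := by
    intro m hm x hx hxO y hy
    rw [← hm x hx] at hy
    obtain ⟨g, rfl⟩ := hy
    exact MulAction.mem_orbit_of_mem_orbit (⟨g, hM g.2⟩ : M) hxO
  have sing : ∀ s : Set (Fin 1782), p0 ∉ s → ({p0} ∪ s).ncard = s.ncard + 1 := fun s hs => by
    rw [Set.singleton_union, Set.ncard_insert_of_notMem hs]
  by_cases a : ∃ x ∈ maskSet mask1, x ∈ O
  · obtain ⟨x, hx, hxO⟩ := a
    have s1 := hext orbit1.1 hx hxO
    by_cases b : ∃ x ∈ maskSet mask2, x ∈ O
    · obtain ⟨y, hy, hyO⟩ := b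
      have s2 := hext orbit2.1 hy hyO
      right
      have : O = Set.univ := Set.eq_univ_of_forall fun z => by
        rcases cover z with e | e | e
        · rw [e, hO]; exact MulAction.mem_orbit_self _
        · exact s1 e
        · exact s2 e
      rw [this, Set.ncard_univ, Nat.card_fin] at hmul
      exact Subgroup.index_eq_one.1 (by omega)
    · have : O = {p0} ∪ maskSet mask1 := Set.Subset.antisymm (fun z hz => by
        rcases cover z with e | e | e
        · exact Or.inl e
        · exact Or.inr e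
        · exact absurd ⟨z, e, hz⟩ b) (Set.union_subset
          (Set.singleton_subset_iff.2 (MulAction.mem_orbit_self _)) s1)
      rw [this, sing _ p0_not1, orbit1.2.1] at hmul
      omega
  · by_cases b : ∃ x ∈ maskSet mask2, x ∈ O
    · obtain ⟨y, hy, hyO⟩ := b
      have s2 := hext orbit2.1 hy hyO
      have : O = {p0} ∪ maskSet mask2 := Set.Subset.antisymm (fun z hz => by
        rcases cover z with e | e | e
        · exact Or.inl e
        · exact absurd ⟨z, e, hz⟩ a
        · exact Or.inr e) (Set.union_subset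
          (Set.singleton_subset_iff.2 (MulAction.mem_orbit_self _)) s2)
      rw [this, sing _ p0_not2, orbit2.2.1] at hmul
      omega
    · left
      refine le_antisymm (fun m hm => ?_) hM
      rw [← stabilizer_zero, MulAction.mem_stabilizer_iff]
      have hmO : m • p0 ∈ O := ⟨⟨m, hm⟩, rfl⟩
      rcases cover (m • p0) with e | e | e
      · exact e
      · exact absurd ⟨_, e, hmO⟩ a
      · exact absurd ⟨_, e, hmO⟩ b

theorem not_normal : ¬ (first 6).Normal := fun hn => by
  haveI := transitive
  obtain ⟨h1, c1, p1, m1⟩ := orbit1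
  obtain ⟨g, hg⟩ := MulAction.exists_smul_eq Cfsg.Spor.Suz p0 p1
  have hsub : MulAction.orbit (first 6) p1 ⊆ {p1} := by
    intro z hz
    obtain ⟨h, rfl⟩ := MulAction.mem_orbit_iff.1 hz
    have hc : g⁻¹ * h * g ∈ first 6 := by simpa using hn.conj_mem (h : Cfsg.Spor.Suz) h.2 g⁻¹
    have := first_six_le hc
    rw [MulAction.mem_stabilizer_iff, mul_smul, mul_smul, hg, inv_smul_eq_iff, hg] at this
    exact this
  have := Set.ncard_le_ncard hsub
  rw [h1 p1 m1, c1, Set.ncard_singleton] at this
  omega

theorem simple_suz : IsSimpleGroup Cfsg.Spor.Suz := by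
  haveI := simple_first_six
  haveI := bound6.1
  haveI : Nontrivial Cfsg.Spor.Suz := Finite.one_lt_card_iff_nontrivial.1 (by rw [card_suz]; norm_num)
  refine ⟨fun N hN => ?_⟩
  haveI := hN
  have hcard : ∀ {K : Subgroup Cfsg.Spor.Suz}, K.Normal → K ⊓ first 6 = ⊥ →
      Nat.card (first 6 ⊔ K : Subgroup Cfsg.Spor.Suz) = Nat.card K * 251596800 := by
    intro K hK hd
    haveI := hK
    have h1 := Subgroup.relIndex_mul_relIndex ⊥ K (first 6 ⊔ K) bot_le le_sup_right
    rw [Subgroup.relIndex_bot_left, Subgroup.relIndex_bot_left, Subgroup.relIndex_sup_right,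
      ← Subgroup.inf_relIndex_right, hd, Subgroup.relIndex_bot_left, card_first_six] at h1
    exact h1.symm
  have hinf : (N.subgroupOf (first 6)) = ⊥ ∨ (N.subgroupOf (first 6)) = ⊤ :=
    Subgroup.Normal.eq_bot_or_eq_top inferInstance
  rcases hinf with h | h
  · have hd : N ⊓ first 6 = ⊥ := by
      rw [Subgroup.subgroupOf_eq_bot, disjoint_iff] at h
      exact h
    rcases between (le_sup_left : first 6 ≤ first 6 ⊔ N) with e | e
    · left
      have : N ≤ first 6 := e ▸ le_sup_right
      rw [← hd, inf_eq_left.2 this]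
    · have hc := hcard hN hd
      rw [e, Subgroup.card_top, card_suz] at hc
      have hN' : Nat.card N = 1782 := by omega
      haveI : Fact (Nat.Prime 11) := ⟨by norm_num⟩
      obtain ⟨P⟩ : Nonempty (Sylow 11 N) := inferInstance
      have hP : Nat.card P = 11 := by
        rw [P.card_eq_multiplicity, hN', show (1782 : ℕ) = 11 * 162 by norm_num,
          Nat.factorization_mul (by norm_num) (by norm_num), Finsupp.add_apply,
          Nat.Prime.factorization_self (by norm_num), Nat.factorization_eq_zero_of_not_dvd (by norm_num)]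
        norm_num
      have hi : (P : Subgroup N).index = 162 := by
        have := Subgroup.card_mul_index (P : Subgroup N)
        rw [show Nat.card (P : Subgroup N) = 11 from hP, hN'] at this
        omega
      have hn1 : Nat.card (Sylow 11 N) = 1 := by
        have hd2 : Nat.card (Sylow 11 N) ∣ 162 := hi ▸ Sylow.card_dvd_index P
        have hm := card_sylow_modEq_one 11 N
        have hle : Nat.card (Sylow 11 N) ≤ 162 := Nat.le_of_dvd (by norm_num) hd2
        unfold Nat.ModEq at hm
        interval_cases hk : Nat.card (Sylow 11 N) <;> omega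
      haveI : Subsingleton (Sylow 11 N) := (Nat.card_eq_one_iff_unique.1 hn1).1
      haveI : (P : Subgroup N).Characteristic := P.characteristic_of_subsingleton
      set Q := (P : Subgroup N).map N.subtype
      have hQn : Q.Normal := ConjAct.normal_of_characteristic_of_normal
      have hQ : Nat.card Q = 11 := by
        rw [← hP]
        exact (Nat.card_congr ((P : Subgroup N).equivMapOfInjective N.subtype N.subtype_injective).toEquiv).symm
      have hQd : Q ⊓ first 6 = ⊥ := le_bot_iff.1 (hd ▸ inf_le_inf_right _ (Subgroup.map_subtype_le _))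
      have hc2 := hcard hQn hQd
      rw [hQ] at hc2
      rcases between (le_sup_left : first 6 ≤ first 6 ⊔ Q) with e2 | e2
      · rw [e2, card_first_six] at hc2; omega
      · rw [e2, Subgroup.card_top, card_suz] at hc2; omega
  · rw [Subgroup.subgroupOf_eq_top] at h
    rcases between h with e | e
    · exact absurd (e ▸ hN) not_normal
    · exact Or.inr e

end Cfsg.Lib.SuzPres
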