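import Cfsg.Prelude.Def_Spor_Suz
import Cfsg.Agent.CosetCert.Basic

/-!
The relators of the presented Suzuki group as words in numbered letters.
-/

set_option autoImplicit false

namespace Cfsg.Lib.SuzPres

open Cfsg.Lib.CosetCert
open Cfsg.Spor.Suz (Gen)

/-- The numbering of the generators. -/
def genList : List Gen := [.a, .b, .c, .d, .e, .f, .g]

/-- A generator by number. -/
def genOf (n : ℕ) : Gen := genList.getD n .a

/-- The number of a generator. -/
def idxOf : Gen → ℕ
  | .a => 0
  | .b => 1
  | .c => 2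
  | .d => 3
  | .e => 4
  | .f => 5
  | .g => 6

theorem genOf_idxOf : ∀ x : Gen, genOf (idxOf x) = x
  | .a => rfl
  | .b => rfl
  | .c => rfl
  | .d => rfl
  | .e => rfl
  | .f => rfl
  | .g => rfl

/-- Repeat a word. -/
def rpt (k : ℕ) (w : List ℕ) : List ℕ := (List.replicate k w).flatten

/-- The relator of a pair. -/
def pairWord (x y : ℕ) : List ℕ := rpt (Cfsg.Spor.coxLabel Cfsg.Spor.Suz.edges (genOf x) (genOf y)) [x, y]

/-- The further relators, as words. -/
def extraWords : List (List ℕ) :=
  [0 :: rpt 4 [2, 3], 0 :: rpt 2 [5, 6], rpt 5 [0, 1, 2, 5], rpt 5 [1, 5, 6], rpt 3 (rpt 5 [1, 2, 3, 2, 3] ++ [4])]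

/-- All relators, as words. -/
def allWords : List (List ℕ) :=
  ((List.range 7).flatMap fun x => (List.range 7).map (pairWord x)) ++ extraWords

/-- Nothing at all, and all relators. -/
def words : List (List ℕ) := [] :: allWords

variable {G : Type*} [Group G]

theorem wval_append (im : ℕ → G) (v w : List ℕ) : wval im (v ++ w) = wval im v * wval im w := by
  simp [wval]

theorem wval_rpt (im : ℕ → G) (k : ℕ) (w : List ℕ) : wval im (rpt k w) = wval im w ^ k := by
  induction k with
  | zero => simp [rpt, wval]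
  | succ k ih => rw [rpt, List.replicate_succ, List.flatten_cons, wval_append, ← rpt, ih, pow_succ']

theorem wval_cons (im : ℕ → G) (x : ℕ) (w : List ℕ) : wval im (x :: w) = im x * wval im w := by simp [wval]

theorem wval_nil (im : ℕ → G) : wval im [] = 1 := rfl

/-- The relations hold for the images of the letters. -/
def Good (im : ℕ → G) : Prop := ∀ w ∈ allWords, wval im w = 1

theorem Good.pair {im : ℕ → G} (h : Good im) {x y : ℕ} (hx : x < 7) (hy : y < 7) :
    (im x * im y) ^ Cfsg.Spor.coxLabel Cfsg.Spor.Suz.edges (genOf x) (genOf y) = 1 := by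
  have := h (pairWord x y) (List.mem_append_left _ (List.mem_flatMap.2 ⟨x, List.mem_range.2 hx,
    List.mem_map.2 ⟨y, List.mem_range.2 hy, rfl⟩⟩))
  simpa only [pairWord, wval_rpt, wval_cons, wval_nil, mul_one] using this

theorem idxOf_lt : ∀ x : Gen, idxOf x < 7
  | .a => by decide
  | .b => by decide
  | .c => by decide
  | .d => by decide
  | .e => by decide
  | .f => by decide
  | .g => by decide

theorem label_self (x : ℕ) : Cfsg.Spor.coxLabel Cfsg.Spor.Suz.edges (genOf x) (genOf x) = 1 := by
  simp [Cfsg.Spor.coxLabel]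

theorem Good.inv {im : ℕ → G} (h : Good im) {x : ℕ} (hx : x < 7) : im x * im x = 1 := by
  have := h.pair hx hx
  rwa [label_self, pow_one] at this

theorem Good.relators {im : ℕ → G} (h : Good im) :
    ∀ r ∈ Cfsg.Spor.coxRelators Cfsg.Spor.Suz.edges ∪ {r | r ∈ Cfsg.Spor.Suz.extra},
      FreeGroup.lift (fun x => im (idxOf x)) r = 1 := by
  have he : ∀ w ∈ extraWords, wval im w = 1 := fun w hw => h w (List.mem_append_right _ hw)
  rintro r (⟨x, -, y, -, rfl⟩ | hr)
  · rw [map_pow, map_mul, FreeGroup.lift_apply_of, FreeGroup.lift_apply_of]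
    have := h.pair (idxOf_lt x) (idxOf_lt y)
    rwa [genOf_idxOf, genOf_idxOf] at this
  · simp only [extraWords, List.forall_mem_cons, List.forall_mem_nil, and_true] at he
    obtain ⟨e1, e2, e3, e4, e5⟩ := he
    simp only [wval, List.map_cons, List.prod_cons] at e1 e2
    rw [← wval, wval_rpt] at e1 e2
    simp only [wval_rpt, wval_append] at e3 e4 e5
    simp only [wval, List.map_cons, List.map_nil, List.prod_cons, List.prod_nil, mul_one, ← mul_assoc] at e1 e2 e3 e4 e5
    have ha : ∀ g : G, im 0 * g = 1 → im 0 * g⁻¹ = 1 := fun g hg => by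
      rw [← eq_inv_of_mul_eq_one_left hg]
      exact h.inv (by norm_num)
    simp only [Cfsg.Spor.Suz.extra, Set.mem_ofPred_eq, List.mem_cons, List.mem_nil_iff, or_false] at hr
    rcases hr with rfl | rfl | rfl | rfl | rfl <;>
      simp only [map_mul, map_pow, map_inv, FreeGroup.lift_apply_of, idxOf]
    · exact ha _ e1
    · exact ha _ e2
    · exact e3
    · exact e4
    · exact e5.1

/-- The letters in the presented group. -/
def im (n : ℕ) : Cfsg.Spor.Suz := PresentedGroup.of (genOf n)

theorem good_im : Good im := by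
  have hpair : ∀ x y : ℕ, wval im (pairWord x y) = 1 := by
    intro x y
    have hnode : ∀ z : Gen, z ∈ Cfsg.Spor.coxNodes Cfsg.Spor.Suz.edges := by
      intro z; cases z <;> decide
    have := PresentedGroup.one_of_mem (rels := Cfsg.Spor.coxRelators Cfsg.Spor.Suz.edges ∪ {r | r ∈ Cfsg.Spor.Suz.extra})
      (Or.inl ⟨genOf x, hnode _, genOf y, hnode _, rfl⟩)
    rw [map_pow, map_mul] at this
    rw [pairWord, wval_rpt, wval_cons, wval_cons, wval_nil, mul_one]
    exact this
  have hex : ∀ r ∈ Cfsg.Spor.Suz.extra,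
      PresentedGroup.mk (Cfsg.Spor.coxRelators Cfsg.Spor.Suz.edges ∪ {r | r ∈ Cfsg.Spor.Suz.extra}) r = 1 :=
    fun r hr => PresentedGroup.one_of_mem (Or.inr hr)
  intro w hw
  rcases List.mem_append.1 hw with hw | hw
  · obtain ⟨x, -, hw⟩ := List.mem_flatMap.1 hw
    obtain ⟨y, -, rfl⟩ := List.mem_map.1 hw
    exact hpair x y
  · have hinv : im 0 * im 0 = 1 := by
      have := hpair 0 0
      rw [pairWord, label_self, wval_rpt, pow_one] at this
      simpa [wval] using this
    simp only [Cfsg.Spor.Suz.extra, List.forall_mem_cons, map_mul, map_pow, map_inv] at hex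
    obtain ⟨e1, e2, e3, e4, e5, -⟩ := hex
    have ha : ∀ g : Cfsg.Spor.Suz, im 0 * g⁻¹ = 1 → im 0 * g = 1 := fun g hg => by
      rw [← mul_inv_eq_one.1 hg]
      exact hinv
    simp only [extraWords, List.mem_cons, List.mem_nil_iff, or_false] at hw
    rcases hw with rfl | rfl | rfl | rfl | rfl <;>
      simp only [wval_cons, wval_nil, wval_rpt, wval_append, mul_one, ← mul_assoc]
    · exact ha _ e1
    · exact ha _ e2
    · exact e3
    · exact e4
    · exact e5

theorem im_idxOf (x : Gen) : im (idxOf x) = PresentedGroup.of x := by rw [im, genOf_idxOf]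

theorem closure_im : Subgroup.closure (im '' Set.Iio 7) = ⊤ := by
  refine top_le_iff.1 ?_
  rw [← PresentedGroup.closure_range_of]
  refine Subgroup.closure_mono ?_
  rintro _ ⟨x, rfl⟩
  exact ⟨idxOf x, idxOf_lt x, im_idxOf x⟩

/-- The map out of the presented group. -/
def toGrp {H : Type*} [Group H] {f : ℕ → H} (h : Good f) : Cfsg.Spor.Suz →* H :=
  PresentedGroup.toGroup (f := fun x => f (idxOf x)) h.relators

theorem toGrp_im {H : Type*} [Group H] {f : ℕ → H} (h : Good f) {n : ℕ} (hn : n < 7) : toGrp h (im n) = f n := by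
  have e : idxOf (genOf n) = n := by interval_cases n <;> rfl
  rw [toGrp, im, PresentedGroup.toGroup.of, e]

end Cfsg.Lib.SuzPres
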