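import Cfsg.Agent.PrimeGraph.GTwoFour
import Cfsg.Agent.SuzPres.GTwoData

/-!
Six elements of `G₂(4)` satisfying relations of the presented Suzuki group, and generating it.
-/

set_option autoImplicit false

open Matrix

namespace Cfsg.Lib.SuzPres.GTwo

open Cfsg.Lib.PrimeGraph

/-- A column of a packed matrix. -/
def colOf (m : ℕ) (j : ℕ) : ℕ × ℕ :=
  ((m >>> (28 * j)) % 2 ^ 14, (m >>> (28 * j + 14)) % 2 ^ 14)

/-- A packed matrix. -/
def decodeM (m : ℕ) : M4K := Matrix.of fun i j => entry (colOf m j.val) i.val

/-- Scale a column by an entry given by two bits. -/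
def scal (u : ℕ × ℕ) (l h : Bool) : ℕ × ℕ :=
  ((if l then u.1 else 0) ^^^ (if h then u.2 else 0), (if l then u.2 else 0) ^^^ (if h then u.1 ^^^ u.2 else 0))

/-- A column of a product. -/
def pcol (A : ℕ) (v : ℕ × ℕ) : List ℕ → ℕ × ℕ
  | [] => (0, 0)
  | k :: r => padd (scal (colOf A k) (v.1.testBit k) (v.2.testBit k)) (pcol A v r)

/-- One packed matrix is the product of two others. -/
def mulB (A B C : ℕ) : Bool := (List.range 14).all fun j => pcol A (colOf B j) (List.range 14) == colOf C j

theorem entry_scal (u : ℕ × ℕ) (l h : Bool) (i : ℕ) : entry (scal u l h) i = entry u i * qb l h := by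
  simp only [entry, scal, Nat.testBit_xor]
  rw [← qb_mul]
  cases l <;> cases h <;> simp only [Bool.false_eq_true, if_true, if_false, Nat.zero_testBit, Nat.testBit_xor] <;>
    cases u.1.testBit i <;> cases u.2.testBit i <;> rfl

theorem entry_pcol (A : ℕ) (v : ℕ × ℕ) : ∀ (L : List ℕ) (i : ℕ),
    entry (pcol A v L) i = (L.map fun k => entry (colOf A k) i * entry v k).sum
  | [], i => entry_zero i
  | k :: L, i => by
    rw [pcol, entry_padd, entry_scal, entry_pcol A v L i]
    simp [entry]

theorem decodeM_mul {A B C : ℕ} (h : mulB A B C = true) : decodeM C = decodeM A * decodeM B := by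
  ext i j
  have hj := List.all_eq_true.1 h j.val (List.mem_range.2 j.isLt)
  rw [beq_iff_eq] at hj
  show entry (colOf C j.val) i.val = _
  rw [← hj, entry_pcol, Matrix.mul_apply]
  show _ = ∑ k : Fin 14, entry (colOf A k.val) i.val * entry (colOf B j.val) k.val
  rw [Fin.sum_univ_eq_sum_range (fun k => entry (colOf A k) i.val * entry (colOf B j.val) k) 14]
  rfl

/-- The matrix of a node. -/
def node (k : ℕ) : ℕ := mats.getD k 0

/-- The first node is trivial. -/
def baseOneB : Bool := (List.finRange 14).all fun i => (List.finRange 14).all fun j =>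
  decide (decodeM (node 0) i j = if i = j then 1 else 0)

/-- The next nodes are the root elements. -/
def baseRootB : Bool := (List.finRange 12).all fun r => (List.range 3).all fun t =>
  (List.range 14).all fun j => colOf (node (3 * r.val + t + 1)) j == rootCol r (Fin.ofNat 4 (t + 1)) (Fin.ofNat 14 j)

/-- The later nodes are products. -/
def stepsB : Bool := (List.range prog.length).all fun k =>
  let s := prog.getD k (0, 0)
  decide (s.1 < k + 37) && decide (s.2 < k + 37) && mulB (node s.1) (node s.2) (node (k + 37))

theorem base_one_ok : baseOneB = true := by decide +kernel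

theorem base_root_ok : baseRootB = true := by decide +kernel

theorem steps_ok : stepsB = true := by decide +kernel

/-- The natural matrices of the group. -/
def mHom : GF4 →* M4K where
  toFun g := to14 ((g : GL Cfsg.Lie.chevG2.Idx KQuad) : Matrix Cfsg.Lie.chevG2.Idx Cfsg.Lie.chevG2.Idx KQuad)
  map_one' := to14_one
  map_mul' a b := to14_mul _ _

theorem mHom_injective : Function.Injective mHom := fun a b h =>
  Subtype.ext (Units.ext (Matrix.ext fun i j => by
    have := congrFun (congrFun (show mHom a = mHom b from h) (idx14.symm i)) (idx14.symm j)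
    simpa [mHom, to14] using this))

theorem rootTab_mem (r : Fin 12) (t : Fin 4) : ∃ g : GF4, mHom g = rootTab r t :=
  ⟨rootEl r ⟨t⟩, by
    show to14 _ = _
    rw [rootEl_val, to14_xMat]⟩

theorem node_mem : ∀ k, k < prog.length + 37 → ∃ g : GF4, mHom g = decodeM (node k) := by
  intro k
  induction k using Nat.strong_induction_on with
  | _ k ih =>
    intro hk
    rcases Nat.lt_or_ge k 37 with hlt | hge
    · rcases Nat.eq_zero_or_pos k with rfl | hpos
      · refine ⟨1, ?_⟩
        rw [map_one]
        ext i j
        have h := base_one_ok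
        simp only [baseOneB, List.all_eq_true, decide_eq_true_eq] at h
        rw [h i (List.mem_finRange _) j (List.mem_finRange _), Matrix.one_apply]
      · have h := base_root_ok
        simp only [baseRootB, List.all_eq_true, List.mem_range, beq_iff_eq] at h
        obtain ⟨g, hg⟩ := rootTab_mem ⟨(k - 1) / 3, by omega⟩ (Fin.ofNat 4 ((k - 1) % 3 + 1))
        refine ⟨g, hg.trans (Matrix.ext fun i j => ?_)⟩
        have hj := h ⟨(k - 1) / 3, by omega⟩ (List.mem_finRange _) ((k - 1) % 3) (Nat.mod_lt _ (by norm_num)) j.val j.isLt
        rw [show 3 * ((k - 1) / 3) + (k - 1) % 3 + 1 = k by omega] at hj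
        show entry (rootCol _ _ j) i.val = entry (colOf (node k) j.val) i.val
        rw [hj, show Fin.ofNat 14 j.val = j from Fin.ext (Nat.mod_eq_of_lt j.isLt)]
    · have h := steps_ok
      simp only [stepsB, List.all_eq_true, List.mem_range, Bool.and_eq_true, decide_eq_true_eq] at h
      obtain ⟨⟨h1, h2⟩, h3⟩ := h (k - 37) (by omega)
      rw [show k - 37 + 37 = k by omega] at h1 h2 h3
      obtain ⟨a, ha⟩ := ih _ h1 (by omega)
      obtain ⟨b, hb⟩ := ih _ h2 (by omega)
      exact ⟨a * b, by rw [map_mul, ha, hb, decodeM_mul h3]⟩

/-- The element of a node. -/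
noncomputable def el (k : ℕ) : GF4 :=
  if h : k < prog.length + 37 then (node_mem k h).choose else 1

theorem el_spec {k : ℕ} (h : k < prog.length + 37) : mHom (el k) = decodeM (node k) := by
  rw [el, dif_pos h]; exact (node_mem k h).choose_spec

theorem el_zero : el 0 = 1 := mHom_injective (by
  rw [el_spec (by omega), map_one]
  ext i j
  have h := base_one_ok
  simp only [baseOneB, List.all_eq_true, decide_eq_true_eq] at h
  rw [h i (List.mem_finRange _) j (List.mem_finRange _), Matrix.one_apply])

/-- A step multiplies two nodes. -/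
theorem el_step {k : ℕ} (hk : k < prog.length) :
    el (k + 37) = el (prog.getD k (0, 0)).1 * el (prog.getD k (0, 0)).2 := by
  have h := steps_ok
  simp only [stepsB, List.all_eq_true, List.mem_range, Bool.and_eq_true, decide_eq_true_eq] at h
  obtain ⟨⟨h1, h2⟩, h3⟩ := h k hk
  exact mHom_injective (by rw [map_mul, el_spec (by omega), el_spec (by omega), el_spec (by omega), decodeM_mul h3])

theorem el_eq {i j : ℕ} (hi : i < prog.length + 37) (hj : j < prog.length + 37) (h : node i = node j) :
    el i = el j := mHom_injective (by rw [el_spec hi, el_spec hj, h])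

/-- The images of the six letters. -/
noncomputable def img (l : ℕ) : GF4 := el (gens.getD l 0)

/-- Follow a chain of partial products of a word. -/
def chainB : ℕ → List ℕ → List ℕ → Bool
  | cur, [], [] => decide (cur < prog.length + 37) && (node cur == node 0)
  | cur, x :: w, c :: cs =>
    decide (37 ≤ c) && decide (c - 37 < prog.length) && (prog.getD (c - 37) (0, 0) == (cur, gens.getD x 0)) &&
      chainB c w cs
  | _, _, _ => false

theorem chainB_sound (w : List ℕ) : ∀ (cur : ℕ) (cs : List ℕ), chainB cur w cs = true →
    el cur * (w.map img).prod = 1 := by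
  induction w with
  | nil =>
    intro cur cs h
    rcases cs with _ | ⟨c, cs⟩
    · rw [chainB, Bool.and_eq_true, decide_eq_true_eq, beq_iff_eq] at h
      rw [el_eq h.1 (Nat.lt_add_left _ (by norm_num)) h.2, el_zero, List.map_nil, List.prod_nil, mul_one]
    · exact Bool.noConfusion (show false = true from h)
  | cons x w ih =>
    intro cur cs h
    rcases cs with _ | ⟨c, cs⟩
    · exact Bool.noConfusion (show false = true from h)
    · rw [chainB, Bool.and_eq_true, Bool.and_eq_true, Bool.and_eq_true, decide_eq_true_eq, decide_eq_true_eq,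
        beq_iff_eq] at h
      obtain ⟨⟨⟨hc, hk⟩, hs⟩, hr⟩ := h
      have e := el_step hk
      rw [Nat.sub_add_cancel hc, hs] at e
      dsimp only at e
      have := ih c cs hr
      rw [e] at this
      rw [List.map_cons, List.prod_cons, ← mul_assoc, img.eq_def x]
      rw [this]

/-- The word is trivial on the images, by a listed chain. -/
def chainOKB (w : List ℕ) : Bool :=
  chains.any fun c => (c.1 == w) && match c.1 with
    | [] => false
    | x :: r => chainB (gens.getD x 0) r c.2

theorem chainOK_sound {w : List ℕ} (h : chainOKB w = true) : (w.map img).prod = 1 := by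
  simp only [chainOKB, List.any_eq_true, Bool.and_eq_true, beq_iff_eq] at h
  obtain ⟨⟨v, cs⟩, -, rfl, h⟩ := h
  rcases v with _ | ⟨x, r⟩
  · simp at h
  · have := chainB_sound r _ cs h
    rw [List.map_cons, List.prod_cons, img.eq_def x]
    exact this

/-- Every root element is a node built from the six images. -/
def rootsB : Bool :=
  (List.range 36).all fun i => decide (rootNodes.getD i 0 < prog.length + 37) &&
    (node (rootNodes.getD i 0) == node (i + 1))

theorem roots_ok : rootsB = true := by decide +kernel

/-- Marks of the nodes built from the images only. -/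
def builtSet : List (ℕ × ℕ) → ℕ → ℕ → ℕ
  | [], _, seen => seen
  | (a, b) :: r, k, seen =>
    builtSet r (k + 1) (if seen.testBit a && seen.testBit b then seen ||| 1 <<< k else seen)

/-- The nodes built from the images. -/
def built : ℕ := builtSet prog 37 (gens.foldl (fun s g => s ||| 1 <<< g) 0)

theorem built_roots : ((List.range 36).all fun i => built.testBit (rootNodes.getD i 0)) = true := by decide +kernel

theorem mem_of_builtSet {Y : Subgroup GF4} : ∀ (r : List (ℕ × ℕ)) (k seen : ℕ),
    (∀ i, i < r.length → el (k + i) = el (r.getD i (0, 0)).1 * el (r.getD i (0, 0)).2) →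
    (∀ i, seen.testBit i = true → el i ∈ Y) → ∀ i, (builtSet r k seen).testBit i = true → el i ∈ Y
  | [], k, seen, _, hs, i, hi => hs i hi
  | (a, b) :: r, k, seen, hstep, hs, i, hi => by
    refine mem_of_builtSet r (k + 1) _ (fun j hj => ?_) ?_ i hi
    · have := hstep (j + 1) (by simp; omega)
      rwa [show k + (j + 1) = k + 1 + j by omega, List.getD_cons_succ] at this
    · intro j hj
      split_ifs at hj with hab
      · rw [Nat.testBit_or, Bool.or_eq_true, Nat.one_shiftLeft, Nat.testBit_two_pow, decide_eq_true_eq] at hj
        rcases hj with hj | rfl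
        · exact hs j hj
        · rw [Bool.and_eq_true] at hab
          have := hstep 0 (by simp)
          simp only [Nat.add_zero, List.getD_cons_zero] at this
          rw [this]
          exact mul_mem (hs a hab.1) (hs b hab.2)
      · exact hs j hj

theorem closure_img : Subgroup.closure (img '' Set.Iio 6) = ⊤ := by
  refine eq_top_iff.2 fun g _ => ?_
  set Y := Subgroup.closure (img '' Set.Iio 6)
  have hgen : ∀ l, l < 6 → img l ∈ Y := fun l hl => Subgroup.subset_closure ⟨l, hl, rfl⟩
  have hbuilt : ∀ i, built.testBit i = true → el i ∈ Y := by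
    refine mem_of_builtSet prog 37 _ (fun i hi => by rw [Nat.add_comm, el_step hi]) ?_
    intro i hi
    have key : ∀ (L : List ℕ) (s : ℕ), (L.foldl (fun s g => s ||| 1 <<< g) s).testBit i = true →
        s.testBit i = true ∨ i ∈ L := by
      intro L
      induction L with
      | nil => intro s h; exact Or.inl h
      | cons a L ih =>
        intro s h
        rcases ih _ h with h | h
        · rw [Nat.testBit_or, Bool.or_eq_true, Nat.one_shiftLeft, Nat.testBit_two_pow, decide_eq_true_eq] at h
          rcases h with h | rfl
          · exact Or.inl h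
          · exact Or.inr List.mem_cons_self
        · exact Or.inr (List.mem_cons_of_mem _ h)
    rcases key gens 0 hi with h | h
    · simp at h
    · obtain ⟨l, hl, rfl⟩ := List.getElem_of_mem h
      have := hgen l (by simpa [gens] using hl)
      rwa [img, List.getD_eq_getElem _ _ hl] at this
  have hroot : ∀ (r : Fin 12) (t : Fin 4), ∀ x : GF4, mHom x = rootTab r t → x ∈ Y := by
    intro r t x hx
    by_cases ht : t.val = 0
    · have h0 : ∀ r : Fin 12, rootTab r 0 = 1 := by decide +kernel
      rw [show t = 0 from Fin.ext ht, h0, ← map_one mHom] at hx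
      rw [mHom_injective hx]; exact Y.one_mem
    · have hi : 3 * r.val + (t.val - 1) < 36 := by omega
      have h := roots_ok
      simp only [rootsB, List.all_eq_true, List.mem_range, Bool.and_eq_true, decide_eq_true_eq, beq_iff_eq] at h
      obtain ⟨h1, h2⟩ := h _ hi
      have hb := List.all_eq_true.1 built_roots _ (List.mem_range.2 hi)
      have e : x = el (rootNodes.getD (3 * r.val + (t.val - 1)) 0) := mHom_injective (by
        rw [hx, el_spec h1, h2]
        ext i j
        have hr := base_root_ok
        simp only [baseRootB, List.all_eq_true, List.mem_range, beq_iff_eq] at hr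
        have hj := hr r (List.mem_finRange _) (t.val - 1) (by omega) j.val j.isLt
        show entry (rootCol r t j) i.val = entry (colOf (node _) j.val) i.val
        rw [show Fin.ofNat 14 j.val = j from Fin.ext (Nat.mod_eq_of_lt j.isLt),
          show Fin.ofNat 4 (t.val - 1 + 1) = t from Fin.ext (by
            show (t.val - 1 + 1) % 4 = t.val
            omega)] at hj
        rw [hj])
      rw [e]; exact hbuilt _ hb
  let H : Subgroup (GL Cfsg.Lie.chevG2.Idx KQuad) := Y.map (Subgroup.subtype _)
  suffices Cfsg.Lie.chevG2.group KQuad ≤ H by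
    obtain ⟨y, hy, e⟩ := Subgroup.mem_map.1 (this g.2)
    rwa [← Subtype.ext e]
  refine (Subgroup.closure_le _).2 ?_
  rintro x ⟨r, t, hx⟩
  have hxm : x ∈ Cfsg.Lie.chevG2.group KQuad := Subgroup.subset_closure ⟨r, t, hx⟩
  refine Subgroup.mem_map.2 ⟨⟨x, hxm⟩, hroot r t.code ⟨x, hxm⟩ ?_, rfl⟩
  show to14 (x : Matrix Cfsg.Lie.chevG2.Idx Cfsg.Lie.chevG2.Idx KQuad) = _
  rw [hx]; exact to14_xMat r t

end Cfsg.Lib.SuzPres.GTwo
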