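import Cfsg.Agent.SuzPres.Order
import Cfsg.Agent.SuzPres.GTwo

/-!
The subgroup on six letters of the presented Suzuki group is `G₂(4)`.
-/

set_option autoImplicit false

namespace Cfsg.Lib.SuzPres

open Cfsg.Lib.CosetCert

/-- The letters of a word are among the first six. -/
def smallWord (w : List ℕ) : Bool := w.all fun l => decide (l < 6)

/-- The relators of the lower levels only use six letters. -/
theorem lower_small : ((L0.rels.all fun r => smallWord (r.map (2 + ·))) &&
    (L1.rels ++ L2.rels ++ L3.rels).all smallWord) = true := by decide +kernel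

theorem self_word : ∀ l : Fin 6, [l.val, l.val] ∈ words := by decide +kernel

section
variable {G : Type*} [Group G] (f : ℕ → G) (hf : ∀ w ∈ words, smallWord w = true → wval f w = 1)
include hf

theorem six_sq {l : ℕ} (hl : l < 6) : f l * f l = 1 := by
  have := hf _ (self_word ⟨l, hl⟩) (by simp [smallWord, hl])
  simpa [wval] using this

theorem six_step {C : Cert} {R : List (List ℕ)} (hC : C.Valid R) (hR : ∀ r ∈ R, r ∈ words)
    (hlet : ∀ r ∈ R, smallWord r = true) (hng : C.ng ≤ 6) {K : Subgroup G} [Finite K]
    (hsub : ∀ s ∈ C.subs, f s ∈ K) :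
    Finite (Subgroup.closure (f '' Set.Iio C.ng)) ∧
      Nat.card (Subgroup.closure (f '' Set.Iio C.ng)) ≤ C.fin.length * Nat.card K :=
  card_le C f hC (fun l hl => six_sq f hf (by omega)) (fun r hr => hf r (hR r hr) (hlet r hr))
    (fun r hr l hl => six_sq f hf (by
      have := List.all_eq_true.1 (hlet r hr) l hl
      simpa using this)) hsub le_rfl

theorem small_high : ∀ r ∈ L1.rels ++ L2.rels ++ L3.rels, smallWord r = true :=
  List.all_eq_true.1 (Bool.and_eq_true_iff.1 lower_small).2

theorem six_bound : Finite (Subgroup.closure (f '' Set.Iio 6)) ∧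
    Nat.card (Subgroup.closure (f '' Set.Iio 6)) ≤ 251596800 := by
  have hin : ∀ {k n : ℕ}, n < k → f n ∈ Subgroup.closure (f '' Set.Iio k) :=
    fun h => Subgroup.subset_closure ⟨_, h, rfl⟩
  have h0 : Finite (Subgroup.closure ((fun n => f (2 + n)) '' Set.Iio 2)) ∧
      Nat.card (Subgroup.closure ((fun n => f (2 + n)) '' Set.Iio 2)) ≤ 16 := by
    have hR : ∀ r ∈ L0.rels, wval (fun n => f (2 + n)) r = 1 := fun r hr => by
      have := hf _ (rels_mem0 r hr) (List.all_eq_true.1 (Bool.and_eq_true_iff.1 lower_small).1 r hr)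
      rwa [wval, List.map_map] at this
    have h := card_le (K := (⊥ : Subgroup G)) (L := Subgroup.closure ((fun n => f (2 + n)) '' Set.Iio 2))
      L0.cert (fun n => f (2 + n)) L0.valid (fun l hl => six_sq f hf (by
        have : l < 2 := hl
        omega)) hR
      (fun r hr l hl => six_sq f hf (by
        have := List.all_eq_true.1 ((Bool.and_eq_true_iff.1 lower_small).1) r hr
        simp only [smallWord, List.all_map, List.all_eq_true, Function.comp_apply, decide_eq_true_eq] at this
        exact this l hl)) (by simp [L0.cert]) le_rfl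
    rw [Subgroup.card_bot, L0.fins_length] at h
    simpa using h
  haveI := h0.1
  obtain ⟨f4, c4⟩ := six_step f hf L1.valid rels_mem1 (fun r hr => small_high f hf r (by simp [hr])) (by decide)
    (K := Subgroup.closure ((fun n => f (2 + n)) '' Set.Iio 2)) (by
      intro s hs
      simp only [L1.cert, List.mem_cons, List.mem_nil_iff, or_false] at hs
      rcases hs with rfl | rfl
      · exact Subgroup.subset_closure ⟨0, by norm_num, rfl⟩
      · exact Subgroup.subset_closure ⟨1, by norm_num, rfl⟩)
  rw [L1.fins_length] at c4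
  haveI := f4
  obtain ⟨f5, c5⟩ := six_step f hf L2.valid rels_mem2 (fun r hr => small_high f hf r (by simp [hr])) (by decide)
    (K := Subgroup.closure (f '' Set.Iio L1.cert.ng)) (fun s hs => hin (by
      simp only [L1.cert, L2.cert, List.mem_cons, List.mem_nil_iff, or_false] at hs ⊢
      omega))
  rw [L2.fins_length] at c5
  haveI := f5
  obtain ⟨f6, c6⟩ := six_step f hf L3.valid rels_mem3 (fun r hr => small_high f hf r (by simp [hr])) (by decide)
    (K := Subgroup.closure (f '' Set.Iio L2.cert.ng)) (fun s hs => hin (by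
      simp only [L2.cert, L3.cert, List.mem_cons, List.mem_nil_iff, or_false] at hs ⊢
      omega))
  rw [L3.fins_length] at c6
  refine ⟨f6, c6.trans ?_⟩
  have := h0.2
  omega

end

/-- A word as an element of the free group on six letters. -/
def freeWord (w : List ℕ) : FreeGroup (Fin 6) := (w.map fun l => FreeGroup.of (Fin.ofNat 6 l)).prod

/-- The relators on six letters. -/
def sixRels : Set (FreeGroup (Fin 6)) := {r | ∃ w ∈ words, smallWord w = true ∧ r = freeWord w}

/-- The group presented by the relations among six letters. -/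
abbrev P6 := PresentedGroup sixRels

/-- The letters in this group. -/
def im6 (n : ℕ) : P6 := PresentedGroup.of (Fin.ofNat 6 n)

theorem wval_im6 (w : List ℕ) : wval im6 w = PresentedGroup.mk sixRels (freeWord w) := by
  rw [freeWord, map_list_prod, List.map_map]
  rfl

theorem closure_im6 : Subgroup.closure (im6 '' Set.Iio 6) = ⊤ := by
  refine top_le_iff.1 ?_
  rw [← PresentedGroup.closure_range_of]
  refine Subgroup.closure_mono ?_
  rintro _ ⟨x, rfl⟩
  exact ⟨x.val, x.isLt, congrArg PresentedGroup.of (Fin.ext (Nat.mod_eq_of_lt x.isLt))⟩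

theorem im6_rels : ∀ w ∈ words, smallWord w = true → wval im6 w = 1 := fun w hw hs => by
  rw [wval_im6]
  exact PresentedGroup.one_of_mem ⟨w, hw, hs, rfl⟩

theorem finite_P6 : Finite P6 ∧ Nat.card P6 ≤ 251596800 := by
  have h := six_bound im6 im6_rels
  rw [closure_im6] at h
  haveI := h.1
  exact ⟨Finite.of_equiv _ Subgroup.topEquiv.toEquiv, by
    rw [← Subgroup.card_top (G := P6)]
    exact h.2⟩

section
variable {G : Type*} [Group G] (f : ℕ → G) (hf : ∀ w ∈ words, smallWord w = true → wval f w = 1)
include hf

theorem lift_rels : ∀ r ∈ sixRels, FreeGroup.lift (fun x : Fin 6 => f x.val) r = 1 := by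
  rintro r ⟨w, hw, hs, rfl⟩
  rw [freeWord, map_list_prod, List.map_map]
  refine Eq.trans ?_ (hf w hw hs)
  refine congrArg List.prod (List.map_congr_left fun l hl => ?_)
  rw [Function.comp_apply, FreeGroup.lift_apply_of]
  have := List.all_eq_true.1 hs l hl
  rw [decide_eq_true_eq] at this
  exact congrArg f (Nat.mod_eq_of_lt this)

/-- The map from the presented group on six letters. -/
def fromP6 : P6 →* G := PresentedGroup.toGroup (lift_rels f hf)

theorem fromP6_bijective (hgen : Subgroup.closure (f '' Set.Iio 6) = ⊤) (hcard : Nat.card G = 251596800) :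
    Function.Bijective (fromP6 f hf) := by
  haveI := finite_P6.1
  haveI : Finite G := Nat.finite_of_card_ne_zero (by rw [hcard]; norm_num)
  have hs : Function.Surjective (fromP6 f hf) := by
    refine MonoidHom.range_eq_top.1 (top_le_iff.1 ?_)
    rw [← hgen]
    refine (Subgroup.closure_le _).2 ?_
    rintro _ ⟨l, hl, rfl⟩
    exact ⟨PresentedGroup.of ⟨l, hl⟩, PresentedGroup.toGroup.of _⟩
  refine (Nat.bijective_iff_surjective_and_card _).2 ⟨hs, le_antisymm ?_ (Nat.card_le_card_of_surjective _ hs)⟩
  rw [hcard]
  exact finite_P6.2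

end

/-- The letters inside the subgroup they generate. -/
def imSix (n : ℕ) : first 6 := if h : n < 6 then ⟨im n, im_mem h⟩ else 1

theorem imSix_rels : ∀ w ∈ words, smallWord w = true → wval imSix w = 1 := fun w hw hs => by
  refine Subtype.ext ?_
  rw [wval, SubmonoidClass.coe_list_prod, List.map_map]
  refine Eq.trans ?_ (im_words hw)
  refine congrArg List.prod (List.map_congr_left fun l hl => ?_)
  have := List.all_eq_true.1 hs l hl
  rw [decide_eq_true_eq] at this
  simp [imSix, this]

theorem closure_imSix : Subgroup.closure (imSix '' Set.Iio 6) = ⊤ := by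
  refine top_le_iff.1 fun x _ => ?_
  have hx := x.2
  have h : first 6 ≤ (Subgroup.closure (imSix '' Set.Iio 6)).map (first 6).subtype := by
    refine (Subgroup.closure_le _).2 ?_
    rintro _ ⟨l, hl, rfl⟩
    refine ⟨imSix l, Subgroup.subset_closure ⟨l, hl, rfl⟩, ?_⟩
    have h' : l < 6 := hl
    simp [imSix, h']
  obtain ⟨y, hy, e⟩ := h hx
  rwa [Subtype.ext e] at hy

theorem img_rels : (words.all fun w => !smallWord w || w == [] || GTwo.chainOKB w) = true := by decide +kernel

theorem img_good : ∀ w ∈ words, smallWord w = true → wval GTwo.img w = 1 := fun w hw hs => by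
  have h := List.all_eq_true.1 img_rels w hw
  rw [hs, Bool.not_true, Bool.false_or, Bool.or_eq_true, beq_iff_eq] at h
  rcases h with rfl | h
  · rfl
  · exact GTwo.chainOK_sound h

/-- The subgroup on six letters is `G₂(4)`. -/
noncomputable def sixIso : first 6 ≃* Cfsg.Lib.PrimeGraph.GF4 :=
  (MulEquiv.ofBijective _ (fromP6_bijective imSix imSix_rels closure_imSix card_first_six)).symm.trans
    (MulEquiv.ofBijective _ (fromP6_bijective GTwo.img img_good GTwo.closure_img Cfsg.Lib.PrimeGraph.card_GF4))

theorem simple_first_six : IsSimpleGroup (first 6) := by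
  haveI : IsSimpleGroup Cfsg.Lib.PrimeGraph.GF4 :=
    (Cfsg.Agent.S1055.result (F := Cfsg.Lib.PrimeGraph.KQuad) ⟨Cfsg.Lib.PrimeGraph.KQuad.ofCode 2, by decide +kernel, by decide +kernel⟩).1
  haveI : Nontrivial (first 6) := sixIso.toEquiv.nontrivial
  exact IsSimpleGroup.isSimpleGroup_of_surjective sixIso.symm.toMonoidHom sixIso.symm.surjective

end Cfsg.Lib.SuzPres
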