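import Cfsg.Agent.SuzPres.AutChecks
import Cfsg.Prelude.Def_KGroupFacts

/-!
Automorphisms of the presented Suzuki group: normal forms on two local elements and one outer automorphism.
-/

set_option autoImplicit false
set_option maxRecDepth 4000
set_option Elab.async false

namespace Cfsg.Lib.SuzPres

open Cfsg.Lib.CosetCert Cfsg.Lib.PermCert

/-- The element of order five. -/
def yEl : Cfsg.Spor.Suz := wval imX [19]

/-- The third element. -/
def xEl : Cfsg.Spor.Suz := wval imX [17]

theorem imX_seven : imX 7 = uEl := by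
  rw [show (7 : ℕ) = 6 + 1 from rfl, imX_pow le_rfl (by norm_num), pow_one]

theorem uEl_pow : uEl ^ 11 = 1 := by
  have := sameW_sound local_ok.1
  rwa [wval_rpt, wval_cons, wval_nil, mul_one, imX_seven] at this

theorem uEl_order : orderOf uEl = 11 := by
  haveI : Fact (Nat.Prime 11) := ⟨by norm_num⟩
  refine orderOf_eq_prime uEl_pow fun h => ?_
  have e : wval imX [7] = wval imX [] := by rw [wval_cons, wval_nil, mul_one, imX_seven, h]
  have h2 := local_ok.2.1
  rw [eval_eq rfl rfl e (by norm_num), bne_iff_ne] at h2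
  exact h2 rfl

theorem uEl_pow_mod (n : ℕ) : uEl ^ n = uEl ^ (n % 11) := by
  conv_lhs => rw [← pow_mod_orderOf, uEl_order]

theorem wval_powWord {i : ℕ} (h : i < 11) : wval imX (powWord i) = uEl ^ i := by
  rw [powWord]
  split_ifs with h0
  · rw [h0, pow_zero, wval_nil]
  · rw [wval_cons, wval_nil, mul_one, imX_pow (by omega) (by omega)]

theorem wval_replicate (j : ℕ) : wval imX (List.replicate j 19) = yEl ^ j := by
  induction j with
  | zero => simp [wval]
  | succ j ih => rw [List.replicate_succ, wval_cons, ih, pow_succ', yEl, wval_cons, wval_nil, mul_one]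

/-- The letters of a sifted word. -/
theorem sift_letters : ∀ (c : List SLev) (ts w : List ℕ), CosetCert.sift tabs c ts = some w →
    (∀ S ∈ c, ∀ g ∈ S.lev.gens, ∀ l ∈ g, l < 7) → ∀ l ∈ w, l < 7
  | [], _, w, h, _ => by
    simp only [CosetCert.sift, Option.some.injEq] at h
    subst h
    simp
  | _ :: _, [], w, h, _ => by simp [CosetCert.sift] at h
  | S :: r, t :: ts, w, h, hg => by
    simp only [CosetCert.sift] at h
    cases hf : S.idx.find? fun e => e.1 == t with
    | none => simp [hf] at h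
    | some e =>
      simp only [hf] at h
      cases hs : CosetCert.sift tabs r (ts.map (evalW tabs (genWordL S.lev.gens e.2).reverse)) with
      | none => simp [hs] at h
      | some v =>
        simp only [hs, Option.some.injEq] at h
        subst h
        intro l hl
        rcases List.mem_append.1 hl with hl | hl
        · exact sift_letters r _ v hs (fun M hM => hg M (List.mem_cons_of_mem S hM)) l hl
        · exact genWordL_lt (tabs := tabs) (hg S List.mem_cons_self) l hl

theorem gens_lt : ((chainU ++ chainY).all fun S => S.lev.gens.all fun g => g.all fun l => Nat.blt l 7) = true := by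
  decide +kernel

theorem found_word {c : List SLev} (hc : c = chainU ∨ c = chainY) {x : Cfsg.Spor.Suz} {ts : List ℕ}
    (h : Images c x ts) : ∃ w, CosetCert.sift tabs c ts = some w ∧ inX w = true ∧ wval imX w = x := by
  obtain ⟨w, hw, e⟩ := found hc h
  have hlt : ∀ l ∈ w, l < 7 := sift_letters c ts w hw fun S hS g hg l hl => by
    have hS' : S ∈ chainU ++ chainY := by
      rcases hc with rfl | rfl
      · exact List.mem_append_left _ hS
      · exact List.mem_append_right _ hS
    exact Nat.le_of_ble_eq_true (List.all_eq_true.1 (List.all_eq_true.1 (List.all_eq_true.1 gens_lt S hS') g hg) l hl)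
  refine ⟨w, hw, List.all_eq_true.2 fun l hl => Nat.ble_eq_true_of_le (by have := hlt l hl; omega), ?_⟩
  rw [← e]
  exact congrArg List.prod (List.map_congr_left fun l hl => imX_low (hlt l hl))

/-- Images of an orbit under commuting words. -/
theorem images_orbit {c : List SLev} {x : Cfsg.Spor.Suz} {m b : ℕ} (hb' : b < 1782) (pw : ℕ → List ℕ)
    (hb : (c.map fun S => S.lev.b) = (List.range m).map fun j => evalW xTabs (pw j) b)
    (hin : ∀ j < m, inX (pw j) = true) (hcomm : ∀ j < m, x * wval imX (pw j) = wval imX (pw j) * x) :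
    Images c x ((List.range m).map fun j => evalW xTabs (pw j) ((psi x)⁻¹ ⟨b, hb'⟩).val) := by
  rw [Images, ← List.forall₂_map_left_iff (f := fun S : SLev => S.lev.b)
    (R := fun b t => ∀ p : Fin 1782, p.val = b → ((psi x)⁻¹ p).val = t), hb, List.forall₂_map_left_iff,
    List.forall₂_map_right_iff]
  refine List.forall₂_same.2 fun j hj p hp => ?_
  rw [List.mem_range] at hj
  rw [← evalX_apply (hin j hj) ((psi x)⁻¹ ⟨b, hb'⟩)]
  have e : p = (psi (wval imX (pw j)))⁻¹ ⟨b, hb'⟩ := Fin.ext (by rw [hp, evalX_apply (hin j hj)])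
  rw [e, ← Equiv.Perm.mul_apply, ← Equiv.Perm.mul_apply, ← mul_inv_rev, ← mul_inv_rev, ← map_mul, ← map_mul,
    hcomm j hj]

theorem testU_all {r : ℕ} (h : r < 1782) : testU r = true := by
  by_cases h0 : r < 500
  · exact List.all_eq_true.1 testU0 r (List.mem_range'_1.2 (by omega))
  by_cases h1 : r < 1000
  · exact List.all_eq_true.1 testU1 r (List.mem_range'_1.2 (by omega))
  by_cases h2 : r < 1400
  · exact List.all_eq_true.1 testU2 r (List.mem_range'_1.2 (by omega))
  · exact List.all_eq_true.1 testU3 r (List.mem_range'_1.2 (by omega))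

theorem testY_all {r : ℕ} (h : r < 1782) : testY r = true := by
  by_cases h0 : r < 500
  · exact List.all_eq_true.1 testY0 r (List.mem_range'_1.2 (by omega))
  by_cases h1 : r < 1000
  · exact List.all_eq_true.1 testY1 r (List.mem_range'_1.2 (by omega))
  by_cases h2 : r < 1400
  · exact List.all_eq_true.1 testY2 r (List.mem_range'_1.2 (by omega))
  · exact List.all_eq_true.1 testY3 r (List.mem_range'_1.2 (by omega))

theorem sameW_of_eq {w v : List ℕ} (hw : inX w = true) (hv : inX v = true) (h : wval imX w = wval imX v) :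
    sameW w v = true := by
  simp only [sameW, Bool.and_eq_true, List.all_eq_true, beq_iff_eq]
  exact ⟨⟨hw, hv⟩, fun S hS => eval_eq hw hv h (Nat.le_of_ble_eq_true (List.all_eq_true.1 base_lt S hS))⟩

/-- The centraliser of the element of order eleven is cyclic. -/
theorem cent_u {x : Cfsg.Spor.Suz} (hx : x * uEl = uEl * x) : ∃ i < 11, x = uEl ^ i := by
  have hpin : ∀ j < 11, inX (powWord j) = true := fun j hj => by
    rw [powWord]
    split_ifs
    · rfl
    · simp [inX]; omega
  have hc : ∀ z : Cfsg.Spor.Suz, z * uEl = uEl * z → Images chainU z (imagesU ((psi z)⁻¹ p0).val) := fun z hz =>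
    images_orbit (b := 0) (by norm_num) powWord bases_ok.1 (fun j hj => hpin j (by omega)) fun j hj => by
      rw [wval_powWord (by omega)]
      exact (Commute.pow_right hz j).eq
  obtain ⟨w, hw, hin, e⟩ := found_word (Or.inl rfl) (hc x hx)
  have ht := testU_all ((psi x)⁻¹ p0).isLt
  rw [testU, hw] at ht
  simp only [Bool.or_eq_true, List.any_eq_true, List.mem_range, beq_iff_eq, Bool.not_eq_true'] at ht
  rcases ht with (⟨i, hi, hr⟩ | ht) | ht
  · refine ⟨i, hi, images_unique (Or.inl rfl) (hc x hx) ?_⟩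
    have hev : evalW xTabs (powWord i) 0 = ((psi (uEl ^ i))⁻¹ p0).val := by
      rw [← wval_powWord hi, evalX_apply (hpin i hi) p0]
      rfl
    rw [← hr, hev]
    exact hc _ (Commute.pow_self uEl i).eq
  · exfalso
    have hin2 : inX (w ++ [7]) = true := by rw [inX, List.all_append, ← inX, hin]; rfl
    have hin3 : inX (7 :: w) = true := by rw [inX, List.all_cons, ← inX, hin]; rfl
    rw [sameW_of_eq hin2 hin3 (by
      rw [wvalX_append, wval_cons imX 7 w, wval_cons, wval_nil, mul_one, e, imX_seven]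
      exact hx)] at ht
    exact Bool.noConfusion ht
  · rw [hin] at ht
    exact Bool.noConfusion ht

/-- The centraliser of the element of order five is listed. -/
theorem cent_y {x : Cfsg.Spor.Suz} (hx : x * yEl = yEl * x) : ∃ k < 300, x = wval imX (candWords.getD k []) := by
  have hrin : ∀ j, inX (List.replicate j 19) = true := fun j => by simp [inX]
  have hc : Images chainY x (imagesY ((psi x)⁻¹ ⟨2, by norm_num⟩).val) :=
    images_orbit (b := 2) (by norm_num) (fun j => List.replicate j 19) bases_ok.2.1 (fun j _ => hrin j) fun j _ => by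
      rw [wval_replicate]
      exact (Commute.pow_right hx j).eq
  obtain ⟨w, hw, hin, e⟩ := found_word (Or.inr rfl) hc
  have ht := testY_all ((psi x)⁻¹ ⟨2, by norm_num⟩).isLt
  rw [testY, hw] at ht
  simp only [Bool.or_eq_true, List.contains_iff_mem, Bool.not_eq_true'] at ht
  rcases ht with (hm | ht) | ht
  · obtain ⟨k, hk, hkr⟩ := List.getElem_of_mem hm
    rw [cand_ok.2] at hk
    refine ⟨k, hk, images_unique (Or.inr rfl) hc ?_⟩
    have h := List.all_eq_true.1 cand_ok.1 k (List.mem_range.2 hk)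
    simp only [candOK, Bool.and_eq_true, List.all_eq_true, List.mem_range, beq_iff_eq] at h
    rw [List.getD_eq_getElem (d := 0) _ (cand_ok.2.symm ▸ hk), hkr] at h
    rw [Images, ← List.forall₂_map_left_iff (f := fun S : SLev => S.lev.b)
      (R := fun b t => ∀ p : Fin 1782, p.val = b → ((psi _)⁻¹ p).val = t), bases_ok.2.1, imagesY, imagesY,
      List.forall₂_map_left_iff, List.forall₂_map_right_iff]
    refine List.forall₂_same.2 fun j hj p hp => ?_
    rw [List.mem_range] at hj
    rw [h.2 j hj, evalX_apply h.1, hp]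
  · exfalso
    have hin2 : inX (w ++ [19]) = true := by rw [inX, List.all_append, ← inX, hin]; rfl
    have hin3 : inX (19 :: w) = true := by rw [inX, List.all_cons, ← inX, hin]; rfl
    rw [sameW_of_eq hin2 hin3 (by
      rw [wvalX_append, wval_cons imX 19 w, e, show imX 19 = yEl by rw [yEl, wval_cons, wval_nil, mul_one]]
      exact hx)] at ht
    exact Bool.noConfusion ht
  · rw [hin] at ht
    exact Bool.noConfusion ht

theorem norm_conj (g : Cfsg.Spor.Suz) (hg : g⁻¹ * uEl * g = uEl ^ 2) :
    ∀ m : ℕ, (g ^ m)⁻¹ * uEl * g ^ m = uEl ^ (2 ^ m)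
  | 0 => by simp
  | m + 1 => by
    rw [pow_succ g m, show (g ^ m * g)⁻¹ * uEl * (g ^ m * g) = g⁻¹ * ((g ^ m)⁻¹ * uEl * g ^ m) * g by group,
      norm_conj g hg m, show g⁻¹ * uEl ^ (2 ^ m) * g = g⁻¹ * uEl ^ (2 ^ m) * g⁻¹⁻¹ by rw [inv_inv],
      ← conj_pow, inv_inv, hg, ← pow_mul, pow_succ', mul_comm]

/-- Elements of order eleven are conjugate. -/
theorem eleven_class {v : Cfsg.Spor.Suz} (hv : orderOf v = 11) : ∃ g, g * v * g⁻¹ = uEl := by
  haveI : Fact (Nat.Prime 11) := ⟨by norm_num⟩
  have h11 : (448345497600 : ℕ).factorization 11 = 1 := by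
    refine le_antisymm ?_ ((Nat.Prime.pow_dvd_iff_le_factorization (by norm_num) (by norm_num)).mp (by norm_num))
    by_contra h
    exact absurd ((Nat.Prime.pow_dvd_iff_le_factorization (p := 11) (k := 2) (by norm_num) (by norm_num)).mpr
      (by omega)) (by norm_num : ¬ 11 ^ 2 ∣ 448345497600)
  have hcard : ∀ w : Cfsg.Spor.Suz, orderOf w = 11 →
      Nat.card (Subgroup.zpowers w) = 11 ^ (Nat.card Cfsg.Spor.Suz).factorization 11 := fun w hw => by
    rw [Nat.card_zpowers, hw, card_suz, h11, pow_one]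
  let P : Sylow 11 Cfsg.Spor.Suz := Sylow.ofCard _ (hcard v hv)
  let Q : Sylow 11 Cfsg.Spor.Suz := Sylow.ofCard _ (hcard uEl uEl_order)
  obtain ⟨g, hg⟩ := MulAction.exists_smul_eq Cfsg.Spor.Suz P Q
  have h1 : g * v * g⁻¹ ∈ (g • P : Sylow 11 Cfsg.Spor.Suz).toSubgroup := by
    rw [Sylow.coe_subgroup_smul]
    exact Subgroup.mem_pointwise_smul_iff_inv_smul_mem.mpr (by
      have : v ∈ (P : Subgroup Cfsg.Spor.Suz) := Subgroup.mem_zpowers v
      simpa [MulAut.smul_def, mul_assoc] using this)
  rw [hg] at h1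
  have h2 : g * v * g⁻¹ ∈ Subgroup.zpowers uEl := h1
  obtain ⟨i, hi⟩ := Submonoid.mem_powers_iff _ _ |>.1 ((isOfFinOrder_of_finite uEl).mem_powers_iff_mem_zpowers.2 h2)
  have hi' : uEl ^ (i % 11) = g * v * g⁻¹ := by rw [← uEl_pow_mod, hi]
  have hne : i % 11 ≠ 0 := fun h => by
    rw [h, pow_zero, eq_comm, conj_eq_one_iff] at hi'
    rw [hi', orderOf_one] at hv
    norm_num at hv
  obtain ⟨m, hm⟩ := (show ∀ r : Fin 11, r.val ≠ 0 → ∃ m : Fin 10, 2 ^ m.val % 11 = r.val by decide)
    ⟨i % 11, Nat.mod_lt _ (by norm_num)⟩ hne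
  set n := wval imX yWord
  have hl := local_ok.2.2.2.2.2.1
  rw [List.all_append, List.all_append, Bool.and_eq_true, Bool.and_eq_true] at hl
  have hnu : n⁻¹ * uEl * n = uEl ^ 2 := by
    have := sameW_sound local_ok.2.2.1
    rwa [wvalX_append, wvalX_append, wvalX_reverse hl.1.1, wval_cons, wval_cons, wval_nil, mul_one, mul_one,
      imX_seven, show (8 : ℕ) = 6 + 2 from rfl, imX_pow (by norm_num) (by norm_num)] at this
  refine ⟨n ^ m.val * g, ?_⟩
  have hn := norm_conj n hnu m.val
  rw [uEl_pow_mod (2 ^ m.val), hm, hi'] at hn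
  calc n ^ m.val * g * v * (n ^ m.val * g)⁻¹ = n ^ m.val * (g * v * g⁻¹) * (n ^ m.val)⁻¹ := by group
    _ = uEl := by rw [← hn]; group

theorem y_conj : yEl * uEl * yEl⁻¹ = uEl ^ 3 := by
  have h1 := sameW_sound local_ok.2.2.2.1
  have h2 := sameW_sound local_ok.2.2.2.2.1
  have hl := local_ok.2.2.2.2.2.1
  rw [List.all_append, List.all_append, Bool.and_eq_true, Bool.and_eq_true] at hl
  rw [wval_cons, wval_cons, wvalX_reverse hl.1.2, ← h2, show (9 : ℕ) = 6 + 3 from rfl, wval_cons imX (6 + 3),
    imX_pow (by norm_num) (by norm_num), wval_nil, mul_one, imX_seven, ← mul_assoc,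
    show imX 19 = yEl by rw [yEl, wval_cons, wval_nil, mul_one]] at h1
  exact h1

theorem map_relWord (φ : Cfsg.Spor.Suz →* Cfsg.Spor.Suz) {r : ℕ} (hr : r < 4) {x : List ℕ}
    (hu : φ uEl = uEl) (hb : φ xEl = wval imX x) :
    φ (wval imX (relWord r [17])) = wval imX (relWord r x) := by
  have h := List.all_eq_true.1 rel_ok r (List.mem_range.2 hr)
  rw [Bool.and_eq_true, List.all_eq_true] at h
  rw [relWord, relWord, wval_rpt, wval_rpt, map_pow]
  generalize (relData.getD r (0, [])).2 = c at h
  refine congrArg (· ^ _) ?_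
  induction c with
  | nil => simp [wval]
  | cons i c ih =>
    rw [List.flatMap_cons, List.flatMap_cons, wvalX_append ([17] ++ powWord i), wvalX_append (x ++ powWord i), map_mul,
      ih ⟨h.1, fun a ha => h.2 a (List.mem_cons_of_mem i ha)⟩, wvalX_append, wvalX_append, map_mul, ← xEl, hb,
      wval_powWord (Nat.le_of_ble_eq_true (h.2 i List.mem_cons_self)), map_pow, hu]

theorem kill_all {k : ℕ} (h : k < 300) : killOK k = true := by
  by_cases h0 : k < 150
  · exact List.all_eq_true.1 kill0 k (List.mem_range'_1.2 (by omega))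
  · exact List.all_eq_true.1 kill1 k (List.mem_range'_1.2 (by omega))

/-- The normal form of an automorphism. -/
theorem normal_form (φ : MulAut Cfsg.Spor.Suz) : ∃ g : Cfsg.Spor.Suz,
    (MulAut.conj g * φ) uEl = uEl ∧ (MulAut.conj g * φ) yEl = yEl ∧
      ((MulAut.conj g * φ) xEl = xEl ∨ (MulAut.conj g * φ) xEl = wval imX [18]) := by
  obtain ⟨g1, hg1⟩ := eleven_class (v := φ uEl) (by rw [MulEquiv.orderOf_eq φ, uEl_order])
  set ψ := MulAut.conj g1 * φ with hψ
  have hψu : ψ uEl = uEl := by rw [hψ, MulAut.mul_apply, MulAut.conj_apply, hg1]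
  have hz : ψ yEl * uEl * (ψ yEl)⁻¹ = uEl ^ 3 := by
    have h := congrArg ψ y_conj
    rwa [map_mul, map_mul, map_inv, map_pow, hψu] at h
  have hcomm : (yEl⁻¹ * ψ yEl) * uEl = uEl * (yEl⁻¹ * ψ yEl) := by
    have h1 : ψ yEl * uEl = uEl ^ 3 * ψ yEl := mul_inv_eq_iff_eq_mul.1 hz
    have h2 : yEl⁻¹ * uEl ^ 3 = uEl * yEl⁻¹ := by rw [← y_conj]; group
    calc yEl⁻¹ * ψ yEl * uEl = yEl⁻¹ * (ψ yEl * uEl) := by group
      _ = yEl⁻¹ * uEl ^ 3 * ψ yEl := by rw [h1, mul_assoc]
      _ = uEl * (yEl⁻¹ * ψ yEl) := by rw [h2, mul_assoc]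
  obtain ⟨i, hi, hiy⟩ := cent_u hcomm
  have hψy : ψ yEl = yEl * uEl ^ i := by rw [← hiy, mul_inv_cancel_left]
  obtain ⟨m, hm⟩ := (show ∀ a : Fin 11, ∃ m : Fin 11, (4 * m.val + a.val + 10 * m.val) % 11 = 0 by decide) ⟨i, hi⟩
  have hmove : uEl ^ m.val * yEl = yEl * uEl ^ (4 * m.val) := by
    have h : yEl * uEl ^ (4 * m.val) * yEl⁻¹ = uEl ^ m.val := by
      rw [← conj_pow, y_conj, ← pow_mul, uEl_pow_mod, uEl_pow_mod m.val]
      congr 1
      omega
    rw [← h]
    group
  have hinvm : (uEl ^ m.val)⁻¹ = uEl ^ (10 * m.val) := by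
    refine inv_eq_of_mul_eq_one_right ?_
    rw [← pow_add, uEl_pow_mod, show (m.val + 10 * m.val) % 11 = 0 by omega, pow_zero]
  refine ⟨uEl ^ m.val * g1, ?_⟩
  rw [map_mul, mul_assoc, ← hψ]
  set χ := MulAut.conj (uEl ^ m.val) * ψ with hχ
  have hχu : χ uEl = uEl := by
    rw [hχ, MulAut.mul_apply, MulAut.conj_apply, hψu, (Commute.pow_self uEl m.val).eq, mul_inv_cancel_right]
  have hχy : χ yEl = yEl := by
    rw [hχ, MulAut.mul_apply, MulAut.conj_apply, hψy, ← mul_assoc, hmove, hinvm, mul_assoc, mul_assoc, ← pow_add,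
      ← pow_add, uEl_pow_mod, show (4 * m.val + (i + 10 * m.val)) % 11 = 0 by have : _ = 0 := hm; simp only at this; omega,
      pow_zero, mul_one]
  refine ⟨hχu, hχy, ?_⟩
  have hxy : xEl * yEl = yEl * xEl := by
    have := sameW_sound local_ok.2.2.2.2.2.2.1
    rw [wval_cons imX 17 [19], wval_cons imX 19 [17]] at this
    rwa [xEl, yEl, wval_cons, wval_cons, wval_nil, mul_one, mul_one]

  obtain ⟨k, hk, hkx⟩ := cent_y (x := χ xEl) (by
    have := congrArg χ hxy
    rwa [map_mul, map_mul, hχy] at this)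
  have h := kill_all hk
  simp only [killOK, Bool.or_eq_true, Bool.and_eq_true, beq_iff_eq, bne_iff_ne] at h
  rcases h with (⟨-, h⟩ | ⟨-, h⟩) | h
  · exact Or.inl (hkx.trans (sameW_sound h))
  · exact Or.inr (hkx.trans (sameW_sound h))
  · exfalso
    obtain ⟨⟨⟨hr, hm'⟩, hin⟩, hmove'⟩ := h
    generalize (candKill.getD k (0, 0)).1 = r at hr hin hmove'
    generalize (candKill.getD k (0, 0)).2 = p at hm' hmove'
    have hr' : r < 4 := Nat.le_of_ble_eq_true hr
    have h0 := List.all_eq_true.1 rel_ok r (List.mem_range.2 hr')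
    rw [Bool.and_eq_true] at h0
    have h1 := congrArg χ.toMonoidHom (sameW_sound h0.1)
    rw [map_relWord χ.toMonoidHom hr' hχu hkx, wval_nil, map_one] at h1
    exact hmove' (eval_eq hin rfl (h1.trans (wval_nil imX).symm) (Nat.le_of_ble_eq_true hm'))

theorem aut_ext {φ ψ : MulAut Cfsg.Spor.Suz} (hu : φ uEl = ψ uEl) (hb : φ xEl = ψ xEl) : φ = ψ := by
  have hw : ∀ l < 7, φ (im l) = ψ (im l) := fun l hl => by
    have h := List.all_eq_true.1 gen_ok l (List.mem_range.2 hl)
    simp only [Bool.and_eq_true, List.all_eq_true, Bool.or_eq_true, beq_iff_eq] at h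
    have e := sameW_sound h.1
    rw [wval_cons, wval_nil, mul_one, imX_low hl] at e
    rw [← e, wval, map_list_prod, map_list_prod, List.map_map, List.map_map]
    refine congrArg List.prod (List.map_congr_left fun x hx => ?_)
    show φ (imX x) = ψ (imX x)
    rcases h.2 x hx with rfl | ⟨h1, h2⟩
    · simpa [xEl, wval] using hb
    · have h1' := Nat.le_of_ble_eq_true h1
      have h2' := Nat.le_of_ble_eq_true h2
      rw [show x = 6 + (x - 6) by omega, imX_pow (by omega) (by omega), map_pow, map_pow, hu]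
  have : φ.toMonoidHom = ψ.toMonoidHom := MonoidHom.eq_of_eqOn_dense closure_im (by
    rintro _ ⟨l, hl, rfl⟩
    exact hw l hl)
  exact MulEquiv.ext fun x => DFunLike.congr_fun this x

/-- The images of the letters. -/
def outIm (l : ℕ) : Cfsg.Spor.Suz := wval imX (outWords.getD l [])

theorem substW_val : ∀ w : List ℕ, wval imX (substW w) = wval outIm w
  | [] => rfl
  | l :: w => by
    rw [substW, List.flatMap_cons, wvalX_append, ← substW, substW_val w, wval_cons]
    rfl

theorem good_out : Good outIm := fun w hw => by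
  rw [← substW_val]
  exact sameW_sound (List.all_eq_true.1 out_rel w hw)

/-- The endomorphism. -/
def outHom : Cfsg.Spor.Suz →* Cfsg.Spor.Suz := toGrp good_out

theorem outHom_word {w : List ℕ} (h : (w.all fun l => Nat.blt l 7) = true) :
    outHom (wval imX w) = wval imX (substW w) := by
  rw [substW_val, wvalX_low h, wval, map_list_prod, List.map_map, wval]
  exact congrArg List.prod (List.map_congr_left fun l hl =>
    toGrp_im good_out (Nat.le_of_ble_eq_true (List.all_eq_true.1 h l hl)))

theorem out_lets : ((uWord.all fun l => Nat.blt l 7) = true ∧ (yTwoWord.all fun l => Nat.blt l 7) = true) ∧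
    (xWord.all fun l => Nat.blt l 7) = true := by
  have := out_vals.2.2.2
  rwa [List.all_append, List.all_append, Bool.and_eq_true, Bool.and_eq_true] at this

theorem outHom_u : outHom uEl = uEl := by
  rw [uEl, ← wvalX_low out_lets.1.1, outHom_word out_lets.1.1, sameW_sound out_vals.1, wval_cons, wval_nil, mul_one,
    imX_seven, uEl, wvalX_low out_lets.1.1]

theorem special_val (k : ℕ) : wval imX [17 + k] = wval im (specialWord k) := by
  rw [wval_cons, wval_nil, mul_one, imX, if_neg (by omega), if_neg (by omega), Nat.add_sub_cancel_left]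

theorem outHom_y : outHom yEl = yEl := by
  have e : yEl = wval imX yTwoWord := sameW_sound local_ok.2.2.2.2.1
  rw [e, outHom_word out_lets.1.2, sameW_sound out_vals.2.1]
  exact e

theorem outHom_x : outHom xEl = wval imX [18] := by
  have e : xEl = wval imX xWord := (special_val 0).trans (wvalX_low out_lets.2).symm
  rw [e, outHom_word out_lets.2, sameW_sound out_vals.2.2.1]

theorem outHom_bijective : Function.Bijective outHom := by
  have hinj : Function.Injective outHom := by
    haveI := simple_suz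
    rcases Subgroup.Normal.eq_bot_or_eq_top (inferInstance : outHom.ker.Normal) with e | e
    · exact (MonoidHom.ker_eq_bot_iff _).1 e
    · exfalso
      have h : uEl ∈ outHom.ker := e ▸ Subgroup.mem_top _
      rw [MonoidHom.mem_ker, outHom_u] at h
      have := uEl_order
      rw [h, orderOf_one] at this
      norm_num at this
  exact ⟨hinj, Finite.injective_iff_surjective.1 hinj⟩

/-- The outer automorphism. -/
noncomputable def outAut : MulAut Cfsg.Spor.Suz := MulEquiv.ofBijective outHom outHom_bijective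

theorem outAut_apply (x : Cfsg.Spor.Suz) : outAut x = outHom x := by
  rw [outAut, MulEquiv.ofBijective_apply]

theorem outAut_outer : outAut ∉ Cfsg.Inn Cfsg.Spor.Suz := by
  rintro ⟨g, hg⟩
  have hfix : ∀ z, g * z * g⁻¹ = outHom z := fun z => by
    have := DFunLike.congr_fun hg z
    rwa [MulAut.conj_apply, outAut_apply] at this
  obtain ⟨i, hi, rfl⟩ := cent_u (x := g) (mul_inv_eq_iff_eq_mul.1 ((hfix uEl).trans outHom_u))
  have hy := (hfix yEl).trans outHom_y
  have h2 : uEl ^ i = uEl ^ (3 * i) := by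
    rw [pow_mul, ← y_conj, conj_pow]
    rw [eq_comm, mul_inv_eq_iff_eq_mul]
    exact (mul_inv_eq_iff_eq_mul.1 hy).symm
  rw [uEl_pow_mod (3 * i)] at h2
  have hi0 : i = (3 * i) % 11 := by
    refine pow_injOn_Iio_orderOf ?_ ?_ h2
    · rw [uEl_order]; exact hi
    · rw [uEl_order]; exact Nat.mod_lt _ (by norm_num)
  obtain rfl : i = 0 := by omega
  have hx := (hfix xEl).trans outHom_x
  rw [pow_zero, one_mul, inv_one, mul_one] at hx
  have hne := local_ok.2.2.2.2.2.2.2
  rw [eval_eq (w := [18]) (v := [17]) rfl rfl hx.symm (by norm_num), bne_iff_ne] at hne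
  exact hne rfl

/-- The outer automorphism group has order two. -/
theorem card_out : Nat.card (Cfsg.Out Cfsg.Spor.Suz) = 2 := by
  classical
  have hdich : ∀ q : Cfsg.Out Cfsg.Spor.Suz, q = ((1 : MulAut Cfsg.Spor.Suz) : Cfsg.Out Cfsg.Spor.Suz) ∨
      q = (outAut : Cfsg.Out Cfsg.Spor.Suz) := by
    intro q
    obtain ⟨φ, rfl⟩ := QuotientGroup.mk_surjective q
    obtain ⟨g, hu, -, h | h⟩ := normal_form φ
    · left
      have e : MulAut.conj g * φ = 1 := aut_ext (hu.trans rfl) (h.trans rfl)
      refine QuotientGroup.eq.2 ?_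
      rw [mul_one, inv_eq_of_mul_eq_one_left e]
      exact ⟨g, rfl⟩
    · right
      have e : MulAut.conj g * φ = outAut := aut_ext (by rw [hu, outAut_apply, outHom_u])
        (by rw [h, outAut_apply, outHom_x])
      refine QuotientGroup.eq.2 ?_
      rw [← e, show φ⁻¹ * (MulAut.conj g * φ) = φ⁻¹ * MulAut.conj g * φ⁻¹⁻¹ by group]
      exact (Cfsg.innNormal _).conj_mem _ ⟨g, rfl⟩ φ⁻¹
  rw [Nat.card_eq_two_iff]
  refine ⟨((1 : MulAut Cfsg.Spor.Suz) : Cfsg.Out Cfsg.Spor.Suz), (outAut : Cfsg.Out Cfsg.Spor.Suz), fun h => ?_, ?_⟩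
  · refine outAut_outer ?_
    have := QuotientGroup.eq.1 h
    rwa [inv_one, one_mul] at this
  · ext q
    simpa using hdich q

end Cfsg.Lib.SuzPres
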