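import Cfsg.Agent.SuzPres.Order

/-!
The subgroup on the letters before `g`, as printed.
-/

set_option autoImplicit false

namespace Cfsg.Lib.SuzPres

open Cfsg.Spor.Suz in
theorem printed_eq : (Subgroup.closure ({a, b, c, d, e, f} : Set (FreeGroup Gen))).map
    (PresentedGroup.mk (Cfsg.Spor.coxRelators edges ∪ {r | r ∈ extra})) = first 6 := by
  rw [MonoidHom.map_closure, first]
  congr 1
  ext x
  constructor
  · rintro ⟨w, hw, rfl⟩
    simp only [Set.mem_insert_iff, Set.mem_singleton_iff] at hw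
    rcases hw with rfl | rfl | rfl | rfl | rfl | rfl
    exacts [⟨0, by norm_num, rfl⟩, ⟨1, by norm_num, rfl⟩, ⟨2, by norm_num, rfl⟩, ⟨3, by norm_num, rfl⟩,
      ⟨4, by norm_num, rfl⟩, ⟨5, by norm_num, rfl⟩]
  · rintro ⟨l, hl, rfl⟩
    have h : l < 6 := hl
    interval_cases l
    exacts [⟨a, by simp, rfl⟩, ⟨b, by simp, rfl⟩, ⟨c, by simp, rfl⟩, ⟨d, by simp, rfl⟩, ⟨e, by simp, rfl⟩,
      ⟨f, by simp, rfl⟩]

end Cfsg.Lib.SuzPres
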