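import Cfsg.Agent.SuzPres.Order
import Cfsg.Agent.SuzPres.L5Check
import Cfsg.Agent.SuzPres.L6Check
import Cfsg.Agent.SuzPres.UData

/-!
The subgroup on the letters other than `e`.
-/

set_option autoImplicit false

namespace Cfsg.Lib.SuzPres

open Cfsg.Lib.CosetCert Cfsg.Lib.PermCert

/-- The letters other than `e`, numbered. -/
def idU (n : ℕ) : ℕ := [0, 1, 2, 3, 5, 6].getD n 0

/-- Their values. -/
def imU (n : ℕ) : Cfsg.Spor.Suz := im (idU n)

/-- The subgroup they generate. -/
def sixU : Subgroup Cfsg.Spor.Suz := Subgroup.closure (imU '' Set.Iio 6)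

theorem idU_lt : ∀ l : Fin 6, idU l.val < 7 := by decide +kernel

theorem relsU : ((L5.rels ++ L6.rels).all fun r =>
    words.contains (r.map idU) && r.all (fun l => decide (l < 6))) = true := by decide +kernel

theorem relU {r : List ℕ} (hr : r ∈ L5.rels ++ L6.rels) : wval imU r = 1 ∧ ∀ l ∈ r, l < 6 := by
  have h := List.all_eq_true.1 relsU r hr
  rw [Bool.and_eq_true, List.contains_iff_mem] at h
  refine ⟨?_, fun l hl => decide_eq_true_eq.mp (List.all_eq_true.1 h.2 l hl)⟩
  have := im_words h.1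
  rwa [wval, List.map_map] at this

theorem sqU {l : ℕ} (hl : l < 6) : imU l * imU l = 1 := good_im.inv (idU_lt ⟨l, hl⟩)

theorem stepU {C : Cert} {R : List (List ℕ)} (hC : C.Valid R) (hR : ∀ r ∈ R, r ∈ L5.rels ++ L6.rels)
    (hng : C.ng ≤ 6) {K : Subgroup Cfsg.Spor.Suz} [Finite K] (hsub : ∀ s ∈ C.subs, imU s ∈ K) :
    Finite (Subgroup.closure (imU '' Set.Iio C.ng)) ∧
      Nat.card (Subgroup.closure (imU '' Set.Iio C.ng)) ≤ C.fin.length * Nat.card K :=
  card_le C imU hC (fun l hl => sqU (by omega)) (fun r hr => (relU (hR r hr)).1)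
    (fun r hr l hl => sqU ((relU (hR r hr)).2 l hl)) hsub le_rfl

theorem boundU : Finite sixU ∧ Nat.card sixU ≤ 19595520 := by
  haveI := bound4.1
  obtain ⟨f5, c5⟩ := stepU L5.valid (fun r hr => List.mem_append_left _ hr) (by decide) (K := first 4) (fun s hs => by
    simp only [L5.cert, List.mem_cons, List.mem_nil_iff, or_false] at hs
    rcases hs with rfl | rfl | rfl | rfl <;> exact im_mem (by decide))
  rw [L5.fins_length] at c5
  haveI := f5
  obtain ⟨f6, c6⟩ := stepU L6.valid (fun r hr => List.mem_append_right _ hr) (by decide)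
    (K := Subgroup.closure (imU '' Set.Iio L5.cert.ng)) (fun s hs => Subgroup.subset_closure ⟨s, by
      simp only [L6.cert, List.mem_cons, List.mem_nil_iff, or_false] at hs
      simp only [L5.cert, Set.mem_Iio]
      omega, rfl⟩)
  rw [L6.fins_length] at c6
  refine ⟨f6, c6.trans ?_⟩
  have := bound4.2
  omega

theorem chainU_ok : chainOK tabs 1782 7 U.chain = true ∧ chainSize U.chain = 19595520 ∧
    (U.chain.all fun K => K.gens.all fun w => w.all fun l => [0, 1, 2, 3, 5, 6].contains l) = true := by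
  decide +kernel

theorem memU {l : ℕ} (h : [0, 1, 2, 3, 5, 6].contains l = true) : im l ∈ sixU := by
  rw [List.contains_iff_mem] at h
  simp only [List.mem_cons, List.mem_nil_iff, or_false] at h
  rcases h with rfl | rfl | rfl | rfl | rfl | rfl
  exacts [Subgroup.subset_closure ⟨0, by norm_num, rfl⟩, Subgroup.subset_closure ⟨1, by norm_num, rfl⟩,
    Subgroup.subset_closure ⟨2, by norm_num, rfl⟩, Subgroup.subset_closure ⟨3, by norm_num, rfl⟩,
    Subgroup.subset_closure ⟨4, by norm_num, rfl⟩, Subgroup.subset_closure ⟨5, by norm_num, rfl⟩]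

theorem wval_memU : ∀ {w : List ℕ}, (∀ l ∈ w, [0, 1, 2, 3, 5, 6].contains l = true) → wval im w ∈ sixU
  | [], _ => sixU.one_mem
  | l :: w, h => by
    rw [wval_cons]
    exact mul_mem (memU (h l List.mem_cons_self)) (wval_memU fun a ha => h a (List.mem_cons_of_mem l ha))

theorem card_sixU : Nat.card sixU = 19595520 := by
  refine le_antisymm boundU.2 (chainU_ok.2.1 ▸ chain_bound im psi tabs psi_im _ _ chainU_ok.1 boundU.1 ?_)
  intro K hK w hw
  exact wval_memU fun l hl => List.all_eq_true.1 (List.all_eq_true.1 (List.all_eq_true.1 chainU_ok.2.2 K hK) w hw) l hl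

theorem index_sixU : sixU.index = 22880 := by
  have h := Subgroup.card_mul_index sixU
  rw [card_sixU, card_suz] at h
  omega

open Cfsg.Spor.Suz in
theorem printedU_eq : (Subgroup.closure ({a, b, c, d, f, g} : Set (FreeGroup Gen))).map
    (PresentedGroup.mk (Cfsg.Spor.coxRelators edges ∪ {r | r ∈ extra})) = sixU := by
  rw [MonoidHom.map_closure, sixU]
  congr 1
  ext x
  constructor
  · rintro ⟨w, hw, rfl⟩
    simp only [Set.mem_insert_iff, Set.mem_singleton_iff] at hw
    rcases hw with rfl | rfl | rfl | rfl | rfl | rfl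
    exacts [⟨0, by norm_num, rfl⟩, ⟨1, by norm_num, rfl⟩, ⟨2, by norm_num, rfl⟩, ⟨3, by norm_num, rfl⟩,
      ⟨4, by norm_num, rfl⟩, ⟨5, by norm_num, rfl⟩]
  · rintro ⟨l, hl, rfl⟩
    have h : l < 6 := hl
    interval_cases l
    exacts [⟨a, by simp, rfl⟩, ⟨b, by simp, rfl⟩, ⟨c, by simp, rfl⟩, ⟨d, by simp, rfl⟩, ⟨f, by simp, rfl⟩,
      ⟨g, by simp, rfl⟩]

end Cfsg.Lib.SuzPres
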