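import Cfsg.Agent.SuzPres.JTwoChecks
import Cfsg.Agent.Spor.J2.Group

/-!
The subgroup on five letters of the presented Suzuki group is the Hall-Janko group: the subgroup generated by the
five pairs in its product with the group on 315 lines has order at most 604800 and projects onto both.
-/

set_option autoImplicit false
set_option maxRecDepth 8000

namespace Cfsg.Lib.SuzPres.JTwo

open Cfsg.Lib.CosetCert Cfsg.Lib.PermCert

section
variable {G : Type*} [Group G] (f : ℕ → G) (hf : ∀ w ∈ words, fiveWord w = true → wval f w = 1)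
include hf

theorem five_sq {l : ℕ} (hl : l < 5) : f l * f l = 1 := by
  have := hf _ (five_self ⟨l, hl⟩) (by simp [fiveWord, hl])
  simpa [wval] using this

theorem five_step {C : Cert} {R : List (List ℕ)} (hC : C.Valid R) (hR : ∀ r ∈ R, r ∈ words)
    (hlet : ∀ r ∈ R, fiveWord r = true) (hng : C.ng ≤ 5) {K : Subgroup G} [Finite K]
    (hsub : ∀ s ∈ C.subs, f s ∈ K) :
    Finite (Subgroup.closure (f '' Set.Iio C.ng)) ∧
      Nat.card (Subgroup.closure (f '' Set.Iio C.ng)) ≤ C.fin.length * Nat.card K :=
  card_le C f hC (fun l hl => five_sq f hf (by omega)) (fun r hr => hf r (hR r hr) (hlet r hr))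
    (fun r hr l hl => five_sq f hf (by
      have := List.all_eq_true.1 (hlet r hr) l hl
      simpa using this)) hsub le_rfl

theorem five_bound : Finite (Subgroup.closure (f '' Set.Iio 5)) ∧
    Nat.card (Subgroup.closure (f '' Set.Iio 5)) ≤ 604800 := by
  have hlow := Bool.and_eq_true_iff.1 low_rels
  have high : ∀ r ∈ L1.rels ++ L2.rels, fiveWord r = true := List.all_eq_true.1 hlow.1
  have h0 : Finite (Subgroup.closure ((fun n => f (2 + n)) '' Set.Iio 2)) ∧
      Nat.card (Subgroup.closure ((fun n => f (2 + n)) '' Set.Iio 2)) ≤ 16 := by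
    have hR : ∀ r ∈ L0.rels, wval (fun n => f (2 + n)) r = 1 := fun r hr => by
      have := hf _ (rels_mem0 r hr) (List.all_eq_true.1 hlow.2 r hr)
      rwa [wval, List.map_map] at this
    have h := card_le (K := (⊥ : Subgroup G)) (L := Subgroup.closure ((fun n => f (2 + n)) '' Set.Iio 2))
      L0.cert (fun n => f (2 + n)) L0.valid (fun l hl => five_sq f hf (by
        have : l < 2 := hl
        omega)) hR
      (fun r hr l hl => five_sq f hf (by
        have := List.all_eq_true.1 hlow.2 r hr
        simp only [fiveWord, List.all_map, List.all_eq_true, Function.comp_apply, decide_eq_true_eq] at this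
        exact this l hl)) (by simp [L0.cert]) le_rfl
    rw [Subgroup.card_bot, L0.fins_length] at h
    simpa using h
  haveI := h0.1
  obtain ⟨f4, c4⟩ := five_step f hf L1.valid rels_mem1 (fun r hr => high r (by simp [hr])) (by decide)
    (K := Subgroup.closure ((fun n => f (2 + n)) '' Set.Iio 2)) (by
      intro s hs
      simp only [L1.cert, List.mem_cons, List.mem_nil_iff, or_false] at hs
      rcases hs with rfl | rfl
      · exact Subgroup.subset_closure ⟨0, by norm_num, rfl⟩
      · exact Subgroup.subset_closure ⟨1, by norm_num, rfl⟩)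
  rw [L1.fins_length] at c4
  haveI := f4
  obtain ⟨f5, c5⟩ := five_step f hf L2.valid rels_mem2 (fun r hr => high r (by simp [hr])) (by decide)
    (K := Subgroup.closure (f '' Set.Iio L1.cert.ng)) (fun s hs => Subgroup.subset_closure ⟨s, (by
      simp only [L1.cert, L2.cert, List.mem_cons, List.mem_nil_iff, or_false] at hs ⊢
      show s < _
      omega), rfl⟩)
  rw [L2.fins_length] at c5
  exact ⟨f5, c5.trans (by have := h0.2; omega)⟩

end

theorem line_valid' {l : ℕ} (hl : l < 5) : valid 315 (lineGens.getD l (0, 0)) = true := by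
  rw [List.getD_eq_getElem _ _ (line_mem.1.symm ▸ hl)]
  exact List.all_eq_true.1 line_valid.1 _ (List.getElem_mem _)

theorem pp_valid {k : ℕ} (hk : k < 4) : valid 315 (Cfsg.Lib.J2.genPP.getD k (0, 0)) = true := by
  rw [List.getD_eq_getElem _ _ (line_mem.2.1.symm ▸ hk)]
  exact List.all_eq_true.1 line_valid.2 _ (List.getElem_mem _)

/-- The five involutions on the lines. -/
def linePerm (l : ℕ) : Equiv.Perm (Fin 315) := perm 315 (lineGens.getD l (0, 0))

theorem linePerm_mem {l : ℕ} (hl : l < 5) : linePerm l ∈ Cfsg.Lib.J2.lineGroup := by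
  have h := List.all_eq_true.1 line_mem.2.2.1 l (List.mem_range.2 hl)
  rw [Bool.and_eq_true, List.all_eq_true] at h
  obtain ⟨hk, hid⟩ := h
  have hw := isId_sound (n := 315) (fun g hg => by
    rcases List.mem_append.1 hg with hg | hg
    · obtain ⟨k, hk', rfl⟩ := List.mem_map.1 hg
      exact pp_valid (of_decide_eq_true (hk k hk'))
    · exact List.mem_singleton.1 hg ▸ line_valid' hl) hid
  rw [wperm, List.map_append, List.prod_append, List.map_singleton, List.prod_singleton] at hw
  rw [linePerm, eq_inv_of_mul_eq_one_right hw]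
  refine inv_mem (list_prod_mem fun g hg => ?_)
  rw [List.map_map] at hg
  obtain ⟨k, hk', rfl⟩ := List.mem_map.1 hg
  refine Subgroup.subset_closure ⟨_, ?_, rfl⟩
  have h4 : k < 4 := of_decide_eq_true (hk k hk')
  dsimp only
  rw [List.getD_eq_getElem _ _ (line_mem.2.1.symm ▸ h4)]
  exact List.getElem_mem _

theorem closure_line : Subgroup.closure (linePerm '' Set.Iio 5) = Cfsg.Lib.J2.lineGroup := by
  refine le_antisymm ((Subgroup.closure_le _).2 ?_) ((Subgroup.closure_le _).2 ?_)
  · rintro _ ⟨l, hl, rfl⟩
    exact linePerm_mem hl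
  rintro _ ⟨s, hs, rfl⟩
  obtain ⟨k, hk, rfl⟩ := List.getElem_of_mem hs
  have hk4 : k < 4 := line_mem.2.1 ▸ hk
  have h := List.all_eq_true.1 line_mem.2.2.2 k (List.mem_range.2 hk4)
  rw [Bool.and_eq_true, List.all_eq_true] at h
  obtain ⟨hl, hid⟩ := h
  have hw := isId_sound (n := 315) (fun g hg => by
    rcases List.mem_append.1 hg with hg | hg
    · obtain ⟨l, hl', rfl⟩ := List.mem_map.1 hg
      exact line_valid' (of_decide_eq_true (hl l hl'))
    · exact List.mem_singleton.1 hg ▸ valid_pinv (pp_valid hk4)) hid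
  rw [wperm, List.map_append, List.prod_append, List.map_singleton, List.prod_singleton,
    perm_pinv (pp_valid hk4), mul_inv_eq_one] at hw
  rw [← List.getD_eq_getElem _ (0, 0) hk, ← hw]
  refine list_prod_mem fun g hg => ?_
  rw [List.map_map] at hg
  obtain ⟨l, hl', rfl⟩ := List.mem_map.1 hg
  exact Subgroup.subset_closure ⟨l, of_decide_eq_true (hl l hl'), rfl⟩

/-- The five pairs. -/
def pair (l : ℕ) : ↥(first 5) × ↥Cfsg.Lib.J2.lineGroup :=
  if h : l < 5 then (⟨im l, im_mem h⟩, ⟨linePerm l, linePerm_mem h⟩) else 1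

theorem pair_rels : ∀ w ∈ words, fiveWord w = true → wval pair w = 1 := fun w hw hs => by
  have hlt : ∀ l ∈ w, l < 5 := fun l hl => of_decide_eq_true (List.all_eq_true.1 hs l hl)
  refine Prod.ext (Subtype.ext ?_) (Subtype.ext ?_)
  · show ((MonoidHom.fst _ _ (wval pair w) : ↥(first 5)) : Cfsg.Spor.Suz) = 1
    rw [wval, map_list_prod, SubmonoidClass.coe_list_prod, List.map_map, List.map_map]
    refine Eq.trans ?_ (im_words hw)
    refine congrArg List.prod (List.map_congr_left fun l hl => ?_)
    simp [pair, hlt l hl]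
  · show ((MonoidHom.snd _ _ (wval pair w) : ↥Cfsg.Lib.J2.lineGroup) : Equiv.Perm (Fin 315)) = 1
    have h := List.all_eq_true.1 line_rels w hw
    rw [hs, Bool.not_true, Bool.false_or] at h
    have h1 := isId_sound (n := 315) (fun g hg => by
      obtain ⟨l, hl, rfl⟩ := List.mem_map.1 hg
      exact line_valid' (hlt l hl)) h
    rw [wperm, List.map_map] at h1
    rw [wval, map_list_prod, SubmonoidClass.coe_list_prod, List.map_map, List.map_map]
    refine Eq.trans ?_ h1
    refine congrArg List.prod (List.map_congr_left fun l hl => ?_)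
    simp [pair, hlt l hl, linePerm]

/-- The subgroup generated by the five pairs. -/
def graph : Subgroup (↥(first 5) × ↥Cfsg.Lib.J2.lineGroup) := Subgroup.closure (pair '' Set.Iio 5)

theorem proj_bij {H : Type*} [Group H] (φ : ↥(first 5) × ↥Cfsg.Lib.J2.lineGroup →* H) [Finite H]
    (hgen : Subgroup.closure ((φ ∘ pair) '' Set.Iio 5) = ⊤) (hcard : Nat.card H = 604800) :
    Function.Bijective (φ.comp graph.subtype) := by
  obtain ⟨hfin, hle⟩ := five_bound pair pair_rels
  haveI : Finite graph := hfin
  have hs : Function.Surjective (φ.comp graph.subtype) := by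
    rw [← MonoidHom.range_eq_top, MonoidHom.range_comp, Subgroup.range_subtype, graph, MonoidHom.map_closure,
      ← Set.image_comp, hgen]
  refine (Nat.bijective_iff_surjective_and_card _).2 ⟨hs, le_antisymm ?_ (Nat.card_le_card_of_surjective _ hs)⟩
  rw [hcard]
  exact hle

theorem closure_gen {X : Type*} [Group X] (S : Subgroup X) (g : ℕ → S) (g' : ℕ → X) (hg : ∀ l < 5, (g l : X) = g' l)
    (hS : Subgroup.closure (g' '' Set.Iio 5) = S) : Subgroup.closure (g '' Set.Iio 5) = ⊤ := by
  refine Subgroup.map_injective S.subtype_injective ?_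
  rw [MonoidHom.map_closure, ← Set.image_comp, ← MonoidHom.range_eq_map, Subgroup.range_subtype]
  refine Eq.trans ?_ hS
  congr 1
  exact Set.image_congr fun l hl => hg l hl

/-- The subgroup on five letters is the Hall-Janko group. -/
theorem first_five_iso : Nonempty (↥(first 5) ≃* Cfsg.Spor.J2) := by
  haveI := bound5.1
  haveI : Finite Cfsg.Lib.J2.lineGroup := inferInstance
  have hc : Nat.card Cfsg.Lib.J2.lineGroup = 604800 :=
    Cfsg.Lib.J2.card_lineGroup Cfsg.Lib.J2.frameFaithful
  have b1 := proj_bij (MonoidHom.fst _ _) (closure_gen (first 5) _ im (fun l hl => by simp [pair, hl]) rfl)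
    card_first_five
  have b2 := proj_bij (MonoidHom.snd _ _)
    (closure_gen Cfsg.Lib.J2.lineGroup _ linePerm (fun l hl => by simp [pair, hl]) closure_line) hc
  exact ⟨((MulEquiv.ofBijective _ b1).symm.trans (MulEquiv.ofBijective _ b2)).trans Cfsg.Lib.J2.j2Equiv.symm⟩

end Cfsg.Lib.SuzPres.JTwo
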