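import Cfsg.Agent.SuzPres.JTwoChecks

/-!
The subgroup on five letters is a maximal subgroup of the subgroup on six letters, and its point stabilisers on
the two nontrivial suborbits are maximal in it.
-/

set_option autoImplicit false
set_option maxRecDepth 8000

namespace Cfsg.Lib.SuzPres.JTwo

open Cfsg.Lib.CosetCert Cfsg.Lib.PermCert

theorem foldl_or_testBit : ∀ (l : List ℕ) (s j : ℕ),
    (l.foldl (fun a m => a ||| m) s).testBit j = true ↔ s.testBit j = true ∨ ∃ m ∈ l, m.testBit j = true
  | [], s, j => by simp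
  | m :: l, s, j => by
    rw [List.foldl_cons, foldl_or_testBit l, Nat.testBit_or, Bool.or_eq_true]
    simp [or_assoc]

theorem join_testBit {p : ℕ} {l : List ℕ} {j : ℕ} :
    (joinMask p l).testBit j = true ↔ j = p ∨ ∃ m ∈ l, m.testBit j = true := by
  rw [joinMask, foldl_or_testBit, Nat.one_shiftLeft, Nat.testBit_two_pow, decide_eq_true_eq]
  exact or_congr_left eq_comm

theorem ncard_maskSet (m : ℕ) : (maskSet m).ncard = cnt m := by
  classical
  rw [cnt, Set.ncard_eq_toFinset_card', ← List.toFinset_card_of_nodup (List.nodup_range.filter _)]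
  refine Finset.card_bij (fun x _ => x.val) ?_ ?_ ?_
  · intro x hx
    rw [Set.mem_toFinset] at hx
    rw [List.mem_toFinset, List.mem_filter, List.mem_range]
    exact ⟨x.isLt, hx⟩
  · exact fun x _ y _ e => Fin.ext e
  · intro j hj
    rw [List.mem_toFinset, List.mem_filter, List.mem_range] at hj
    exact ⟨⟨j, hj.1⟩, by rw [Set.mem_toFinset]; exact hj.2, rfl⟩

theorem word_smul {w : List ℕ} (hw : ∀ l ∈ w, l < 7) (x : Fin 1782) :
    (((wval im w)⁻¹ • x : Fin 1782) : ℕ) = evalW tabs w x := by
  rw [smul_def, map_inv]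
  exact evalW_apply im psi tabs psi_im w hw x

theorem reach_words {H : Subgroup Cfsg.Spor.Suz} (gens : List (List ℕ)) (hlet : ∀ w ∈ gens, ∀ l ∈ w, l < 7)
    (hH : ∀ w ∈ gens, wval im w ∈ H) {p : Fin 1782} :
    ∀ (t : List (ℕ × ℕ × ℕ)) (s : ℕ), scanOrb tabs 1782 gens s t = true →
      (∀ j, s.testBit j = true → ∃ h ∈ H, ((h • p : Fin 1782) : ℕ) = j) →
      ∀ j, (maskOf t s).testBit j = true → ∃ h ∈ H, ((h • p : Fin 1782) : ℕ) = j
  | [], _, _, hs, j, hj => hs j hj
  | (q, par, g) :: r, s, hsc, hs, j, hj => by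
    simp only [scanOrb, Bool.and_eq_true, decide_eq_true_eq, beq_iff_eq] at hsc
    obtain ⟨⟨⟨⟨⟨hq, -⟩, hpar⟩, hg⟩, hev⟩, hrest⟩ := hsc
    refine reach_words gens hlet hH r _ hrest (fun i hi => ?_) j hj
    rw [Nat.testBit_or, Bool.or_eq_true, Nat.one_shiftLeft, Nat.testBit_two_pow, decide_eq_true_eq] at hi
    rcases hi with hi | rfl
    · exact hs i hi
    · obtain ⟨h, hh, e⟩ := hs par hpar
      have hm : gens.getD g [] ∈ gens := by
        rw [List.getD_eq_getElem _ _ hg]
        exact List.getElem_mem _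
      refine ⟨(wval im (gens.getD g []))⁻¹ * h, mul_mem (inv_mem (hH _ hm)) hh, ?_⟩
      rw [mul_smul, word_smul (hlet _ hm), e]
      exact hev

/-- A point stabiliser is maximal when the orbit has no block of admissible size. -/
theorem isCoatom_stab {M : Subgroup Cfsg.Spor.Suz} [Finite M] {p : Fin 1782} {om N : ℕ}
    {gens : List (List ℕ)} {ps : List (ℕ × List (ℕ × ℕ × ℕ))} (hN : 1 < N) (hom : MulAction.orbit M p = maskSet om)
    (hcard : cnt om = N) (hparts : partsOK p.val om gens ps = true) (hgens : ∀ w ∈ gens, wval im w ∈ M)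
    (hsizes : sizesOK p.val N (ps.map treeMask) = true) : IsCoatom (MulAction.stabilizer M p) := by
  classical
  simp only [partsOK, Bool.and_eq_true, List.all_eq_true, decide_eq_true_eq, beq_iff_eq, List.mem_range,
    Bool.or_eq_true, Bool.not_eq_true'] at hparts
  obtain ⟨⟨hg, hps⟩, hcov⟩ := hparts
  have hidx : (MulAction.stabilizer M p).index = N := by
    rw [MulAction.index_stabilizer, hom, ncard_maskSet, hcard]
  refine ⟨fun e => ?_, fun K' hK' => ?_⟩
  · rw [e, Subgroup.index_top] at hidx
    omega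
  have hle := hK'.le
  set B : Set (Fin 1782) := {y | ∃ k ∈ K', k • p = y} with hB
  have hfix : ∀ w ∈ gens, wval im w ∈ M ⊓ MulAction.stabilizer Cfsg.Spor.Suz p := fun w hw =>
    ⟨hgens w hw, by
      have h1 : (wval im w)⁻¹ • p = p := Fin.ext ((word_smul (hg w hw).1 p).trans (hg w hw).2)
      show wval im w • p = p
      conv_lhs => rw [← h1]
      rw [smul_inv_smul]⟩
  have hconn : ∀ o ∈ ps, ∀ x y : Fin 1782, (treeMask o).testBit x.val = true → (treeMask o).testBit y.val = true →
      x ∈ B → y ∈ B := by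
    intro o ho x y hx hy hxB
    obtain ⟨hb, hscan⟩ := hps o ho
    have hs : ∀ j, (1 <<< o.1).testBit j = true →
        ∃ h ∈ M ⊓ MulAction.stabilizer Cfsg.Spor.Suz p, ((h • (⟨o.1, hb⟩ : Fin 1782) : Fin 1782) : ℕ) = j :=
      fun j hj => ⟨1, one_mem _, by
        rw [Nat.one_shiftLeft, Nat.testBit_two_pow, decide_eq_true_eq] at hj
        rw [one_smul]
        exact hj⟩
    obtain ⟨a, ha, ea⟩ := reach_words gens (fun w hw => (hg w hw).1) hfix o.2 _ hscan hs _ hx
    obtain ⟨b, hb', eb⟩ := reach_words gens (fun w hw => (hg w hw).1) hfix o.2 _ hscan hs _ hy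
    obtain ⟨k, hk, ek⟩ := hxB
    have hba : b * a⁻¹ ∈ M ⊓ MulAction.stabilizer Cfsg.Spor.Suz p := mul_mem hb' (inv_mem ha)
    have hm : (⟨b * a⁻¹, hba.1⟩ : M) ∈ K' := hle (MulAction.mem_stabilizer_iff.2 hba.2)
    refine ⟨_ * k, mul_mem hm hk, ?_⟩
    rw [mul_smul, ek, show (⟨b * a⁻¹, hba.1⟩ : M) • x = (b * a⁻¹) • x from rfl, ← Fin.ext ea, mul_smul,
      inv_smul_smul]
    exact Fin.ext eb
  set chosen := (ps.map treeMask).filter fun m => decide (∃ x : Fin 1782, m.testBit x.val = true ∧ x ∈ B)
    with hchosen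
  have hBeq : B = maskSet (joinMask p.val chosen) := by
    ext y
    rw [mem_maskSet, join_testBit]
    constructor
    · intro hy
      by_cases hyp : y = p
      · exact Or.inl (congrArg Fin.val hyp)
      obtain ⟨k, hk, ek⟩ := id hy
      have hyo : y ∈ MulAction.orbit M p := ⟨k, ek⟩
      rw [hom, mem_maskSet] at hyo
      rcases hcov y.val y.isLt with (e | e) | e
      · rw [hyo] at e
        exact Bool.noConfusion e
      · exact absurd (Fin.ext e) hyp
      · obtain ⟨m, hm, hmy⟩ := List.any_eq_true.1 e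
        exact Or.inr ⟨m, List.mem_filter.2 ⟨hm, decide_eq_true_iff.2 ⟨y, hmy, hy⟩⟩, hmy⟩
    · rintro (e | ⟨m, hm, hmy⟩)
      · exact ⟨1, one_mem _, by rw [one_smul]; exact (Fin.ext e).symm⟩
      · obtain ⟨hm, hx⟩ := List.mem_filter.1 hm
        obtain ⟨x, hx, hxB⟩ := of_decide_eq_true hx
        obtain ⟨o, ho, rfl⟩ := List.mem_map.1 hm
        exact hconn o ho x y hx hmy hxB
  have hrel : (MulAction.stabilizer M p).relIndex K' = cnt (joinMask p.val chosen) := by
    rw [← ncard_maskSet, ← hBeq, Subgroup.relIndex,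
      show (MulAction.stabilizer M p).subgroupOf K' = MulAction.stabilizer K' p from rfl, MulAction.index_stabilizer]
    refine congrArg Set.ncard (Set.ext fun y => ?_)
    exact ⟨fun ⟨k, e⟩ => ⟨k.1, k.2, e⟩, fun ⟨k, hk, e⟩ => ⟨⟨k, hk⟩, e⟩⟩
  have hmul := Subgroup.relIndex_mul_index hle
  rw [hrel, hidx] at hmul
  have hs := List.all_eq_true.1 hsizes chosen (List.mem_sublists.2 List.filter_sublist)
  simp only [Bool.or_eq_true, beq_iff_eq, bne_iff_ne] at hs
  rcases hs with (h | h) | h
  · exact absurd (Subgroup.relIndex_eq_one.1 (hrel.trans h)) hK'.not_ge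
  · rw [h] at hmul
    exact Subgroup.index_eq_one.1 ((mul_eq_left₀ (show N ≠ 0 by omega)).1 hmul)
  · exact absurd (by rw [← hmul, Nat.mul_mod_right]) h

theorem isCoatom_stab_smul {M : Type*} [Group M] {α : Type*} [MulAction M α] {p : α}
    (h : IsCoatom (MulAction.stabilizer M p)) (m : M) : IsCoatom (MulAction.stabilizer M (m • p)) := by
  rw [MulAction.stabilizer_smul_eq_stabilizer_map_conj]
  exact ((MulAut.conj m).mapSubgroup.isCoatom_iff _).2 h

theorem closed_first {k : ℕ} (hk : k ≤ 7) {T : Set (Fin 1782)} (h : ∀ l < k, ∀ x ∈ T, im l • x ∈ T) :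
    ∀ g ∈ first k, ∀ x : Fin 1782, x ∈ T ↔ g • x ∈ T := by
  intro g hg
  induction hg using Subgroup.closure_induction with
  | mem _ hy =>
    obtain ⟨l, hl, rfl⟩ := hy
    intro x
    refine ⟨h l hl x, fun hx => ?_⟩
    have := h l hl _ hx
    rwa [← mul_smul, good_im.inv (lt_of_lt_of_le hl hk), one_smul] at this
  | one => intro x; rw [one_smul]
  | mul a b _ _ ha hb => intro x; rw [mul_smul, ← ha, ← hb]
  | inv a _ ha => intro x; rw [ha (a⁻¹ • x), smul_inv_smul]

theorem five_words {w : List ℕ} (h : fiveWord w = true) : wval im w ∈ first 5 ∧ ∀ l ∈ w, l < 7 :=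
  ⟨wval_mem fun l hl => of_decide_eq_true (List.all_eq_true.1 h l hl),
    fun l hl => by have := of_decide_eq_true (List.all_eq_true.1 h l hl); omega⟩

theorem letters_five : ∀ l < 5, [l] ∈ fiveLetters := fun l hl => by interval_cases l <;> decide

theorem fiveLetters_five : fiveLetters.all fiveWord = true := by decide

theorem orbit_five {o : ℕ × List (ℕ × ℕ × ℕ)} {gens : List (List ℕ)} {ps : List (ℕ × List (ℕ × ℕ × ℕ))} {N : ℕ}
    (h : orbitOK o gens ps N = true) (hN : 1 < N) :
    ∀ x ∈ maskSet (treeMask o), IsCoatom (MulAction.stabilizer (first 5) x) := by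
  haveI := bound5.1
  simp only [orbitOK, Bool.and_eq_true, decide_eq_true_eq, beq_iff_eq] at h
  obtain ⟨⟨⟨⟨⟨⟨hb, hscan⟩, hgens⟩, hclosed⟩, hcnt⟩, hparts⟩, hsizes⟩ := h
  simp only [List.all_eq_true, List.mem_range, Bool.or_eq_true, Bool.not_eq_true'] at hclosed
  have hlet := fun w hw => five_words (List.all_eq_true.1 fiveLetters_five w hw)
  set b : Fin 1782 := ⟨o.1, hb⟩
  have hbm : b ∈ maskSet (treeMask o) := self_mem o.2 _ o.1 (by simp [Nat.one_shiftLeft])
  have horb : MulAction.orbit (first 5) b = maskSet (treeMask o) := by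
    refine Set.Subset.antisymm ?_ ?_
    · rintro _ ⟨g, rfl⟩
      refine (closed_first (by norm_num) (T := maskSet (treeMask o)) (fun l hl x hx => ?_) g g.2 _).1 hbm
      rw [mem_maskSet] at hx ⊢
      rw [im_smul (by omega)]
      rcases hclosed x.val x.isLt with e | e
      · rw [hx] at e
        exact Bool.noConfusion e
      · exact e [l] (letters_five l hl)
    · intro x hx
      obtain ⟨g, hg, e⟩ := reach_words fiveLetters (fun w hw => (hlet w hw).2) (fun w hw => (hlet w hw).1)
        (p := b) o.2 (1 <<< o.1) hscan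
        (fun j hj => ⟨1, one_mem _, by
          rw [Nat.one_shiftLeft, Nat.testBit_two_pow, decide_eq_true_eq] at hj
          rw [one_smul]
          exact hj⟩) x.val hx
      exact ⟨⟨g, hg⟩, Fin.ext e⟩
  have hc := isCoatom_stab (M := first 5) (p := b) hN horb hcnt hparts
    (fun w hw => (five_words (List.all_eq_true.1 hgens w hw)).1) hsizes
  intro x hx
  rw [← horb] at hx
  obtain ⟨g, rfl⟩ := hx
  exact isCoatom_stab_smul hc g

/-- The point fixed by the five letters. -/
def q0 : Fin 1782 := ⟨995, by norm_num⟩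

theorem top_orbit : MulAction.orbit (first 6) q0 = maskSet mask1 := SuzPres.orbit1.1 q0 top_ok.1

theorem five_fix : ∀ g ∈ first 5, g • q0 = q0 := by
  intro g hg
  have hp := top_ok.2.1
  simp only [partsOK, Bool.and_eq_true, List.all_eq_true, decide_eq_true_eq, beq_iff_eq] at hp
  refine ((closed_first (by norm_num) (T := {q0}) (fun l hl x hx => ?_) g hg q0).1 rfl)
  rw [Set.mem_singleton_iff] at hx ⊢
  subst hx
  exact Fin.ext ((im_smul (by omega) q0).trans (hp.1.1 [l] (letters_five l hl)).2)

theorem five_le_six : first 5 ≤ first 6 := Subgroup.closure_mono (Set.image_mono (Set.Iio_subset_Iio (by norm_num)))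

theorem stab_q0 : MulAction.stabilizer (first 6) q0 = (first 5).subgroupOf (first 6) := by
  haveI := bound6.1
  haveI := bound5.1
  have hle : (first 5).subgroupOf (first 6) ≤ MulAction.stabilizer (first 6) q0 :=
    fun g hg => MulAction.mem_stabilizer_iff.2 (five_fix g.1 hg)
  have h1 : (MulAction.stabilizer (first 6) q0).index = 416 := by
    rw [MulAction.index_stabilizer, top_orbit, SuzPres.orbit1.2.1]
  have h2 : ((first 5).subgroupOf (first 6)).index = 416 := by
    have h := Subgroup.card_mul_index ((first 5).subgroupOf (first 6))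
    rw [Nat.card_congr (Subgroup.subgroupOfEquivOfLe five_le_six).toEquiv, card_first_five, card_first_six] at h
    omega
  have h3 := Subgroup.relIndex_mul_index hle
  rw [h1, h2] at h3
  exact le_antisymm (Subgroup.relIndex_eq_one.1 (by omega)) hle

theorem maximal_five : IsCoatom ((first 5).subgroupOf (first 6)) := by
  haveI := bound6.1
  rw [← stab_q0]
  have hlet := fun w hw => five_words (List.all_eq_true.1 fiveLetters_five w hw)
  exact isCoatom_stab (M := first 6) (p := q0) (by norm_num) top_orbit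
    ((ncard_maskSet mask1).symm.trans SuzPres.orbit1.2.1) top_ok.2.1
    (fun w hw => five_le_six (hlet w hw).1) top_ok.2.2

theorem intersection_maximal (x : first 6) (hx : x ∉ (first 5).subgroupOf (first 6)) :
    IsCoatom (((first 5).subgroupOf (first 6) ⊓
      ((first 5).subgroupOf (first 6)).map (MulAut.conj x).toMonoidHom).subgroupOf
        ((first 5).subgroupOf (first 6))) := by
  have hne : x • q0 ≠ q0 := fun e => hx (stab_q0 ▸ MulAction.mem_stabilizer_iff.2 e)
  have hmem : x • q0 ∈ maskSet mask1 := top_orbit ▸ ⟨x, rfl⟩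
  rw [mem_maskSet] at hmem
  have hp := top_ok.2.1
  simp only [partsOK, Bool.and_eq_true, List.all_eq_true, List.mem_range, Bool.or_eq_true, Bool.not_eq_true',
    beq_iff_eq] at hp
  have hco : IsCoatom (MulAction.stabilizer (first 5) (x • q0)) := by
    rcases hp.2 (x • q0).val (x • q0).isLt with (e | e) | e
    · rw [hmem] at e
      exact Bool.noConfusion e
    · exact absurd (Fin.ext e) hne
    · simp only [List.any_eq_true, List.mem_map, List.mem_cons, List.not_mem_nil, or_false] at e
      obtain ⟨m, ⟨o, ho, rfl⟩, hm⟩ := e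
      rcases ho with rfl | rfl
      · exact orbit_five orbit0_ok (by norm_num) _ hm
      · exact orbit_five orbit1_ok (by norm_num) _ hm
  have key : ∀ g : first 6, g ∈ ((first 5).subgroupOf (first 6)).map (MulAut.conj x).toMonoidHom ↔
      g • (x • q0) = x • q0 := fun g => by
    rw [← stab_q0, ← MulAction.stabilizer_smul_eq_stabilizer_map_conj, MulAction.mem_stabilizer_iff]
  let e := Subgroup.subgroupOfEquivOfLe five_le_six
  have heq : ((first 5).subgroupOf (first 6) ⊓
      ((first 5).subgroupOf (first 6)).map (MulAut.conj x).toMonoidHom).subgroupOf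
        ((first 5).subgroupOf (first 6)) = (MulAction.stabilizer (first 5) (x • q0)).map e.symm.toMonoidHom := by
    rw [← Subgroup.comap_equiv_eq_map_symm']
    ext z
    rw [Subgroup.mem_subgroupOf, Subgroup.mem_inf, Subgroup.mem_comap, key, MulAction.mem_stabilizer_iff]
    exact ⟨fun h => h.2, fun h => ⟨z.2, h⟩⟩
  rw [heq]
  exact (e.symm.mapSubgroup.isCoatom_iff _).2 hco

end Cfsg.Lib.SuzPres.JTwo
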