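import Cfsg.Agent.CosetCert.Sift

/-!
Generated: chains, centraliser lists and relations for the automorphisms of the presented Suzuki group.
-/

set_option autoImplicit false

namespace Cfsg.Lib.SuzPres

open Cfsg.Lib.CosetCert

def chainUOrb0_0 : List (ℕ × ℕ × ℕ) :=
  [(1, 0, 6), (2, 1, 1), (3, 2, 0), (4, 2, 2), (5, 2, 5), (6, 3, 1),
   (7, 3, 2), (8, 4, 3), (9, 4, 5), (10, 6, 2), (11, 7, 1), (12, 7, 3),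
   (13, 8, 2), (14, 8, 4), (15, 8, 5), (16, 9, 1), (17, 10, 1), (18, 10, 3),
   (19, 11, 0), (20, 11, 3), (21, 11, 5), (22, 11, 6), (23, 12, 2), (24, 12, 4),
   (25, 13, 1), (26, 13, 4), (27, 13, 5), (28, 14, 5), (29, 15, 1), (30, 16, 6),
   (31, 17, 3), (32, 17, 5), (33, 18, 2), (34, 18, 4), (35, 19, 3), (36, 19, 5),
   (37, 20, 2), (38, 20, 4), (39, 20, 5), (40, 20, 6), (41, 22, 5), (42, 23, 1),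
   (43, 23, 4), (44, 25, 0), (45, 25, 4), (46, 25, 5), (47, 25, 6), (48, 26, 3),
   (49, 26, 5), (50, 27, 1), (51, 28, 1), (52, 29, 2), (53, 31, 2), (54, 31, 4),
   (55, 31, 5), (56, 33, 1), (57, 33, 4), (58, 35, 4), (59, 35, 5), (60, 37, 1),
   (61, 37, 3), (62, 37, 4), (63, 37, 5), (64, 37, 6), (65, 38, 5), (66, 38, 6),
   (67, 40, 5), (68, 41, 1), (69, 42, 0), (70, 42, 4), (71, 42, 5), (72, 42, 6),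
   (73, 43, 3), (74, 44, 4), (75, 44, 5), (76, 44, 6), (77, 45, 3), (78, 45, 5),
   (79, 45, 6), (80, 46, 1), (81, 46, 6), (82, 47, 5), (83, 48, 2), (84, 48, 5),
   (85, 49, 1), (86, 51, 2), (87, 53, 1), (88, 53, 4), (89, 53, 5), (90, 54, 5)]

def chainUOrb0_1 : List (ℕ × ℕ × ℕ) :=
  [(91, 56, 4), (92, 56, 5), (93, 57, 3), (94, 58, 5), (95, 60, 0), (96, 60, 3),
   (97, 60, 4), (98, 60, 5), (99, 60, 6), (100, 61, 2), (101, 61, 4), (102, 61, 5),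
   (103, 62, 3), (104, 62, 5), (105, 62, 6), (106, 63, 1), (107, 64, 5), (108, 66, 5),
   (109, 67, 1), (110, 69, 4), (111, 69, 5), (112, 69, 6), (113, 70, 3), (114, 70, 5),
   (115, 70, 6), (116, 71, 6), (117, 72, 5), (118, 73, 2), (119, 74, 3), (120, 74, 5),
   (121, 74, 6), (122, 75, 1), (123, 77, 2), (124, 77, 5), (125, 77, 6), (126, 78, 1),
   (127, 78, 6), (128, 79, 5), (129, 81, 1), (130, 82, 1), (131, 83, 1), (132, 83, 5),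
   (133, 84, 1), (134, 87, 4), (135, 87, 5), (136, 88, 3), (137, 88, 5), (138, 89, 1),
   (139, 91, 3), (140, 91, 5), (141, 92, 6), (142, 93, 2), (143, 95, 1), (144, 95, 4),
   (145, 95, 5), (146, 95, 6), (147, 96, 4), (148, 96, 5), (149, 96, 6), (150, 97, 3),
   (151, 97, 5), (152, 97, 6), (153, 98, 1), (154, 98, 6), (155, 99, 5), (156, 100, 4),
   (157, 101, 3), (158, 101, 5), (159, 102, 1), (160, 103, 2), (161, 103, 5), (162, 103, 6),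
   (163, 104, 1), (164, 105, 5), (165, 106, 0), (166, 106, 6), (167, 107, 1), (168, 108, 1),
   (169, 109, 2), (170, 110, 3), (171, 110, 5), (172, 110, 6), (173, 111, 1), (174, 113, 2),
   (175, 113, 5), (176, 113, 6), (177, 114, 6), (178, 115, 5), (179, 116, 1), (180, 117, 1)]

def chainUOrb0_2 : List (ℕ × ℕ × ℕ) :=
  [(181, 118, 1), (182, 119, 2), (183, 119, 5), (184, 119, 6), (185, 120, 1), (186, 122, 0),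
   (187, 122, 2), (188, 122, 6), (189, 123, 1), (190, 123, 3), (191, 123, 5), (192, 123, 6),
   (193, 124, 1), (194, 124, 6), (195, 125, 5), (196, 127, 1), (197, 128, 1), (198, 129, 0),
   (199, 129, 2), (200, 129, 5), (201, 130, 2), (202, 130, 6), (203, 131, 0), (204, 131, 5),
   (205, 131, 6), (206, 132, 1), (207, 133, 2), (208, 134, 3), (209, 134, 5), (210, 135, 1),
   (211, 136, 2), (212, 136, 5), (213, 137, 1), (214, 138, 0), (215, 138, 6), (216, 139, 2),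
   (217, 139, 5), (218, 140, 6), (219, 141, 1), (220, 142, 1), (221, 143, 4), (222, 143, 5),
   (223, 143, 6), (224, 144, 3), (225, 144, 5), (226, 144, 6), (227, 145, 1), (228, 146, 1),
   (229, 147, 3), (230, 147, 5), (231, 147, 6), (232, 148, 1), (233, 148, 6), (234, 149, 5),
   (235, 150, 2), (236, 150, 5), (237, 150, 6), (238, 151, 1), (239, 151, 6), (240, 152, 5),
   (241, 153, 0), (242, 156, 3), (243, 157, 2), (244, 157, 5), (245, 158, 1), (246, 159, 2),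
   (247, 160, 1), (248, 160, 5), (249, 160, 6), (250, 161, 1), (251, 162, 5), (252, 163, 0),
   (253, 163, 6), (254, 164, 1), (255, 165, 1), (256, 166, 5), (257, 167, 0), (258, 167, 2),
   (259, 168, 2), (260, 169, 3), (261, 170, 2), (262, 170, 5), (263, 170, 6), (264, 171, 1),
   (265, 173, 0), (266, 173, 2), (267, 173, 6), (268, 174, 1), (269, 174, 3), (270, 174, 5)]

def chainUOrb0_3 : List (ℕ × ℕ × ℕ) :=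
  [(271, 174, 6), (272, 175, 6), (273, 176, 5), (274, 177, 1), (275, 178, 1), (276, 179, 0),
   (277, 179, 2), (278, 180, 2), (279, 180, 6), (280, 181, 0), (281, 181, 5), (282, 181, 6),
   (283, 182, 1), (284, 182, 3), (285, 182, 5), (286, 182, 6), (287, 183, 1), (288, 185, 0),
   (289, 185, 2), (290, 185, 6), (291, 186, 1), (292, 186, 2), (293, 187, 3), (294, 187, 6),
   (295, 189, 0), (296, 189, 3), (297, 189, 5), (298, 189, 6), (299, 190, 4), (300, 190, 5),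
   (301, 190, 6), (302, 191, 1), (303, 191, 6), (304, 192, 1), (305, 192, 5), (306, 193, 2),
   (307, 194, 1), (308, 195, 1), (309, 196, 0), (310, 196, 2), (311, 196, 5), (312, 197, 2),
   (313, 197, 6), (314, 198, 2), (315, 199, 3), (316, 199, 5), (317, 201, 3), (318, 201, 6),
   (319, 203, 1), (320, 203, 5), (321, 203, 6), (322, 204, 1), (323, 204, 6), (324, 205, 5),
   (325, 206, 0), (326, 206, 2), (327, 206, 6), (328, 208, 2), (329, 208, 5), (330, 209, 1),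
   (331, 211, 1), (332, 211, 5), (333, 212, 1), (334, 213, 0), (335, 213, 6), (336, 216, 1),
   (337, 216, 3), (338, 216, 5), (339, 217, 6), (340, 218, 1), (341, 220, 0), (342, 220, 5),
   (343, 220, 6), (344, 221, 3), (345, 221, 5), (346, 221, 6), (347, 223, 1), (348, 224, 2),
   (349, 224, 5), (350, 224, 6), (351, 225, 1), (352, 226, 1), (353, 229, 2), (354, 229, 5),
   (355, 229, 6), (356, 230, 1), (357, 230, 6), (358, 231, 5), (359, 235, 1), (360, 235, 3)]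

def chainUOrb0_4 : List (ℕ × ℕ × ℕ) :=
  [(361, 235, 5), (362, 235, 6), (363, 236, 1), (364, 236, 6), (365, 237, 5), (366, 238, 0),
   (367, 242, 2), (368, 243, 1), (369, 243, 3), (370, 243, 5), (371, 244, 1), (372, 245, 2),
   (373, 247, 0), (374, 247, 5), (375, 247, 6), (376, 248, 1), (377, 249, 1), (378, 249, 5),
   (379, 250, 0), (380, 250, 2), (381, 250, 6), (382, 251, 1), (383, 252, 1), (384, 253, 5),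
   (385, 254, 0), (386, 254, 2), (387, 257, 2), (388, 258, 3), (389, 261, 1), (390, 261, 3),
   (391, 261, 5), (392, 261, 6), (393, 262, 1), (394, 264, 0), (395, 264, 2), (396, 264, 6),
   (397, 268, 0), (398, 268, 3), (399, 268, 5), (400, 268, 6), (401, 269, 2), (402, 269, 4),
   (403, 269, 5), (404, 269, 6), (405, 270, 1), (406, 270, 6), (407, 271, 1), (408, 271, 5),
   (409, 272, 1), (410, 273, 1), (411, 274, 0), (412, 274, 2), (413, 275, 2), (414, 275, 6),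
   (415, 278, 3), (416, 278, 6), (417, 280, 1), (418, 280, 5), (419, 280, 6), (420, 281, 6),
   (421, 282, 5), (422, 283, 0), (423, 283, 3), (424, 283, 5), (425, 283, 6), (426, 284, 4),
   (427, 284, 5), (428, 284, 6), (429, 285, 1), (430, 286, 1), (431, 287, 0), (432, 287, 2),
   (433, 287, 6), (434, 288, 1), (435, 288, 2), (436, 289, 6), (437, 292, 3), (438, 293, 6),
   (439, 294, 1), (440, 295, 1), (441, 295, 3), (442, 295, 5), (443, 295, 6), (444, 296, 2),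
   (445, 296, 4), (446, 296, 5), (447, 296, 6), (448, 297, 1), (449, 297, 6), (450, 298, 1)]

def chainUOrb0_5 : List (ℕ × ℕ × ℕ) :=
  [(451, 298, 5), (452, 299, 5), (453, 299, 6), (454, 300, 1), (455, 300, 6), (456, 301, 1),
   (457, 301, 5), (458, 302, 0), (459, 302, 2), (460, 302, 6), (461, 303, 1), (462, 307, 0),
   (463, 307, 2), (464, 307, 5), (465, 308, 2), (466, 308, 6), (467, 309, 2), (468, 310, 5),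
   (469, 312, 6), (470, 314, 3), (471, 315, 5), (472, 317, 2), (473, 317, 6), (474, 318, 1),
   (475, 319, 2), (476, 319, 5), (477, 320, 1), (478, 321, 1), (479, 322, 0), (480, 322, 2),
   (481, 323, 1), (482, 325, 1), (483, 325, 2), (484, 326, 6), (485, 327, 5), (486, 328, 1),
   (487, 328, 3), (488, 328, 5), (489, 329, 1), (490, 331, 0), (491, 331, 5), (492, 331, 6),
   (493, 332, 1), (494, 333, 0), (495, 333, 2), (496, 333, 6), (497, 336, 0), (498, 336, 3),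
   (499, 336, 5), (500, 336, 6), (501, 337, 2), (502, 337, 5), (503, 338, 1), (504, 338, 6),
   (505, 339, 1), (506, 341, 1), (507, 341, 5), (508, 342, 6), (509, 343, 5), (510, 344, 2),
   (511, 344, 5), (512, 344, 6), (513, 346, 1), (514, 348, 1), (515, 348, 5), (516, 348, 6),
   (517, 349, 1), (518, 350, 1), (519, 353, 1), (520, 353, 3), (521, 353, 5), (522, 353, 6),
   (523, 354, 1), (524, 354, 6), (525, 355, 5), (526, 359, 0), (527, 359, 3), (528, 359, 5),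
   (529, 359, 6), (530, 360, 4), (531, 360, 5), (532, 360, 6), (533, 361, 1), (534, 361, 6),
   (535, 362, 1), (536, 362, 5), (537, 363, 0), (538, 363, 2), (539, 367, 1), (540, 368, 0)]

def chainUOrb0_6 : List (ℕ × ℕ × ℕ) :=
  [(541, 368, 3), (542, 368, 5), (543, 368, 6), (544, 369, 5), (545, 370, 1), (546, 371, 2),
   (547, 372, 3), (548, 373, 1), (549, 373, 5), (550, 373, 6), (551, 374, 1), (552, 374, 6),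
   (553, 375, 1), (554, 375, 5), (555, 376, 0), (556, 376, 2), (557, 376, 6), (558, 377, 0),
   (559, 377, 5), (560, 378, 1), (561, 379, 1), (562, 379, 2), (563, 380, 3), (564, 380, 6),
   (565, 381, 5), (566, 382, 0), (567, 382, 2), (568, 385, 2), (569, 387, 3), (570, 389, 0),
   (571, 389, 3), (572, 389, 5), (573, 389, 6), (574, 390, 4), (575, 390, 5), (576, 390, 6),
   (577, 391, 1), (578, 392, 1), (579, 393, 0), (580, 393, 2), (581, 393, 6), (582, 395, 3),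
   (583, 397, 1), (584, 397, 3), (585, 397, 5), (586, 397, 6), (587, 398, 2), (588, 398, 4),
   (589, 398, 5), (590, 398, 6), (591, 399, 1), (592, 399, 6), (593, 400, 1), (594, 400, 5),
   (595, 401, 1), (596, 401, 4), (597, 401, 5), (598, 401, 6), (599, 402, 5), (600, 402, 6),
   (601, 403, 1), (602, 403, 6), (603, 404, 1), (604, 404, 5), (605, 405, 0), (606, 405, 6),
   (607, 406, 1), (608, 409, 0), (609, 409, 2), (610, 409, 5), (611, 410, 2), (612, 410, 6),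
   (613, 413, 6), (614, 415, 2), (615, 415, 6), (616, 417, 2), (617, 418, 1), (618, 419, 1),
   (619, 420, 1), (620, 422, 1), (621, 422, 3), (622, 422, 5), (623, 422, 6), (624, 423, 2),
   (625, 423, 4), (626, 423, 5), (627, 424, 1), (628, 424, 6), (629, 425, 1), (630, 425, 5)]

def chainUOrb0_7 : List (ℕ × ℕ × ℕ) :=
  [(631, 426, 5), (632, 426, 6), (633, 427, 1), (634, 428, 1), (635, 429, 0), (636, 429, 2),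
   (637, 429, 6), (638, 430, 0), (639, 430, 5), (640, 431, 1), (641, 431, 2), (642, 432, 6),
   (643, 436, 1), (644, 438, 1), (645, 440, 0), (646, 440, 2), (647, 440, 3), (648, 440, 5),
   (649, 440, 6), (650, 441, 2), (651, 441, 4), (652, 441, 5), (653, 441, 6), (654, 443, 1),
   (655, 444, 4), (656, 444, 5), (657, 445, 5), (658, 445, 6), (659, 446, 1), (660, 446, 6),
   (661, 447, 1), (662, 447, 5), (663, 448, 0), (664, 448, 2), (665, 448, 6), (666, 449, 1),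
   (667, 452, 1), (668, 452, 6), (669, 453, 1), (670, 453, 5), (671, 454, 0), (672, 454, 2),
   (673, 454, 6), (674, 455, 1), (675, 458, 1), (676, 458, 2), (677, 458, 6), (678, 459, 6),
   (679, 460, 1), (680, 460, 5), (681, 461, 0), (682, 461, 2), (683, 461, 5), (684, 462, 2),
   (685, 463, 5), (686, 465, 6), (687, 469, 1), (688, 472, 1), (689, 472, 6), (690, 473, 1),
   (691, 475, 5), (692, 476, 1), (693, 477, 0), (694, 477, 2), (695, 477, 6), (696, 478, 0),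
   (697, 478, 2), (698, 478, 5), (699, 479, 1), (700, 479, 2), (701, 481, 0), (702, 481, 2),
   (703, 481, 5), (704, 482, 0), (705, 482, 2), (706, 482, 5), (707, 483, 1), (708, 484, 5),
   (709, 485, 1), (710, 486, 3), (711, 486, 5), (712, 487, 5), (713, 488, 1), (714, 489, 2),
   (715, 490, 5), (716, 491, 1), (717, 492, 5), (718, 493, 0), (719, 493, 2), (720, 493, 6)]

def chainUOrb0_8 : List (ℕ × ℕ × ℕ) :=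
  [(721, 494, 2), (722, 495, 3), (723, 495, 6), (724, 497, 1), (725, 497, 3), (726, 497, 5),
   (727, 498, 2), (728, 498, 5), (729, 498, 6), (730, 499, 1), (731, 499, 6), (732, 500, 5),
   (733, 501, 1), (734, 501, 5), (735, 502, 1), (736, 503, 0), (737, 503, 6), (738, 504, 1),
   (739, 505, 2), (740, 506, 0), (741, 506, 2), (742, 506, 5), (743, 507, 1), (744, 508, 1),
   (745, 509, 1), (746, 510, 1), (747, 510, 3), (748, 510, 5), (749, 510, 6), (750, 512, 1),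
   (751, 514, 0), (752, 514, 5), (753, 515, 1), (754, 517, 2), (755, 519, 0), (756, 519, 3),
   (757, 519, 5), (758, 519, 6), (759, 520, 4), (760, 520, 5), (761, 520, 6), (762, 521, 1),
   (763, 521, 6), (764, 522, 1), (765, 522, 5), (766, 523, 2), (767, 526, 1), (768, 526, 5),
   (769, 526, 6), (770, 527, 5), (771, 528, 1), (772, 529, 5), (773, 530, 5), (774, 531, 1),
   (775, 531, 6), (776, 532, 5), (777, 533, 0), (778, 533, 2), (779, 533, 6), (780, 534, 1),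
   (781, 535, 5), (782, 536, 1), (783, 537, 2), (784, 538, 3), (785, 539, 0), (786, 539, 5),
   (787, 539, 6), (788, 540, 1), (789, 540, 3), (790, 540, 5), (791, 540, 6), (792, 541, 2),
   (793, 541, 5), (794, 541, 6), (795, 542, 1), (796, 542, 6), (797, 543, 5), (798, 544, 1),
   (799, 545, 0), (800, 545, 2), (801, 545, 6), (802, 546, 3), (803, 547, 2), (804, 548, 0),
   (805, 548, 2), (806, 548, 5), (807, 549, 1), (808, 551, 0), (809, 551, 2), (810, 551, 6)]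

def chainUOrb0_9 : List (ℕ × ℕ × ℕ) :=
  [(811, 553, 5), (812, 554, 1), (813, 555, 1), (814, 555, 2), (815, 555, 6), (816, 556, 3),
   (817, 556, 6), (818, 557, 5), (819, 558, 5), (820, 559, 1), (821, 559, 6), (822, 560, 0),
   (823, 560, 2), (824, 560, 6), (825, 561, 2), (826, 562, 1), (827, 562, 3), (828, 563, 2),
   (829, 563, 4), (830, 563, 6), (831, 564, 1), (832, 564, 5), (833, 566, 2), (834, 570, 1),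
   (835, 570, 3), (836, 570, 5), (837, 570, 6), (838, 571, 2), (839, 571, 4), (840, 571, 5),
   (841, 571, 6), (842, 572, 1), (843, 572, 6), (844, 573, 1), (845, 573, 5), (846, 574, 5),
   (847, 574, 6), (848, 575, 1), (849, 576, 1), (850, 577, 0), (851, 577, 2), (852, 577, 6),
   (853, 578, 0), (854, 578, 5), (855, 579, 2), (856, 580, 3), (857, 580, 6), (858, 582, 2),
   (859, 583, 0), (860, 583, 2), (861, 583, 5), (862, 584, 4), (863, 584, 5), (864, 587, 1),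
   (865, 587, 4), (866, 587, 5), (867, 588, 5), (868, 588, 6), (869, 589, 1), (870, 590, 1),
   (871, 590, 5), (872, 591, 0), (873, 591, 6), (874, 592, 1), (875, 595, 0), (876, 595, 4),
   (877, 595, 5), (878, 596, 3), (879, 596, 5), (880, 596, 6), (881, 597, 1), (882, 599, 1),
   (883, 599, 6), (884, 600, 1), (885, 600, 5), (886, 601, 0), (887, 601, 2), (888, 601, 6),
   (889, 602, 1), (890, 605, 1), (891, 605, 6), (892, 606, 1), (893, 606, 5), (894, 607, 0),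
   (895, 607, 2), (896, 607, 5), (897, 608, 2), (898, 609, 3), (899, 609, 5), (900, 611, 6)]

def chainUOrb0_10 : List (ℕ × ℕ × ℕ) :=
  [(901, 614, 1), (902, 617, 0), (903, 617, 2), (904, 617, 6), (905, 618, 0), (906, 618, 5),
   (907, 619, 0), (908, 619, 2), (909, 619, 5), (910, 620, 0), (911, 620, 3), (912, 621, 2),
   (913, 621, 4), (914, 621, 5), (915, 624, 4), (916, 624, 5), (917, 625, 5), (918, 626, 1),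
   (919, 626, 6), (920, 627, 0), (921, 627, 2), (922, 627, 6), (923, 629, 5), (924, 630, 1),
   (925, 631, 1), (926, 632, 1), (927, 633, 0), (928, 633, 2), (929, 633, 6), (930, 634, 0),
   (931, 634, 5), (932, 635, 1), (933, 635, 2), (934, 635, 6), (935, 636, 3), (936, 636, 6),
   (937, 637, 5), (938, 638, 5), (939, 640, 2), (940, 642, 1), (941, 645, 3), (942, 645, 5),
   (943, 646, 5), (944, 647, 2), (945, 647, 4), (946, 647, 5), (947, 647, 6), (948, 649, 5),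
   (949, 650, 1), (950, 650, 4), (951, 650, 5), (952, 651, 5), (953, 651, 6), (954, 653, 1),
   (955, 654, 5), (956, 655, 5), (957, 656, 1), (958, 656, 6), (959, 657, 1), (960, 657, 6),
   (961, 658, 1), (962, 658, 5), (963, 659, 0), (964, 659, 2), (965, 659, 6), (966, 660, 1),
   (967, 663, 2), (968, 664, 6), (969, 665, 1), (970, 666, 0), (971, 666, 2), (972, 666, 5),
   (973, 667, 0), (974, 667, 2), (975, 667, 6), (976, 668, 1), (977, 671, 1), (978, 671, 2),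
   (979, 671, 6), (980, 673, 1), (981, 674, 0), (982, 674, 2), (983, 676, 1), (984, 676, 6),
   (985, 678, 5), (986, 679, 0), (987, 679, 2), (988, 679, 5), (989, 681, 1), (990, 681, 2)]

def chainUOrb0_11 : List (ℕ × ℕ × ℕ) :=
  [(991, 681, 5), (992, 682, 3), (993, 682, 5), (994, 685, 1), (995, 688, 5), (996, 691, 1),
   (997, 692, 0), (998, 692, 2), (999, 693, 1), (1000, 693, 2), (1001, 694, 3), (1002, 696, 1),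
   (1003, 696, 2), (1004, 696, 5), (1005, 697, 5), (1006, 698, 6), (1007, 699, 0), (1008, 699, 2),
   (1009, 699, 5), (1010, 699, 6), (1011, 700, 1), (1012, 701, 2), (1013, 702, 3), (1014, 702, 5),
   (1015, 704, 2), (1016, 705, 1), (1017, 705, 5), (1018, 707, 0), (1019, 707, 5), (1020, 707, 6),
   (1021, 708, 1), (1022, 709, 0), (1023, 709, 2), (1024, 709, 6), (1025, 711, 1), (1026, 712, 1),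
   (1027, 713, 0), (1028, 713, 2), (1029, 713, 6), (1030, 714, 3), (1031, 715, 1), (1032, 716, 0),
   (1033, 716, 2), (1034, 716, 6), (1035, 717, 1), (1036, 718, 1), (1037, 718, 2), (1038, 718, 6),
   (1039, 719, 3), (1040, 719, 6), (1041, 720, 5), (1042, 722, 4), (1043, 722, 6), (1044, 723, 1),
   (1045, 724, 0), (1046, 724, 5), (1047, 725, 5), (1048, 726, 1), (1049, 728, 1), (1050, 728, 6),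
   (1051, 729, 5), (1052, 730, 0), (1053, 730, 6), (1054, 731, 1), (1055, 732, 1), (1056, 733, 5),
   (1057, 734, 1), (1058, 735, 0), (1059, 735, 2), (1060, 735, 6), (1061, 736, 1), (1062, 736, 6),
   (1063, 737, 1), (1064, 737, 5), (1065, 738, 0), (1066, 738, 2), (1067, 738, 5), (1068, 739, 3),
   (1069, 740, 2), (1070, 740, 5), (1071, 741, 5), (1072, 742, 1), (1073, 742, 6), (1074, 743, 2),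
   (1075, 744, 0), (1076, 744, 2), (1077, 745, 0), (1078, 745, 2), (1079, 745, 6), (1080, 746, 0)]

def chainUOrb0_12 : List (ℕ × ℕ × ℕ) :=
  [(1081, 746, 3), (1082, 746, 5), (1083, 747, 5), (1084, 747, 6), (1085, 748, 1), (1086, 751, 5),
   (1087, 755, 1), (1088, 755, 3), (1089, 755, 5), (1090, 755, 6), (1091, 756, 2), (1092, 756, 5),
   (1093, 757, 1), (1094, 758, 5), (1095, 759, 5), (1096, 760, 1), (1097, 760, 6), (1098, 761, 5),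
   (1099, 762, 0), (1100, 762, 2), (1101, 762, 6), (1102, 763, 1), (1103, 764, 5), (1104, 765, 1),
   (1105, 766, 3), (1106, 767, 5), (1107, 770, 1), (1108, 771, 0), (1109, 772, 1), (1110, 773, 1),
   (1111, 773, 6), (1112, 774, 0), (1113, 774, 2), (1114, 774, 6), (1115, 775, 1), (1116, 776, 1),
   (1117, 777, 1), (1118, 777, 2), (1119, 777, 6), (1120, 779, 1), (1121, 779, 5), (1122, 780, 0),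
   (1123, 783, 1), (1124, 783, 3), (1125, 784, 4), (1126, 785, 5), (1127, 787, 5), (1128, 788, 5),
   (1129, 789, 5), (1130, 790, 1), (1131, 792, 3), (1132, 793, 1), (1133, 794, 5), (1134, 795, 0),
   (1135, 795, 2), (1136, 795, 6), (1137, 797, 1), (1138, 798, 0), (1139, 798, 2), (1140, 798, 6),
   (1141, 799, 1), (1142, 799, 2), (1143, 799, 6), (1144, 800, 3), (1145, 800, 6), (1146, 801, 5),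
   (1147, 802, 4), (1148, 803, 3), (1149, 804, 5), (1150, 805, 3), (1151, 805, 5), (1152, 806, 1),
   (1153, 807, 0), (1154, 807, 2), (1155, 807, 6), (1156, 808, 2), (1157, 811, 1), (1158, 812, 0),
   (1159, 812, 2), (1160, 812, 6), (1161, 813, 0), (1162, 813, 2), (1163, 813, 6), (1164, 814, 1),
   (1165, 814, 3), (1166, 814, 6), (1167, 815, 1), (1168, 816, 4), (1169, 816, 6), (1170, 817, 1)]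

def chainUOrb0_13 : List (ℕ × ℕ × ℕ) :=
  [(1171, 817, 5), (1172, 818, 1), (1173, 819, 1), (1174, 820, 0), (1175, 820, 2), (1176, 820, 6),
   (1177, 821, 1), (1178, 822, 1), (1179, 822, 2), (1180, 822, 6), (1181, 823, 3), (1182, 823, 6),
   (1183, 825, 1), (1184, 825, 3), (1185, 826, 0), (1186, 826, 3), (1187, 826, 5), (1188, 826, 6),
   (1189, 827, 4), (1190, 828, 4), (1191, 829, 6), (1192, 830, 1), (1193, 830, 5), (1194, 831, 0),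
   (1195, 831, 5), (1196, 832, 1), (1197, 835, 2), (1198, 835, 4), (1199, 835, 5), (1200, 836, 1),
   (1201, 838, 5), (1202, 839, 5), (1203, 840, 1), (1204, 841, 5), (1205, 842, 0), (1206, 842, 2),
   (1207, 842, 6), (1208, 844, 5), (1209, 845, 1), (1210, 846, 1), (1211, 848, 0), (1212, 848, 2),
   (1213, 848, 6), (1214, 849, 0), (1215, 849, 5), (1216, 850, 1), (1217, 850, 2), (1218, 850, 6),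
   (1219, 851, 3), (1220, 851, 6), (1221, 852, 5), (1222, 853, 5), (1223, 855, 1), (1224, 855, 3),
   (1225, 856, 6), (1226, 857, 1), (1227, 858, 1), (1228, 858, 3), (1229, 862, 5), (1230, 867, 1),
   (1231, 868, 1), (1232, 868, 5), (1233, 869, 0), (1234, 874, 2), (1235, 876, 3), (1236, 878, 5),
   (1237, 878, 6), (1238, 882, 0), (1239, 882, 2), (1240, 882, 6), (1241, 883, 1), (1242, 886, 2),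
   (1243, 886, 6), (1244, 887, 6), (1245, 888, 1), (1246, 888, 5), (1247, 889, 0), (1248, 889, 2),
   (1249, 889, 5), (1250, 892, 0), (1251, 892, 2), (1252, 892, 5), (1253, 894, 1), (1254, 894, 2),
   (1255, 894, 5), (1256, 895, 3), (1257, 895, 5), (1258, 897, 1), (1259, 897, 3), (1260, 898, 5)]

def chainUOrb0_14 : List (ℕ × ℕ × ℕ) :=
  [(1261, 899, 1), (1262, 902, 1), (1263, 902, 2), (1264, 903, 3), (1265, 905, 1), (1266, 907, 2),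
   (1267, 908, 5), (1268, 910, 3), (1269, 911, 2), (1270, 911, 4), (1271, 912, 4), (1272, 913, 5),
   (1273, 915, 5), (1274, 916, 1), (1275, 917, 1), (1276, 917, 6), (1277, 918, 0), (1278, 924, 2),
   (1279, 925, 0), (1280, 925, 2), (1281, 925, 6), (1282, 926, 0), (1283, 926, 5), (1284, 927, 1),
   (1285, 932, 0), (1286, 932, 2), (1287, 932, 6), (1288, 933, 1), (1289, 933, 6), (1290, 938, 1),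
   (1291, 939, 3), (1292, 941, 2), (1293, 941, 4), (1294, 941, 5), (1295, 944, 1), (1296, 944, 3),
   (1297, 944, 5), (1298, 944, 6), (1299, 945, 5), (1300, 947, 5), (1301, 949, 4), (1302, 950, 5),
   (1303, 954, 5), (1304, 956, 1), (1305, 956, 6), (1306, 957, 2), (1307, 958, 1), (1308, 959, 0),
   (1309, 959, 2), (1310, 959, 6), (1311, 960, 1), (1312, 965, 1), (1313, 966, 0), (1314, 966, 2),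
   (1315, 966, 5), (1316, 967, 1), (1317, 969, 2), (1318, 970, 1), (1319, 970, 2), (1320, 971, 3),
   (1321, 971, 5), (1322, 973, 1), (1323, 973, 2), (1324, 973, 6), (1325, 974, 3), (1326, 975, 1),
   (1327, 976, 0), (1328, 976, 2), (1329, 977, 2), (1330, 981, 1), (1331, 981, 2), (1332, 983, 0),
   (1333, 983, 6), (1334, 984, 1), (1335, 986, 2), (1336, 987, 3), (1337, 987, 5), (1338, 989, 2),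
   (1339, 990, 1), (1340, 990, 3), (1341, 990, 5), (1342, 992, 5), (1343, 993, 1), (1344, 994, 0),
   (1345, 997, 1), (1346, 997, 2), (1347, 999, 2), (1348, 1000, 1), (1349, 1000, 3), (1350, 1001, 4)]

def chainUOrb0_15 : List (ℕ × ℕ × ℕ) :=
  [(1351, 1003, 5), (1352, 1005, 1), (1353, 1005, 6), (1354, 1007, 2), (1355, 1007, 5), (1356, 1008, 1),
   (1357, 1008, 3), (1358, 1008, 5), (1359, 1008, 6), (1360, 1011, 0), (1361, 1011, 5), (1362, 1011, 6),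
   (1363, 1014, 1), (1364, 1016, 5), (1365, 1017, 1), (1366, 1018, 5), (1367, 1019, 6), (1368, 1020, 5),
   (1369, 1022, 2), (1370, 1023, 3), (1371, 1023, 6), (1372, 1025, 0), (1373, 1025, 2), (1374, 1025, 6),
   (1375, 1026, 0), (1376, 1027, 1), (1377, 1027, 2), (1378, 1027, 6), (1379, 1028, 3), (1380, 1028, 6),
   (1381, 1029, 5), (1382, 1030, 4), (1383, 1031, 0), (1384, 1032, 1), (1385, 1032, 2), (1386, 1033, 3),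
   (1387, 1035, 0), (1388, 1036, 0), (1389, 1036, 2), (1390, 1036, 5), (1391, 1036, 6), (1392, 1039, 2),
   (1393, 1039, 4), (1394, 1040, 1), (1395, 1042, 6), (1396, 1043, 1), (1397, 1044, 0), (1398, 1045, 5),
   (1399, 1046, 1), (1400, 1046, 6), (1401, 1048, 2), (1402, 1048, 6), (1403, 1049, 0), (1404, 1049, 6),
   (1405, 1052, 1), (1406, 1053, 1), (1407, 1056, 1), (1408, 1057, 0), (1409, 1058, 2), (1410, 1058, 6),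
   (1411, 1061, 0), (1412, 1061, 6), (1413, 1062, 1), (1414, 1063, 0), (1415, 1063, 2), (1416, 1065, 1),
   (1417, 1065, 2), (1418, 1066, 3), (1419, 1066, 5), (1420, 1069, 5), (1421, 1071, 1), (1422, 1071, 6),
   (1423, 1072, 2), (1424, 1074, 3), (1425, 1075, 2), (1426, 1076, 3), (1427, 1077, 2), (1428, 1078, 3),
   (1429, 1078, 6), (1430, 1080, 5), (1431, 1081, 2), (1432, 1081, 5), (1433, 1083, 1), (1434, 1087, 5),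
   (1435, 1088, 2), (1436, 1091, 5), (1437, 1092, 1), (1438, 1093, 0), (1439, 1094, 1), (1440, 1095, 1)]

def chainUOrb0_16 : List (ℕ × ℕ × ℕ) :=
  [(1441, 1095, 6), (1442, 1096, 0), (1443, 1096, 2), (1444, 1096, 6), (1445, 1097, 1), (1446, 1098, 1),
   (1447, 1099, 1), (1448, 1099, 2), (1449, 1099, 6), (1450, 1101, 1), (1451, 1101, 5), (1452, 1102, 0),
   (1453, 1105, 4), (1454, 1107, 2), (1455, 1109, 0), (1456, 1109, 2), (1457, 1109, 6), (1458, 1110, 2),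
   (1459, 1111, 1), (1460, 1114, 5), (1461, 1115, 0), (1462, 1116, 2), (1463, 1117, 2), (1464, 1118, 1),
   (1465, 1120, 0), (1466, 1121, 1), (1467, 1123, 0), (1468, 1123, 3), (1469, 1123, 5), (1470, 1123, 6),
   (1471, 1124, 4), (1472, 1126, 1), (1473, 1127, 1), (1474, 1128, 1), (1475, 1129, 1), (1476, 1130, 0),
   (1477, 1130, 2), (1478, 1130, 6), (1479, 1131, 2), (1480, 1132, 6), (1481, 1134, 2), (1482, 1135, 3),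
   (1483, 1137, 0), (1484, 1137, 2), (1485, 1138, 2), (1486, 1138, 6), (1487, 1141, 2), (1488, 1142, 1),
   (1489, 1142, 3), (1490, 1142, 6), (1491, 1143, 1), (1492, 1144, 2), (1493, 1144, 4), (1494, 1144, 6),
   (1495, 1145, 5), (1496, 1148, 4), (1497, 1149, 1), (1498, 1151, 1), (1499, 1152, 0), (1500, 1152, 2),
   (1501, 1152, 6), (1502, 1153, 1), (1503, 1154, 3), (1504, 1155, 5), (1505, 1156, 1), (1506, 1157, 0),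
   (1507, 1157, 2), (1508, 1158, 1), (1509, 1158, 2), (1510, 1159, 3), (1511, 1159, 6), (1512, 1161, 2),
   (1513, 1162, 1), (1514, 1162, 6), (1515, 1163, 1), (1516, 1164, 6), (1517, 1166, 1), (1518, 1167, 0),
   (1519, 1168, 6), (1520, 1169, 1), (1521, 1170, 0), (1522, 1170, 5), (1523, 1173, 0), (1524, 1174, 1),
   (1525, 1174, 2), (1526, 1175, 6), (1527, 1178, 0), (1528, 1178, 2), (1529, 1178, 5), (1530, 1178, 6)]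

def chainUOrb0_17 : List (ℕ × ℕ × ℕ) :=
  [(1531, 1179, 1), (1532, 1179, 3), (1533, 1179, 6), (1534, 1181, 6), (1535, 1185, 1), (1536, 1185, 3),
   (1537, 1185, 5), (1538, 1185, 6), (1539, 1186, 2), (1540, 1186, 4), (1541, 1186, 5), (1542, 1186, 6),
   (1543, 1187, 6), (1544, 1188, 5), (1545, 1191, 1), (1546, 1191, 5), (1547, 1192, 0), (1548, 1192, 2),
   (1549, 1192, 5), (1550, 1194, 5), (1551, 1195, 1), (1552, 1195, 6), (1553, 1196, 0), (1554, 1198, 5),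
   (1555, 1202, 1), (1556, 1203, 2), (1557, 1204, 1), (1558, 1206, 3), (1559, 1209, 2), (1560, 1210, 0),
   (1561, 1210, 2), (1562, 1210, 6), (1563, 1211, 2), (1564, 1211, 6), (1565, 1212, 3), (1566, 1212, 6),
   (1567, 1217, 1), (1568, 1217, 3), (1569, 1217, 6), (1570, 1219, 2), (1571, 1219, 4), (1572, 1219, 6),
   (1573, 1225, 1), (1574, 1227, 0), (1575, 1227, 3), (1576, 1227, 5), (1577, 1227, 6), (1578, 1230, 0),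
   (1579, 1235, 2), (1580, 1238, 2), (1581, 1238, 6), (1582, 1240, 1), (1583, 1241, 0), (1584, 1241, 2),
   (1585, 1244, 1), (1586, 1245, 2), (1587, 1245, 5), (1588, 1247, 2), (1589, 1248, 3), (1590, 1250, 2),
   (1591, 1251, 3), (1592, 1257, 1), (1593, 1258, 6), (1594, 1260, 1), (1595, 1261, 0), (1596, 1262, 2),
   (1597, 1268, 2), (1598, 1269, 3), (1599, 1273, 1), (1600, 1275, 0), (1601, 1278, 3), (1602, 1279, 1),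
   (1603, 1284, 0), (1604, 1284, 2), (1605, 1284, 6), (1606, 1288, 6), (1607, 1289, 1), (1608, 1292, 1),
   (1609, 1292, 3), (1610, 1292, 5), (1611, 1295, 3), (1612, 1296, 5), (1613, 1298, 5), (1614, 1304, 2),
   (1615, 1305, 1), (1616, 1307, 0), (1617, 1307, 2), (1618, 1309, 3), (1619, 1311, 2), (1620, 1312, 2)]

def chainUOrb0_18 : List (ℕ × ℕ × ℕ) :=
  [(1621, 1313, 1), (1622, 1313, 2), (1623, 1314, 5), (1624, 1322, 2), (1625, 1327, 1), (1626, 1327, 2),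
   (1627, 1330, 2), (1628, 1335, 3), (1629, 1337, 1), (1630, 1344, 1), (1631, 1345, 2), (1632, 1346, 1),
   (1633, 1347, 1), (1634, 1347, 3), (1635, 1348, 3), (1636, 1348, 5), (1637, 1348, 6), (1638, 1349, 4),
   (1639, 1352, 0), (1640, 1352, 6), (1641, 1354, 1), (1642, 1354, 3), (1643, 1354, 5), (1644, 1356, 0),
   (1645, 1356, 3), (1646, 1356, 6), (1647, 1357, 2), (1648, 1357, 4), (1649, 1357, 5), (1650, 1357, 6),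
   (1651, 1358, 1), (1652, 1359, 1), (1653, 1360, 6), (1654, 1362, 5), (1655, 1363, 0), (1656, 1363, 6),
   (1657, 1366, 1), (1658, 1368, 1), (1659, 1369, 3), (1660, 1370, 2), (1661, 1370, 4), (1662, 1370, 6),
   (1663, 1372, 2), (1664, 1376, 2), (1665, 1379, 4), (1666, 1383, 1), (1667, 1384, 6), (1668, 1387, 1),
   (1669, 1388, 2), (1670, 1389, 3), (1671, 1389, 5), (1672, 1392, 4), (1673, 1394, 5), (1674, 1396, 2),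
   (1675, 1399, 2), (1676, 1399, 6), (1677, 1413, 2), (1678, 1414, 2), (1679, 1415, 3), (1680, 1417, 1),
   (1681, 1417, 3), (1682, 1418, 2), (1683, 1421, 2), (1684, 1423, 3), (1685, 1424, 2), (1686, 1424, 4),
   (1687, 1428, 4), (1688, 1431, 5), (1689, 1433, 2), (1690, 1436, 1), (1691, 1437, 2), (1692, 1439, 2),
   (1693, 1439, 6), (1694, 1440, 2), (1695, 1442, 2), (1696, 1443, 6), (1697, 1444, 1), (1698, 1444, 5),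
   (1699, 1445, 2), (1700, 1446, 2), (1701, 1450, 0), (1702, 1466, 2), (1703, 1467, 1), (1704, 1467, 6),
   (1705, 1468, 4), (1706, 1469, 6), (1707, 1470, 5), (1708, 1473, 2), (1709, 1475, 6), (1710, 1483, 2)]

def chainUOrb0_19 : List (ℕ × ℕ × ℕ) :=
  [(1711, 1487, 1), (1712, 1487, 3), (1713, 1492, 4), (1714, 1493, 6), (1715, 1497, 6), (1716, 1500, 3),
   (1717, 1507, 3), (1718, 1509, 3), (1719, 1513, 6), (1720, 1516, 1), (1721, 1517, 0), (1722, 1523, 1),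
   (1723, 1525, 1), (1724, 1531, 5), (1725, 1531, 6), (1726, 1532, 6), (1727, 1536, 2), (1728, 1536, 5),
   (1729, 1536, 6), (1730, 1538, 1), (1731, 1539, 6), (1732, 1540, 6), (1733, 1541, 6), (1734, 1542, 5),
   (1735, 1551, 6), (1736, 1557, 2), (1737, 1561, 6), (1738, 1563, 6), (1739, 1565, 2), (1740, 1567, 3),
   (1741, 1568, 2), (1742, 1574, 3), (1743, 1574, 6), (1744, 1577, 5), (1745, 1582, 5), (1746, 1583, 2),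
   (1747, 1584, 3), (1748, 1586, 5), (1749, 1596, 3), (1750, 1597, 1), (1751, 1602, 2), (1752, 1603, 2),
   (1753, 1604, 6), (1754, 1608, 3), (1755, 1613, 1), (1756, 1615, 2), (1757, 1616, 2), (1758, 1621, 2),
   (1759, 1622, 1), (1760, 1625, 2), (1761, 1630, 0), (1762, 1630, 2), (1763, 1630, 6), (1764, 1635, 6),
   (1765, 1642, 2), (1766, 1642, 4), (1767, 1642, 5), (1768, 1647, 1), (1769, 1647, 3), (1770, 1648, 6),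
   (1771, 1649, 1), (1772, 1655, 6), (1773, 1688, 1), (1774, 1690, 2), (1775, 1696, 1), (1776, 1696, 5),
   (1777, 1697, 2), (1778, 1729, 1), (1779, 1752, 1), (1780, 1758, 1), (1781, 1775, 2)]

def chainUOrb0 : List (ℕ × ℕ × ℕ) :=
  chainUOrb0_0 ++ chainUOrb0_1 ++ chainUOrb0_2 ++ chainUOrb0_3 ++ chainUOrb0_4 ++ chainUOrb0_5 ++ chainUOrb0_6 ++ chainUOrb0_7 ++ chainUOrb0_8 ++ chainUOrb0_9 ++ chainUOrb0_10 ++ chainUOrb0_11 ++ chainUOrb0_12 ++ chainUOrb0_13 ++ chainUOrb0_14 ++ chainUOrb0_15 ++ chainUOrb0_16 ++ chainUOrb0_17 ++ chainUOrb0_18 ++ chainUOrb0_19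

def chainUIdx0_0 : List (ℕ × List ℕ) :=
  [(0, []), (1, [6]), (2, [6,1]), (3, [6,1,0]),
   (4, [6,1,2]), (5, [6,1,5]), (6, [6,1,0,1]), (7, [6,1,0,2]),
   (8, [6,1,2,3]), (9, [6,1,2,5]), (10, [6,1,0,1,2]), (11, [6,1,0,2,1]),
   (12, [6,1,0,2,3]), (13, [6,1,2,3,2]), (14, [6,1,2,3,4]), (15, [6,1,2,3,5]),
   (16, [6,1,2,5,1]), (17, [6,1,0,1,2,1]), (18, [6,1,0,1,2,3]), (19, [6,1,0,2,1,0]),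
   (20, [6,1,0,2,1,3]), (21, [6,1,0,2,1,5]), (22, [6,1,0,2,1,6]), (23, [6,1,0,2,3,2]),
   (24, [6,1,0,2,3,4]), (25, [6,1,2,3,2,1]), (26, [6,1,2,3,2,4]), (27, [6,1,2,3,2,5]),
   (28, [6,1,2,3,4,5]), (29, [6,1,2,3,5,1]), (30, [6,1,2,5,1,6]), (31, [6,1,0,1,2,1,3]),
   (32, [6,1,0,1,2,1,5]), (33, [6,1,0,1,2,3,2]), (34, [6,1,0,1,2,3,4]), (35, [6,1,0,2,1,0,3]),
   (36, [6,1,0,2,1,0,5]), (37, [6,1,0,2,1,3,2]), (38, [6,1,0,2,1,3,4]), (39, [6,1,0,2,1,3,5]),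
   (40, [6,1,0,2,1,3,6]), (41, [6,1,0,2,1,6,5]), (42, [6,1,0,2,3,2,1]), (43, [6,1,0,2,3,2,4]),
   (44, [6,1,2,3,2,1,0]), (45, [6,1,2,3,2,1,4]), (46, [6,1,2,3,2,1,5]), (47, [6,1,2,3,2,1,6]),
   (48, [6,1,2,3,2,4,3]), (49, [6,1,2,3,2,4,5]), (50, [6,1,2,3,2,5,1]), (51, [6,1,2,3,4,5,1]),
   (52, [6,1,2,3,5,1,2]), (53, [6,1,0,1,2,1,3,2]), (54, [6,1,0,1,2,1,3,4]), (55, [6,1,0,1,2,1,3,5]),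
   (56, [6,1,0,1,2,3,2,1]), (57, [6,1,0,1,2,3,2,4]), (58, [6,1,0,2,1,0,3,4]), (59, [6,1,0,2,1,0,3,5]),
   (60, [6,1,0,2,1,3,2,1]), (61, [6,1,0,2,1,3,2,3]), (62, [6,1,0,2,1,3,2,4]), (63, [6,1,0,2,1,3,2,5]),
   (64, [6,1,0,2,1,3,2,6]), (65, [6,1,0,2,1,3,4,5]), (66, [6,1,0,2,1,3,4,6]), (67, [6,1,0,2,1,3,6,5]),
   (68, [6,1,0,2,1,6,5,1]), (69, [6,1,0,2,3,2,1,0]), (70, [6,1,0,2,3,2,1,4]), (71, [6,1,0,2,3,2,1,5]),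
   (72, [6,1,0,2,3,2,1,6]), (73, [6,1,0,2,3,2,4,3]), (74, [6,1,2,3,2,1,0,4]), (75, [6,1,2,3,2,1,0,5]),
   (76, [6,1,2,3,2,1,0,6]), (77, [6,1,2,3,2,1,4,3]), (78, [6,1,2,3,2,1,4,5]), (79, [6,1,2,3,2,1,4,6]),
   (80, [6,1,2,3,2,1,5,1]), (81, [6,1,2,3,2,1,5,6]), (82, [6,1,2,3,2,1,6,5]), (83, [6,1,2,3,2,4,3,2]),
   (84, [6,1,2,3,2,4,3,5]), (85, [6,1,2,3,2,4,5,1]), (86, [6,1,2,3,4,5,1,2]), (87, [6,1,0,1,2,1,3,2,1]),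
   (88, [6,1,0,1,2,1,3,2,4]), (89, [6,1,0,1,2,1,3,2,5])]

def chainUIdx0_1 : List (ℕ × List ℕ) :=
  [(90, [6,1,0,1,2,1,3,4,5]), (91, [6,1,0,1,2,3,2,1,4]), (92, [6,1,0,1,2,3,2,1,5]), (93, [6,1,0,1,2,3,2,4,3]),
   (94, [6,1,0,2,1,0,3,4,5]), (95, [6,1,0,2,1,3,2,1,0]), (96, [6,1,0,2,1,3,2,1,3]), (97, [6,1,0,2,1,3,2,1,4]),
   (98, [6,1,0,2,1,3,2,1,5]), (99, [6,1,0,2,1,3,2,1,6]), (100, [6,1,0,2,1,3,2,3,2]), (101, [6,1,0,2,1,3,2,3,4]),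
   (102, [6,1,0,2,1,3,2,3,5]), (103, [6,1,0,2,1,3,2,4,3]), (104, [6,1,0,2,1,3,2,4,5]), (105, [6,1,0,2,1,3,2,4,6]),
   (106, [6,1,0,2,1,3,2,5,1]), (107, [6,1,0,2,1,3,2,6,5]), (108, [6,1,0,2,1,3,4,6,5]), (109, [6,1,0,2,1,3,6,5,1]),
   (110, [6,1,0,2,3,2,1,0,4]), (111, [6,1,0,2,3,2,1,0,5]), (112, [6,1,0,2,3,2,1,0,6]), (113, [6,1,0,2,3,2,1,4,3]),
   (114, [6,1,0,2,3,2,1,4,5]), (115, [6,1,0,2,3,2,1,4,6]), (116, [6,1,0,2,3,2,1,5,6]), (117, [6,1,0,2,3,2,1,6,5]),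
   (118, [6,1,0,2,3,2,4,3,2]), (119, [6,1,2,3,2,1,0,4,3]), (120, [6,1,2,3,2,1,0,4,5]), (121, [6,1,2,3,2,1,0,4,6]),
   (122, [6,1,2,3,2,1,0,5,1]), (123, [6,1,2,3,2,1,4,3,2]), (124, [6,1,2,3,2,1,4,3,5]), (125, [6,1,2,3,2,1,4,3,6]),
   (126, [6,1,2,3,2,1,4,5,1]), (127, [6,1,2,3,2,1,4,5,6]), (128, [6,1,2,3,2,1,4,6,5]), (129, [6,1,2,3,2,1,5,6,1]),
   (130, [6,1,2,3,2,1,6,5,1]), (131, [6,1,2,3,2,4,3,2,1]), (132, [6,1,2,3,2,4,3,2,5]), (133, [6,1,2,3,2,4,3,5,1]),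
   (134, [6,1,0,1,2,1,3,2,1,4]), (135, [6,1,0,1,2,1,3,2,1,5]), (136, [6,1,0,1,2,1,3,2,4,3]), (137, [6,1,0,1,2,1,3,2,4,5]),
   (138, [6,1,0,1,2,1,3,2,5,1]), (139, [6,1,0,1,2,3,2,1,4,3]), (140, [6,1,0,1,2,3,2,1,4,5]), (141, [6,1,0,1,2,3,2,1,5,6]),
   (142, [6,1,0,1,2,3,2,4,3,2]), (143, [6,1,0,2,1,3,2,1,0,1]), (144, [6,1,0,2,1,3,2,1,0,4]), (145, [6,1,0,2,1,3,2,1,0,5]),
   (146, [6,1,0,2,1,3,2,1,0,6]), (147, [6,1,0,2,1,3,2,1,3,4]), (148, [6,1,0,2,1,3,2,1,3,5]), (149, [6,1,0,2,1,3,2,1,3,6]),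
   (150, [6,1,0,2,1,3,2,1,4,3]), (151, [6,1,0,2,1,3,2,1,4,5]), (152, [6,1,0,2,1,3,2,1,4,6]), (153, [6,1,0,2,1,3,2,1,5,1]),
   (154, [6,1,0,2,1,3,2,1,5,6]), (155, [6,1,0,2,1,3,2,1,6,5]), (156, [6,1,0,2,1,3,2,3,2,4]), (157, [6,1,0,2,1,3,2,3,4,3]),
   (158, [6,1,0,2,1,3,2,3,4,5]), (159, [6,1,0,2,1,3,2,3,5,1]), (160, [6,1,0,2,1,3,2,4,3,2]), (161, [6,1,0,2,1,3,2,4,3,5]),
   (162, [6,1,0,2,1,3,2,4,3,6]), (163, [6,1,0,2,1,3,2,4,5,1]), (164, [6,1,0,2,1,3,2,4,6,5]), (165, [6,1,0,2,1,3,2,5,1,0]),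
   (166, [6,1,0,2,1,3,2,5,1,6]), (167, [6,1,0,2,1,3,2,6,5,1]), (168, [6,1,0,2,1,3,4,6,5,1]), (169, [6,1,0,2,1,3,6,5,1,2]),
   (170, [6,1,0,2,3,2,1,0,4,3]), (171, [6,1,0,2,3,2,1,0,4,5]), (172, [6,1,0,2,3,2,1,0,4,6]), (173, [6,1,0,2,3,2,1,0,5,1]),
   (174, [6,1,0,2,3,2,1,4,3,2]), (175, [6,1,0,2,3,2,1,4,3,5]), (176, [6,1,0,2,3,2,1,4,3,6]), (177, [6,1,0,2,3,2,1,4,5,6]),
   (178, [6,1,0,2,3,2,1,4,6,5]), (179, [6,1,0,2,3,2,1,5,6,1])]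

def chainUIdx0_2 : List (ℕ × List ℕ) :=
  [(180, [6,1,0,2,3,2,1,6,5,1]), (181, [6,1,0,2,3,2,4,3,2,1]), (182, [6,1,2,3,2,1,0,4,3,2]), (183, [6,1,2,3,2,1,0,4,3,5]),
   (184, [6,1,2,3,2,1,0,4,3,6]), (185, [6,1,2,3,2,1,0,4,5,1]), (186, [6,1,2,3,2,1,0,5,1,0]), (187, [6,1,2,3,2,1,0,5,1,2]),
   (188, [6,1,2,3,2,1,0,5,1,6]), (189, [6,1,2,3,2,1,4,3,2,1]), (190, [6,1,2,3,2,1,4,3,2,3]), (191, [6,1,2,3,2,1,4,3,2,5]),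
   (192, [6,1,2,3,2,1,4,3,2,6]), (193, [6,1,2,3,2,1,4,3,5,1]), (194, [6,1,2,3,2,1,4,3,5,6]), (195, [6,1,2,3,2,1,4,3,6,5]),
   (196, [6,1,2,3,2,1,4,5,6,1]), (197, [6,1,2,3,2,1,4,6,5,1]), (198, [6,1,2,3,2,1,5,6,1,0]), (199, [6,1,2,3,2,1,5,6,1,2]),
   (200, [6,1,2,3,2,1,5,6,1,5]), (201, [6,1,2,3,2,1,6,5,1,2]), (202, [6,1,2,3,2,1,6,5,1,6]), (203, [6,1,2,3,2,4,3,2,1,0]),
   (204, [6,1,2,3,2,4,3,2,1,5]), (205, [6,1,2,3,2,4,3,2,1,6]), (206, [6,1,2,3,2,4,3,2,5,1]), (207, [6,1,2,3,2,4,3,5,1,2]),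
   (208, [6,1,0,1,2,1,3,2,1,4,3]), (209, [6,1,0,1,2,1,3,2,1,4,5]), (210, [6,1,0,1,2,1,3,2,1,5,1]), (211, [6,1,0,1,2,1,3,2,4,3,2]),
   (212, [6,1,0,1,2,1,3,2,4,3,5]), (213, [6,1,0,1,2,1,3,2,4,5,1]), (214, [6,1,0,1,2,1,3,2,5,1,0]), (215, [6,1,0,1,2,1,3,2,5,1,6]),
   (216, [6,1,0,1,2,3,2,1,4,3,2]), (217, [6,1,0,1,2,3,2,1,4,3,5]), (218, [6,1,0,1,2,3,2,1,4,5,6]), (219, [6,1,0,1,2,3,2,1,5,6,1]),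
   (220, [6,1,0,1,2,3,2,4,3,2,1]), (221, [6,1,0,2,1,3,2,1,0,1,4]), (222, [6,1,0,2,1,3,2,1,0,1,5]), (223, [6,1,0,2,1,3,2,1,0,1,6]),
   (224, [6,1,0,2,1,3,2,1,0,4,3]), (225, [6,1,0,2,1,3,2,1,0,4,5]), (226, [6,1,0,2,1,3,2,1,0,4,6]), (227, [6,1,0,2,1,3,2,1,0,5,1]),
   (228, [6,1,0,2,1,3,2,1,0,6,1]), (229, [6,1,0,2,1,3,2,1,3,4,3]), (230, [6,1,0,2,1,3,2,1,3,4,5]), (231, [6,1,0,2,1,3,2,1,3,4,6]),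
   (232, [6,1,0,2,1,3,2,1,3,5,1]), (233, [6,1,0,2,1,3,2,1,3,5,6]), (234, [6,1,0,2,1,3,2,1,3,6,5]), (235, [6,1,0,2,1,3,2,1,4,3,2]),
   (236, [6,1,0,2,1,3,2,1,4,3,5]), (237, [6,1,0,2,1,3,2,1,4,3,6]), (238, [6,1,0,2,1,3,2,1,4,5,1]), (239, [6,1,0,2,1,3,2,1,4,5,6]),
   (240, [6,1,0,2,1,3,2,1,4,6,5]), (241, [6,1,0,2,1,3,2,1,5,1,0]), (242, [6,1,0,2,1,3,2,3,2,4,3]), (243, [6,1,0,2,1,3,2,3,4,3,2]),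
   (244, [6,1,0,2,1,3,2,3,4,3,5]), (245, [6,1,0,2,1,3,2,3,4,5,1]), (246, [6,1,0,2,1,3,2,3,5,1,2]), (247, [6,1,0,2,1,3,2,4,3,2,1]),
   (248, [6,1,0,2,1,3,2,4,3,2,5]), (249, [6,1,0,2,1,3,2,4,3,2,6]), (250, [6,1,0,2,1,3,2,4,3,5,1]), (251, [6,1,0,2,1,3,2,4,3,6,5]),
   (252, [6,1,0,2,1,3,2,4,5,1,0]), (253, [6,1,0,2,1,3,2,4,5,1,6]), (254, [6,1,0,2,1,3,2,4,6,5,1]), (255, [6,1,0,2,1,3,2,5,1,0,1]),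
   (256, [6,1,0,2,1,3,2,5,1,6,5]), (257, [6,1,0,2,1,3,2,6,5,1,0]), (258, [6,1,0,2,1,3,2,6,5,1,2]), (259, [6,1,0,2,1,3,4,6,5,1,2]),
   (260, [6,1,0,2,1,3,6,5,1,2,3]), (261, [6,1,0,2,3,2,1,0,4,3,2]), (262, [6,1,0,2,3,2,1,0,4,3,5]), (263, [6,1,0,2,3,2,1,0,4,3,6]),
   (264, [6,1,0,2,3,2,1,0,4,5,1]), (265, [6,1,0,2,3,2,1,0,5,1,0]), (266, [6,1,0,2,3,2,1,0,5,1,2]), (267, [6,1,0,2,3,2,1,0,5,1,6]),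
   (268, [6,1,0,2,3,2,1,4,3,2,1]), (269, [6,1,0,2,3,2,1,4,3,2,3])]

def chainUIdx0_3 : List (ℕ × List ℕ) :=
  [(270, [6,1,0,2,3,2,1,4,3,2,5]), (271, [6,1,0,2,3,2,1,4,3,2,6]), (272, [6,1,0,2,3,2,1,4,3,5,6]), (273, [6,1,0,2,3,2,1,4,3,6,5]),
   (274, [6,1,0,2,3,2,1,4,5,6,1]), (275, [6,1,0,2,3,2,1,4,6,5,1]), (276, [6,1,0,2,3,2,1,5,6,1,0]), (277, [6,1,0,2,3,2,1,5,6,1,2]),
   (278, [6,1,0,2,3,2,1,6,5,1,2]), (279, [6,1,0,2,3,2,1,6,5,1,6]), (280, [6,1,0,2,3,2,4,3,2,1,0]), (281, [6,1,0,2,3,2,4,3,2,1,5]),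
   (282, [6,1,0,2,3,2,4,3,2,1,6]), (283, [6,1,2,3,2,1,0,4,3,2,1]), (284, [6,1,2,3,2,1,0,4,3,2,3]), (285, [6,1,2,3,2,1,0,4,3,2,5]),
   (286, [6,1,2,3,2,1,0,4,3,2,6]), (287, [6,1,2,3,2,1,0,4,3,5,1]), (288, [6,1,2,3,2,1,0,4,5,1,0]), (289, [6,1,2,3,2,1,0,4,5,1,2]),
   (290, [6,1,2,3,2,1,0,4,5,1,6]), (291, [6,1,2,3,2,1,0,5,1,0,1]), (292, [6,1,2,3,2,1,0,5,1,0,2]), (293, [6,1,2,3,2,1,0,5,1,2,3]),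
   (294, [6,1,2,3,2,1,0,5,1,2,6]), (295, [6,1,2,3,2,1,4,3,2,1,0]), (296, [6,1,2,3,2,1,4,3,2,1,3]), (297, [6,1,2,3,2,1,4,3,2,1,5]),
   (298, [6,1,2,3,2,1,4,3,2,1,6]), (299, [6,1,2,3,2,1,4,3,2,3,4]), (300, [6,1,2,3,2,1,4,3,2,3,5]), (301, [6,1,2,3,2,1,4,3,2,3,6]),
   (302, [6,1,2,3,2,1,4,3,2,5,1]), (303, [6,1,2,3,2,1,4,3,2,5,6]), (304, [6,1,2,3,2,1,4,3,2,6,1]), (305, [6,1,2,3,2,1,4,3,2,6,5]),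
   (306, [6,1,2,3,2,1,4,3,5,1,2]), (307, [6,1,2,3,2,1,4,3,5,6,1]), (308, [6,1,2,3,2,1,4,3,6,5,1]), (309, [6,1,2,3,2,1,4,5,6,1,0]),
   (310, [6,1,2,3,2,1,4,5,6,1,2]), (311, [6,1,2,3,2,1,4,5,6,1,5]), (312, [6,1,2,3,2,1,4,6,5,1,2]), (313, [6,1,2,3,2,1,4,6,5,1,6]),
   (314, [6,1,2,3,2,1,5,6,1,0,2]), (315, [6,1,2,3,2,1,5,6,1,2,3]), (316, [6,1,2,3,2,1,5,6,1,2,5]), (317, [6,1,2,3,2,1,6,5,1,2,3]),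
   (318, [6,1,2,3,2,1,6,5,1,2,6]), (319, [6,1,2,3,2,4,3,2,1,0,1]), (320, [6,1,2,3,2,4,3,2,1,0,5]), (321, [6,1,2,3,2,4,3,2,1,0,6]),
   (322, [6,1,2,3,2,4,3,2,1,5,1]), (323, [6,1,2,3,2,4,3,2,1,5,6]), (324, [6,1,2,3,2,4,3,2,1,6,5]), (325, [6,1,2,3,2,4,3,2,5,1,0]),
   (326, [6,1,2,3,2,4,3,2,5,1,2]), (327, [6,1,2,3,2,4,3,2,5,1,6]), (328, [6,1,0,1,2,1,3,2,1,4,3,2]), (329, [6,1,0,1,2,1,3,2,1,4,3,5]),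
   (330, [6,1,0,1,2,1,3,2,1,4,5,1]), (331, [6,1,0,1,2,1,3,2,4,3,2,1]), (332, [6,1,0,1,2,1,3,2,4,3,2,5]), (333, [6,1,0,1,2,1,3,2,4,3,5,1]),
   (334, [6,1,0,1,2,1,3,2,4,5,1,0]), (335, [6,1,0,1,2,1,3,2,4,5,1,6]), (336, [6,1,0,1,2,3,2,1,4,3,2,1]), (337, [6,1,0,1,2,3,2,1,4,3,2,3]),
   (338, [6,1,0,1,2,3,2,1,4,3,2,5]), (339, [6,1,0,1,2,3,2,1,4,3,5,6]), (340, [6,1,0,1,2,3,2,1,4,5,6,1]), (341, [6,1,0,1,2,3,2,4,3,2,1,0]),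
   (342, [6,1,0,1,2,3,2,4,3,2,1,5]), (343, [6,1,0,1,2,3,2,4,3,2,1,6]), (344, [6,1,0,2,1,3,2,1,0,1,4,3]), (345, [6,1,0,2,1,3,2,1,0,1,4,5]),
   (346, [6,1,0,2,1,3,2,1,0,1,4,6]), (347, [6,1,0,2,1,3,2,1,0,1,6,1]), (348, [6,1,0,2,1,3,2,1,0,4,3,2]), (349, [6,1,0,2,1,3,2,1,0,4,3,5]),
   (350, [6,1,0,2,1,3,2,1,0,4,3,6]), (351, [6,1,0,2,1,3,2,1,0,4,5,1]), (352, [6,1,0,2,1,3,2,1,0,4,6,1]), (353, [6,1,0,2,1,3,2,1,3,4,3,2]),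
   (354, [6,1,0,2,1,3,2,1,3,4,3,5]), (355, [6,1,0,2,1,3,2,1,3,4,3,6]), (356, [6,1,0,2,1,3,2,1,3,4,5,1]), (357, [6,1,0,2,1,3,2,1,3,4,5,6]),
   (358, [6,1,0,2,1,3,2,1,3,4,6,5]), (359, [6,1,0,2,1,3,2,1,4,3,2,1])]

def chainUIdx0_4 : List (ℕ × List ℕ) :=
  [(360, [6,1,0,2,1,3,2,1,4,3,2,3]), (361, [6,1,0,2,1,3,2,1,4,3,2,5]), (362, [6,1,0,2,1,3,2,1,4,3,2,6]), (363, [6,1,0,2,1,3,2,1,4,3,5,1]),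
   (364, [6,1,0,2,1,3,2,1,4,3,5,6]), (365, [6,1,0,2,1,3,2,1,4,3,6,5]), (366, [6,1,0,2,1,3,2,1,4,5,1,0]), (367, [6,1,0,2,1,3,2,3,2,4,3,2]),
   (368, [6,1,0,2,1,3,2,3,4,3,2,1]), (369, [6,1,0,2,1,3,2,3,4,3,2,3]), (370, [6,1,0,2,1,3,2,3,4,3,2,5]), (371, [6,1,0,2,1,3,2,3,4,3,5,1]),
   (372, [6,1,0,2,1,3,2,3,4,5,1,2]), (373, [6,1,0,2,1,3,2,4,3,2,1,0]), (374, [6,1,0,2,1,3,2,4,3,2,1,5]), (375, [6,1,0,2,1,3,2,4,3,2,1,6]),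
   (376, [6,1,0,2,1,3,2,4,3,2,5,1]), (377, [6,1,0,2,1,3,2,4,3,2,6,1]), (378, [6,1,0,2,1,3,2,4,3,2,6,5]), (379, [6,1,0,2,1,3,2,4,3,5,1,0]),
   (380, [6,1,0,2,1,3,2,4,3,5,1,2]), (381, [6,1,0,2,1,3,2,4,3,5,1,6]), (382, [6,1,0,2,1,3,2,4,3,6,5,1]), (383, [6,1,0,2,1,3,2,4,5,1,0,1]),
   (384, [6,1,0,2,1,3,2,4,5,1,6,5]), (385, [6,1,0,2,1,3,2,4,6,5,1,0]), (386, [6,1,0,2,1,3,2,4,6,5,1,2]), (387, [6,1,0,2,1,3,2,6,5,1,0,2]),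
   (388, [6,1,0,2,1,3,2,6,5,1,2,3]), (389, [6,1,0,2,3,2,1,0,4,3,2,1]), (390, [6,1,0,2,3,2,1,0,4,3,2,3]), (391, [6,1,0,2,3,2,1,0,4,3,2,5]),
   (392, [6,1,0,2,3,2,1,0,4,3,2,6]), (393, [6,1,0,2,3,2,1,0,4,3,5,1]), (394, [6,1,0,2,3,2,1,0,4,5,1,0]), (395, [6,1,0,2,3,2,1,0,4,5,1,2]),
   (396, [6,1,0,2,3,2,1,0,4,5,1,6]), (397, [6,1,0,2,3,2,1,4,3,2,1,0]), (398, [6,1,0,2,3,2,1,4,3,2,1,3]), (399, [6,1,0,2,3,2,1,4,3,2,1,5]),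
   (400, [6,1,0,2,3,2,1,4,3,2,1,6]), (401, [6,1,0,2,3,2,1,4,3,2,3,2]), (402, [6,1,0,2,3,2,1,4,3,2,3,4]), (403, [6,1,0,2,3,2,1,4,3,2,3,5]),
   (404, [6,1,0,2,3,2,1,4,3,2,3,6]), (405, [6,1,0,2,3,2,1,4,3,2,5,1]), (406, [6,1,0,2,3,2,1,4,3,2,5,6]), (407, [6,1,0,2,3,2,1,4,3,2,6,1]),
   (408, [6,1,0,2,3,2,1,4,3,2,6,5]), (409, [6,1,0,2,3,2,1,4,3,5,6,1]), (410, [6,1,0,2,3,2,1,4,3,6,5,1]), (411, [6,1,0,2,3,2,1,4,5,6,1,0]),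
   (412, [6,1,0,2,3,2,1,4,5,6,1,2]), (413, [6,1,0,2,3,2,1,4,6,5,1,2]), (414, [6,1,0,2,3,2,1,4,6,5,1,6]), (415, [6,1,0,2,3,2,1,6,5,1,2,3]),
   (416, [6,1,0,2,3,2,1,6,5,1,2,6]), (417, [6,1,0,2,3,2,4,3,2,1,0,1]), (418, [6,1,0,2,3,2,4,3,2,1,0,5]), (419, [6,1,0,2,3,2,4,3,2,1,0,6]),
   (420, [6,1,0,2,3,2,4,3,2,1,5,6]), (421, [6,1,0,2,3,2,4,3,2,1,6,5]), (422, [6,1,2,3,2,1,0,4,3,2,1,0]), (423, [6,1,2,3,2,1,0,4,3,2,1,3]),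
   (424, [6,1,2,3,2,1,0,4,3,2,1,5]), (425, [6,1,2,3,2,1,0,4,3,2,1,6]), (426, [6,1,2,3,2,1,0,4,3,2,3,4]), (427, [6,1,2,3,2,1,0,4,3,2,3,5]),
   (428, [6,1,2,3,2,1,0,4,3,2,3,6]), (429, [6,1,2,3,2,1,0,4,3,2,5,1]), (430, [6,1,2,3,2,1,0,4,3,2,6,1]), (431, [6,1,2,3,2,1,0,4,3,5,1,0]),
   (432, [6,1,2,3,2,1,0,4,3,5,1,2]), (433, [6,1,2,3,2,1,0,4,3,5,1,6]), (434, [6,1,2,3,2,1,0,4,5,1,0,1]), (435, [6,1,2,3,2,1,0,4,5,1,0,2]),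
   (436, [6,1,2,3,2,1,0,4,5,1,2,6]), (437, [6,1,2,3,2,1,0,5,1,0,2,3]), (438, [6,1,2,3,2,1,0,5,1,2,3,6]), (439, [6,1,2,3,2,1,0,5,1,2,6,1]),
   (440, [6,1,2,3,2,1,4,3,2,1,0,1]), (441, [6,1,2,3,2,1,4,3,2,1,0,3]), (442, [6,1,2,3,2,1,4,3,2,1,0,5]), (443, [6,1,2,3,2,1,4,3,2,1,0,6]),
   (444, [6,1,2,3,2,1,4,3,2,1,3,2]), (445, [6,1,2,3,2,1,4,3,2,1,3,4]), (446, [6,1,2,3,2,1,4,3,2,1,3,5]), (447, [6,1,2,3,2,1,4,3,2,1,3,6]),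
   (448, [6,1,2,3,2,1,4,3,2,1,5,1]), (449, [6,1,2,3,2,1,4,3,2,1,5,6])]

def chainUIdx0_5 : List (ℕ × List ℕ) :=
  [(450, [6,1,2,3,2,1,4,3,2,1,6,1]), (451, [6,1,2,3,2,1,4,3,2,1,6,5]), (452, [6,1,2,3,2,1,4,3,2,3,4,5]), (453, [6,1,2,3,2,1,4,3,2,3,4,6]),
   (454, [6,1,2,3,2,1,4,3,2,3,5,1]), (455, [6,1,2,3,2,1,4,3,2,3,5,6]), (456, [6,1,2,3,2,1,4,3,2,3,6,1]), (457, [6,1,2,3,2,1,4,3,2,3,6,5]),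
   (458, [6,1,2,3,2,1,4,3,2,5,1,0]), (459, [6,1,2,3,2,1,4,3,2,5,1,2]), (460, [6,1,2,3,2,1,4,3,2,5,1,6]), (461, [6,1,2,3,2,1,4,3,2,5,6,1]),
   (462, [6,1,2,3,2,1,4,3,5,6,1,0]), (463, [6,1,2,3,2,1,4,3,5,6,1,2]), (464, [6,1,2,3,2,1,4,3,5,6,1,5]), (465, [6,1,2,3,2,1,4,3,6,5,1,2]),
   (466, [6,1,2,3,2,1,4,3,6,5,1,6]), (467, [6,1,2,3,2,1,4,5,6,1,0,2]), (468, [6,1,2,3,2,1,4,5,6,1,2,5]), (469, [6,1,2,3,2,1,4,6,5,1,2,6]),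
   (470, [6,1,2,3,2,1,5,6,1,0,2,3]), (471, [6,1,2,3,2,1,5,6,1,2,3,5]), (472, [6,1,2,3,2,1,6,5,1,2,3,2]), (473, [6,1,2,3,2,1,6,5,1,2,3,6]),
   (474, [6,1,2,3,2,1,6,5,1,2,6,1]), (475, [6,1,2,3,2,4,3,2,1,0,1,2]), (476, [6,1,2,3,2,4,3,2,1,0,1,5]), (477, [6,1,2,3,2,4,3,2,1,0,5,1]),
   (478, [6,1,2,3,2,4,3,2,1,0,6,1]), (479, [6,1,2,3,2,4,3,2,1,5,1,0]), (480, [6,1,2,3,2,4,3,2,1,5,1,2]), (481, [6,1,2,3,2,4,3,2,1,5,6,1]),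
   (482, [6,1,2,3,2,4,3,2,5,1,0,1]), (483, [6,1,2,3,2,4,3,2,5,1,0,2]), (484, [6,1,2,3,2,4,3,2,5,1,2,6]), (485, [6,1,2,3,2,4,3,2,5,1,6,5]),
   (486, [6,1,0,1,2,1,3,2,1,4,3,2,1]), (487, [6,1,0,1,2,1,3,2,1,4,3,2,3]), (488, [6,1,0,1,2,1,3,2,1,4,3,2,5]), (489, [6,1,0,1,2,1,3,2,1,4,3,5,1]),
   (490, [6,1,0,1,2,1,3,2,4,3,2,1,0]), (491, [6,1,0,1,2,1,3,2,4,3,2,1,5]), (492, [6,1,0,1,2,1,3,2,4,3,2,1,6]), (493, [6,1,0,1,2,1,3,2,4,3,2,5,1]),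
   (494, [6,1,0,1,2,1,3,2,4,3,5,1,0]), (495, [6,1,0,1,2,1,3,2,4,3,5,1,2]), (496, [6,1,0,1,2,1,3,2,4,3,5,1,6]), (497, [6,1,0,1,2,3,2,1,4,3,2,1,0]),
   (498, [6,1,0,1,2,3,2,1,4,3,2,1,3]), (499, [6,1,0,1,2,3,2,1,4,3,2,1,5]), (500, [6,1,0,1,2,3,2,1,4,3,2,1,6]), (501, [6,1,0,1,2,3,2,1,4,3,2,3,2]),
   (502, [6,1,0,1,2,3,2,1,4,3,2,3,5]), (503, [6,1,0,1,2,3,2,1,4,3,2,5,1]), (504, [6,1,0,1,2,3,2,1,4,3,2,5,6]), (505, [6,1,0,1,2,3,2,1,4,3,5,6,1]),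
   (506, [6,1,0,1,2,3,2,4,3,2,1,0,1]), (507, [6,1,0,1,2,3,2,4,3,2,1,0,5]), (508, [6,1,0,1,2,3,2,4,3,2,1,5,6]), (509, [6,1,0,1,2,3,2,4,3,2,1,6,5]),
   (510, [6,1,0,2,1,3,2,1,0,1,4,3,2]), (511, [6,1,0,2,1,3,2,1,0,1,4,3,5]), (512, [6,1,0,2,1,3,2,1,0,1,4,3,6]), (513, [6,1,0,2,1,3,2,1,0,1,4,6,1]),
   (514, [6,1,0,2,1,3,2,1,0,4,3,2,1]), (515, [6,1,0,2,1,3,2,1,0,4,3,2,5]), (516, [6,1,0,2,1,3,2,1,0,4,3,2,6]), (517, [6,1,0,2,1,3,2,1,0,4,3,5,1]),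
   (518, [6,1,0,2,1,3,2,1,0,4,3,6,1]), (519, [6,1,0,2,1,3,2,1,3,4,3,2,1]), (520, [6,1,0,2,1,3,2,1,3,4,3,2,3]), (521, [6,1,0,2,1,3,2,1,3,4,3,2,5]),
   (522, [6,1,0,2,1,3,2,1,3,4,3,2,6]), (523, [6,1,0,2,1,3,2,1,3,4,3,5,1]), (524, [6,1,0,2,1,3,2,1,3,4,3,5,6]), (525, [6,1,0,2,1,3,2,1,3,4,3,6,5]),
   (526, [6,1,0,2,1,3,2,1,4,3,2,1,0]), (527, [6,1,0,2,1,3,2,1,4,3,2,1,3]), (528, [6,1,0,2,1,3,2,1,4,3,2,1,5]), (529, [6,1,0,2,1,3,2,1,4,3,2,1,6]),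
   (530, [6,1,0,2,1,3,2,1,4,3,2,3,4]), (531, [6,1,0,2,1,3,2,1,4,3,2,3,5]), (532, [6,1,0,2,1,3,2,1,4,3,2,3,6]), (533, [6,1,0,2,1,3,2,1,4,3,2,5,1]),
   (534, [6,1,0,2,1,3,2,1,4,3,2,5,6]), (535, [6,1,0,2,1,3,2,1,4,3,2,6,1]), (536, [6,1,0,2,1,3,2,1,4,3,2,6,5]), (537, [6,1,0,2,1,3,2,1,4,3,5,1,0]),
   (538, [6,1,0,2,1,3,2,1,4,3,5,1,2]), (539, [6,1,0,2,1,3,2,3,2,4,3,2,1])]

def chainUIdx0_6 : List (ℕ × List ℕ) :=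
  [(540, [6,1,0,2,1,3,2,3,4,3,2,1,0]), (541, [6,1,0,2,1,3,2,3,4,3,2,1,3]), (542, [6,1,0,2,1,3,2,3,4,3,2,1,5]), (543, [6,1,0,2,1,3,2,3,4,3,2,1,6]),
   (544, [6,1,0,2,1,3,2,3,4,3,2,3,5]), (545, [6,1,0,2,1,3,2,3,4,3,2,5,1]), (546, [6,1,0,2,1,3,2,3,4,3,5,1,2]), (547, [6,1,0,2,1,3,2,3,4,5,1,2,3]),
   (548, [6,1,0,2,1,3,2,4,3,2,1,0,1]), (549, [6,1,0,2,1,3,2,4,3,2,1,0,5]), (550, [6,1,0,2,1,3,2,4,3,2,1,0,6]), (551, [6,1,0,2,1,3,2,4,3,2,1,5,1]),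
   (552, [6,1,0,2,1,3,2,4,3,2,1,5,6]), (553, [6,1,0,2,1,3,2,4,3,2,1,6,1]), (554, [6,1,0,2,1,3,2,4,3,2,1,6,5]), (555, [6,1,0,2,1,3,2,4,3,2,5,1,0]),
   (556, [6,1,0,2,1,3,2,4,3,2,5,1,2]), (557, [6,1,0,2,1,3,2,4,3,2,5,1,6]), (558, [6,1,0,2,1,3,2,4,3,2,6,1,0]), (559, [6,1,0,2,1,3,2,4,3,2,6,1,5]),
   (560, [6,1,0,2,1,3,2,4,3,2,6,5,1]), (561, [6,1,0,2,1,3,2,4,3,5,1,0,1]), (562, [6,1,0,2,1,3,2,4,3,5,1,0,2]), (563, [6,1,0,2,1,3,2,4,3,5,1,2,3]),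
   (564, [6,1,0,2,1,3,2,4,3,5,1,2,6]), (565, [6,1,0,2,1,3,2,4,3,5,1,6,5]), (566, [6,1,0,2,1,3,2,4,3,6,5,1,0]), (567, [6,1,0,2,1,3,2,4,3,6,5,1,2]),
   (568, [6,1,0,2,1,3,2,4,6,5,1,0,2]), (569, [6,1,0,2,1,3,2,6,5,1,0,2,3]), (570, [6,1,0,2,3,2,1,0,4,3,2,1,0]), (571, [6,1,0,2,3,2,1,0,4,3,2,1,3]),
   (572, [6,1,0,2,3,2,1,0,4,3,2,1,5]), (573, [6,1,0,2,3,2,1,0,4,3,2,1,6]), (574, [6,1,0,2,3,2,1,0,4,3,2,3,4]), (575, [6,1,0,2,3,2,1,0,4,3,2,3,5]),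
   (576, [6,1,0,2,3,2,1,0,4,3,2,3,6]), (577, [6,1,0,2,3,2,1,0,4,3,2,5,1]), (578, [6,1,0,2,3,2,1,0,4,3,2,6,1]), (579, [6,1,0,2,3,2,1,0,4,3,5,1,0]),
   (580, [6,1,0,2,3,2,1,0,4,3,5,1,2]), (581, [6,1,0,2,3,2,1,0,4,3,5,1,6]), (582, [6,1,0,2,3,2,1,0,4,5,1,2,3]), (583, [6,1,0,2,3,2,1,4,3,2,1,0,1]),
   (584, [6,1,0,2,3,2,1,4,3,2,1,0,3]), (585, [6,1,0,2,3,2,1,4,3,2,1,0,5]), (586, [6,1,0,2,3,2,1,4,3,2,1,0,6]), (587, [6,1,0,2,3,2,1,4,3,2,1,3,2]),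
   (588, [6,1,0,2,3,2,1,4,3,2,1,3,4]), (589, [6,1,0,2,3,2,1,4,3,2,1,3,5]), (590, [6,1,0,2,3,2,1,4,3,2,1,3,6]), (591, [6,1,0,2,3,2,1,4,3,2,1,5,1]),
   (592, [6,1,0,2,3,2,1,4,3,2,1,5,6]), (593, [6,1,0,2,3,2,1,4,3,2,1,6,1]), (594, [6,1,0,2,3,2,1,4,3,2,1,6,5]), (595, [6,1,0,2,3,2,1,4,3,2,3,2,1]),
   (596, [6,1,0,2,3,2,1,4,3,2,3,2,4]), (597, [6,1,0,2,3,2,1,4,3,2,3,2,5]), (598, [6,1,0,2,3,2,1,4,3,2,3,2,6]), (599, [6,1,0,2,3,2,1,4,3,2,3,4,5]),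
   (600, [6,1,0,2,3,2,1,4,3,2,3,4,6]), (601, [6,1,0,2,3,2,1,4,3,2,3,5,1]), (602, [6,1,0,2,3,2,1,4,3,2,3,5,6]), (603, [6,1,0,2,3,2,1,4,3,2,3,6,1]),
   (604, [6,1,0,2,3,2,1,4,3,2,3,6,5]), (605, [6,1,0,2,3,2,1,4,3,2,5,1,0]), (606, [6,1,0,2,3,2,1,4,3,2,5,1,6]), (607, [6,1,0,2,3,2,1,4,3,2,5,6,1]),
   (608, [6,1,0,2,3,2,1,4,3,5,6,1,0]), (609, [6,1,0,2,3,2,1,4,3,5,6,1,2]), (610, [6,1,0,2,3,2,1,4,3,5,6,1,5]), (611, [6,1,0,2,3,2,1,4,3,6,5,1,2]),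
   (612, [6,1,0,2,3,2,1,4,3,6,5,1,6]), (613, [6,1,0,2,3,2,1,4,6,5,1,2,6]), (614, [6,1,0,2,3,2,1,6,5,1,2,3,2]), (615, [6,1,0,2,3,2,1,6,5,1,2,3,6]),
   (616, [6,1,0,2,3,2,4,3,2,1,0,1,2]), (617, [6,1,0,2,3,2,4,3,2,1,0,5,1]), (618, [6,1,0,2,3,2,4,3,2,1,0,6,1]), (619, [6,1,0,2,3,2,4,3,2,1,5,6,1]),
   (620, [6,1,2,3,2,1,0,4,3,2,1,0,1]), (621, [6,1,2,3,2,1,0,4,3,2,1,0,3]), (622, [6,1,2,3,2,1,0,4,3,2,1,0,5]), (623, [6,1,2,3,2,1,0,4,3,2,1,0,6]),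
   (624, [6,1,2,3,2,1,0,4,3,2,1,3,2]), (625, [6,1,2,3,2,1,0,4,3,2,1,3,4]), (626, [6,1,2,3,2,1,0,4,3,2,1,3,5]), (627, [6,1,2,3,2,1,0,4,3,2,1,5,1]),
   (628, [6,1,2,3,2,1,0,4,3,2,1,5,6]), (629, [6,1,2,3,2,1,0,4,3,2,1,6,1])]

def chainUIdx0_7 : List (ℕ × List ℕ) :=
  [(630, [6,1,2,3,2,1,0,4,3,2,1,6,5]), (631, [6,1,2,3,2,1,0,4,3,2,3,4,5]), (632, [6,1,2,3,2,1,0,4,3,2,3,4,6]), (633, [6,1,2,3,2,1,0,4,3,2,3,5,1]),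
   (634, [6,1,2,3,2,1,0,4,3,2,3,6,1]), (635, [6,1,2,3,2,1,0,4,3,2,5,1,0]), (636, [6,1,2,3,2,1,0,4,3,2,5,1,2]), (637, [6,1,2,3,2,1,0,4,3,2,5,1,6]),
   (638, [6,1,2,3,2,1,0,4,3,2,6,1,0]), (639, [6,1,2,3,2,1,0,4,3,2,6,1,5]), (640, [6,1,2,3,2,1,0,4,3,5,1,0,1]), (641, [6,1,2,3,2,1,0,4,3,5,1,0,2]),
   (642, [6,1,2,3,2,1,0,4,3,5,1,2,6]), (643, [6,1,2,3,2,1,0,4,5,1,2,6,1]), (644, [6,1,2,3,2,1,0,5,1,2,3,6,1]), (645, [6,1,2,3,2,1,4,3,2,1,0,1,0]),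
   (646, [6,1,2,3,2,1,4,3,2,1,0,1,2]), (647, [6,1,2,3,2,1,4,3,2,1,0,1,3]), (648, [6,1,2,3,2,1,4,3,2,1,0,1,5]), (649, [6,1,2,3,2,1,4,3,2,1,0,1,6]),
   (650, [6,1,2,3,2,1,4,3,2,1,0,3,2]), (651, [6,1,2,3,2,1,4,3,2,1,0,3,4]), (652, [6,1,2,3,2,1,4,3,2,1,0,3,5]), (653, [6,1,2,3,2,1,4,3,2,1,0,3,6]),
   (654, [6,1,2,3,2,1,4,3,2,1,0,6,1]), (655, [6,1,2,3,2,1,4,3,2,1,3,2,4]), (656, [6,1,2,3,2,1,4,3,2,1,3,2,5]), (657, [6,1,2,3,2,1,4,3,2,1,3,4,5]),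
   (658, [6,1,2,3,2,1,4,3,2,1,3,4,6]), (659, [6,1,2,3,2,1,4,3,2,1,3,5,1]), (660, [6,1,2,3,2,1,4,3,2,1,3,5,6]), (661, [6,1,2,3,2,1,4,3,2,1,3,6,1]),
   (662, [6,1,2,3,2,1,4,3,2,1,3,6,5]), (663, [6,1,2,3,2,1,4,3,2,1,5,1,0]), (664, [6,1,2,3,2,1,4,3,2,1,5,1,2]), (665, [6,1,2,3,2,1,4,3,2,1,5,1,6]),
   (666, [6,1,2,3,2,1,4,3,2,1,5,6,1]), (667, [6,1,2,3,2,1,4,3,2,3,4,5,1]), (668, [6,1,2,3,2,1,4,3,2,3,4,5,6]), (669, [6,1,2,3,2,1,4,3,2,3,4,6,1]),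
   (670, [6,1,2,3,2,1,4,3,2,3,4,6,5]), (671, [6,1,2,3,2,1,4,3,2,3,5,1,0]), (672, [6,1,2,3,2,1,4,3,2,3,5,1,2]), (673, [6,1,2,3,2,1,4,3,2,3,5,1,6]),
   (674, [6,1,2,3,2,1,4,3,2,3,5,6,1]), (675, [6,1,2,3,2,1,4,3,2,5,1,0,1]), (676, [6,1,2,3,2,1,4,3,2,5,1,0,2]), (677, [6,1,2,3,2,1,4,3,2,5,1,0,6]),
   (678, [6,1,2,3,2,1,4,3,2,5,1,2,6]), (679, [6,1,2,3,2,1,4,3,2,5,1,6,1]), (680, [6,1,2,3,2,1,4,3,2,5,1,6,5]), (681, [6,1,2,3,2,1,4,3,2,5,6,1,0]),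
   (682, [6,1,2,3,2,1,4,3,2,5,6,1,2]), (683, [6,1,2,3,2,1,4,3,2,5,6,1,5]), (684, [6,1,2,3,2,1,4,3,5,6,1,0,2]), (685, [6,1,2,3,2,1,4,3,5,6,1,2,5]),
   (686, [6,1,2,3,2,1,4,3,6,5,1,2,6]), (687, [6,1,2,3,2,1,4,6,5,1,2,6,1]), (688, [6,1,2,3,2,1,6,5,1,2,3,2,1]), (689, [6,1,2,3,2,1,6,5,1,2,3,2,6]),
   (690, [6,1,2,3,2,1,6,5,1,2,3,6,1]), (691, [6,1,2,3,2,4,3,2,1,0,1,2,5]), (692, [6,1,2,3,2,4,3,2,1,0,1,5,1]), (693, [6,1,2,3,2,4,3,2,1,0,5,1,0]),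
   (694, [6,1,2,3,2,4,3,2,1,0,5,1,2]), (695, [6,1,2,3,2,4,3,2,1,0,5,1,6]), (696, [6,1,2,3,2,4,3,2,1,0,6,1,0]), (697, [6,1,2,3,2,4,3,2,1,0,6,1,2]),
   (698, [6,1,2,3,2,4,3,2,1,0,6,1,5]), (699, [6,1,2,3,2,4,3,2,1,5,1,0,1]), (700, [6,1,2,3,2,4,3,2,1,5,1,0,2]), (701, [6,1,2,3,2,4,3,2,1,5,6,1,0]),
   (702, [6,1,2,3,2,4,3,2,1,5,6,1,2]), (703, [6,1,2,3,2,4,3,2,1,5,6,1,5]), (704, [6,1,2,3,2,4,3,2,5,1,0,1,0]), (705, [6,1,2,3,2,4,3,2,5,1,0,1,2]),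
   (706, [6,1,2,3,2,4,3,2,5,1,0,1,5]), (707, [6,1,2,3,2,4,3,2,5,1,0,2,1]), (708, [6,1,2,3,2,4,3,2,5,1,2,6,5]), (709, [6,1,2,3,2,4,3,2,5,1,6,5,1]),
   (710, [6,1,0,1,2,1,3,2,1,4,3,2,1,3]), (711, [6,1,0,1,2,1,3,2,1,4,3,2,1,5]), (712, [6,1,0,1,2,1,3,2,1,4,3,2,3,5]), (713, [6,1,0,1,2,1,3,2,1,4,3,2,5,1]),
   (714, [6,1,0,1,2,1,3,2,1,4,3,5,1,2]), (715, [6,1,0,1,2,1,3,2,4,3,2,1,0,5]), (716, [6,1,0,1,2,1,3,2,4,3,2,1,5,1]), (717, [6,1,0,1,2,1,3,2,4,3,2,1,6,5]),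
   (718, [6,1,0,1,2,1,3,2,4,3,2,5,1,0]), (719, [6,1,0,1,2,1,3,2,4,3,2,5,1,2])]

def chainUIdx0_8 : List (ℕ × List ℕ) :=
  [(720, [6,1,0,1,2,1,3,2,4,3,2,5,1,6]), (721, [6,1,0,1,2,1,3,2,4,3,5,1,0,2]), (722, [6,1,0,1,2,1,3,2,4,3,5,1,2,3]), (723, [6,1,0,1,2,1,3,2,4,3,5,1,2,6]),
   (724, [6,1,0,1,2,3,2,1,4,3,2,1,0,1]), (725, [6,1,0,1,2,3,2,1,4,3,2,1,0,3]), (726, [6,1,0,1,2,3,2,1,4,3,2,1,0,5]), (727, [6,1,0,1,2,3,2,1,4,3,2,1,3,2]),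
   (728, [6,1,0,1,2,3,2,1,4,3,2,1,3,5]), (729, [6,1,0,1,2,3,2,1,4,3,2,1,3,6]), (730, [6,1,0,1,2,3,2,1,4,3,2,1,5,1]), (731, [6,1,0,1,2,3,2,1,4,3,2,1,5,6]),
   (732, [6,1,0,1,2,3,2,1,4,3,2,1,6,5]), (733, [6,1,0,1,2,3,2,1,4,3,2,3,2,1]), (734, [6,1,0,1,2,3,2,1,4,3,2,3,2,5]), (735, [6,1,0,1,2,3,2,1,4,3,2,3,5,1]),
   (736, [6,1,0,1,2,3,2,1,4,3,2,5,1,0]), (737, [6,1,0,1,2,3,2,1,4,3,2,5,1,6]), (738, [6,1,0,1,2,3,2,1,4,3,2,5,6,1]), (739, [6,1,0,1,2,3,2,1,4,3,5,6,1,2]),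
   (740, [6,1,0,1,2,3,2,4,3,2,1,0,1,0]), (741, [6,1,0,1,2,3,2,4,3,2,1,0,1,2]), (742, [6,1,0,1,2,3,2,4,3,2,1,0,1,5]), (743, [6,1,0,1,2,3,2,4,3,2,1,0,5,1]),
   (744, [6,1,0,1,2,3,2,4,3,2,1,5,6,1]), (745, [6,1,0,1,2,3,2,4,3,2,1,6,5,1]), (746, [6,1,0,2,1,3,2,1,0,1,4,3,2,1]), (747, [6,1,0,2,1,3,2,1,0,1,4,3,2,3]),
   (748, [6,1,0,2,1,3,2,1,0,1,4,3,2,5]), (749, [6,1,0,2,1,3,2,1,0,1,4,3,2,6]), (750, [6,1,0,2,1,3,2,1,0,1,4,3,6,1]), (751, [6,1,0,2,1,3,2,1,0,4,3,2,1,0]),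
   (752, [6,1,0,2,1,3,2,1,0,4,3,2,1,5]), (753, [6,1,0,2,1,3,2,1,0,4,3,2,5,1]), (754, [6,1,0,2,1,3,2,1,0,4,3,5,1,2]), (755, [6,1,0,2,1,3,2,1,3,4,3,2,1,0]),
   (756, [6,1,0,2,1,3,2,1,3,4,3,2,1,3]), (757, [6,1,0,2,1,3,2,1,3,4,3,2,1,5]), (758, [6,1,0,2,1,3,2,1,3,4,3,2,1,6]), (759, [6,1,0,2,1,3,2,1,3,4,3,2,3,4]),
   (760, [6,1,0,2,1,3,2,1,3,4,3,2,3,5]), (761, [6,1,0,2,1,3,2,1,3,4,3,2,3,6]), (762, [6,1,0,2,1,3,2,1,3,4,3,2,5,1]), (763, [6,1,0,2,1,3,2,1,3,4,3,2,5,6]),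
   (764, [6,1,0,2,1,3,2,1,3,4,3,2,6,1]), (765, [6,1,0,2,1,3,2,1,3,4,3,2,6,5]), (766, [6,1,0,2,1,3,2,1,3,4,3,5,1,2]), (767, [6,1,0,2,1,3,2,1,4,3,2,1,0,1]),
   (768, [6,1,0,2,1,3,2,1,4,3,2,1,0,5]), (769, [6,1,0,2,1,3,2,1,4,3,2,1,0,6]), (770, [6,1,0,2,1,3,2,1,4,3,2,1,3,5]), (771, [6,1,0,2,1,3,2,1,4,3,2,1,5,1]),
   (772, [6,1,0,2,1,3,2,1,4,3,2,1,6,5]), (773, [6,1,0,2,1,3,2,1,4,3,2,3,4,5]), (774, [6,1,0,2,1,3,2,1,4,3,2,3,5,1]), (775, [6,1,0,2,1,3,2,1,4,3,2,3,5,6]),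
   (776, [6,1,0,2,1,3,2,1,4,3,2,3,6,5]), (777, [6,1,0,2,1,3,2,1,4,3,2,5,1,0]), (778, [6,1,0,2,1,3,2,1,4,3,2,5,1,2]), (779, [6,1,0,2,1,3,2,1,4,3,2,5,1,6]),
   (780, [6,1,0,2,1,3,2,1,4,3,2,5,6,1]), (781, [6,1,0,2,1,3,2,1,4,3,2,6,1,5]), (782, [6,1,0,2,1,3,2,1,4,3,2,6,5,1]), (783, [6,1,0,2,1,3,2,1,4,3,5,1,0,2]),
   (784, [6,1,0,2,1,3,2,1,4,3,5,1,2,3]), (785, [6,1,0,2,1,3,2,3,2,4,3,2,1,0]), (786, [6,1,0,2,1,3,2,3,2,4,3,2,1,5]), (787, [6,1,0,2,1,3,2,3,2,4,3,2,1,6]),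
   (788, [6,1,0,2,1,3,2,3,4,3,2,1,0,1]), (789, [6,1,0,2,1,3,2,3,4,3,2,1,0,3]), (790, [6,1,0,2,1,3,2,3,4,3,2,1,0,5]), (791, [6,1,0,2,1,3,2,3,4,3,2,1,0,6]),
   (792, [6,1,0,2,1,3,2,3,4,3,2,1,3,2]), (793, [6,1,0,2,1,3,2,3,4,3,2,1,3,5]), (794, [6,1,0,2,1,3,2,3,4,3,2,1,3,6]), (795, [6,1,0,2,1,3,2,3,4,3,2,1,5,1]),
   (796, [6,1,0,2,1,3,2,3,4,3,2,1,5,6]), (797, [6,1,0,2,1,3,2,3,4,3,2,1,6,5]), (798, [6,1,0,2,1,3,2,3,4,3,2,3,5,1]), (799, [6,1,0,2,1,3,2,3,4,3,2,5,1,0]),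
   (800, [6,1,0,2,1,3,2,3,4,3,2,5,1,2]), (801, [6,1,0,2,1,3,2,3,4,3,2,5,1,6]), (802, [6,1,0,2,1,3,2,3,4,3,5,1,2,3]), (803, [6,1,0,2,1,3,2,3,4,5,1,2,3,2]),
   (804, [6,1,0,2,1,3,2,4,3,2,1,0,1,0]), (805, [6,1,0,2,1,3,2,4,3,2,1,0,1,2]), (806, [6,1,0,2,1,3,2,4,3,2,1,0,1,5]), (807, [6,1,0,2,1,3,2,4,3,2,1,0,5,1]),
   (808, [6,1,0,2,1,3,2,4,3,2,1,5,1,0]), (809, [6,1,0,2,1,3,2,4,3,2,1,5,1,2])]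

def chainUIdx0_9 : List (ℕ × List ℕ) :=
  [(810, [6,1,0,2,1,3,2,4,3,2,1,5,1,6]), (811, [6,1,0,2,1,3,2,4,3,2,1,6,1,5]), (812, [6,1,0,2,1,3,2,4,3,2,1,6,5,1]), (813, [6,1,0,2,1,3,2,4,3,2,5,1,0,1]),
   (814, [6,1,0,2,1,3,2,4,3,2,5,1,0,2]), (815, [6,1,0,2,1,3,2,4,3,2,5,1,0,6]), (816, [6,1,0,2,1,3,2,4,3,2,5,1,2,3]), (817, [6,1,0,2,1,3,2,4,3,2,5,1,2,6]),
   (818, [6,1,0,2,1,3,2,4,3,2,5,1,6,5]), (819, [6,1,0,2,1,3,2,4,3,2,6,1,0,5]), (820, [6,1,0,2,1,3,2,4,3,2,6,1,5,1]), (821, [6,1,0,2,1,3,2,4,3,2,6,1,5,6]),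
   (822, [6,1,0,2,1,3,2,4,3,2,6,5,1,0]), (823, [6,1,0,2,1,3,2,4,3,2,6,5,1,2]), (824, [6,1,0,2,1,3,2,4,3,2,6,5,1,6]), (825, [6,1,0,2,1,3,2,4,3,5,1,0,1,2]),
   (826, [6,1,0,2,1,3,2,4,3,5,1,0,2,1]), (827, [6,1,0,2,1,3,2,4,3,5,1,0,2,3]), (828, [6,1,0,2,1,3,2,4,3,5,1,2,3,2]), (829, [6,1,0,2,1,3,2,4,3,5,1,2,3,4]),
   (830, [6,1,0,2,1,3,2,4,3,5,1,2,3,6]), (831, [6,1,0,2,1,3,2,4,3,5,1,2,6,1]), (832, [6,1,0,2,1,3,2,4,3,5,1,2,6,5]), (833, [6,1,0,2,1,3,2,4,3,6,5,1,0,2]),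
   (834, [6,1,0,2,3,2,1,0,4,3,2,1,0,1]), (835, [6,1,0,2,3,2,1,0,4,3,2,1,0,3]), (836, [6,1,0,2,3,2,1,0,4,3,2,1,0,5]), (837, [6,1,0,2,3,2,1,0,4,3,2,1,0,6]),
   (838, [6,1,0,2,3,2,1,0,4,3,2,1,3,2]), (839, [6,1,0,2,3,2,1,0,4,3,2,1,3,4]), (840, [6,1,0,2,3,2,1,0,4,3,2,1,3,5]), (841, [6,1,0,2,3,2,1,0,4,3,2,1,3,6]),
   (842, [6,1,0,2,3,2,1,0,4,3,2,1,5,1]), (843, [6,1,0,2,3,2,1,0,4,3,2,1,5,6]), (844, [6,1,0,2,3,2,1,0,4,3,2,1,6,1]), (845, [6,1,0,2,3,2,1,0,4,3,2,1,6,5]),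
   (846, [6,1,0,2,3,2,1,0,4,3,2,3,4,5]), (847, [6,1,0,2,3,2,1,0,4,3,2,3,4,6]), (848, [6,1,0,2,3,2,1,0,4,3,2,3,5,1]), (849, [6,1,0,2,3,2,1,0,4,3,2,3,6,1]),
   (850, [6,1,0,2,3,2,1,0,4,3,2,5,1,0]), (851, [6,1,0,2,3,2,1,0,4,3,2,5,1,2]), (852, [6,1,0,2,3,2,1,0,4,3,2,5,1,6]), (853, [6,1,0,2,3,2,1,0,4,3,2,6,1,0]),
   (854, [6,1,0,2,3,2,1,0,4,3,2,6,1,5]), (855, [6,1,0,2,3,2,1,0,4,3,5,1,0,2]), (856, [6,1,0,2,3,2,1,0,4,3,5,1,2,3]), (857, [6,1,0,2,3,2,1,0,4,3,5,1,2,6]),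
   (858, [6,1,0,2,3,2,1,0,4,5,1,2,3,2]), (859, [6,1,0,2,3,2,1,4,3,2,1,0,1,0]), (860, [6,1,0,2,3,2,1,4,3,2,1,0,1,2]), (861, [6,1,0,2,3,2,1,4,3,2,1,0,1,5]),
   (862, [6,1,0,2,3,2,1,4,3,2,1,0,3,4]), (863, [6,1,0,2,3,2,1,4,3,2,1,0,3,5]), (864, [6,1,0,2,3,2,1,4,3,2,1,3,2,1]), (865, [6,1,0,2,3,2,1,4,3,2,1,3,2,4]),
   (866, [6,1,0,2,3,2,1,4,3,2,1,3,2,5]), (867, [6,1,0,2,3,2,1,4,3,2,1,3,4,5]), (868, [6,1,0,2,3,2,1,4,3,2,1,3,4,6]), (869, [6,1,0,2,3,2,1,4,3,2,1,3,5,1]),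
   (870, [6,1,0,2,3,2,1,4,3,2,1,3,6,1]), (871, [6,1,0,2,3,2,1,4,3,2,1,3,6,5]), (872, [6,1,0,2,3,2,1,4,3,2,1,5,1,0]), (873, [6,1,0,2,3,2,1,4,3,2,1,5,1,6]),
   (874, [6,1,0,2,3,2,1,4,3,2,1,5,6,1]), (875, [6,1,0,2,3,2,1,4,3,2,3,2,1,0]), (876, [6,1,0,2,3,2,1,4,3,2,3,2,1,4]), (877, [6,1,0,2,3,2,1,4,3,2,3,2,1,5]),
   (878, [6,1,0,2,3,2,1,4,3,2,3,2,4,3]), (879, [6,1,0,2,3,2,1,4,3,2,3,2,4,5]), (880, [6,1,0,2,3,2,1,4,3,2,3,2,4,6]), (881, [6,1,0,2,3,2,1,4,3,2,3,2,5,1]),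
   (882, [6,1,0,2,3,2,1,4,3,2,3,4,5,1]), (883, [6,1,0,2,3,2,1,4,3,2,3,4,5,6]), (884, [6,1,0,2,3,2,1,4,3,2,3,4,6,1]), (885, [6,1,0,2,3,2,1,4,3,2,3,4,6,5]),
   (886, [6,1,0,2,3,2,1,4,3,2,3,5,1,0]), (887, [6,1,0,2,3,2,1,4,3,2,3,5,1,2]), (888, [6,1,0,2,3,2,1,4,3,2,3,5,1,6]), (889, [6,1,0,2,3,2,1,4,3,2,3,5,6,1]),
   (890, [6,1,0,2,3,2,1,4,3,2,5,1,0,1]), (891, [6,1,0,2,3,2,1,4,3,2,5,1,0,6]), (892, [6,1,0,2,3,2,1,4,3,2,5,1,6,1]), (893, [6,1,0,2,3,2,1,4,3,2,5,1,6,5]),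
   (894, [6,1,0,2,3,2,1,4,3,2,5,6,1,0]), (895, [6,1,0,2,3,2,1,4,3,2,5,6,1,2]), (896, [6,1,0,2,3,2,1,4,3,2,5,6,1,5]), (897, [6,1,0,2,3,2,1,4,3,5,6,1,0,2]),
   (898, [6,1,0,2,3,2,1,4,3,5,6,1,2,3]), (899, [6,1,0,2,3,2,1,4,3,5,6,1,2,5])]

def chainUIdx0_10 : List (ℕ × List ℕ) :=
  [(900, [6,1,0,2,3,2,1,4,3,6,5,1,2,6]), (901, [6,1,0,2,3,2,1,6,5,1,2,3,2,1]), (902, [6,1,0,2,3,2,4,3,2,1,0,5,1,0]), (903, [6,1,0,2,3,2,4,3,2,1,0,5,1,2]),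
   (904, [6,1,0,2,3,2,4,3,2,1,0,5,1,6]), (905, [6,1,0,2,3,2,4,3,2,1,0,6,1,0]), (906, [6,1,0,2,3,2,4,3,2,1,0,6,1,5]), (907, [6,1,0,2,3,2,4,3,2,1,5,6,1,0]),
   (908, [6,1,0,2,3,2,4,3,2,1,5,6,1,2]), (909, [6,1,0,2,3,2,4,3,2,1,5,6,1,5]), (910, [6,1,2,3,2,1,0,4,3,2,1,0,1,0]), (911, [6,1,2,3,2,1,0,4,3,2,1,0,1,3]),
   (912, [6,1,2,3,2,1,0,4,3,2,1,0,3,2]), (913, [6,1,2,3,2,1,0,4,3,2,1,0,3,4]), (914, [6,1,2,3,2,1,0,4,3,2,1,0,3,5]), (915, [6,1,2,3,2,1,0,4,3,2,1,3,2,4]),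
   (916, [6,1,2,3,2,1,0,4,3,2,1,3,2,5]), (917, [6,1,2,3,2,1,0,4,3,2,1,3,4,5]), (918, [6,1,2,3,2,1,0,4,3,2,1,3,5,1]), (919, [6,1,2,3,2,1,0,4,3,2,1,3,5,6]),
   (920, [6,1,2,3,2,1,0,4,3,2,1,5,1,0]), (921, [6,1,2,3,2,1,0,4,3,2,1,5,1,2]), (922, [6,1,2,3,2,1,0,4,3,2,1,5,1,6]), (923, [6,1,2,3,2,1,0,4,3,2,1,6,1,5]),
   (924, [6,1,2,3,2,1,0,4,3,2,1,6,5,1]), (925, [6,1,2,3,2,1,0,4,3,2,3,4,5,1]), (926, [6,1,2,3,2,1,0,4,3,2,3,4,6,1]), (927, [6,1,2,3,2,1,0,4,3,2,3,5,1,0]),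
   (928, [6,1,2,3,2,1,0,4,3,2,3,5,1,2]), (929, [6,1,2,3,2,1,0,4,3,2,3,5,1,6]), (930, [6,1,2,3,2,1,0,4,3,2,3,6,1,0]), (931, [6,1,2,3,2,1,0,4,3,2,3,6,1,5]),
   (932, [6,1,2,3,2,1,0,4,3,2,5,1,0,1]), (933, [6,1,2,3,2,1,0,4,3,2,5,1,0,2]), (934, [6,1,2,3,2,1,0,4,3,2,5,1,0,6]), (935, [6,1,2,3,2,1,0,4,3,2,5,1,2,3]),
   (936, [6,1,2,3,2,1,0,4,3,2,5,1,2,6]), (937, [6,1,2,3,2,1,0,4,3,2,5,1,6,5]), (938, [6,1,2,3,2,1,0,4,3,2,6,1,0,5]), (939, [6,1,2,3,2,1,0,4,3,5,1,0,1,2]),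
   (940, [6,1,2,3,2,1,0,4,3,5,1,2,6,1]), (941, [6,1,2,3,2,1,4,3,2,1,0,1,0,3]), (942, [6,1,2,3,2,1,4,3,2,1,0,1,0,5]), (943, [6,1,2,3,2,1,4,3,2,1,0,1,2,5]),
   (944, [6,1,2,3,2,1,4,3,2,1,0,1,3,2]), (945, [6,1,2,3,2,1,4,3,2,1,0,1,3,4]), (946, [6,1,2,3,2,1,4,3,2,1,0,1,3,5]), (947, [6,1,2,3,2,1,4,3,2,1,0,1,3,6]),
   (948, [6,1,2,3,2,1,4,3,2,1,0,1,6,5]), (949, [6,1,2,3,2,1,4,3,2,1,0,3,2,1]), (950, [6,1,2,3,2,1,4,3,2,1,0,3,2,4]), (951, [6,1,2,3,2,1,4,3,2,1,0,3,2,5]),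
   (952, [6,1,2,3,2,1,4,3,2,1,0,3,4,5]), (953, [6,1,2,3,2,1,4,3,2,1,0,3,4,6]), (954, [6,1,2,3,2,1,4,3,2,1,0,3,6,1]), (955, [6,1,2,3,2,1,4,3,2,1,0,6,1,5]),
   (956, [6,1,2,3,2,1,4,3,2,1,3,2,4,5]), (957, [6,1,2,3,2,1,4,3,2,1,3,2,5,1]), (958, [6,1,2,3,2,1,4,3,2,1,3,2,5,6]), (959, [6,1,2,3,2,1,4,3,2,1,3,4,5,1]),
   (960, [6,1,2,3,2,1,4,3,2,1,3,4,5,6]), (961, [6,1,2,3,2,1,4,3,2,1,3,4,6,1]), (962, [6,1,2,3,2,1,4,3,2,1,3,4,6,5]), (963, [6,1,2,3,2,1,4,3,2,1,3,5,1,0]),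
   (964, [6,1,2,3,2,1,4,3,2,1,3,5,1,2]), (965, [6,1,2,3,2,1,4,3,2,1,3,5,1,6]), (966, [6,1,2,3,2,1,4,3,2,1,3,5,6,1]), (967, [6,1,2,3,2,1,4,3,2,1,5,1,0,2]),
   (968, [6,1,2,3,2,1,4,3,2,1,5,1,2,6]), (969, [6,1,2,3,2,1,4,3,2,1,5,1,6,1]), (970, [6,1,2,3,2,1,4,3,2,1,5,6,1,0]), (971, [6,1,2,3,2,1,4,3,2,1,5,6,1,2]),
   (972, [6,1,2,3,2,1,4,3,2,1,5,6,1,5]), (973, [6,1,2,3,2,1,4,3,2,3,4,5,1,0]), (974, [6,1,2,3,2,1,4,3,2,3,4,5,1,2]), (975, [6,1,2,3,2,1,4,3,2,3,4,5,1,6]),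
   (976, [6,1,2,3,2,1,4,3,2,3,4,5,6,1]), (977, [6,1,2,3,2,1,4,3,2,3,5,1,0,1]), (978, [6,1,2,3,2,1,4,3,2,3,5,1,0,2]), (979, [6,1,2,3,2,1,4,3,2,3,5,1,0,6]),
   (980, [6,1,2,3,2,1,4,3,2,3,5,1,6,1]), (981, [6,1,2,3,2,1,4,3,2,3,5,6,1,0]), (982, [6,1,2,3,2,1,4,3,2,3,5,6,1,2]), (983, [6,1,2,3,2,1,4,3,2,5,1,0,2,1]),
   (984, [6,1,2,3,2,1,4,3,2,5,1,0,2,6]), (985, [6,1,2,3,2,1,4,3,2,5,1,2,6,5]), (986, [6,1,2,3,2,1,4,3,2,5,1,6,1,0]), (987, [6,1,2,3,2,1,4,3,2,5,1,6,1,2]),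
   (988, [6,1,2,3,2,1,4,3,2,5,1,6,1,5]), (989, [6,1,2,3,2,1,4,3,2,5,6,1,0,1])]

def chainUIdx0_11 : List (ℕ × List ℕ) :=
  [(990, [6,1,2,3,2,1,4,3,2,5,6,1,0,2]), (991, [6,1,2,3,2,1,4,3,2,5,6,1,0,5]), (992, [6,1,2,3,2,1,4,3,2,5,6,1,2,3]), (993, [6,1,2,3,2,1,4,3,2,5,6,1,2,5]),
   (994, [6,1,2,3,2,1,4,3,5,6,1,2,5,1]), (995, [6,1,2,3,2,1,6,5,1,2,3,2,1,5]), (996, [6,1,2,3,2,4,3,2,1,0,1,2,5,1]), (997, [6,1,2,3,2,4,3,2,1,0,1,5,1,0]),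
   (998, [6,1,2,3,2,4,3,2,1,0,1,5,1,2]), (999, [6,1,2,3,2,4,3,2,1,0,5,1,0,1]), (1000, [6,1,2,3,2,4,3,2,1,0,5,1,0,2]), (1001, [6,1,2,3,2,4,3,2,1,0,5,1,2,3]),
   (1002, [6,1,2,3,2,4,3,2,1,0,6,1,0,1]), (1003, [6,1,2,3,2,4,3,2,1,0,6,1,0,2]), (1004, [6,1,2,3,2,4,3,2,1,0,6,1,0,5]), (1005, [6,1,2,3,2,4,3,2,1,0,6,1,2,5]),
   (1006, [6,1,2,3,2,4,3,2,1,0,6,1,5,6]), (1007, [6,1,2,3,2,4,3,2,1,5,1,0,1,0]), (1008, [6,1,2,3,2,4,3,2,1,5,1,0,1,2]), (1009, [6,1,2,3,2,4,3,2,1,5,1,0,1,5]),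
   (1010, [6,1,2,3,2,4,3,2,1,5,1,0,1,6]), (1011, [6,1,2,3,2,4,3,2,1,5,1,0,2,1]), (1012, [6,1,2,3,2,4,3,2,1,5,6,1,0,2]), (1013, [6,1,2,3,2,4,3,2,1,5,6,1,2,3]),
   (1014, [6,1,2,3,2,4,3,2,1,5,6,1,2,5]), (1015, [6,1,2,3,2,4,3,2,5,1,0,1,0,2]), (1016, [6,1,2,3,2,4,3,2,5,1,0,1,2,1]), (1017, [6,1,2,3,2,4,3,2,5,1,0,1,2,5]),
   (1018, [6,1,2,3,2,4,3,2,5,1,0,2,1,0]), (1019, [6,1,2,3,2,4,3,2,5,1,0,2,1,5]), (1020, [6,1,2,3,2,4,3,2,5,1,0,2,1,6]), (1021, [6,1,2,3,2,4,3,2,5,1,2,6,5,1]),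
   (1022, [6,1,2,3,2,4,3,2,5,1,6,5,1,0]), (1023, [6,1,2,3,2,4,3,2,5,1,6,5,1,2]), (1024, [6,1,2,3,2,4,3,2,5,1,6,5,1,6]), (1025, [6,1,0,1,2,1,3,2,1,4,3,2,1,5,1]),
   (1026, [6,1,0,1,2,1,3,2,1,4,3,2,3,5,1]), (1027, [6,1,0,1,2,1,3,2,1,4,3,2,5,1,0]), (1028, [6,1,0,1,2,1,3,2,1,4,3,2,5,1,2]), (1029, [6,1,0,1,2,1,3,2,1,4,3,2,5,1,6]),
   (1030, [6,1,0,1,2,1,3,2,1,4,3,5,1,2,3]), (1031, [6,1,0,1,2,1,3,2,4,3,2,1,0,5,1]), (1032, [6,1,0,1,2,1,3,2,4,3,2,1,5,1,0]), (1033, [6,1,0,1,2,1,3,2,4,3,2,1,5,1,2]),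
   (1034, [6,1,0,1,2,1,3,2,4,3,2,1,5,1,6]), (1035, [6,1,0,1,2,1,3,2,4,3,2,1,6,5,1]), (1036, [6,1,0,1,2,1,3,2,4,3,2,5,1,0,1]), (1037, [6,1,0,1,2,1,3,2,4,3,2,5,1,0,2]),
   (1038, [6,1,0,1,2,1,3,2,4,3,2,5,1,0,6]), (1039, [6,1,0,1,2,1,3,2,4,3,2,5,1,2,3]), (1040, [6,1,0,1,2,1,3,2,4,3,2,5,1,2,6]), (1041, [6,1,0,1,2,1,3,2,4,3,2,5,1,6,5]),
   (1042, [6,1,0,1,2,1,3,2,4,3,5,1,2,3,4]), (1043, [6,1,0,1,2,1,3,2,4,3,5,1,2,3,6]), (1044, [6,1,0,1,2,1,3,2,4,3,5,1,2,6,1]), (1045, [6,1,0,1,2,3,2,1,4,3,2,1,0,1,0]),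
   (1046, [6,1,0,1,2,3,2,1,4,3,2,1,0,1,5]), (1047, [6,1,0,1,2,3,2,1,4,3,2,1,0,3,5]), (1048, [6,1,0,1,2,3,2,1,4,3,2,1,0,5,1]), (1049, [6,1,0,1,2,3,2,1,4,3,2,1,3,5,1]),
   (1050, [6,1,0,1,2,3,2,1,4,3,2,1,3,5,6]), (1051, [6,1,0,1,2,3,2,1,4,3,2,1,3,6,5]), (1052, [6,1,0,1,2,3,2,1,4,3,2,1,5,1,0]), (1053, [6,1,0,1,2,3,2,1,4,3,2,1,5,1,6]),
   (1054, [6,1,0,1,2,3,2,1,4,3,2,1,5,6,1]), (1055, [6,1,0,1,2,3,2,1,4,3,2,1,6,5,1]), (1056, [6,1,0,1,2,3,2,1,4,3,2,3,2,1,5]), (1057, [6,1,0,1,2,3,2,1,4,3,2,3,2,5,1]),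
   (1058, [6,1,0,1,2,3,2,1,4,3,2,3,5,1,0]), (1059, [6,1,0,1,2,3,2,1,4,3,2,3,5,1,2]), (1060, [6,1,0,1,2,3,2,1,4,3,2,3,5,1,6]), (1061, [6,1,0,1,2,3,2,1,4,3,2,5,1,0,1]),
   (1062, [6,1,0,1,2,3,2,1,4,3,2,5,1,0,6]), (1063, [6,1,0,1,2,3,2,1,4,3,2,5,1,6,1]), (1064, [6,1,0,1,2,3,2,1,4,3,2,5,1,6,5]), (1065, [6,1,0,1,2,3,2,1,4,3,2,5,6,1,0]),
   (1066, [6,1,0,1,2,3,2,1,4,3,2,5,6,1,2]), (1067, [6,1,0,1,2,3,2,1,4,3,2,5,6,1,5]), (1068, [6,1,0,1,2,3,2,1,4,3,5,6,1,2,3]), (1069, [6,1,0,1,2,3,2,4,3,2,1,0,1,0,2]),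
   (1070, [6,1,0,1,2,3,2,4,3,2,1,0,1,0,5]), (1071, [6,1,0,1,2,3,2,4,3,2,1,0,1,2,5]), (1072, [6,1,0,1,2,3,2,4,3,2,1,0,1,5,1]), (1073, [6,1,0,1,2,3,2,4,3,2,1,0,1,5,6]),
   (1074, [6,1,0,1,2,3,2,4,3,2,1,0,5,1,2]), (1075, [6,1,0,1,2,3,2,4,3,2,1,5,6,1,0]), (1076, [6,1,0,1,2,3,2,4,3,2,1,5,6,1,2]), (1077, [6,1,0,1,2,3,2,4,3,2,1,6,5,1,0]),
   (1078, [6,1,0,1,2,3,2,4,3,2,1,6,5,1,2]), (1079, [6,1,0,1,2,3,2,4,3,2,1,6,5,1,6])]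

def chainUIdx0_12 : List (ℕ × List ℕ) :=
  [(1080, [6,1,0,2,1,3,2,1,0,1,4,3,2,1,0]), (1081, [6,1,0,2,1,3,2,1,0,1,4,3,2,1,3]), (1082, [6,1,0,2,1,3,2,1,0,1,4,3,2,1,5]), (1083, [6,1,0,2,1,3,2,1,0,1,4,3,2,3,5]),
   (1084, [6,1,0,2,1,3,2,1,0,1,4,3,2,3,6]), (1085, [6,1,0,2,1,3,2,1,0,1,4,3,2,5,1]), (1086, [6,1,0,2,1,3,2,1,0,4,3,2,1,0,5]), (1087, [6,1,0,2,1,3,2,1,3,4,3,2,1,0,1]),
   (1088, [6,1,0,2,1,3,2,1,3,4,3,2,1,0,3]), (1089, [6,1,0,2,1,3,2,1,3,4,3,2,1,0,5]), (1090, [6,1,0,2,1,3,2,1,3,4,3,2,1,0,6]), (1091, [6,1,0,2,1,3,2,1,3,4,3,2,1,3,2]),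
   (1092, [6,1,0,2,1,3,2,1,3,4,3,2,1,3,5]), (1093, [6,1,0,2,1,3,2,1,3,4,3,2,1,5,1]), (1094, [6,1,0,2,1,3,2,1,3,4,3,2,1,6,5]), (1095, [6,1,0,2,1,3,2,1,3,4,3,2,3,4,5]),
   (1096, [6,1,0,2,1,3,2,1,3,4,3,2,3,5,1]), (1097, [6,1,0,2,1,3,2,1,3,4,3,2,3,5,6]), (1098, [6,1,0,2,1,3,2,1,3,4,3,2,3,6,5]), (1099, [6,1,0,2,1,3,2,1,3,4,3,2,5,1,0]),
   (1100, [6,1,0,2,1,3,2,1,3,4,3,2,5,1,2]), (1101, [6,1,0,2,1,3,2,1,3,4,3,2,5,1,6]), (1102, [6,1,0,2,1,3,2,1,3,4,3,2,5,6,1]), (1103, [6,1,0,2,1,3,2,1,3,4,3,2,6,1,5]),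
   (1104, [6,1,0,2,1,3,2,1,3,4,3,2,6,5,1]), (1105, [6,1,0,2,1,3,2,1,3,4,3,5,1,2,3]), (1106, [6,1,0,2,1,3,2,1,4,3,2,1,0,1,5]), (1107, [6,1,0,2,1,3,2,1,4,3,2,1,3,5,1]),
   (1108, [6,1,0,2,1,3,2,1,4,3,2,1,5,1,0]), (1109, [6,1,0,2,1,3,2,1,4,3,2,1,6,5,1]), (1110, [6,1,0,2,1,3,2,1,4,3,2,3,4,5,1]), (1111, [6,1,0,2,1,3,2,1,4,3,2,3,4,5,6]),
   (1112, [6,1,0,2,1,3,2,1,4,3,2,3,5,1,0]), (1113, [6,1,0,2,1,3,2,1,4,3,2,3,5,1,2]), (1114, [6,1,0,2,1,3,2,1,4,3,2,3,5,1,6]), (1115, [6,1,0,2,1,3,2,1,4,3,2,3,5,6,1]),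
   (1116, [6,1,0,2,1,3,2,1,4,3,2,3,6,5,1]), (1117, [6,1,0,2,1,3,2,1,4,3,2,5,1,0,1]), (1118, [6,1,0,2,1,3,2,1,4,3,2,5,1,0,2]), (1119, [6,1,0,2,1,3,2,1,4,3,2,5,1,0,6]),
   (1120, [6,1,0,2,1,3,2,1,4,3,2,5,1,6,1]), (1121, [6,1,0,2,1,3,2,1,4,3,2,5,1,6,5]), (1122, [6,1,0,2,1,3,2,1,4,3,2,5,6,1,0]), (1123, [6,1,0,2,1,3,2,1,4,3,5,1,0,2,1]),
   (1124, [6,1,0,2,1,3,2,1,4,3,5,1,0,2,3]), (1125, [6,1,0,2,1,3,2,1,4,3,5,1,2,3,4]), (1126, [6,1,0,2,1,3,2,3,2,4,3,2,1,0,5]), (1127, [6,1,0,2,1,3,2,3,2,4,3,2,1,6,5]),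
   (1128, [6,1,0,2,1,3,2,3,4,3,2,1,0,1,5]), (1129, [6,1,0,2,1,3,2,3,4,3,2,1,0,3,5]), (1130, [6,1,0,2,1,3,2,3,4,3,2,1,0,5,1]), (1131, [6,1,0,2,1,3,2,3,4,3,2,1,3,2,3]),
   (1132, [6,1,0,2,1,3,2,3,4,3,2,1,3,5,1]), (1133, [6,1,0,2,1,3,2,3,4,3,2,1,3,6,5]), (1134, [6,1,0,2,1,3,2,3,4,3,2,1,5,1,0]), (1135, [6,1,0,2,1,3,2,3,4,3,2,1,5,1,2]),
   (1136, [6,1,0,2,1,3,2,3,4,3,2,1,5,1,6]), (1137, [6,1,0,2,1,3,2,3,4,3,2,1,6,5,1]), (1138, [6,1,0,2,1,3,2,3,4,3,2,3,5,1,0]), (1139, [6,1,0,2,1,3,2,3,4,3,2,3,5,1,2]),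
   (1140, [6,1,0,2,1,3,2,3,4,3,2,3,5,1,6]), (1141, [6,1,0,2,1,3,2,3,4,3,2,5,1,0,1]), (1142, [6,1,0,2,1,3,2,3,4,3,2,5,1,0,2]), (1143, [6,1,0,2,1,3,2,3,4,3,2,5,1,0,6]),
   (1144, [6,1,0,2,1,3,2,3,4,3,2,5,1,2,3]), (1145, [6,1,0,2,1,3,2,3,4,3,2,5,1,2,6]), (1146, [6,1,0,2,1,3,2,3,4,3,2,5,1,6,5]), (1147, [6,1,0,2,1,3,2,3,4,3,5,1,2,3,4]),
   (1148, [6,1,0,2,1,3,2,3,4,5,1,2,3,2,3]), (1149, [6,1,0,2,1,3,2,4,3,2,1,0,1,0,5]), (1150, [6,1,0,2,1,3,2,4,3,2,1,0,1,2,3]), (1151, [6,1,0,2,1,3,2,4,3,2,1,0,1,2,5]),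
   (1152, [6,1,0,2,1,3,2,4,3,2,1,0,1,5,1]), (1153, [6,1,0,2,1,3,2,4,3,2,1,0,5,1,0]), (1154, [6,1,0,2,1,3,2,4,3,2,1,0,5,1,2]), (1155, [6,1,0,2,1,3,2,4,3,2,1,0,5,1,6]),
   (1156, [6,1,0,2,1,3,2,4,3,2,1,5,1,0,2]), (1157, [6,1,0,2,1,3,2,4,3,2,1,6,1,5,1]), (1158, [6,1,0,2,1,3,2,4,3,2,1,6,5,1,0]), (1159, [6,1,0,2,1,3,2,4,3,2,1,6,5,1,2]),
   (1160, [6,1,0,2,1,3,2,4,3,2,1,6,5,1,6]), (1161, [6,1,0,2,1,3,2,4,3,2,5,1,0,1,0]), (1162, [6,1,0,2,1,3,2,4,3,2,5,1,0,1,2]), (1163, [6,1,0,2,1,3,2,4,3,2,5,1,0,1,6]),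
   (1164, [6,1,0,2,1,3,2,4,3,2,5,1,0,2,1]), (1165, [6,1,0,2,1,3,2,4,3,2,5,1,0,2,3]), (1166, [6,1,0,2,1,3,2,4,3,2,5,1,0,2,6]), (1167, [6,1,0,2,1,3,2,4,3,2,5,1,0,6,1]),
   (1168, [6,1,0,2,1,3,2,4,3,2,5,1,2,3,4]), (1169, [6,1,0,2,1,3,2,4,3,2,5,1,2,3,6])]

def chainUIdx0_13 : List (ℕ × List ℕ) :=
  [(1170, [6,1,0,2,1,3,2,4,3,2,5,1,2,6,1]), (1171, [6,1,0,2,1,3,2,4,3,2,5,1,2,6,5]), (1172, [6,1,0,2,1,3,2,4,3,2,5,1,6,5,1]), (1173, [6,1,0,2,1,3,2,4,3,2,6,1,0,5,1]),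
   (1174, [6,1,0,2,1,3,2,4,3,2,6,1,5,1,0]), (1175, [6,1,0,2,1,3,2,4,3,2,6,1,5,1,2]), (1176, [6,1,0,2,1,3,2,4,3,2,6,1,5,1,6]), (1177, [6,1,0,2,1,3,2,4,3,2,6,1,5,6,1]),
   (1178, [6,1,0,2,1,3,2,4,3,2,6,5,1,0,1]), (1179, [6,1,0,2,1,3,2,4,3,2,6,5,1,0,2]), (1180, [6,1,0,2,1,3,2,4,3,2,6,5,1,0,6]), (1181, [6,1,0,2,1,3,2,4,3,2,6,5,1,2,3]),
   (1182, [6,1,0,2,1,3,2,4,3,2,6,5,1,2,6]), (1183, [6,1,0,2,1,3,2,4,3,5,1,0,1,2,1]), (1184, [6,1,0,2,1,3,2,4,3,5,1,0,1,2,3]), (1185, [6,1,0,2,1,3,2,4,3,5,1,0,2,1,0]),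
   (1186, [6,1,0,2,1,3,2,4,3,5,1,0,2,1,3]), (1187, [6,1,0,2,1,3,2,4,3,5,1,0,2,1,5]), (1188, [6,1,0,2,1,3,2,4,3,5,1,0,2,1,6]), (1189, [6,1,0,2,1,3,2,4,3,5,1,0,2,3,4]),
   (1190, [6,1,0,2,1,3,2,4,3,5,1,2,3,2,4]), (1191, [6,1,0,2,1,3,2,4,3,5,1,2,3,4,6]), (1192, [6,1,0,2,1,3,2,4,3,5,1,2,3,6,1]), (1193, [6,1,0,2,1,3,2,4,3,5,1,2,3,6,5]),
   (1194, [6,1,0,2,1,3,2,4,3,5,1,2,6,1,0]), (1195, [6,1,0,2,1,3,2,4,3,5,1,2,6,1,5]), (1196, [6,1,0,2,1,3,2,4,3,5,1,2,6,5,1]), (1197, [6,1,0,2,3,2,1,0,4,3,2,1,0,3,2]),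
   (1198, [6,1,0,2,3,2,1,0,4,3,2,1,0,3,4]), (1199, [6,1,0,2,3,2,1,0,4,3,2,1,0,3,5]), (1200, [6,1,0,2,3,2,1,0,4,3,2,1,0,5,1]), (1201, [6,1,0,2,3,2,1,0,4,3,2,1,3,2,5]),
   (1202, [6,1,0,2,3,2,1,0,4,3,2,1,3,4,5]), (1203, [6,1,0,2,3,2,1,0,4,3,2,1,3,5,1]), (1204, [6,1,0,2,3,2,1,0,4,3,2,1,3,6,5]), (1205, [6,1,0,2,3,2,1,0,4,3,2,1,5,1,0]),
   (1206, [6,1,0,2,3,2,1,0,4,3,2,1,5,1,2]), (1207, [6,1,0,2,3,2,1,0,4,3,2,1,5,1,6]), (1208, [6,1,0,2,3,2,1,0,4,3,2,1,6,1,5]), (1209, [6,1,0,2,3,2,1,0,4,3,2,1,6,5,1]),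
   (1210, [6,1,0,2,3,2,1,0,4,3,2,3,4,5,1]), (1211, [6,1,0,2,3,2,1,0,4,3,2,3,5,1,0]), (1212, [6,1,0,2,3,2,1,0,4,3,2,3,5,1,2]), (1213, [6,1,0,2,3,2,1,0,4,3,2,3,5,1,6]),
   (1214, [6,1,0,2,3,2,1,0,4,3,2,3,6,1,0]), (1215, [6,1,0,2,3,2,1,0,4,3,2,3,6,1,5]), (1216, [6,1,0,2,3,2,1,0,4,3,2,5,1,0,1]), (1217, [6,1,0,2,3,2,1,0,4,3,2,5,1,0,2]),
   (1218, [6,1,0,2,3,2,1,0,4,3,2,5,1,0,6]), (1219, [6,1,0,2,3,2,1,0,4,3,2,5,1,2,3]), (1220, [6,1,0,2,3,2,1,0,4,3,2,5,1,2,6]), (1221, [6,1,0,2,3,2,1,0,4,3,2,5,1,6,5]),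
   (1222, [6,1,0,2,3,2,1,0,4,3,2,6,1,0,5]), (1223, [6,1,0,2,3,2,1,0,4,3,5,1,0,2,1]), (1224, [6,1,0,2,3,2,1,0,4,3,5,1,0,2,3]), (1225, [6,1,0,2,3,2,1,0,4,3,5,1,2,3,6]),
   (1226, [6,1,0,2,3,2,1,0,4,3,5,1,2,6,1]), (1227, [6,1,0,2,3,2,1,0,4,5,1,2,3,2,1]), (1228, [6,1,0,2,3,2,1,0,4,5,1,2,3,2,3]), (1229, [6,1,0,2,3,2,1,4,3,2,1,0,3,4,5]),
   (1230, [6,1,0,2,3,2,1,4,3,2,1,3,4,5,1]), (1231, [6,1,0,2,3,2,1,4,3,2,1,3,4,6,1]), (1232, [6,1,0,2,3,2,1,4,3,2,1,3,4,6,5]), (1233, [6,1,0,2,3,2,1,4,3,2,1,3,5,1,0]),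
   (1234, [6,1,0,2,3,2,1,4,3,2,1,5,6,1,2]), (1235, [6,1,0,2,3,2,1,4,3,2,3,2,1,4,3]), (1236, [6,1,0,2,3,2,1,4,3,2,3,2,4,3,5]), (1237, [6,1,0,2,3,2,1,4,3,2,3,2,4,3,6]),
   (1238, [6,1,0,2,3,2,1,4,3,2,3,4,5,1,0]), (1239, [6,1,0,2,3,2,1,4,3,2,3,4,5,1,2]), (1240, [6,1,0,2,3,2,1,4,3,2,3,4,5,1,6]), (1241, [6,1,0,2,3,2,1,4,3,2,3,4,5,6,1]),
   (1242, [6,1,0,2,3,2,1,4,3,2,3,5,1,0,2]), (1243, [6,1,0,2,3,2,1,4,3,2,3,5,1,0,6]), (1244, [6,1,0,2,3,2,1,4,3,2,3,5,1,2,6]), (1245, [6,1,0,2,3,2,1,4,3,2,3,5,1,6,1]),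
   (1246, [6,1,0,2,3,2,1,4,3,2,3,5,1,6,5]), (1247, [6,1,0,2,3,2,1,4,3,2,3,5,6,1,0]), (1248, [6,1,0,2,3,2,1,4,3,2,3,5,6,1,2]), (1249, [6,1,0,2,3,2,1,4,3,2,3,5,6,1,5]),
   (1250, [6,1,0,2,3,2,1,4,3,2,5,1,6,1,0]), (1251, [6,1,0,2,3,2,1,4,3,2,5,1,6,1,2]), (1252, [6,1,0,2,3,2,1,4,3,2,5,1,6,1,5]), (1253, [6,1,0,2,3,2,1,4,3,2,5,6,1,0,1]),
   (1254, [6,1,0,2,3,2,1,4,3,2,5,6,1,0,2]), (1255, [6,1,0,2,3,2,1,4,3,2,5,6,1,0,5]), (1256, [6,1,0,2,3,2,1,4,3,2,5,6,1,2,3]), (1257, [6,1,0,2,3,2,1,4,3,2,5,6,1,2,5]),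
   (1258, [6,1,0,2,3,2,1,4,3,5,6,1,0,2,1]), (1259, [6,1,0,2,3,2,1,4,3,5,6,1,0,2,3])]

def chainUIdx0_14 : List (ℕ × List ℕ) :=
  [(1260, [6,1,0,2,3,2,1,4,3,5,6,1,2,3,5]), (1261, [6,1,0,2,3,2,1,4,3,5,6,1,2,5,1]), (1262, [6,1,0,2,3,2,4,3,2,1,0,5,1,0,1]), (1263, [6,1,0,2,3,2,4,3,2,1,0,5,1,0,2]),
   (1264, [6,1,0,2,3,2,4,3,2,1,0,5,1,2,3]), (1265, [6,1,0,2,3,2,4,3,2,1,0,6,1,0,1]), (1266, [6,1,0,2,3,2,4,3,2,1,5,6,1,0,2]), (1267, [6,1,0,2,3,2,4,3,2,1,5,6,1,2,5]),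
   (1268, [6,1,2,3,2,1,0,4,3,2,1,0,1,0,3]), (1269, [6,1,2,3,2,1,0,4,3,2,1,0,1,3,2]), (1270, [6,1,2,3,2,1,0,4,3,2,1,0,1,3,4]), (1271, [6,1,2,3,2,1,0,4,3,2,1,0,3,2,4]),
   (1272, [6,1,2,3,2,1,0,4,3,2,1,0,3,4,5]), (1273, [6,1,2,3,2,1,0,4,3,2,1,3,2,4,5]), (1274, [6,1,2,3,2,1,0,4,3,2,1,3,2,5,1]), (1275, [6,1,2,3,2,1,0,4,3,2,1,3,4,5,1]),
   (1276, [6,1,2,3,2,1,0,4,3,2,1,3,4,5,6]), (1277, [6,1,2,3,2,1,0,4,3,2,1,3,5,1,0]), (1278, [6,1,2,3,2,1,0,4,3,2,1,6,5,1,2]), (1279, [6,1,2,3,2,1,0,4,3,2,3,4,5,1,0]),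
   (1280, [6,1,2,3,2,1,0,4,3,2,3,4,5,1,2]), (1281, [6,1,2,3,2,1,0,4,3,2,3,4,5,1,6]), (1282, [6,1,2,3,2,1,0,4,3,2,3,4,6,1,0]), (1283, [6,1,2,3,2,1,0,4,3,2,3,4,6,1,5]),
   (1284, [6,1,2,3,2,1,0,4,3,2,3,5,1,0,1]), (1285, [6,1,2,3,2,1,0,4,3,2,5,1,0,1,0]), (1286, [6,1,2,3,2,1,0,4,3,2,5,1,0,1,2]), (1287, [6,1,2,3,2,1,0,4,3,2,5,1,0,1,6]),
   (1288, [6,1,2,3,2,1,0,4,3,2,5,1,0,2,1]), (1289, [6,1,2,3,2,1,0,4,3,2,5,1,0,2,6]), (1290, [6,1,2,3,2,1,0,4,3,2,6,1,0,5,1]), (1291, [6,1,2,3,2,1,0,4,3,5,1,0,1,2,3]),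
   (1292, [6,1,2,3,2,1,4,3,2,1,0,1,0,3,2]), (1293, [6,1,2,3,2,1,4,3,2,1,0,1,0,3,4]), (1294, [6,1,2,3,2,1,4,3,2,1,0,1,0,3,5]), (1295, [6,1,2,3,2,1,4,3,2,1,0,1,3,2,1]),
   (1296, [6,1,2,3,2,1,4,3,2,1,0,1,3,2,3]), (1297, [6,1,2,3,2,1,4,3,2,1,0,1,3,2,5]), (1298, [6,1,2,3,2,1,4,3,2,1,0,1,3,2,6]), (1299, [6,1,2,3,2,1,4,3,2,1,0,1,3,4,5]),
   (1300, [6,1,2,3,2,1,4,3,2,1,0,1,3,6,5]), (1301, [6,1,2,3,2,1,4,3,2,1,0,3,2,1,4]), (1302, [6,1,2,3,2,1,4,3,2,1,0,3,2,4,5]), (1303, [6,1,2,3,2,1,4,3,2,1,0,3,6,1,5]),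
   (1304, [6,1,2,3,2,1,4,3,2,1,3,2,4,5,1]), (1305, [6,1,2,3,2,1,4,3,2,1,3,2,4,5,6]), (1306, [6,1,2,3,2,1,4,3,2,1,3,2,5,1,2]), (1307, [6,1,2,3,2,1,4,3,2,1,3,2,5,6,1]),
   (1308, [6,1,2,3,2,1,4,3,2,1,3,4,5,1,0]), (1309, [6,1,2,3,2,1,4,3,2,1,3,4,5,1,2]), (1310, [6,1,2,3,2,1,4,3,2,1,3,4,5,1,6]), (1311, [6,1,2,3,2,1,4,3,2,1,3,4,5,6,1]),
   (1312, [6,1,2,3,2,1,4,3,2,1,3,5,1,6,1]), (1313, [6,1,2,3,2,1,4,3,2,1,3,5,6,1,0]), (1314, [6,1,2,3,2,1,4,3,2,1,3,5,6,1,2]), (1315, [6,1,2,3,2,1,4,3,2,1,3,5,6,1,5]),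
   (1316, [6,1,2,3,2,1,4,3,2,1,5,1,0,2,1]), (1317, [6,1,2,3,2,1,4,3,2,1,5,1,6,1,2]), (1318, [6,1,2,3,2,1,4,3,2,1,5,6,1,0,1]), (1319, [6,1,2,3,2,1,4,3,2,1,5,6,1,0,2]),
   (1320, [6,1,2,3,2,1,4,3,2,1,5,6,1,2,3]), (1321, [6,1,2,3,2,1,4,3,2,1,5,6,1,2,5]), (1322, [6,1,2,3,2,1,4,3,2,3,4,5,1,0,1]), (1323, [6,1,2,3,2,1,4,3,2,3,4,5,1,0,2]),
   (1324, [6,1,2,3,2,1,4,3,2,3,4,5,1,0,6]), (1325, [6,1,2,3,2,1,4,3,2,3,4,5,1,2,3]), (1326, [6,1,2,3,2,1,4,3,2,3,4,5,1,6,1]), (1327, [6,1,2,3,2,1,4,3,2,3,4,5,6,1,0]),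
   (1328, [6,1,2,3,2,1,4,3,2,3,4,5,6,1,2]), (1329, [6,1,2,3,2,1,4,3,2,3,5,1,0,1,2]), (1330, [6,1,2,3,2,1,4,3,2,3,5,6,1,0,1]), (1331, [6,1,2,3,2,1,4,3,2,3,5,6,1,0,2]),
   (1332, [6,1,2,3,2,1,4,3,2,5,1,0,2,1,0]), (1333, [6,1,2,3,2,1,4,3,2,5,1,0,2,1,6]), (1334, [6,1,2,3,2,1,4,3,2,5,1,0,2,6,1]), (1335, [6,1,2,3,2,1,4,3,2,5,1,6,1,0,2]),
   (1336, [6,1,2,3,2,1,4,3,2,5,1,6,1,2,3]), (1337, [6,1,2,3,2,1,4,3,2,5,1,6,1,2,5]), (1338, [6,1,2,3,2,1,4,3,2,5,6,1,0,1,2]), (1339, [6,1,2,3,2,1,4,3,2,5,6,1,0,2,1]),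
   (1340, [6,1,2,3,2,1,4,3,2,5,6,1,0,2,3]), (1341, [6,1,2,3,2,1,4,3,2,5,6,1,0,2,5]), (1342, [6,1,2,3,2,1,4,3,2,5,6,1,2,3,5]), (1343, [6,1,2,3,2,1,4,3,2,5,6,1,2,5,1]),
   (1344, [6,1,2,3,2,1,4,3,5,6,1,2,5,1,0]), (1345, [6,1,2,3,2,4,3,2,1,0,1,5,1,0,1]), (1346, [6,1,2,3,2,4,3,2,1,0,1,5,1,0,2]), (1347, [6,1,2,3,2,4,3,2,1,0,5,1,0,1,2]),
   (1348, [6,1,2,3,2,4,3,2,1,0,5,1,0,2,1]), (1349, [6,1,2,3,2,4,3,2,1,0,5,1,0,2,3])]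

def chainUIdx0_15 : List (ℕ × List ℕ) :=
  [(1350, [6,1,2,3,2,4,3,2,1,0,5,1,2,3,4]), (1351, [6,1,2,3,2,4,3,2,1,0,6,1,0,2,5]), (1352, [6,1,2,3,2,4,3,2,1,0,6,1,2,5,1]), (1353, [6,1,2,3,2,4,3,2,1,0,6,1,2,5,6]),
   (1354, [6,1,2,3,2,4,3,2,1,5,1,0,1,0,2]), (1355, [6,1,2,3,2,4,3,2,1,5,1,0,1,0,5]), (1356, [6,1,2,3,2,4,3,2,1,5,1,0,1,2,1]), (1357, [6,1,2,3,2,4,3,2,1,5,1,0,1,2,3]),
   (1358, [6,1,2,3,2,4,3,2,1,5,1,0,1,2,5]), (1359, [6,1,2,3,2,4,3,2,1,5,1,0,1,2,6]), (1360, [6,1,2,3,2,4,3,2,1,5,1,0,2,1,0]), (1361, [6,1,2,3,2,4,3,2,1,5,1,0,2,1,5]),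
   (1362, [6,1,2,3,2,4,3,2,1,5,1,0,2,1,6]), (1363, [6,1,2,3,2,4,3,2,1,5,6,1,2,5,1]), (1364, [6,1,2,3,2,4,3,2,5,1,0,1,2,1,5]), (1365, [6,1,2,3,2,4,3,2,5,1,0,1,2,5,1]),
   (1366, [6,1,2,3,2,4,3,2,5,1,0,2,1,0,5]), (1367, [6,1,2,3,2,4,3,2,5,1,0,2,1,5,6]), (1368, [6,1,2,3,2,4,3,2,5,1,0,2,1,6,5]), (1369, [6,1,2,3,2,4,3,2,5,1,6,5,1,0,2]),
   (1370, [6,1,2,3,2,4,3,2,5,1,6,5,1,2,3]), (1371, [6,1,2,3,2,4,3,2,5,1,6,5,1,2,6]), (1372, [6,1,0,1,2,1,3,2,1,4,3,2,1,5,1,0]), (1373, [6,1,0,1,2,1,3,2,1,4,3,2,1,5,1,2]),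
   (1374, [6,1,0,1,2,1,3,2,1,4,3,2,1,5,1,6]), (1375, [6,1,0,1,2,1,3,2,1,4,3,2,3,5,1,0]), (1376, [6,1,0,1,2,1,3,2,1,4,3,2,5,1,0,1]), (1377, [6,1,0,1,2,1,3,2,1,4,3,2,5,1,0,2]),
   (1378, [6,1,0,1,2,1,3,2,1,4,3,2,5,1,0,6]), (1379, [6,1,0,1,2,1,3,2,1,4,3,2,5,1,2,3]), (1380, [6,1,0,1,2,1,3,2,1,4,3,2,5,1,2,6]), (1381, [6,1,0,1,2,1,3,2,1,4,3,2,5,1,6,5]),
   (1382, [6,1,0,1,2,1,3,2,1,4,3,5,1,2,3,4]), (1383, [6,1,0,1,2,1,3,2,4,3,2,1,0,5,1,0]), (1384, [6,1,0,1,2,1,3,2,4,3,2,1,5,1,0,1]), (1385, [6,1,0,1,2,1,3,2,4,3,2,1,5,1,0,2]),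
   (1386, [6,1,0,1,2,1,3,2,4,3,2,1,5,1,2,3]), (1387, [6,1,0,1,2,1,3,2,4,3,2,1,6,5,1,0]), (1388, [6,1,0,1,2,1,3,2,4,3,2,5,1,0,1,0]), (1389, [6,1,0,1,2,1,3,2,4,3,2,5,1,0,1,2]),
   (1390, [6,1,0,1,2,1,3,2,4,3,2,5,1,0,1,5]), (1391, [6,1,0,1,2,1,3,2,4,3,2,5,1,0,1,6]), (1392, [6,1,0,1,2,1,3,2,4,3,2,5,1,2,3,2]), (1393, [6,1,0,1,2,1,3,2,4,3,2,5,1,2,3,4]),
   (1394, [6,1,0,1,2,1,3,2,4,3,2,5,1,2,6,1]), (1395, [6,1,0,1,2,1,3,2,4,3,5,1,2,3,4,6]), (1396, [6,1,0,1,2,1,3,2,4,3,5,1,2,3,6,1]), (1397, [6,1,0,1,2,1,3,2,4,3,5,1,2,6,1,0]),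
   (1398, [6,1,0,1,2,3,2,1,4,3,2,1,0,1,0,5]), (1399, [6,1,0,1,2,3,2,1,4,3,2,1,0,1,5,1]), (1400, [6,1,0,1,2,3,2,1,4,3,2,1,0,1,5,6]), (1401, [6,1,0,1,2,3,2,1,4,3,2,1,0,5,1,2]),
   (1402, [6,1,0,1,2,3,2,1,4,3,2,1,0,5,1,6]), (1403, [6,1,0,1,2,3,2,1,4,3,2,1,3,5,1,0]), (1404, [6,1,0,1,2,3,2,1,4,3,2,1,3,5,1,6]), (1405, [6,1,0,1,2,3,2,1,4,3,2,1,5,1,0,1]),
   (1406, [6,1,0,1,2,3,2,1,4,3,2,1,5,1,6,1]), (1407, [6,1,0,1,2,3,2,1,4,3,2,3,2,1,5,1]), (1408, [6,1,0,1,2,3,2,1,4,3,2,3,2,5,1,0]), (1409, [6,1,0,1,2,3,2,1,4,3,2,3,5,1,0,2]),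
   (1410, [6,1,0,1,2,3,2,1,4,3,2,3,5,1,0,6]), (1411, [6,1,0,1,2,3,2,1,4,3,2,5,1,0,1,0]), (1412, [6,1,0,1,2,3,2,1,4,3,2,5,1,0,1,6]), (1413, [6,1,0,1,2,3,2,1,4,3,2,5,1,0,6,1]),
   (1414, [6,1,0,1,2,3,2,1,4,3,2,5,1,6,1,0]), (1415, [6,1,0,1,2,3,2,1,4,3,2,5,1,6,1,2]), (1416, [6,1,0,1,2,3,2,1,4,3,2,5,6,1,0,1]), (1417, [6,1,0,1,2,3,2,1,4,3,2,5,6,1,0,2]),
   (1418, [6,1,0,1,2,3,2,1,4,3,2,5,6,1,2,3]), (1419, [6,1,0,1,2,3,2,1,4,3,2,5,6,1,2,5]), (1420, [6,1,0,1,2,3,2,4,3,2,1,0,1,0,2,5]), (1421, [6,1,0,1,2,3,2,4,3,2,1,0,1,2,5,1]),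
   (1422, [6,1,0,1,2,3,2,4,3,2,1,0,1,2,5,6]), (1423, [6,1,0,1,2,3,2,4,3,2,1,0,1,5,1,2]), (1424, [6,1,0,1,2,3,2,4,3,2,1,0,5,1,2,3]), (1425, [6,1,0,1,2,3,2,4,3,2,1,5,6,1,0,2]),
   (1426, [6,1,0,1,2,3,2,4,3,2,1,5,6,1,2,3]), (1427, [6,1,0,1,2,3,2,4,3,2,1,6,5,1,0,2]), (1428, [6,1,0,1,2,3,2,4,3,2,1,6,5,1,2,3]), (1429, [6,1,0,1,2,3,2,4,3,2,1,6,5,1,2,6]),
   (1430, [6,1,0,2,1,3,2,1,0,1,4,3,2,1,0,5]), (1431, [6,1,0,2,1,3,2,1,0,1,4,3,2,1,3,2]), (1432, [6,1,0,2,1,3,2,1,0,1,4,3,2,1,3,5]), (1433, [6,1,0,2,1,3,2,1,0,1,4,3,2,3,5,1]),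
   (1434, [6,1,0,2,1,3,2,1,3,4,3,2,1,0,1,5]), (1435, [6,1,0,2,1,3,2,1,3,4,3,2,1,0,3,2]), (1436, [6,1,0,2,1,3,2,1,3,4,3,2,1,3,2,5]), (1437, [6,1,0,2,1,3,2,1,3,4,3,2,1,3,5,1]),
   (1438, [6,1,0,2,1,3,2,1,3,4,3,2,1,5,1,0]), (1439, [6,1,0,2,1,3,2,1,3,4,3,2,1,6,5,1])]

def chainUIdx0_16 : List (ℕ × List ℕ) :=
  [(1440, [6,1,0,2,1,3,2,1,3,4,3,2,3,4,5,1]), (1441, [6,1,0,2,1,3,2,1,3,4,3,2,3,4,5,6]), (1442, [6,1,0,2,1,3,2,1,3,4,3,2,3,5,1,0]), (1443, [6,1,0,2,1,3,2,1,3,4,3,2,3,5,1,2]),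
   (1444, [6,1,0,2,1,3,2,1,3,4,3,2,3,5,1,6]), (1445, [6,1,0,2,1,3,2,1,3,4,3,2,3,5,6,1]), (1446, [6,1,0,2,1,3,2,1,3,4,3,2,3,6,5,1]), (1447, [6,1,0,2,1,3,2,1,3,4,3,2,5,1,0,1]),
   (1448, [6,1,0,2,1,3,2,1,3,4,3,2,5,1,0,2]), (1449, [6,1,0,2,1,3,2,1,3,4,3,2,5,1,0,6]), (1450, [6,1,0,2,1,3,2,1,3,4,3,2,5,1,6,1]), (1451, [6,1,0,2,1,3,2,1,3,4,3,2,5,1,6,5]),
   (1452, [6,1,0,2,1,3,2,1,3,4,3,2,5,6,1,0]), (1453, [6,1,0,2,1,3,2,1,3,4,3,5,1,2,3,4]), (1454, [6,1,0,2,1,3,2,1,4,3,2,1,3,5,1,2]), (1455, [6,1,0,2,1,3,2,1,4,3,2,1,6,5,1,0]),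
   (1456, [6,1,0,2,1,3,2,1,4,3,2,1,6,5,1,2]), (1457, [6,1,0,2,1,3,2,1,4,3,2,1,6,5,1,6]), (1458, [6,1,0,2,1,3,2,1,4,3,2,3,4,5,1,2]), (1459, [6,1,0,2,1,3,2,1,4,3,2,3,4,5,6,1]),
   (1460, [6,1,0,2,1,3,2,1,4,3,2,3,5,1,6,5]), (1461, [6,1,0,2,1,3,2,1,4,3,2,3,5,6,1,0]), (1462, [6,1,0,2,1,3,2,1,4,3,2,3,6,5,1,2]), (1463, [6,1,0,2,1,3,2,1,4,3,2,5,1,0,1,2]),
   (1464, [6,1,0,2,1,3,2,1,4,3,2,5,1,0,2,1]), (1465, [6,1,0,2,1,3,2,1,4,3,2,5,1,6,1,0]), (1466, [6,1,0,2,1,3,2,1,4,3,2,5,1,6,5,1]), (1467, [6,1,0,2,1,3,2,1,4,3,5,1,0,2,1,0]),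
   (1468, [6,1,0,2,1,3,2,1,4,3,5,1,0,2,1,3]), (1469, [6,1,0,2,1,3,2,1,4,3,5,1,0,2,1,5]), (1470, [6,1,0,2,1,3,2,1,4,3,5,1,0,2,1,6]), (1471, [6,1,0,2,1,3,2,1,4,3,5,1,0,2,3,4]),
   (1472, [6,1,0,2,1,3,2,3,2,4,3,2,1,0,5,1]), (1473, [6,1,0,2,1,3,2,3,2,4,3,2,1,6,5,1]), (1474, [6,1,0,2,1,3,2,3,4,3,2,1,0,1,5,1]), (1475, [6,1,0,2,1,3,2,3,4,3,2,1,0,3,5,1]),
   (1476, [6,1,0,2,1,3,2,3,4,3,2,1,0,5,1,0]), (1477, [6,1,0,2,1,3,2,3,4,3,2,1,0,5,1,2]), (1478, [6,1,0,2,1,3,2,3,4,3,2,1,0,5,1,6]), (1479, [6,1,0,2,1,3,2,3,4,3,2,1,3,2,3,2]),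
   (1480, [6,1,0,2,1,3,2,3,4,3,2,1,3,5,1,6]), (1481, [6,1,0,2,1,3,2,3,4,3,2,1,5,1,0,2]), (1482, [6,1,0,2,1,3,2,3,4,3,2,1,5,1,2,3]), (1483, [6,1,0,2,1,3,2,3,4,3,2,1,6,5,1,0]),
   (1484, [6,1,0,2,1,3,2,3,4,3,2,1,6,5,1,2]), (1485, [6,1,0,2,1,3,2,3,4,3,2,3,5,1,0,2]), (1486, [6,1,0,2,1,3,2,3,4,3,2,3,5,1,0,6]), (1487, [6,1,0,2,1,3,2,3,4,3,2,5,1,0,1,2]),
   (1488, [6,1,0,2,1,3,2,3,4,3,2,5,1,0,2,1]), (1489, [6,1,0,2,1,3,2,3,4,3,2,5,1,0,2,3]), (1490, [6,1,0,2,1,3,2,3,4,3,2,5,1,0,2,6]), (1491, [6,1,0,2,1,3,2,3,4,3,2,5,1,0,6,1]),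
   (1492, [6,1,0,2,1,3,2,3,4,3,2,5,1,2,3,2]), (1493, [6,1,0,2,1,3,2,3,4,3,2,5,1,2,3,4]), (1494, [6,1,0,2,1,3,2,3,4,3,2,5,1,2,3,6]), (1495, [6,1,0,2,1,3,2,3,4,3,2,5,1,2,6,5]),
   (1496, [6,1,0,2,1,3,2,3,4,5,1,2,3,2,3,4]), (1497, [6,1,0,2,1,3,2,4,3,2,1,0,1,0,5,1]), (1498, [6,1,0,2,1,3,2,4,3,2,1,0,1,2,5,1]), (1499, [6,1,0,2,1,3,2,4,3,2,1,0,1,5,1,0]),
   (1500, [6,1,0,2,1,3,2,4,3,2,1,0,1,5,1,2]), (1501, [6,1,0,2,1,3,2,4,3,2,1,0,1,5,1,6]), (1502, [6,1,0,2,1,3,2,4,3,2,1,0,5,1,0,1]), (1503, [6,1,0,2,1,3,2,4,3,2,1,0,5,1,2,3]),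
   (1504, [6,1,0,2,1,3,2,4,3,2,1,0,5,1,6,5]), (1505, [6,1,0,2,1,3,2,4,3,2,1,5,1,0,2,1]), (1506, [6,1,0,2,1,3,2,4,3,2,1,6,1,5,1,0]), (1507, [6,1,0,2,1,3,2,4,3,2,1,6,1,5,1,2]),
   (1508, [6,1,0,2,1,3,2,4,3,2,1,6,5,1,0,1]), (1509, [6,1,0,2,1,3,2,4,3,2,1,6,5,1,0,2]), (1510, [6,1,0,2,1,3,2,4,3,2,1,6,5,1,2,3]), (1511, [6,1,0,2,1,3,2,4,3,2,1,6,5,1,2,6]),
   (1512, [6,1,0,2,1,3,2,4,3,2,5,1,0,1,0,2]), (1513, [6,1,0,2,1,3,2,4,3,2,5,1,0,1,2,1]), (1514, [6,1,0,2,1,3,2,4,3,2,5,1,0,1,2,6]), (1515, [6,1,0,2,1,3,2,4,3,2,5,1,0,1,6,1]),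
   (1516, [6,1,0,2,1,3,2,4,3,2,5,1,0,2,1,6]), (1517, [6,1,0,2,1,3,2,4,3,2,5,1,0,2,6,1]), (1518, [6,1,0,2,1,3,2,4,3,2,5,1,0,6,1,0]), (1519, [6,1,0,2,1,3,2,4,3,2,5,1,2,3,4,6]),
   (1520, [6,1,0,2,1,3,2,4,3,2,5,1,2,3,6,1]), (1521, [6,1,0,2,1,3,2,4,3,2,5,1,2,6,1,0]), (1522, [6,1,0,2,1,3,2,4,3,2,5,1,2,6,1,5]), (1523, [6,1,0,2,1,3,2,4,3,2,6,1,0,5,1,0]),
   (1524, [6,1,0,2,1,3,2,4,3,2,6,1,5,1,0,1]), (1525, [6,1,0,2,1,3,2,4,3,2,6,1,5,1,0,2]), (1526, [6,1,0,2,1,3,2,4,3,2,6,1,5,1,2,6]), (1527, [6,1,0,2,1,3,2,4,3,2,6,5,1,0,1,0]),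
   (1528, [6,1,0,2,1,3,2,4,3,2,6,5,1,0,1,2]), (1529, [6,1,0,2,1,3,2,4,3,2,6,5,1,0,1,5])]

def chainUIdx0_17 : List (ℕ × List ℕ) :=
  [(1530, [6,1,0,2,1,3,2,4,3,2,6,5,1,0,1,6]), (1531, [6,1,0,2,1,3,2,4,3,2,6,5,1,0,2,1]), (1532, [6,1,0,2,1,3,2,4,3,2,6,5,1,0,2,3]), (1533, [6,1,0,2,1,3,2,4,3,2,6,5,1,0,2,6]),
   (1534, [6,1,0,2,1,3,2,4,3,2,6,5,1,2,3,6]), (1535, [6,1,0,2,1,3,2,4,3,5,1,0,2,1,0,1]), (1536, [6,1,0,2,1,3,2,4,3,5,1,0,2,1,0,3]), (1537, [6,1,0,2,1,3,2,4,3,5,1,0,2,1,0,5]),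
   (1538, [6,1,0,2,1,3,2,4,3,5,1,0,2,1,0,6]), (1539, [6,1,0,2,1,3,2,4,3,5,1,0,2,1,3,2]), (1540, [6,1,0,2,1,3,2,4,3,5,1,0,2,1,3,4]), (1541, [6,1,0,2,1,3,2,4,3,5,1,0,2,1,3,5]),
   (1542, [6,1,0,2,1,3,2,4,3,5,1,0,2,1,3,6]), (1543, [6,1,0,2,1,3,2,4,3,5,1,0,2,1,5,6]), (1544, [6,1,0,2,1,3,2,4,3,5,1,0,2,1,6,5]), (1545, [6,1,0,2,1,3,2,4,3,5,1,2,3,4,6,1]),
   (1546, [6,1,0,2,1,3,2,4,3,5,1,2,3,4,6,5]), (1547, [6,1,0,2,1,3,2,4,3,5,1,2,3,6,1,0]), (1548, [6,1,0,2,1,3,2,4,3,5,1,2,3,6,1,2]), (1549, [6,1,0,2,1,3,2,4,3,5,1,2,3,6,1,5]),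
   (1550, [6,1,0,2,1,3,2,4,3,5,1,2,6,1,0,5]), (1551, [6,1,0,2,1,3,2,4,3,5,1,2,6,1,5,1]), (1552, [6,1,0,2,1,3,2,4,3,5,1,2,6,1,5,6]), (1553, [6,1,0,2,1,3,2,4,3,5,1,2,6,5,1,0]),
   (1554, [6,1,0,2,3,2,1,0,4,3,2,1,0,3,4,5]), (1555, [6,1,0,2,3,2,1,0,4,3,2,1,3,4,5,1]), (1556, [6,1,0,2,3,2,1,0,4,3,2,1,3,5,1,2]), (1557, [6,1,0,2,3,2,1,0,4,3,2,1,3,6,5,1]),
   (1558, [6,1,0,2,3,2,1,0,4,3,2,1,5,1,2,3]), (1559, [6,1,0,2,3,2,1,0,4,3,2,1,6,5,1,2]), (1560, [6,1,0,2,3,2,1,0,4,3,2,3,4,5,1,0]), (1561, [6,1,0,2,3,2,1,0,4,3,2,3,4,5,1,2]),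
   (1562, [6,1,0,2,3,2,1,0,4,3,2,3,4,5,1,6]), (1563, [6,1,0,2,3,2,1,0,4,3,2,3,5,1,0,2]), (1564, [6,1,0,2,3,2,1,0,4,3,2,3,5,1,0,6]), (1565, [6,1,0,2,3,2,1,0,4,3,2,3,5,1,2,3]),
   (1566, [6,1,0,2,3,2,1,0,4,3,2,3,5,1,2,6]), (1567, [6,1,0,2,3,2,1,0,4,3,2,5,1,0,2,1]), (1568, [6,1,0,2,3,2,1,0,4,3,2,5,1,0,2,3]), (1569, [6,1,0,2,3,2,1,0,4,3,2,5,1,0,2,6]),
   (1570, [6,1,0,2,3,2,1,0,4,3,2,5,1,2,3,2]), (1571, [6,1,0,2,3,2,1,0,4,3,2,5,1,2,3,4]), (1572, [6,1,0,2,3,2,1,0,4,3,2,5,1,2,3,6]), (1573, [6,1,0,2,3,2,1,0,4,3,5,1,2,3,6,1]),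
   (1574, [6,1,0,2,3,2,1,0,4,5,1,2,3,2,1,0]), (1575, [6,1,0,2,3,2,1,0,4,5,1,2,3,2,1,3]), (1576, [6,1,0,2,3,2,1,0,4,5,1,2,3,2,1,5]), (1577, [6,1,0,2,3,2,1,0,4,5,1,2,3,2,1,6]),
   (1578, [6,1,0,2,3,2,1,4,3,2,1,3,4,5,1,0]), (1579, [6,1,0,2,3,2,1,4,3,2,3,2,1,4,3,2]), (1580, [6,1,0,2,3,2,1,4,3,2,3,4,5,1,0,2]), (1581, [6,1,0,2,3,2,1,4,3,2,3,4,5,1,0,6]),
   (1582, [6,1,0,2,3,2,1,4,3,2,3,4,5,1,6,1]), (1583, [6,1,0,2,3,2,1,4,3,2,3,4,5,6,1,0]), (1584, [6,1,0,2,3,2,1,4,3,2,3,4,5,6,1,2]), (1585, [6,1,0,2,3,2,1,4,3,2,3,5,1,2,6,1]),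
   (1586, [6,1,0,2,3,2,1,4,3,2,3,5,1,6,1,2]), (1587, [6,1,0,2,3,2,1,4,3,2,3,5,1,6,1,5]), (1588, [6,1,0,2,3,2,1,4,3,2,3,5,6,1,0,2]), (1589, [6,1,0,2,3,2,1,4,3,2,3,5,6,1,2,3]),
   (1590, [6,1,0,2,3,2,1,4,3,2,5,1,6,1,0,2]), (1591, [6,1,0,2,3,2,1,4,3,2,5,1,6,1,2,3]), (1592, [6,1,0,2,3,2,1,4,3,2,5,6,1,2,5,1]), (1593, [6,1,0,2,3,2,1,4,3,5,6,1,0,2,1,6]),
   (1594, [6,1,0,2,3,2,1,4,3,5,6,1,2,3,5,1]), (1595, [6,1,0,2,3,2,1,4,3,5,6,1,2,5,1,0]), (1596, [6,1,0,2,3,2,4,3,2,1,0,5,1,0,1,2]), (1597, [6,1,2,3,2,1,0,4,3,2,1,0,1,0,3,2]),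
   (1598, [6,1,2,3,2,1,0,4,3,2,1,0,1,3,2,3]), (1599, [6,1,2,3,2,1,0,4,3,2,1,3,2,4,5,1]), (1600, [6,1,2,3,2,1,0,4,3,2,1,3,4,5,1,0]), (1601, [6,1,2,3,2,1,0,4,3,2,1,6,5,1,2,3]),
   (1602, [6,1,2,3,2,1,0,4,3,2,3,4,5,1,0,1]), (1603, [6,1,2,3,2,1,0,4,3,2,3,5,1,0,1,0]), (1604, [6,1,2,3,2,1,0,4,3,2,3,5,1,0,1,2]), (1605, [6,1,2,3,2,1,0,4,3,2,3,5,1,0,1,6]),
   (1606, [6,1,2,3,2,1,0,4,3,2,5,1,0,2,1,6]), (1607, [6,1,2,3,2,1,0,4,3,2,5,1,0,2,6,1]), (1608, [6,1,2,3,2,1,4,3,2,1,0,1,0,3,2,1]), (1609, [6,1,2,3,2,1,4,3,2,1,0,1,0,3,2,3]),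
   (1610, [6,1,2,3,2,1,4,3,2,1,0,1,0,3,2,5]), (1611, [6,1,2,3,2,1,4,3,2,1,0,1,3,2,1,3]), (1612, [6,1,2,3,2,1,4,3,2,1,0,1,3,2,3,5]), (1613, [6,1,2,3,2,1,4,3,2,1,0,1,3,2,6,5]),
   (1614, [6,1,2,3,2,1,4,3,2,1,3,2,4,5,1,2]), (1615, [6,1,2,3,2,1,4,3,2,1,3,2,4,5,6,1]), (1616, [6,1,2,3,2,1,4,3,2,1,3,2,5,6,1,0]), (1617, [6,1,2,3,2,1,4,3,2,1,3,2,5,6,1,2]),
   (1618, [6,1,2,3,2,1,4,3,2,1,3,4,5,1,2,3]), (1619, [6,1,2,3,2,1,4,3,2,1,3,4,5,6,1,2])]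

def chainUIdx0_18 : List (ℕ × List ℕ) :=
  [(1620, [6,1,2,3,2,1,4,3,2,1,3,5,1,6,1,2]), (1621, [6,1,2,3,2,1,4,3,2,1,3,5,6,1,0,1]), (1622, [6,1,2,3,2,1,4,3,2,1,3,5,6,1,0,2]), (1623, [6,1,2,3,2,1,4,3,2,1,3,5,6,1,2,5]),
   (1624, [6,1,2,3,2,1,4,3,2,3,4,5,1,0,1,2]), (1625, [6,1,2,3,2,1,4,3,2,3,4,5,6,1,0,1]), (1626, [6,1,2,3,2,1,4,3,2,3,4,5,6,1,0,2]), (1627, [6,1,2,3,2,1,4,3,2,3,5,6,1,0,1,2]),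
   (1628, [6,1,2,3,2,1,4,3,2,5,1,6,1,0,2,3]), (1629, [6,1,2,3,2,1,4,3,2,5,1,6,1,2,5,1]), (1630, [6,1,2,3,2,1,4,3,5,6,1,2,5,1,0,1]), (1631, [6,1,2,3,2,4,3,2,1,0,1,5,1,0,1,2]),
   (1632, [6,1,2,3,2,4,3,2,1,0,1,5,1,0,2,1]), (1633, [6,1,2,3,2,4,3,2,1,0,5,1,0,1,2,1]), (1634, [6,1,2,3,2,4,3,2,1,0,5,1,0,1,2,3]), (1635, [6,1,2,3,2,4,3,2,1,0,5,1,0,2,1,3]),
   (1636, [6,1,2,3,2,4,3,2,1,0,5,1,0,2,1,5]), (1637, [6,1,2,3,2,4,3,2,1,0,5,1,0,2,1,6]), (1638, [6,1,2,3,2,4,3,2,1,0,5,1,0,2,3,4]), (1639, [6,1,2,3,2,4,3,2,1,0,6,1,2,5,1,0]),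
   (1640, [6,1,2,3,2,4,3,2,1,0,6,1,2,5,1,6]), (1641, [6,1,2,3,2,4,3,2,1,5,1,0,1,0,2,1]), (1642, [6,1,2,3,2,4,3,2,1,5,1,0,1,0,2,3]), (1643, [6,1,2,3,2,4,3,2,1,5,1,0,1,0,2,5]),
   (1644, [6,1,2,3,2,4,3,2,1,5,1,0,1,2,1,0]), (1645, [6,1,2,3,2,4,3,2,1,5,1,0,1,2,1,3]), (1646, [6,1,2,3,2,4,3,2,1,5,1,0,1,2,1,6]), (1647, [6,1,2,3,2,4,3,2,1,5,1,0,1,2,3,2]),
   (1648, [6,1,2,3,2,4,3,2,1,5,1,0,1,2,3,4]), (1649, [6,1,2,3,2,4,3,2,1,5,1,0,1,2,3,5]), (1650, [6,1,2,3,2,4,3,2,1,5,1,0,1,2,3,6]), (1651, [6,1,2,3,2,4,3,2,1,5,1,0,1,2,5,1]),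
   (1652, [6,1,2,3,2,4,3,2,1,5,1,0,1,2,6,1]), (1653, [6,1,2,3,2,4,3,2,1,5,1,0,2,1,0,6]), (1654, [6,1,2,3,2,4,3,2,1,5,1,0,2,1,6,5]), (1655, [6,1,2,3,2,4,3,2,1,5,6,1,2,5,1,0]),
   (1656, [6,1,2,3,2,4,3,2,1,5,6,1,2,5,1,6]), (1657, [6,1,2,3,2,4,3,2,5,1,0,2,1,0,5,1]), (1658, [6,1,2,3,2,4,3,2,5,1,0,2,1,6,5,1]), (1659, [6,1,2,3,2,4,3,2,5,1,6,5,1,0,2,3]),
   (1660, [6,1,2,3,2,4,3,2,5,1,6,5,1,2,3,2]), (1661, [6,1,2,3,2,4,3,2,5,1,6,5,1,2,3,4]), (1662, [6,1,2,3,2,4,3,2,5,1,6,5,1,2,3,6]), (1663, [6,1,0,1,2,1,3,2,1,4,3,2,1,5,1,0,2]),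
   (1664, [6,1,0,1,2,1,3,2,1,4,3,2,5,1,0,1,2]), (1665, [6,1,0,1,2,1,3,2,1,4,3,2,5,1,2,3,4]), (1666, [6,1,0,1,2,1,3,2,4,3,2,1,0,5,1,0,1]), (1667, [6,1,0,1,2,1,3,2,4,3,2,1,5,1,0,1,6]),
   (1668, [6,1,0,1,2,1,3,2,4,3,2,1,6,5,1,0,1]), (1669, [6,1,0,1,2,1,3,2,4,3,2,5,1,0,1,0,2]), (1670, [6,1,0,1,2,1,3,2,4,3,2,5,1,0,1,2,3]), (1671, [6,1,0,1,2,1,3,2,4,3,2,5,1,0,1,2,5]),
   (1672, [6,1,0,1,2,1,3,2,4,3,2,5,1,2,3,2,4]), (1673, [6,1,0,1,2,1,3,2,4,3,2,5,1,2,6,1,5]), (1674, [6,1,0,1,2,1,3,2,4,3,5,1,2,3,6,1,2]), (1675, [6,1,0,1,2,3,2,1,4,3,2,1,0,1,5,1,2]),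
   (1676, [6,1,0,1,2,3,2,1,4,3,2,1,0,1,5,1,6]), (1677, [6,1,0,1,2,3,2,1,4,3,2,5,1,0,6,1,2]), (1678, [6,1,0,1,2,3,2,1,4,3,2,5,1,6,1,0,2]), (1679, [6,1,0,1,2,3,2,1,4,3,2,5,1,6,1,2,3]),
   (1680, [6,1,0,1,2,3,2,1,4,3,2,5,6,1,0,2,1]), (1681, [6,1,0,1,2,3,2,1,4,3,2,5,6,1,0,2,3]), (1682, [6,1,0,1,2,3,2,1,4,3,2,5,6,1,2,3,2]), (1683, [6,1,0,1,2,3,2,4,3,2,1,0,1,2,5,1,2]),
   (1684, [6,1,0,1,2,3,2,4,3,2,1,0,1,5,1,2,3]), (1685, [6,1,0,1,2,3,2,4,3,2,1,0,5,1,2,3,2]), (1686, [6,1,0,1,2,3,2,4,3,2,1,0,5,1,2,3,4]), (1687, [6,1,0,1,2,3,2,4,3,2,1,6,5,1,2,3,4]),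
   (1688, [6,1,0,2,1,3,2,1,0,1,4,3,2,1,3,2,5]), (1689, [6,1,0,2,1,3,2,1,0,1,4,3,2,3,5,1,2]), (1690, [6,1,0,2,1,3,2,1,3,4,3,2,1,3,2,5,1]), (1691, [6,1,0,2,1,3,2,1,3,4,3,2,1,3,5,1,2]),
   (1692, [6,1,0,2,1,3,2,1,3,4,3,2,1,6,5,1,2]), (1693, [6,1,0,2,1,3,2,1,3,4,3,2,1,6,5,1,6]), (1694, [6,1,0,2,1,3,2,1,3,4,3,2,3,4,5,1,2]), (1695, [6,1,0,2,1,3,2,1,3,4,3,2,3,5,1,0,2]),
   (1696, [6,1,0,2,1,3,2,1,3,4,3,2,3,5,1,2,6]), (1697, [6,1,0,2,1,3,2,1,3,4,3,2,3,5,1,6,1]), (1698, [6,1,0,2,1,3,2,1,3,4,3,2,3,5,1,6,5]), (1699, [6,1,0,2,1,3,2,1,3,4,3,2,3,5,6,1,2]),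
   (1700, [6,1,0,2,1,3,2,1,3,4,3,2,3,6,5,1,2]), (1701, [6,1,0,2,1,3,2,1,3,4,3,2,5,1,6,1,0]), (1702, [6,1,0,2,1,3,2,1,4,3,2,5,1,6,5,1,2]), (1703, [6,1,0,2,1,3,2,1,4,3,5,1,0,2,1,0,1]),
   (1704, [6,1,0,2,1,3,2,1,4,3,5,1,0,2,1,0,6]), (1705, [6,1,0,2,1,3,2,1,4,3,5,1,0,2,1,3,4]), (1706, [6,1,0,2,1,3,2,1,4,3,5,1,0,2,1,5,6]), (1707, [6,1,0,2,1,3,2,1,4,3,5,1,0,2,1,6,5]),
   (1708, [6,1,0,2,1,3,2,3,2,4,3,2,1,6,5,1,2]), (1709, [6,1,0,2,1,3,2,3,4,3,2,1,0,3,5,1,6])]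

def chainUIdx0_19 : List (ℕ × List ℕ) :=
  [(1710, [6,1,0,2,1,3,2,3,4,3,2,1,6,5,1,0,2]), (1711, [6,1,0,2,1,3,2,3,4,3,2,5,1,0,1,2,1]), (1712, [6,1,0,2,1,3,2,3,4,3,2,5,1,0,1,2,3]), (1713, [6,1,0,2,1,3,2,3,4,3,2,5,1,2,3,2,4]),
   (1714, [6,1,0,2,1,3,2,3,4,3,2,5,1,2,3,4,6]), (1715, [6,1,0,2,1,3,2,4,3,2,1,0,1,0,5,1,6]), (1716, [6,1,0,2,1,3,2,4,3,2,1,0,1,5,1,2,3]), (1717, [6,1,0,2,1,3,2,4,3,2,1,6,1,5,1,2,3]),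
   (1718, [6,1,0,2,1,3,2,4,3,2,1,6,5,1,0,2,3]), (1719, [6,1,0,2,1,3,2,4,3,2,5,1,0,1,2,1,6]), (1720, [6,1,0,2,1,3,2,4,3,2,5,1,0,2,1,6,1]), (1721, [6,1,0,2,1,3,2,4,3,2,5,1,0,2,6,1,0]),
   (1722, [6,1,0,2,1,3,2,4,3,2,6,1,0,5,1,0,1]), (1723, [6,1,0,2,1,3,2,4,3,2,6,1,5,1,0,2,1]), (1724, [6,1,0,2,1,3,2,4,3,2,6,5,1,0,2,1,5]), (1725, [6,1,0,2,1,3,2,4,3,2,6,5,1,0,2,1,6]),
   (1726, [6,1,0,2,1,3,2,4,3,2,6,5,1,0,2,3,6]), (1727, [6,1,0,2,1,3,2,4,3,5,1,0,2,1,0,3,2]), (1728, [6,1,0,2,1,3,2,4,3,5,1,0,2,1,0,3,5]), (1729, [6,1,0,2,1,3,2,4,3,5,1,0,2,1,0,3,6]),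
   (1730, [6,1,0,2,1,3,2,4,3,5,1,0,2,1,0,6,1]), (1731, [6,1,0,2,1,3,2,4,3,5,1,0,2,1,3,2,6]), (1732, [6,1,0,2,1,3,2,4,3,5,1,0,2,1,3,4,6]), (1733, [6,1,0,2,1,3,2,4,3,5,1,0,2,1,3,5,6]),
   (1734, [6,1,0,2,1,3,2,4,3,5,1,0,2,1,3,6,5]), (1735, [6,1,0,2,1,3,2,4,3,5,1,2,6,1,5,1,6]), (1736, [6,1,0,2,3,2,1,0,4,3,2,1,3,6,5,1,2]), (1737, [6,1,0,2,3,2,1,0,4,3,2,3,4,5,1,2,6]),
   (1738, [6,1,0,2,3,2,1,0,4,3,2,3,5,1,0,2,6]), (1739, [6,1,0,2,3,2,1,0,4,3,2,3,5,1,2,3,2]), (1740, [6,1,0,2,3,2,1,0,4,3,2,5,1,0,2,1,3]), (1741, [6,1,0,2,3,2,1,0,4,3,2,5,1,0,2,3,2]),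
   (1742, [6,1,0,2,3,2,1,0,4,5,1,2,3,2,1,0,3]), (1743, [6,1,0,2,3,2,1,0,4,5,1,2,3,2,1,0,6]), (1744, [6,1,0,2,3,2,1,0,4,5,1,2,3,2,1,6,5]), (1745, [6,1,0,2,3,2,1,4,3,2,3,4,5,1,6,1,5]),
   (1746, [6,1,0,2,3,2,1,4,3,2,3,4,5,6,1,0,2]), (1747, [6,1,0,2,3,2,1,4,3,2,3,4,5,6,1,2,3]), (1748, [6,1,0,2,3,2,1,4,3,2,3,5,1,6,1,2,5]), (1749, [6,1,0,2,3,2,4,3,2,1,0,5,1,0,1,2,3]),
   (1750, [6,1,2,3,2,1,0,4,3,2,1,0,1,0,3,2,1]), (1751, [6,1,2,3,2,1,0,4,3,2,3,4,5,1,0,1,2]), (1752, [6,1,2,3,2,1,0,4,3,2,3,5,1,0,1,0,2]), (1753, [6,1,2,3,2,1,0,4,3,2,3,5,1,0,1,2,6]),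
   (1754, [6,1,2,3,2,1,4,3,2,1,0,1,0,3,2,1,3]), (1755, [6,1,2,3,2,1,4,3,2,1,0,1,3,2,6,5,1]), (1756, [6,1,2,3,2,1,4,3,2,1,3,2,4,5,6,1,2]), (1757, [6,1,2,3,2,1,4,3,2,1,3,2,5,6,1,0,2]),
   (1758, [6,1,2,3,2,1,4,3,2,1,3,5,6,1,0,1,2]), (1759, [6,1,2,3,2,1,4,3,2,1,3,5,6,1,0,2,1]), (1760, [6,1,2,3,2,1,4,3,2,3,4,5,6,1,0,1,2]), (1761, [6,1,2,3,2,1,4,3,5,6,1,2,5,1,0,1,0]),
   (1762, [6,1,2,3,2,1,4,3,5,6,1,2,5,1,0,1,2]), (1763, [6,1,2,3,2,1,4,3,5,6,1,2,5,1,0,1,6]), (1764, [6,1,2,3,2,4,3,2,1,0,5,1,0,2,1,3,6]), (1765, [6,1,2,3,2,4,3,2,1,5,1,0,1,0,2,3,2]),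
   (1766, [6,1,2,3,2,4,3,2,1,5,1,0,1,0,2,3,4]), (1767, [6,1,2,3,2,4,3,2,1,5,1,0,1,0,2,3,5]), (1768, [6,1,2,3,2,4,3,2,1,5,1,0,1,2,3,2,1]), (1769, [6,1,2,3,2,4,3,2,1,5,1,0,1,2,3,2,3]),
   (1770, [6,1,2,3,2,4,3,2,1,5,1,0,1,2,3,4,6]), (1771, [6,1,2,3,2,4,3,2,1,5,1,0,1,2,3,5,1]), (1772, [6,1,2,3,2,4,3,2,1,5,6,1,2,5,1,0,6]), (1773, [6,1,0,2,1,3,2,1,0,1,4,3,2,1,3,2,5,1]),
   (1774, [6,1,0,2,1,3,2,1,3,4,3,2,1,3,2,5,1,2]), (1775, [6,1,0,2,1,3,2,1,3,4,3,2,3,5,1,2,6,1]), (1776, [6,1,0,2,1,3,2,1,3,4,3,2,3,5,1,2,6,5]), (1777, [6,1,0,2,1,3,2,1,3,4,3,2,3,5,1,6,1,2]),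
   (1778, [6,1,0,2,1,3,2,4,3,5,1,0,2,1,0,3,6,1]), (1779, [6,1,2,3,2,1,0,4,3,2,3,5,1,0,1,0,2,1]), (1780, [6,1,2,3,2,1,4,3,2,1,3,5,6,1,0,1,2,1]), (1781, [6,1,0,2,1,3,2,1,3,4,3,2,3,5,1,2,6,1,2])]

def chainUIdx0 : List (ℕ × List ℕ) :=
  chainUIdx0_0 ++ chainUIdx0_1 ++ chainUIdx0_2 ++ chainUIdx0_3 ++ chainUIdx0_4 ++ chainUIdx0_5 ++ chainUIdx0_6 ++ chainUIdx0_7 ++ chainUIdx0_8 ++ chainUIdx0_9 ++ chainUIdx0_10 ++ chainUIdx0_11 ++ chainUIdx0_12 ++ chainUIdx0_13 ++ chainUIdx0_14 ++ chainUIdx0_15 ++ chainUIdx0_16 ++ chainUIdx0_17 ++ chainUIdx0_18 ++ chainUIdx0_19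

def chainUGens0 : List (List ℕ) :=
  [[0],
   [1],
   [2],
   [3],
   [4],
   [5],
   [6]]

def chainU0 : SLev := ⟨⟨0, chainUGens0, chainUOrb0⟩, chainUIdx0⟩

def chainUOrb1_0 : List (ℕ × ℕ × ℕ) :=
  [(2, 1, 1), (3, 2, 0), (4, 2, 2), (5, 2, 5), (6, 3, 1), (7, 3, 2),
   (8, 4, 3), (9, 4, 5), (10, 6, 2), (11, 7, 1), (12, 7, 3), (13, 8, 2),
   (14, 8, 4), (15, 8, 5), (16, 9, 1), (17, 10, 1), (18, 10, 3), (19, 11, 0),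
   (20, 11, 3), (21, 11, 5), (23, 12, 2), (24, 12, 4), (25, 13, 1), (26, 13, 4),
   (27, 13, 5), (28, 14, 5), (29, 15, 1), (22, 17, 0), (31, 17, 3), (32, 17, 5),
   (33, 18, 2), (34, 18, 4), (30, 19, 1), (35, 19, 3), (36, 19, 5), (37, 20, 2),
   (38, 20, 4), (39, 20, 5), (42, 23, 1), (43, 23, 4), (44, 25, 0), (45, 25, 4),
   (46, 25, 5), (48, 26, 3), (49, 26, 5), (50, 27, 1), (51, 28, 1), (52, 29, 2),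
   (40, 22, 3), (41, 22, 5), (53, 31, 2), (54, 31, 4), (55, 31, 5), (56, 33, 1),
   (57, 33, 4), (58, 35, 4), (59, 35, 5), (60, 37, 1), (61, 37, 3), (62, 37, 4),
   (63, 37, 5), (65, 38, 5), (69, 42, 0), (70, 42, 4), (71, 42, 5), (73, 43, 3),
   (64, 44, 1), (74, 44, 4), (75, 44, 5), (77, 45, 3), (78, 45, 5), (80, 46, 1),
   (83, 48, 2), (84, 48, 5), (85, 49, 1), (86, 51, 2), (66, 40, 4), (67, 40, 5),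
   (68, 41, 1), (87, 53, 1), (88, 53, 4), (89, 53, 5), (90, 54, 5), (91, 56, 4),
   (92, 56, 5), (93, 57, 3), (94, 58, 5), (95, 60, 0), (96, 60, 3), (97, 60, 4)]

def chainUOrb1_1 : List (ℕ × ℕ × ℕ) :=
  [(98, 60, 5), (100, 61, 2), (101, 61, 4), (102, 61, 5), (103, 62, 3), (104, 62, 5),
   (106, 63, 1), (110, 69, 4), (111, 69, 5), (113, 70, 3), (114, 70, 5), (118, 73, 2),
   (105, 64, 4), (107, 64, 5), (119, 74, 3), (120, 74, 5), (122, 75, 1), (123, 77, 2),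
   (124, 77, 5), (126, 78, 1), (131, 83, 1), (132, 83, 5), (133, 84, 1), (108, 66, 5),
   (109, 67, 1), (134, 87, 4), (135, 87, 5), (136, 88, 3), (137, 88, 5), (138, 89, 1),
   (139, 91, 3), (140, 91, 5), (142, 93, 2), (143, 95, 1), (144, 95, 4), (145, 95, 5),
   (147, 96, 4), (148, 96, 5), (150, 97, 3), (151, 97, 5), (153, 98, 1), (156, 100, 4),
   (141, 100, 5), (157, 101, 3), (158, 101, 5), (159, 102, 1), (160, 103, 2), (161, 103, 5),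
   (163, 104, 1), (165, 106, 0), (170, 110, 3), (171, 110, 5), (173, 111, 1), (174, 113, 2),
   (175, 113, 5), (181, 118, 1), (162, 105, 3), (164, 105, 5), (167, 107, 1), (182, 119, 2),
   (183, 119, 5), (185, 120, 1), (186, 122, 0), (187, 122, 2), (189, 123, 1), (190, 123, 3),
   (191, 123, 5), (193, 124, 1), (203, 131, 0), (204, 131, 5), (206, 132, 1), (207, 133, 2),
   (168, 108, 1), (169, 109, 2), (208, 134, 3), (209, 134, 5), (210, 135, 1), (211, 136, 2),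
   (212, 136, 5), (213, 137, 1), (214, 138, 0), (216, 139, 2), (217, 139, 5), (220, 142, 1),
   (221, 143, 4), (222, 143, 5), (224, 144, 3), (225, 144, 5), (227, 145, 1), (229, 147, 3)]

def chainUOrb1_2 : List (ℕ × ℕ × ℕ) :=
  [(230, 147, 5), (232, 148, 1), (235, 150, 2), (236, 150, 5), (238, 151, 1), (241, 153, 0),
   (242, 156, 3), (218, 156, 5), (219, 141, 1), (243, 157, 2), (244, 157, 5), (245, 158, 1),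
   (166, 159, 0), (246, 159, 2), (247, 160, 1), (248, 160, 5), (250, 161, 1), (252, 163, 0),
   (255, 165, 1), (261, 170, 2), (262, 170, 5), (264, 171, 1), (265, 173, 0), (266, 173, 2),
   (268, 174, 1), (269, 174, 3), (270, 174, 5), (280, 181, 0), (281, 181, 5), (249, 162, 2),
   (251, 162, 5), (254, 164, 1), (257, 167, 0), (258, 167, 2), (283, 182, 1), (284, 182, 3),
   (285, 182, 5), (287, 183, 1), (288, 185, 0), (289, 185, 2), (291, 186, 1), (292, 186, 2),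
   (293, 187, 3), (295, 189, 0), (296, 189, 3), (297, 189, 5), (299, 190, 4), (300, 190, 5),
   (302, 191, 1), (306, 193, 2), (319, 203, 1), (320, 203, 5), (322, 204, 1), (325, 206, 0),
   (326, 206, 2), (259, 168, 2), (260, 169, 3), (328, 208, 2), (329, 208, 5), (330, 209, 1),
   (331, 211, 1), (332, 211, 5), (333, 212, 1), (334, 213, 0), (336, 216, 1), (337, 216, 3),
   (338, 216, 5), (341, 220, 0), (342, 220, 5), (344, 221, 3), (345, 221, 5), (348, 224, 2),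
   (349, 224, 5), (351, 225, 1), (353, 229, 2), (354, 229, 5), (356, 230, 1), (256, 232, 0),
   (359, 235, 1), (360, 235, 3), (361, 235, 5), (363, 236, 1), (366, 238, 0), (367, 242, 2),
   (339, 242, 5), (340, 218, 1), (368, 243, 1), (369, 243, 3), (370, 243, 5), (371, 244, 1)]

def chainUOrb1_3 : List (ℕ × ℕ × ℕ) :=
  [(253, 245, 0), (372, 245, 2), (215, 166, 1), (373, 247, 0), (374, 247, 5), (376, 248, 1),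
   (379, 250, 0), (380, 250, 2), (383, 252, 1), (389, 261, 1), (390, 261, 3), (391, 261, 5),
   (393, 262, 1), (394, 264, 0), (395, 264, 2), (397, 268, 0), (398, 268, 3), (399, 268, 5),
   (401, 269, 2), (402, 269, 4), (403, 269, 5), (405, 270, 1), (417, 280, 1), (418, 280, 5),
   (377, 249, 1), (378, 249, 5), (382, 251, 1), (385, 254, 0), (386, 254, 2), (387, 257, 2),
   (388, 258, 3), (422, 283, 0), (423, 283, 3), (424, 283, 5), (426, 284, 4), (427, 284, 5),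
   (429, 285, 1), (431, 287, 0), (432, 287, 2), (434, 288, 1), (435, 288, 2), (437, 292, 3),
   (440, 295, 1), (441, 295, 3), (442, 295, 5), (444, 296, 2), (445, 296, 4), (446, 296, 5),
   (448, 297, 1), (452, 299, 5), (454, 300, 1), (458, 302, 0), (459, 302, 2), (327, 319, 0),
   (475, 319, 2), (476, 319, 5), (477, 320, 1), (479, 322, 0), (480, 322, 2), (482, 325, 1),
   (483, 325, 2), (486, 328, 1), (487, 328, 3), (488, 328, 5), (489, 329, 1), (490, 331, 0),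
   (491, 331, 5), (493, 332, 1), (494, 333, 0), (495, 333, 2), (497, 336, 0), (498, 336, 3),
   (499, 336, 5), (501, 337, 2), (502, 337, 5), (503, 338, 1), (506, 341, 1), (507, 341, 5),
   (510, 344, 2), (511, 344, 5), (514, 348, 1), (515, 348, 5), (517, 349, 1), (519, 353, 1),
   (520, 353, 3), (521, 353, 5), (523, 354, 1), (384, 356, 0), (526, 359, 0), (527, 359, 3)]

def chainUOrb1_4 : List (ℕ × ℕ × ℕ) :=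
  [(528, 359, 5), (530, 360, 4), (531, 360, 5), (533, 361, 1), (537, 363, 0), (538, 363, 2),
   (539, 367, 1), (504, 367, 5), (505, 339, 1), (540, 368, 0), (541, 368, 3), (542, 368, 5),
   (544, 369, 5), (545, 370, 1), (381, 371, 0), (546, 371, 2), (335, 253, 1), (547, 372, 3),
   (548, 373, 1), (549, 373, 5), (551, 374, 1), (555, 376, 0), (556, 376, 2), (561, 379, 1),
   (562, 379, 2), (563, 380, 3), (570, 389, 0), (571, 389, 3), (572, 389, 5), (574, 390, 4),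
   (575, 390, 5), (577, 391, 1), (579, 393, 0), (580, 393, 2), (582, 395, 3), (583, 397, 1),
   (584, 397, 3), (585, 397, 5), (587, 398, 2), (588, 398, 4), (589, 398, 5), (591, 399, 1),
   (595, 401, 1), (596, 401, 4), (597, 401, 5), (599, 402, 5), (601, 403, 1), (605, 405, 0),
   (343, 417, 0), (616, 417, 2), (508, 417, 5), (617, 418, 1), (558, 377, 0), (559, 377, 5),
   (560, 378, 1), (566, 382, 0), (567, 382, 2), (568, 385, 2), (569, 387, 3), (620, 422, 1),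
   (621, 422, 3), (622, 422, 5), (624, 423, 2), (625, 423, 4), (626, 423, 5), (627, 424, 1),
   (631, 426, 5), (633, 427, 1), (635, 429, 0), (636, 429, 2), (640, 431, 1), (641, 431, 2),
   (645, 440, 0), (646, 440, 2), (647, 440, 3), (648, 440, 5), (650, 441, 2), (651, 441, 4),
   (652, 441, 5), (637, 442, 1), (629, 444, 3), (655, 444, 4), (656, 444, 5), (657, 445, 5),
   (659, 446, 1), (663, 448, 0), (664, 448, 2), (667, 452, 1), (671, 454, 0), (672, 454, 2)]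

def chainUOrb1_5 : List (ℕ × ℕ × ℕ) :=
  [(675, 458, 1), (676, 458, 2), (484, 327, 2), (485, 327, 5), (550, 475, 3), (691, 475, 5),
   (692, 476, 1), (693, 477, 0), (694, 477, 2), (699, 479, 1), (700, 479, 2), (704, 482, 0),
   (705, 482, 2), (706, 482, 5), (707, 483, 1), (492, 486, 0), (710, 486, 3), (711, 486, 5),
   (712, 487, 5), (713, 488, 1), (714, 489, 2), (500, 490, 1), (715, 490, 5), (716, 491, 1),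
   (718, 493, 0), (719, 493, 2), (721, 494, 2), (722, 495, 3), (724, 497, 1), (725, 497, 3),
   (726, 497, 5), (727, 498, 2), (728, 498, 5), (730, 499, 1), (733, 501, 1), (734, 501, 5),
   (735, 502, 1), (736, 503, 0), (740, 506, 0), (741, 506, 2), (742, 506, 5), (743, 507, 1),
   (746, 510, 1), (747, 510, 3), (748, 510, 5), (751, 514, 0), (752, 514, 5), (753, 515, 1),
   (754, 517, 2), (755, 519, 0), (756, 519, 3), (757, 519, 5), (759, 520, 4), (760, 520, 5),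
   (762, 521, 1), (565, 523, 0), (766, 523, 2), (767, 526, 1), (768, 526, 5), (649, 527, 4),
   (770, 527, 5), (771, 528, 1), (773, 530, 5), (774, 531, 1), (777, 533, 0), (778, 533, 2),
   (783, 537, 2), (784, 538, 3), (785, 539, 0), (786, 539, 5), (738, 504, 1), (739, 505, 2),
   (788, 540, 1), (789, 540, 3), (790, 540, 5), (792, 541, 2), (793, 541, 5), (795, 542, 1),
   (798, 544, 1), (799, 545, 0), (800, 545, 2), (496, 381, 1), (564, 381, 2), (802, 546, 3),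
   (803, 547, 2), (804, 548, 0), (805, 548, 2), (806, 548, 5), (807, 549, 1), (808, 551, 0)]

def chainUOrb1_6 : List (ℕ × ℕ × ℕ) :=
  [(809, 551, 2), (813, 555, 1), (814, 555, 2), (816, 556, 3), (825, 561, 2), (826, 562, 1),
   (827, 562, 3), (828, 563, 2), (829, 563, 4), (834, 570, 1), (835, 570, 3), (836, 570, 5),
   (838, 571, 2), (839, 571, 4), (840, 571, 5), (842, 572, 1), (846, 574, 5), (848, 575, 1),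
   (850, 577, 0), (851, 577, 2), (855, 579, 2), (856, 580, 3), (858, 582, 2), (859, 583, 0),
   (860, 583, 2), (529, 583, 3), (861, 583, 5), (862, 584, 4), (863, 584, 5), (852, 585, 1),
   (864, 587, 1), (865, 587, 4), (866, 587, 5), (867, 588, 5), (869, 589, 1), (872, 591, 0),
   (875, 595, 0), (876, 595, 4), (877, 595, 5), (878, 596, 3), (879, 596, 5), (881, 597, 1),
   (882, 599, 1), (886, 601, 0), (887, 601, 2), (890, 605, 1), (509, 343, 5), (731, 616, 5),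
   (744, 508, 1), (902, 617, 0), (903, 617, 2), (729, 558, 1), (819, 558, 5), (820, 559, 1),
   (822, 560, 0), (823, 560, 2), (833, 566, 2), (910, 620, 0), (911, 620, 3), (912, 621, 2),
   (913, 621, 4), (914, 621, 5), (425, 624, 3), (915, 624, 4), (916, 624, 5), (917, 625, 5),
   (918, 626, 1), (920, 627, 0), (921, 627, 2), (925, 631, 1), (927, 633, 0), (928, 633, 2),
   (932, 635, 1), (933, 635, 2), (935, 636, 3), (939, 640, 2), (794, 645, 2), (941, 645, 3),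
   (942, 645, 5), (791, 646, 3), (943, 646, 5), (944, 647, 2), (945, 647, 4), (946, 647, 5),
   (937, 648, 1), (949, 650, 1), (950, 650, 4), (951, 650, 5), (952, 651, 5), (929, 652, 1)]

def chainUOrb1_7 : List (ℕ × ℕ × ℕ) :=
  [(934, 637, 0), (936, 637, 2), (844, 629, 4), (923, 629, 5), (956, 655, 5), (957, 656, 1),
   (959, 657, 1), (963, 659, 0), (964, 659, 2), (628, 663, 1), (967, 663, 2), (973, 667, 0),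
   (974, 667, 2), (977, 671, 1), (978, 671, 2), (922, 672, 3), (948, 675, 0), (983, 676, 1),
   (375, 484, 3), (708, 484, 5), (709, 485, 1), (769, 550, 2), (552, 550, 5), (996, 691, 1),
   (997, 692, 0), (998, 692, 2), (999, 693, 1), (1000, 693, 2), (1001, 694, 3), (1007, 699, 0),
   (1008, 699, 2), (1009, 699, 5), (1011, 700, 1), (1015, 704, 2), (1006, 704, 5), (1016, 705, 1),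
   (1017, 705, 5), (1018, 707, 0), (1019, 707, 5), (553, 492, 3), (717, 492, 5), (623, 710, 2),
   (821, 710, 5), (1025, 711, 1), (1026, 712, 1), (1027, 713, 0), (1028, 713, 2), (1030, 714, 3),
   (732, 500, 5), (1031, 715, 1), (1032, 716, 0), (1033, 716, 2), (1036, 718, 1), (1037, 718, 2),
   (1039, 719, 3), (796, 721, 1), (1042, 722, 4), (1045, 724, 0), (841, 724, 2), (1046, 724, 5),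
   (1047, 725, 5), (1048, 726, 1), (837, 727, 1), (1049, 728, 1), (1052, 730, 0), (787, 733, 0),
   (1056, 733, 5), (1057, 734, 1), (1058, 735, 0), (1059, 735, 2), (1061, 736, 1), (1069, 740, 2),
   (1070, 740, 5), (1071, 741, 5), (1072, 742, 1), (1010, 743, 0), (1074, 743, 2), (1080, 746, 0),
   (1081, 746, 3), (1082, 746, 5), (1083, 747, 5), (1085, 748, 1), (1086, 751, 5), (772, 753, 0),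
   (1087, 755, 1), (1088, 755, 3), (1089, 755, 5), (1091, 756, 2), (947, 756, 4), (1092, 756, 5)]

def chainUOrb1_8 : List (ℕ × ℕ × ℕ) :=
  [(1093, 757, 1), (1095, 759, 5), (1096, 760, 1), (1099, 762, 0), (1100, 762, 2), (832, 565, 2),
   (1105, 766, 3), (1106, 767, 5), (1107, 770, 1), (1108, 771, 0), (1110, 773, 1), (1112, 774, 0),
   (1113, 774, 2), (1117, 777, 1), (1118, 777, 2), (1123, 783, 1), (1124, 783, 3), (1125, 784, 4),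
   (1126, 785, 5), (1067, 786, 1), (1065, 738, 0), (1066, 738, 2), (1068, 739, 3), (1020, 788, 3),
   (1128, 788, 5), (1129, 789, 5), (1130, 790, 1), (1131, 792, 3), (1132, 793, 1), (1134, 795, 0),
   (1135, 795, 2), (1138, 798, 0), (1139, 798, 2), (1141, 799, 1), (1142, 799, 2), (1144, 800, 3),
   (723, 496, 2), (831, 564, 1), (830, 564, 3), (1043, 802, 2), (1147, 802, 4), (1136, 803, 1),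
   (1148, 803, 3), (1149, 804, 5), (1150, 805, 3), (1151, 805, 5), (1152, 806, 1), (1153, 807, 0),
   (1154, 807, 2), (1064, 808, 1), (1156, 808, 2), (1161, 813, 0), (1162, 813, 2), (1063, 813, 5),
   (1164, 814, 1), (1165, 814, 3), (1168, 816, 4), (1183, 825, 1), (1184, 825, 3), (1185, 826, 0),
   (1186, 826, 3), (1187, 826, 5), (1189, 827, 4), (1190, 828, 4), (1197, 835, 2), (1198, 835, 4),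
   (1199, 835, 5), (1200, 836, 1), (1201, 838, 5), (1202, 839, 5), (1203, 840, 1), (1205, 842, 0),
   (1206, 842, 2), (1210, 846, 1), (1211, 848, 0), (1212, 848, 2), (1216, 850, 1), (1217, 850, 2),
   (1219, 851, 3), (1223, 855, 1), (1224, 855, 3), (1227, 858, 1), (1228, 858, 3), (1050, 860, 5),
   (758, 529, 4), (1221, 861, 1), (1229, 862, 5), (1213, 863, 1), (1218, 852, 0), (1220, 852, 2)]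

def chainUOrb1_9 : List (ℕ × ℕ × ℕ) :=
  [(1230, 867, 1), (1233, 869, 0), (1173, 869, 2), (843, 872, 1), (1235, 876, 3), (1236, 878, 5),
   (1051, 881, 2), (1238, 882, 0), (1239, 882, 2), (1242, 886, 2), (1055, 887, 3), (745, 509, 1),
   (1054, 731, 1), (1075, 744, 0), (1076, 744, 2), (1262, 902, 1), (1263, 902, 2), (1264, 903, 3),
   (1174, 820, 0), (1175, 820, 2), (1178, 822, 1), (1179, 822, 2), (1181, 823, 3), (1268, 910, 3),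
   (1269, 911, 2), (1270, 911, 4), (1271, 912, 4), (919, 912, 5), (1272, 913, 5), (573, 425, 4),
   (630, 425, 5), (1273, 915, 5), (1274, 916, 1), (1275, 917, 1), (1277, 918, 0), (673, 918, 2),
   (677, 920, 1), (1169, 920, 2), (1166, 921, 3), (1279, 925, 0), (1280, 925, 2), (1284, 927, 1),
   (965, 927, 2), (680, 928, 3), (1285, 932, 0), (1286, 932, 2), (969, 932, 5), (1288, 933, 1),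
   (1171, 933, 3), (810, 935, 2), (1291, 939, 3), (543, 794, 3), (1133, 794, 5), (1292, 941, 2),
   (1293, 941, 4), (1294, 941, 5), (1090, 791, 2), (1295, 944, 1), (1296, 944, 3), (1297, 944, 5),
   (1299, 945, 5), (1301, 949, 4), (1302, 950, 5), (1281, 952, 1), (988, 934, 1), (1289, 934, 2),
   (1208, 844, 5), (986, 923, 1), (1304, 956, 1), (980, 957, 0), (1306, 957, 2), (1308, 959, 0),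
   (1309, 959, 2), (1316, 967, 1), (1322, 973, 1), (1323, 973, 2), (1325, 974, 3), (1300, 977, 0),
   (1329, 977, 2), (1207, 922, 4), (1332, 983, 0), (554, 375, 5), (1021, 708, 1), (1022, 709, 0),
   (1023, 709, 2), (1345, 997, 1), (1346, 997, 2), (1079, 999, 0), (1347, 999, 2), (1024, 999, 5)]

def chainUOrb1_10 : List (ℕ × ℕ × ℕ) :=
  [(1348, 1000, 1), (1349, 1000, 3), (1350, 1001, 4), (1354, 1007, 2), (1355, 1007, 5), (1356, 1008, 1),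
   (1357, 1008, 3), (1358, 1008, 5), (1360, 1011, 0), (1361, 1011, 5), (1353, 1015, 5), (1077, 1006, 1),
   (1364, 1016, 5), (1365, 1017, 1), (1366, 1018, 5), (811, 553, 5), (1035, 717, 1), (1177, 821, 1),
   (1372, 1025, 0), (1373, 1025, 2), (1375, 1026, 0), (1060, 1026, 2), (1376, 1027, 1), (1377, 1027, 2),
   (1379, 1028, 3), (1382, 1030, 4), (1383, 1031, 0), (1374, 1031, 2), (1384, 1032, 1), (1385, 1032, 2),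
   (1386, 1033, 3), (1388, 1036, 0), (1389, 1036, 2), (1390, 1036, 5), (1362, 1037, 1), (1160, 1037, 3),
   (1392, 1039, 2), (1393, 1039, 4), (797, 796, 0), (1398, 1045, 5), (1204, 841, 5), (1399, 1046, 1),
   (1397, 1047, 1), (1396, 1048, 0), (1401, 1048, 2), (1403, 1049, 0), (1405, 1052, 1), (1127, 787, 5),
   (1407, 1056, 1), (1408, 1057, 0), (1140, 1057, 2), (1381, 1058, 1), (1409, 1058, 2), (1029, 1059, 3),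
   (1411, 1061, 0), (1420, 1069, 5), (1421, 1071, 1), (1423, 1072, 2), (1359, 1010, 2), (1424, 1074, 3),
   (1430, 1080, 5), (1431, 1081, 2), (1432, 1081, 5), (1433, 1083, 1), (1094, 1085, 0), (1109, 772, 1),
   (1434, 1087, 5), (1435, 1088, 2), (1298, 1091, 3), (1436, 1091, 5), (1437, 1092, 1), (1438, 1093, 0),
   (1440, 1095, 1), (1442, 1096, 0), (1443, 1096, 2), (1447, 1099, 1), (1448, 1099, 2), (1317, 1100, 3),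
   (1196, 832, 1), (1193, 832, 3), (1453, 1105, 4), (1454, 1107, 2), (1458, 1110, 2), (873, 1112, 1),
   (1426, 1112, 2), (1425, 1113, 3), (1246, 1117, 0), (1463, 1117, 2), (1243, 1117, 5), (1464, 1118, 1)]

def chainUOrb1_11 : List (ℕ × ℕ × ℕ) :=
  [(1467, 1123, 0), (1468, 1123, 3), (1469, 1123, 5), (1471, 1124, 4), (1472, 1126, 1), (1163, 1067, 0),
   (1419, 1067, 2), (1416, 1065, 1), (1417, 1065, 2), (1418, 1066, 3), (1368, 1020, 5), (1474, 1128, 1),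
   (1475, 1129, 1), (1476, 1130, 0), (1477, 1130, 2), (1479, 1131, 2), (1172, 1132, 0), (985, 1134, 1),
   (1481, 1134, 2), (1482, 1135, 3), (1041, 1138, 1), (1485, 1138, 2), (1176, 1141, 0), (1487, 1141, 2),
   (824, 1141, 5), (1488, 1142, 1), (1489, 1142, 3), (1492, 1144, 2), (1493, 1144, 4), (1044, 723, 1),
   (1194, 831, 0), (1192, 831, 3), (1195, 831, 5), (1191, 830, 4), (1395, 1043, 4), (1146, 1136, 0),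
   (1480, 1136, 3), (1143, 1136, 5), (1496, 1148, 4), (1497, 1149, 1), (1367, 1150, 5), (1498, 1151, 1),
   (1499, 1152, 0), (1500, 1152, 2), (1502, 1153, 1), (1478, 1153, 2), (1503, 1154, 3), (1053, 1064, 0),
   (893, 1064, 2), (737, 1064, 5), (1505, 1156, 1), (1512, 1161, 2), (1414, 1161, 5), (1513, 1162, 1),
   (1415, 1162, 5), (1491, 1183, 5), (1535, 1185, 1), (1536, 1185, 3), (1537, 1185, 5), (1539, 1186, 2),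
   (1540, 1186, 4), (1541, 1186, 5), (1400, 1197, 5), (1554, 1198, 5), (1518, 1201, 1), (1555, 1202, 1),
   (1457, 1203, 0), (1556, 1203, 2), (891, 1205, 1), (1519, 1205, 2), (1558, 1206, 3), (1560, 1210, 0),
   (1561, 1210, 2), (1563, 1211, 2), (1565, 1212, 3), (1567, 1217, 1), (1568, 1217, 3), (1570, 1219, 2),
   (1571, 1219, 4), (1495, 1223, 0), (1490, 1223, 5), (1574, 1227, 0), (1575, 1227, 3), (1576, 1227, 5),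
   (1562, 1229, 1), (1564, 1213, 0), (1566, 1213, 2), (1252, 1218, 1), (1569, 1218, 2), (1572, 1220, 3)]

def chainUOrb1_12 : List (ℕ × ℕ × ℕ) :=
  [(1578, 1230, 0), (1523, 1233, 2), (845, 843, 0), (1579, 1235, 2), (1580, 1238, 2), (1137, 1239, 3),
   (1380, 1242, 3), (1378, 1055, 2), (1078, 745, 2), (1596, 1262, 2), (1547, 1263, 1), (1524, 1174, 1),
   (1525, 1174, 2), (1517, 1175, 3), (1527, 1178, 0), (1528, 1178, 2), (1529, 1178, 5), (1531, 1179, 1),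
   (1532, 1179, 3), (1597, 1268, 2), (1598, 1269, 3), (1276, 1271, 5), (924, 630, 1), (1599, 1273, 1),
   (1600, 1275, 0), (975, 1275, 2), (979, 1277, 1), (460, 673, 3), (984, 677, 2), (665, 677, 5),
   (1520, 1169, 1), (817, 1169, 3), (815, 1166, 2), (1602, 1279, 1), (1310, 1279, 2), (1603, 1284, 0),
   (1604, 1284, 2), (1312, 1284, 5), (818, 1171, 2), (968, 810, 3), (1406, 1291, 4), (1608, 1292, 1),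
   (1609, 1292, 3), (1610, 1292, 5), (1611, 1295, 3), (1612, 1296, 5), (1337, 988, 2), (679, 988, 5),
   (1607, 1289, 1), (1250, 1208, 1), (1335, 986, 2), (1326, 1304, 0), (1614, 1304, 2), (1618, 1309, 3),
   (1404, 1316, 0), (1624, 1322, 2), (1439, 1323, 3), (1455, 1325, 4), (1613, 1300, 2), (812, 554, 1),
   (1040, 1021, 0), (1038, 1021, 2), (1369, 1022, 2), (1370, 1023, 3), (1631, 1345, 2), (1632, 1346, 1),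
   (1429, 1079, 2), (1633, 1347, 1), (1634, 1347, 3), (1371, 1347, 5), (1545, 1348, 0), (1635, 1348, 3),
   (1636, 1348, 5), (1638, 1349, 4), (1641, 1354, 1), (1642, 1354, 3), (1643, 1354, 5), (1644, 1356, 0),
   (1645, 1356, 3), (1637, 1356, 5), (1647, 1357, 2), (1648, 1357, 4), (1649, 1357, 5), (1651, 1358, 1),
   (1413, 1360, 5), (1427, 1077, 2), (1640, 1364, 1), (1582, 1365, 0), (1657, 1366, 1), (1157, 811, 1)]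

def chainUOrb1_13 : List (ℕ × ℕ × ℕ) :=
  [(1387, 1035, 0), (1034, 1035, 2), (1412, 1177, 0), (1504, 1372, 1), (1663, 1372, 2), (1410, 1375, 2),
   (1664, 1376, 2), (1402, 1377, 1), (1244, 1377, 3), (1665, 1379, 4), (1666, 1383, 1), (1669, 1388, 2),
   (1646, 1389, 1), (1670, 1389, 3), (1671, 1389, 5), (1653, 1362, 0), (1155, 1362, 3), (1654, 1362, 5),
   (1511, 1160, 2), (1553, 1392, 3), (1672, 1392, 4), (1659, 1398, 1), (1557, 1204, 1), (1334, 1399, 0),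
   (1675, 1399, 2), (1674, 1396, 2), (1552, 1401, 3), (1473, 1127, 1), (1333, 1407, 0), (1486, 1408, 2),
   (801, 1140, 3), (1428, 1409, 1), (720, 1029, 4), (1245, 1421, 0), (1683, 1421, 2), (1684, 1423, 3),
   (1652, 1359, 1), (1650, 1359, 3), (1685, 1424, 2), (1686, 1424, 4), (1688, 1431, 5), (1689, 1433, 2),
   (1456, 1109, 2), (1690, 1436, 1), (1691, 1437, 2), (1694, 1440, 2), (1695, 1442, 2), (1581, 1447, 5),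
   (1551, 1196, 5), (1546, 1193, 4), (888, 1246, 5), (1703, 1467, 1), (1705, 1468, 4), (1530, 1472, 0),
   (1515, 1163, 1), (1514, 1163, 2), (1606, 1419, 3), (1680, 1417, 1), (1681, 1417, 3), (1682, 1418, 2),
   (1658, 1368, 1), (1667, 1474, 0), (1501, 1474, 2), (678, 985, 5), (1687, 1485, 1), (1526, 1176, 2),
   (1180, 1176, 5), (1711, 1487, 1), (1712, 1487, 3), (1182, 1487, 5), (1679, 1489, 2), (1678, 1492, 3),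
   (1713, 1492, 4), (1167, 1044, 5), (1550, 1194, 5), (1548, 1192, 2), (1549, 1192, 5), (1715, 1498, 2),
   (1716, 1500, 3), (1709, 1478, 3), (1188, 1503, 2), (1394, 1503, 4), (1062, 1053, 5), (606, 893, 5),
   (1661, 1414, 1), (1251, 1415, 1), (1727, 1536, 2), (1728, 1536, 5), (1725, 1537, 1), (1693, 1555, 0)]

def chainUOrb1_14 : List (ℕ × ℕ × ℕ) :=
  [(1677, 1519, 1), (1714, 1519, 3), (1739, 1565, 2), (1740, 1567, 3), (1741, 1568, 2), (1516, 1568, 4),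
   (1145, 1495, 5), (1509, 1574, 1), (1742, 1574, 3), (1737, 1562, 2), (1587, 1564, 1), (1738, 1564, 2),
   (1707, 1566, 3), (1209, 1252, 0), (1591, 1252, 2), (892, 1252, 5), (1722, 1523, 1), (1483, 1580, 3),
   (1484, 1137, 2), (1676, 1596, 1), (1749, 1596, 3), (1543, 1524, 2), (1723, 1525, 1), (1721, 1525, 3),
   (1240, 1528, 5), (1692, 1531, 0), (1710, 1531, 3), (1724, 1531, 5), (1750, 1597, 1), (1278, 924, 2),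
   (1324, 1600, 1), (1170, 1520, 3), (557, 817, 2), (1751, 1602, 2), (1752, 1603, 2), (1620, 1604, 1),
   (1754, 1608, 3), (1629, 1337, 1), (1593, 1337, 3), (987, 1337, 5), (1590, 1250, 2), (1628, 1335, 3),
   (1745, 1614, 3), (1755, 1613, 1), (1158, 812, 0), (1159, 812, 2), (1660, 1370, 2), (1506, 1429, 1),
   (1668, 1429, 3), (1662, 1634, 5), (1391, 1371, 1), (1507, 1641, 0), (1735, 1641, 3), (1765, 1642, 2),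
   (1766, 1642, 4), (1767, 1642, 5), (1731, 1644, 3), (1729, 1645, 2), (1733, 1645, 4), (1764, 1645, 5),
   (1656, 1637, 1), (1768, 1647, 1), (1769, 1647, 3), (1771, 1649, 1), (1730, 1651, 0), (1508, 1402, 0),
   (1585, 1402, 3), (1736, 1557, 2), (1521, 1675, 3), (1522, 1674, 3), (1708, 1473, 2), (1586, 1245, 2),
   (1748, 1683, 3), (1770, 1684, 2), (1773, 1688, 1), (1470, 1456, 3), (1774, 1690, 2), (1673, 1515, 0),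
   (1719, 1514, 3), (1704, 1680, 3), (1494, 1681, 2), (1720, 1526, 3), (1533, 1526, 5), (1744, 1711, 3),
   (1717, 1712, 2), (1534, 1712, 5), (1743, 1713, 3), (1544, 1716, 2), (1538, 1709, 2), (1542, 1188, 3)]

def chainUOrb1_15 : List (ℕ × ℕ × ℕ) :=
  [(1732, 1677, 3), (1706, 1740, 2), (1718, 1509, 3), (1559, 1209, 2), (1601, 1278, 3), (1779, 1752, 1),
   (1577, 1629, 3), (1336, 1593, 2), (1772, 1745, 2), (1510, 1159, 3), (1734, 1731, 4), (1778, 1729, 1),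
   (1763, 1764, 1), (1726, 1720, 5)]

def chainUOrb1 : List (ℕ × ℕ × ℕ) :=
  chainUOrb1_0 ++ chainUOrb1_1 ++ chainUOrb1_2 ++ chainUOrb1_3 ++ chainUOrb1_4 ++ chainUOrb1_5 ++ chainUOrb1_6 ++ chainUOrb1_7 ++ chainUOrb1_8 ++ chainUOrb1_9 ++ chainUOrb1_10 ++ chainUOrb1_11 ++ chainUOrb1_12 ++ chainUOrb1_13 ++ chainUOrb1_14 ++ chainUOrb1_15

def chainUIdx1_0 : List (ℕ × List ℕ) :=
  [(1, []), (2, [1]), (3, [1,0]), (4, [1,2]),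
   (5, [1,5]), (6, [1,0,1]), (7, [1,0,2]), (8, [1,2,3]),
   (9, [1,2,5]), (10, [1,0,1,2]), (11, [1,0,2,1]), (12, [1,0,2,3]),
   (13, [1,2,3,2]), (14, [1,2,3,4]), (15, [1,2,3,5]), (16, [1,2,5,1]),
   (17, [1,0,1,2,1]), (18, [1,0,1,2,3]), (19, [1,0,2,1,0]), (20, [1,0,2,1,3]),
   (21, [1,0,2,1,5]), (23, [1,0,2,3,2]), (24, [1,0,2,3,4]), (25, [1,2,3,2,1]),
   (26, [1,2,3,2,4]), (27, [1,2,3,2,5]), (28, [1,2,3,4,5]), (29, [1,2,3,5,1]),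
   (22, [1,0,1,2,1,0]), (31, [1,0,1,2,1,3]), (32, [1,0,1,2,1,5]), (33, [1,0,1,2,3,2]),
   (34, [1,0,1,2,3,4]), (30, [1,0,2,1,0,1]), (35, [1,0,2,1,0,3]), (36, [1,0,2,1,0,5]),
   (37, [1,0,2,1,3,2]), (38, [1,0,2,1,3,4]), (39, [1,0,2,1,3,5]), (42, [1,0,2,3,2,1]),
   (43, [1,0,2,3,2,4]), (44, [1,2,3,2,1,0]), (45, [1,2,3,2,1,4]), (46, [1,2,3,2,1,5]),
   (48, [1,2,3,2,4,3]), (49, [1,2,3,2,4,5]), (50, [1,2,3,2,5,1]), (51, [1,2,3,4,5,1]),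
   (52, [1,2,3,5,1,2]), (40, [1,0,1,2,1,0,3]), (41, [1,0,1,2,1,0,5]), (53, [1,0,1,2,1,3,2]),
   (54, [1,0,1,2,1,3,4]), (55, [1,0,1,2,1,3,5]), (56, [1,0,1,2,3,2,1]), (57, [1,0,1,2,3,2,4]),
   (58, [1,0,2,1,0,3,4]), (59, [1,0,2,1,0,3,5]), (60, [1,0,2,1,3,2,1]), (61, [1,0,2,1,3,2,3]),
   (62, [1,0,2,1,3,2,4]), (63, [1,0,2,1,3,2,5]), (65, [1,0,2,1,3,4,5]), (69, [1,0,2,3,2,1,0]),
   (70, [1,0,2,3,2,1,4]), (71, [1,0,2,3,2,1,5]), (73, [1,0,2,3,2,4,3]), (64, [1,2,3,2,1,0,1]),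
   (74, [1,2,3,2,1,0,4]), (75, [1,2,3,2,1,0,5]), (77, [1,2,3,2,1,4,3]), (78, [1,2,3,2,1,4,5]),
   (80, [1,2,3,2,1,5,1]), (83, [1,2,3,2,4,3,2]), (84, [1,2,3,2,4,3,5]), (85, [1,2,3,2,4,5,1]),
   (86, [1,2,3,4,5,1,2]), (66, [1,0,1,2,1,0,3,4]), (67, [1,0,1,2,1,0,3,5]), (68, [1,0,1,2,1,0,5,1]),
   (87, [1,0,1,2,1,3,2,1]), (88, [1,0,1,2,1,3,2,4]), (89, [1,0,1,2,1,3,2,5]), (90, [1,0,1,2,1,3,4,5]),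
   (91, [1,0,1,2,3,2,1,4]), (92, [1,0,1,2,3,2,1,5]), (93, [1,0,1,2,3,2,4,3]), (94, [1,0,2,1,0,3,4,5]),
   (95, [1,0,2,1,3,2,1,0]), (96, [1,0,2,1,3,2,1,3])]

def chainUIdx1_1 : List (ℕ × List ℕ) :=
  [(97, [1,0,2,1,3,2,1,4]), (98, [1,0,2,1,3,2,1,5]), (100, [1,0,2,1,3,2,3,2]), (101, [1,0,2,1,3,2,3,4]),
   (102, [1,0,2,1,3,2,3,5]), (103, [1,0,2,1,3,2,4,3]), (104, [1,0,2,1,3,2,4,5]), (106, [1,0,2,1,3,2,5,1]),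
   (110, [1,0,2,3,2,1,0,4]), (111, [1,0,2,3,2,1,0,5]), (113, [1,0,2,3,2,1,4,3]), (114, [1,0,2,3,2,1,4,5]),
   (118, [1,0,2,3,2,4,3,2]), (105, [1,2,3,2,1,0,1,4]), (107, [1,2,3,2,1,0,1,5]), (119, [1,2,3,2,1,0,4,3]),
   (120, [1,2,3,2,1,0,4,5]), (122, [1,2,3,2,1,0,5,1]), (123, [1,2,3,2,1,4,3,2]), (124, [1,2,3,2,1,4,3,5]),
   (126, [1,2,3,2,1,4,5,1]), (131, [1,2,3,2,4,3,2,1]), (132, [1,2,3,2,4,3,2,5]), (133, [1,2,3,2,4,3,5,1]),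
   (108, [1,0,1,2,1,0,3,4,5]), (109, [1,0,1,2,1,0,3,5,1]), (134, [1,0,1,2,1,3,2,1,4]), (135, [1,0,1,2,1,3,2,1,5]),
   (136, [1,0,1,2,1,3,2,4,3]), (137, [1,0,1,2,1,3,2,4,5]), (138, [1,0,1,2,1,3,2,5,1]), (139, [1,0,1,2,3,2,1,4,3]),
   (140, [1,0,1,2,3,2,1,4,5]), (142, [1,0,1,2,3,2,4,3,2]), (143, [1,0,2,1,3,2,1,0,1]), (144, [1,0,2,1,3,2,1,0,4]),
   (145, [1,0,2,1,3,2,1,0,5]), (147, [1,0,2,1,3,2,1,3,4]), (148, [1,0,2,1,3,2,1,3,5]), (150, [1,0,2,1,3,2,1,4,3]),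
   (151, [1,0,2,1,3,2,1,4,5]), (153, [1,0,2,1,3,2,1,5,1]), (156, [1,0,2,1,3,2,3,2,4]), (141, [1,0,2,1,3,2,3,2,5]),
   (157, [1,0,2,1,3,2,3,4,3]), (158, [1,0,2,1,3,2,3,4,5]), (159, [1,0,2,1,3,2,3,5,1]), (160, [1,0,2,1,3,2,4,3,2]),
   (161, [1,0,2,1,3,2,4,3,5]), (163, [1,0,2,1,3,2,4,5,1]), (165, [1,0,2,1,3,2,5,1,0]), (170, [1,0,2,3,2,1,0,4,3]),
   (171, [1,0,2,3,2,1,0,4,5]), (173, [1,0,2,3,2,1,0,5,1]), (174, [1,0,2,3,2,1,4,3,2]), (175, [1,0,2,3,2,1,4,3,5]),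
   (181, [1,0,2,3,2,4,3,2,1]), (162, [1,2,3,2,1,0,1,4,3]), (164, [1,2,3,2,1,0,1,4,5]), (167, [1,2,3,2,1,0,1,5,1]),
   (182, [1,2,3,2,1,0,4,3,2]), (183, [1,2,3,2,1,0,4,3,5]), (185, [1,2,3,2,1,0,4,5,1]), (186, [1,2,3,2,1,0,5,1,0]),
   (187, [1,2,3,2,1,0,5,1,2]), (189, [1,2,3,2,1,4,3,2,1]), (190, [1,2,3,2,1,4,3,2,3]), (191, [1,2,3,2,1,4,3,2,5]),
   (193, [1,2,3,2,1,4,3,5,1]), (203, [1,2,3,2,4,3,2,1,0]), (204, [1,2,3,2,4,3,2,1,5]), (206, [1,2,3,2,4,3,2,5,1]),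
   (207, [1,2,3,2,4,3,5,1,2]), (168, [1,0,1,2,1,0,3,4,5,1]), (169, [1,0,1,2,1,0,3,5,1,2]), (208, [1,0,1,2,1,3,2,1,4,3]),
   (209, [1,0,1,2,1,3,2,1,4,5]), (210, [1,0,1,2,1,3,2,1,5,1]), (211, [1,0,1,2,1,3,2,4,3,2]), (212, [1,0,1,2,1,3,2,4,3,5]),
   (213, [1,0,1,2,1,3,2,4,5,1]), (214, [1,0,1,2,1,3,2,5,1,0]), (216, [1,0,1,2,3,2,1,4,3,2]), (217, [1,0,1,2,3,2,1,4,3,5]),
   (220, [1,0,1,2,3,2,4,3,2,1]), (221, [1,0,2,1,3,2,1,0,1,4]), (222, [1,0,2,1,3,2,1,0,1,5]), (224, [1,0,2,1,3,2,1,0,4,3]),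
   (225, [1,0,2,1,3,2,1,0,4,5]), (227, [1,0,2,1,3,2,1,0,5,1])]

def chainUIdx1_2 : List (ℕ × List ℕ) :=
  [(229, [1,0,2,1,3,2,1,3,4,3]), (230, [1,0,2,1,3,2,1,3,4,5]), (232, [1,0,2,1,3,2,1,3,5,1]), (235, [1,0,2,1,3,2,1,4,3,2]),
   (236, [1,0,2,1,3,2,1,4,3,5]), (238, [1,0,2,1,3,2,1,4,5,1]), (241, [1,0,2,1,3,2,1,5,1,0]), (242, [1,0,2,1,3,2,3,2,4,3]),
   (218, [1,0,2,1,3,2,3,2,4,5]), (219, [1,0,2,1,3,2,3,2,5,1]), (243, [1,0,2,1,3,2,3,4,3,2]), (244, [1,0,2,1,3,2,3,4,3,5]),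
   (245, [1,0,2,1,3,2,3,4,5,1]), (166, [1,0,2,1,3,2,3,5,1,0]), (246, [1,0,2,1,3,2,3,5,1,2]), (247, [1,0,2,1,3,2,4,3,2,1]),
   (248, [1,0,2,1,3,2,4,3,2,5]), (250, [1,0,2,1,3,2,4,3,5,1]), (252, [1,0,2,1,3,2,4,5,1,0]), (255, [1,0,2,1,3,2,5,1,0,1]),
   (261, [1,0,2,3,2,1,0,4,3,2]), (262, [1,0,2,3,2,1,0,4,3,5]), (264, [1,0,2,3,2,1,0,4,5,1]), (265, [1,0,2,3,2,1,0,5,1,0]),
   (266, [1,0,2,3,2,1,0,5,1,2]), (268, [1,0,2,3,2,1,4,3,2,1]), (269, [1,0,2,3,2,1,4,3,2,3]), (270, [1,0,2,3,2,1,4,3,2,5]),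
   (280, [1,0,2,3,2,4,3,2,1,0]), (281, [1,0,2,3,2,4,3,2,1,5]), (249, [1,2,3,2,1,0,1,4,3,2]), (251, [1,2,3,2,1,0,1,4,3,5]),
   (254, [1,2,3,2,1,0,1,4,5,1]), (257, [1,2,3,2,1,0,1,5,1,0]), (258, [1,2,3,2,1,0,1,5,1,2]), (283, [1,2,3,2,1,0,4,3,2,1]),
   (284, [1,2,3,2,1,0,4,3,2,3]), (285, [1,2,3,2,1,0,4,3,2,5]), (287, [1,2,3,2,1,0,4,3,5,1]), (288, [1,2,3,2,1,0,4,5,1,0]),
   (289, [1,2,3,2,1,0,4,5,1,2]), (291, [1,2,3,2,1,0,5,1,0,1]), (292, [1,2,3,2,1,0,5,1,0,2]), (293, [1,2,3,2,1,0,5,1,2,3]),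
   (295, [1,2,3,2,1,4,3,2,1,0]), (296, [1,2,3,2,1,4,3,2,1,3]), (297, [1,2,3,2,1,4,3,2,1,5]), (299, [1,2,3,2,1,4,3,2,3,4]),
   (300, [1,2,3,2,1,4,3,2,3,5]), (302, [1,2,3,2,1,4,3,2,5,1]), (306, [1,2,3,2,1,4,3,5,1,2]), (319, [1,2,3,2,4,3,2,1,0,1]),
   (320, [1,2,3,2,4,3,2,1,0,5]), (322, [1,2,3,2,4,3,2,1,5,1]), (325, [1,2,3,2,4,3,2,5,1,0]), (326, [1,2,3,2,4,3,2,5,1,2]),
   (259, [1,0,1,2,1,0,3,4,5,1,2]), (260, [1,0,1,2,1,0,3,5,1,2,3]), (328, [1,0,1,2,1,3,2,1,4,3,2]), (329, [1,0,1,2,1,3,2,1,4,3,5]),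
   (330, [1,0,1,2,1,3,2,1,4,5,1]), (331, [1,0,1,2,1,3,2,4,3,2,1]), (332, [1,0,1,2,1,3,2,4,3,2,5]), (333, [1,0,1,2,1,3,2,4,3,5,1]),
   (334, [1,0,1,2,1,3,2,4,5,1,0]), (336, [1,0,1,2,3,2,1,4,3,2,1]), (337, [1,0,1,2,3,2,1,4,3,2,3]), (338, [1,0,1,2,3,2,1,4,3,2,5]),
   (341, [1,0,1,2,3,2,4,3,2,1,0]), (342, [1,0,1,2,3,2,4,3,2,1,5]), (344, [1,0,2,1,3,2,1,0,1,4,3]), (345, [1,0,2,1,3,2,1,0,1,4,5]),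
   (348, [1,0,2,1,3,2,1,0,4,3,2]), (349, [1,0,2,1,3,2,1,0,4,3,5]), (351, [1,0,2,1,3,2,1,0,4,5,1]), (353, [1,0,2,1,3,2,1,3,4,3,2]),
   (354, [1,0,2,1,3,2,1,3,4,3,5]), (356, [1,0,2,1,3,2,1,3,4,5,1]), (256, [1,0,2,1,3,2,1,3,5,1,0]), (359, [1,0,2,1,3,2,1,4,3,2,1]),
   (360, [1,0,2,1,3,2,1,4,3,2,3]), (361, [1,0,2,1,3,2,1,4,3,2,5]), (363, [1,0,2,1,3,2,1,4,3,5,1]), (366, [1,0,2,1,3,2,1,4,5,1,0]),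
   (367, [1,0,2,1,3,2,3,2,4,3,2]), (339, [1,0,2,1,3,2,3,2,4,3,5]), (340, [1,0,2,1,3,2,3,2,4,5,1]), (368, [1,0,2,1,3,2,3,4,3,2,1]),
   (369, [1,0,2,1,3,2,3,4,3,2,3]), (370, [1,0,2,1,3,2,3,4,3,2,5])]

def chainUIdx1_3 : List (ℕ × List ℕ) :=
  [(371, [1,0,2,1,3,2,3,4,3,5,1]), (253, [1,0,2,1,3,2,3,4,5,1,0]), (372, [1,0,2,1,3,2,3,4,5,1,2]), (215, [1,0,2,1,3,2,3,5,1,0,1]),
   (373, [1,0,2,1,3,2,4,3,2,1,0]), (374, [1,0,2,1,3,2,4,3,2,1,5]), (376, [1,0,2,1,3,2,4,3,2,5,1]), (379, [1,0,2,1,3,2,4,3,5,1,0]),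
   (380, [1,0,2,1,3,2,4,3,5,1,2]), (383, [1,0,2,1,3,2,4,5,1,0,1]), (389, [1,0,2,3,2,1,0,4,3,2,1]), (390, [1,0,2,3,2,1,0,4,3,2,3]),
   (391, [1,0,2,3,2,1,0,4,3,2,5]), (393, [1,0,2,3,2,1,0,4,3,5,1]), (394, [1,0,2,3,2,1,0,4,5,1,0]), (395, [1,0,2,3,2,1,0,4,5,1,2]),
   (397, [1,0,2,3,2,1,4,3,2,1,0]), (398, [1,0,2,3,2,1,4,3,2,1,3]), (399, [1,0,2,3,2,1,4,3,2,1,5]), (401, [1,0,2,3,2,1,4,3,2,3,2]),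
   (402, [1,0,2,3,2,1,4,3,2,3,4]), (403, [1,0,2,3,2,1,4,3,2,3,5]), (405, [1,0,2,3,2,1,4,3,2,5,1]), (417, [1,0,2,3,2,4,3,2,1,0,1]),
   (418, [1,0,2,3,2,4,3,2,1,0,5]), (377, [1,2,3,2,1,0,1,4,3,2,1]), (378, [1,2,3,2,1,0,1,4,3,2,5]), (382, [1,2,3,2,1,0,1,4,3,5,1]),
   (385, [1,2,3,2,1,0,1,4,5,1,0]), (386, [1,2,3,2,1,0,1,4,5,1,2]), (387, [1,2,3,2,1,0,1,5,1,0,2]), (388, [1,2,3,2,1,0,1,5,1,2,3]),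
   (422, [1,2,3,2,1,0,4,3,2,1,0]), (423, [1,2,3,2,1,0,4,3,2,1,3]), (424, [1,2,3,2,1,0,4,3,2,1,5]), (426, [1,2,3,2,1,0,4,3,2,3,4]),
   (427, [1,2,3,2,1,0,4,3,2,3,5]), (429, [1,2,3,2,1,0,4,3,2,5,1]), (431, [1,2,3,2,1,0,4,3,5,1,0]), (432, [1,2,3,2,1,0,4,3,5,1,2]),
   (434, [1,2,3,2,1,0,4,5,1,0,1]), (435, [1,2,3,2,1,0,4,5,1,0,2]), (437, [1,2,3,2,1,0,5,1,0,2,3]), (440, [1,2,3,2,1,4,3,2,1,0,1]),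
   (441, [1,2,3,2,1,4,3,2,1,0,3]), (442, [1,2,3,2,1,4,3,2,1,0,5]), (444, [1,2,3,2,1,4,3,2,1,3,2]), (445, [1,2,3,2,1,4,3,2,1,3,4]),
   (446, [1,2,3,2,1,4,3,2,1,3,5]), (448, [1,2,3,2,1,4,3,2,1,5,1]), (452, [1,2,3,2,1,4,3,2,3,4,5]), (454, [1,2,3,2,1,4,3,2,3,5,1]),
   (458, [1,2,3,2,1,4,3,2,5,1,0]), (459, [1,2,3,2,1,4,3,2,5,1,2]), (327, [1,2,3,2,4,3,2,1,0,1,0]), (475, [1,2,3,2,4,3,2,1,0,1,2]),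
   (476, [1,2,3,2,4,3,2,1,0,1,5]), (477, [1,2,3,2,4,3,2,1,0,5,1]), (479, [1,2,3,2,4,3,2,1,5,1,0]), (480, [1,2,3,2,4,3,2,1,5,1,2]),
   (482, [1,2,3,2,4,3,2,5,1,0,1]), (483, [1,2,3,2,4,3,2,5,1,0,2]), (486, [1,0,1,2,1,3,2,1,4,3,2,1]), (487, [1,0,1,2,1,3,2,1,4,3,2,3]),
   (488, [1,0,1,2,1,3,2,1,4,3,2,5]), (489, [1,0,1,2,1,3,2,1,4,3,5,1]), (490, [1,0,1,2,1,3,2,4,3,2,1,0]), (491, [1,0,1,2,1,3,2,4,3,2,1,5]),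
   (493, [1,0,1,2,1,3,2,4,3,2,5,1]), (494, [1,0,1,2,1,3,2,4,3,5,1,0]), (495, [1,0,1,2,1,3,2,4,3,5,1,2]), (497, [1,0,1,2,3,2,1,4,3,2,1,0]),
   (498, [1,0,1,2,3,2,1,4,3,2,1,3]), (499, [1,0,1,2,3,2,1,4,3,2,1,5]), (501, [1,0,1,2,3,2,1,4,3,2,3,2]), (502, [1,0,1,2,3,2,1,4,3,2,3,5]),
   (503, [1,0,1,2,3,2,1,4,3,2,5,1]), (506, [1,0,1,2,3,2,4,3,2,1,0,1]), (507, [1,0,1,2,3,2,4,3,2,1,0,5]), (510, [1,0,2,1,3,2,1,0,1,4,3,2]),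
   (511, [1,0,2,1,3,2,1,0,1,4,3,5]), (514, [1,0,2,1,3,2,1,0,4,3,2,1]), (515, [1,0,2,1,3,2,1,0,4,3,2,5]), (517, [1,0,2,1,3,2,1,0,4,3,5,1]),
   (519, [1,0,2,1,3,2,1,3,4,3,2,1]), (520, [1,0,2,1,3,2,1,3,4,3,2,3]), (521, [1,0,2,1,3,2,1,3,4,3,2,5]), (523, [1,0,2,1,3,2,1,3,4,3,5,1]),
   (384, [1,0,2,1,3,2,1,3,4,5,1,0]), (526, [1,0,2,1,3,2,1,4,3,2,1,0])]

def chainUIdx1_4 : List (ℕ × List ℕ) :=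
  [(527, [1,0,2,1,3,2,1,4,3,2,1,3]), (528, [1,0,2,1,3,2,1,4,3,2,1,5]), (530, [1,0,2,1,3,2,1,4,3,2,3,4]), (531, [1,0,2,1,3,2,1,4,3,2,3,5]),
   (533, [1,0,2,1,3,2,1,4,3,2,5,1]), (537, [1,0,2,1,3,2,1,4,3,5,1,0]), (538, [1,0,2,1,3,2,1,4,3,5,1,2]), (539, [1,0,2,1,3,2,3,2,4,3,2,1]),
   (504, [1,0,2,1,3,2,3,2,4,3,2,5]), (505, [1,0,2,1,3,2,3,2,4,3,5,1]), (540, [1,0,2,1,3,2,3,4,3,2,1,0]), (541, [1,0,2,1,3,2,3,4,3,2,1,3]),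
   (542, [1,0,2,1,3,2,3,4,3,2,1,5]), (544, [1,0,2,1,3,2,3,4,3,2,3,5]), (545, [1,0,2,1,3,2,3,4,3,2,5,1]), (381, [1,0,2,1,3,2,3,4,3,5,1,0]),
   (546, [1,0,2,1,3,2,3,4,3,5,1,2]), (335, [1,0,2,1,3,2,3,4,5,1,0,1]), (547, [1,0,2,1,3,2,3,4,5,1,2,3]), (548, [1,0,2,1,3,2,4,3,2,1,0,1]),
   (549, [1,0,2,1,3,2,4,3,2,1,0,5]), (551, [1,0,2,1,3,2,4,3,2,1,5,1]), (555, [1,0,2,1,3,2,4,3,2,5,1,0]), (556, [1,0,2,1,3,2,4,3,2,5,1,2]),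
   (561, [1,0,2,1,3,2,4,3,5,1,0,1]), (562, [1,0,2,1,3,2,4,3,5,1,0,2]), (563, [1,0,2,1,3,2,4,3,5,1,2,3]), (570, [1,0,2,3,2,1,0,4,3,2,1,0]),
   (571, [1,0,2,3,2,1,0,4,3,2,1,3]), (572, [1,0,2,3,2,1,0,4,3,2,1,5]), (574, [1,0,2,3,2,1,0,4,3,2,3,4]), (575, [1,0,2,3,2,1,0,4,3,2,3,5]),
   (577, [1,0,2,3,2,1,0,4,3,2,5,1]), (579, [1,0,2,3,2,1,0,4,3,5,1,0]), (580, [1,0,2,3,2,1,0,4,3,5,1,2]), (582, [1,0,2,3,2,1,0,4,5,1,2,3]),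
   (583, [1,0,2,3,2,1,4,3,2,1,0,1]), (584, [1,0,2,3,2,1,4,3,2,1,0,3]), (585, [1,0,2,3,2,1,4,3,2,1,0,5]), (587, [1,0,2,3,2,1,4,3,2,1,3,2]),
   (588, [1,0,2,3,2,1,4,3,2,1,3,4]), (589, [1,0,2,3,2,1,4,3,2,1,3,5]), (591, [1,0,2,3,2,1,4,3,2,1,5,1]), (595, [1,0,2,3,2,1,4,3,2,3,2,1]),
   (596, [1,0,2,3,2,1,4,3,2,3,2,4]), (597, [1,0,2,3,2,1,4,3,2,3,2,5]), (599, [1,0,2,3,2,1,4,3,2,3,4,5]), (601, [1,0,2,3,2,1,4,3,2,3,5,1]),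
   (605, [1,0,2,3,2,1,4,3,2,5,1,0]), (343, [1,0,2,3,2,4,3,2,1,0,1,0]), (616, [1,0,2,3,2,4,3,2,1,0,1,2]), (508, [1,0,2,3,2,4,3,2,1,0,1,5]),
   (617, [1,0,2,3,2,4,3,2,1,0,5,1]), (558, [1,2,3,2,1,0,1,4,3,2,1,0]), (559, [1,2,3,2,1,0,1,4,3,2,1,5]), (560, [1,2,3,2,1,0,1,4,3,2,5,1]),
   (566, [1,2,3,2,1,0,1,4,3,5,1,0]), (567, [1,2,3,2,1,0,1,4,3,5,1,2]), (568, [1,2,3,2,1,0,1,4,5,1,0,2]), (569, [1,2,3,2,1,0,1,5,1,0,2,3]),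
   (620, [1,2,3,2,1,0,4,3,2,1,0,1]), (621, [1,2,3,2,1,0,4,3,2,1,0,3]), (622, [1,2,3,2,1,0,4,3,2,1,0,5]), (624, [1,2,3,2,1,0,4,3,2,1,3,2]),
   (625, [1,2,3,2,1,0,4,3,2,1,3,4]), (626, [1,2,3,2,1,0,4,3,2,1,3,5]), (627, [1,2,3,2,1,0,4,3,2,1,5,1]), (631, [1,2,3,2,1,0,4,3,2,3,4,5]),
   (633, [1,2,3,2,1,0,4,3,2,3,5,1]), (635, [1,2,3,2,1,0,4,3,2,5,1,0]), (636, [1,2,3,2,1,0,4,3,2,5,1,2]), (640, [1,2,3,2,1,0,4,3,5,1,0,1]),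
   (641, [1,2,3,2,1,0,4,3,5,1,0,2]), (645, [1,2,3,2,1,4,3,2,1,0,1,0]), (646, [1,2,3,2,1,4,3,2,1,0,1,2]), (647, [1,2,3,2,1,4,3,2,1,0,1,3]),
   (648, [1,2,3,2,1,4,3,2,1,0,1,5]), (650, [1,2,3,2,1,4,3,2,1,0,3,2]), (651, [1,2,3,2,1,4,3,2,1,0,3,4]), (652, [1,2,3,2,1,4,3,2,1,0,3,5]),
   (637, [1,2,3,2,1,4,3,2,1,0,5,1]), (629, [1,2,3,2,1,4,3,2,1,3,2,3]), (655, [1,2,3,2,1,4,3,2,1,3,2,4]), (656, [1,2,3,2,1,4,3,2,1,3,2,5]),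
   (657, [1,2,3,2,1,4,3,2,1,3,4,5]), (659, [1,2,3,2,1,4,3,2,1,3,5,1]), (663, [1,2,3,2,1,4,3,2,1,5,1,0]), (664, [1,2,3,2,1,4,3,2,1,5,1,2]),
   (667, [1,2,3,2,1,4,3,2,3,4,5,1]), (671, [1,2,3,2,1,4,3,2,3,5,1,0])]

def chainUIdx1_5 : List (ℕ × List ℕ) :=
  [(672, [1,2,3,2,1,4,3,2,3,5,1,2]), (675, [1,2,3,2,1,4,3,2,5,1,0,1]), (676, [1,2,3,2,1,4,3,2,5,1,0,2]), (484, [1,2,3,2,4,3,2,1,0,1,0,2]),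
   (485, [1,2,3,2,4,3,2,1,0,1,0,5]), (550, [1,2,3,2,4,3,2,1,0,1,2,3]), (691, [1,2,3,2,4,3,2,1,0,1,2,5]), (692, [1,2,3,2,4,3,2,1,0,1,5,1]),
   (693, [1,2,3,2,4,3,2,1,0,5,1,0]), (694, [1,2,3,2,4,3,2,1,0,5,1,2]), (699, [1,2,3,2,4,3,2,1,5,1,0,1]), (700, [1,2,3,2,4,3,2,1,5,1,0,2]),
   (704, [1,2,3,2,4,3,2,5,1,0,1,0]), (705, [1,2,3,2,4,3,2,5,1,0,1,2]), (706, [1,2,3,2,4,3,2,5,1,0,1,5]), (707, [1,2,3,2,4,3,2,5,1,0,2,1]),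
   (492, [1,0,1,2,1,3,2,1,4,3,2,1,0]), (710, [1,0,1,2,1,3,2,1,4,3,2,1,3]), (711, [1,0,1,2,1,3,2,1,4,3,2,1,5]), (712, [1,0,1,2,1,3,2,1,4,3,2,3,5]),
   (713, [1,0,1,2,1,3,2,1,4,3,2,5,1]), (714, [1,0,1,2,1,3,2,1,4,3,5,1,2]), (500, [1,0,1,2,1,3,2,4,3,2,1,0,1]), (715, [1,0,1,2,1,3,2,4,3,2,1,0,5]),
   (716, [1,0,1,2,1,3,2,4,3,2,1,5,1]), (718, [1,0,1,2,1,3,2,4,3,2,5,1,0]), (719, [1,0,1,2,1,3,2,4,3,2,5,1,2]), (721, [1,0,1,2,1,3,2,4,3,5,1,0,2]),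
   (722, [1,0,1,2,1,3,2,4,3,5,1,2,3]), (724, [1,0,1,2,3,2,1,4,3,2,1,0,1]), (725, [1,0,1,2,3,2,1,4,3,2,1,0,3]), (726, [1,0,1,2,3,2,1,4,3,2,1,0,5]),
   (727, [1,0,1,2,3,2,1,4,3,2,1,3,2]), (728, [1,0,1,2,3,2,1,4,3,2,1,3,5]), (730, [1,0,1,2,3,2,1,4,3,2,1,5,1]), (733, [1,0,1,2,3,2,1,4,3,2,3,2,1]),
   (734, [1,0,1,2,3,2,1,4,3,2,3,2,5]), (735, [1,0,1,2,3,2,1,4,3,2,3,5,1]), (736, [1,0,1,2,3,2,1,4,3,2,5,1,0]), (740, [1,0,1,2,3,2,4,3,2,1,0,1,0]),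
   (741, [1,0,1,2,3,2,4,3,2,1,0,1,2]), (742, [1,0,1,2,3,2,4,3,2,1,0,1,5]), (743, [1,0,1,2,3,2,4,3,2,1,0,5,1]), (746, [1,0,2,1,3,2,1,0,1,4,3,2,1]),
   (747, [1,0,2,1,3,2,1,0,1,4,3,2,3]), (748, [1,0,2,1,3,2,1,0,1,4,3,2,5]), (751, [1,0,2,1,3,2,1,0,4,3,2,1,0]), (752, [1,0,2,1,3,2,1,0,4,3,2,1,5]),
   (753, [1,0,2,1,3,2,1,0,4,3,2,5,1]), (754, [1,0,2,1,3,2,1,0,4,3,5,1,2]), (755, [1,0,2,1,3,2,1,3,4,3,2,1,0]), (756, [1,0,2,1,3,2,1,3,4,3,2,1,3]),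
   (757, [1,0,2,1,3,2,1,3,4,3,2,1,5]), (759, [1,0,2,1,3,2,1,3,4,3,2,3,4]), (760, [1,0,2,1,3,2,1,3,4,3,2,3,5]), (762, [1,0,2,1,3,2,1,3,4,3,2,5,1]),
   (565, [1,0,2,1,3,2,1,3,4,3,5,1,0]), (766, [1,0,2,1,3,2,1,3,4,3,5,1,2]), (767, [1,0,2,1,3,2,1,4,3,2,1,0,1]), (768, [1,0,2,1,3,2,1,4,3,2,1,0,5]),
   (649, [1,0,2,1,3,2,1,4,3,2,1,3,4]), (770, [1,0,2,1,3,2,1,4,3,2,1,3,5]), (771, [1,0,2,1,3,2,1,4,3,2,1,5,1]), (773, [1,0,2,1,3,2,1,4,3,2,3,4,5]),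
   (774, [1,0,2,1,3,2,1,4,3,2,3,5,1]), (777, [1,0,2,1,3,2,1,4,3,2,5,1,0]), (778, [1,0,2,1,3,2,1,4,3,2,5,1,2]), (783, [1,0,2,1,3,2,1,4,3,5,1,0,2]),
   (784, [1,0,2,1,3,2,1,4,3,5,1,2,3]), (785, [1,0,2,1,3,2,3,2,4,3,2,1,0]), (786, [1,0,2,1,3,2,3,2,4,3,2,1,5]), (738, [1,0,2,1,3,2,3,2,4,3,2,5,1]),
   (739, [1,0,2,1,3,2,3,2,4,3,5,1,2]), (788, [1,0,2,1,3,2,3,4,3,2,1,0,1]), (789, [1,0,2,1,3,2,3,4,3,2,1,0,3]), (790, [1,0,2,1,3,2,3,4,3,2,1,0,5]),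
   (792, [1,0,2,1,3,2,3,4,3,2,1,3,2]), (793, [1,0,2,1,3,2,3,4,3,2,1,3,5]), (795, [1,0,2,1,3,2,3,4,3,2,1,5,1]), (798, [1,0,2,1,3,2,3,4,3,2,3,5,1]),
   (799, [1,0,2,1,3,2,3,4,3,2,5,1,0]), (800, [1,0,2,1,3,2,3,4,3,2,5,1,2]), (496, [1,0,2,1,3,2,3,4,3,5,1,0,1]), (564, [1,0,2,1,3,2,3,4,3,5,1,0,2]),
   (802, [1,0,2,1,3,2,3,4,3,5,1,2,3]), (803, [1,0,2,1,3,2,3,4,5,1,2,3,2]), (804, [1,0,2,1,3,2,4,3,2,1,0,1,0]), (805, [1,0,2,1,3,2,4,3,2,1,0,1,2]),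
   (806, [1,0,2,1,3,2,4,3,2,1,0,1,5]), (807, [1,0,2,1,3,2,4,3,2,1,0,5,1])]

def chainUIdx1_6 : List (ℕ × List ℕ) :=
  [(808, [1,0,2,1,3,2,4,3,2,1,5,1,0]), (809, [1,0,2,1,3,2,4,3,2,1,5,1,2]), (813, [1,0,2,1,3,2,4,3,2,5,1,0,1]), (814, [1,0,2,1,3,2,4,3,2,5,1,0,2]),
   (816, [1,0,2,1,3,2,4,3,2,5,1,2,3]), (825, [1,0,2,1,3,2,4,3,5,1,0,1,2]), (826, [1,0,2,1,3,2,4,3,5,1,0,2,1]), (827, [1,0,2,1,3,2,4,3,5,1,0,2,3]),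
   (828, [1,0,2,1,3,2,4,3,5,1,2,3,2]), (829, [1,0,2,1,3,2,4,3,5,1,2,3,4]), (834, [1,0,2,3,2,1,0,4,3,2,1,0,1]), (835, [1,0,2,3,2,1,0,4,3,2,1,0,3]),
   (836, [1,0,2,3,2,1,0,4,3,2,1,0,5]), (838, [1,0,2,3,2,1,0,4,3,2,1,3,2]), (839, [1,0,2,3,2,1,0,4,3,2,1,3,4]), (840, [1,0,2,3,2,1,0,4,3,2,1,3,5]),
   (842, [1,0,2,3,2,1,0,4,3,2,1,5,1]), (846, [1,0,2,3,2,1,0,4,3,2,3,4,5]), (848, [1,0,2,3,2,1,0,4,3,2,3,5,1]), (850, [1,0,2,3,2,1,0,4,3,2,5,1,0]),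
   (851, [1,0,2,3,2,1,0,4,3,2,5,1,2]), (855, [1,0,2,3,2,1,0,4,3,5,1,0,2]), (856, [1,0,2,3,2,1,0,4,3,5,1,2,3]), (858, [1,0,2,3,2,1,0,4,5,1,2,3,2]),
   (859, [1,0,2,3,2,1,4,3,2,1,0,1,0]), (860, [1,0,2,3,2,1,4,3,2,1,0,1,2]), (529, [1,0,2,3,2,1,4,3,2,1,0,1,3]), (861, [1,0,2,3,2,1,4,3,2,1,0,1,5]),
   (862, [1,0,2,3,2,1,4,3,2,1,0,3,4]), (863, [1,0,2,3,2,1,4,3,2,1,0,3,5]), (852, [1,0,2,3,2,1,4,3,2,1,0,5,1]), (864, [1,0,2,3,2,1,4,3,2,1,3,2,1]),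
   (865, [1,0,2,3,2,1,4,3,2,1,3,2,4]), (866, [1,0,2,3,2,1,4,3,2,1,3,2,5]), (867, [1,0,2,3,2,1,4,3,2,1,3,4,5]), (869, [1,0,2,3,2,1,4,3,2,1,3,5,1]),
   (872, [1,0,2,3,2,1,4,3,2,1,5,1,0]), (875, [1,0,2,3,2,1,4,3,2,3,2,1,0]), (876, [1,0,2,3,2,1,4,3,2,3,2,1,4]), (877, [1,0,2,3,2,1,4,3,2,3,2,1,5]),
   (878, [1,0,2,3,2,1,4,3,2,3,2,4,3]), (879, [1,0,2,3,2,1,4,3,2,3,2,4,5]), (881, [1,0,2,3,2,1,4,3,2,3,2,5,1]), (882, [1,0,2,3,2,1,4,3,2,3,4,5,1]),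
   (886, [1,0,2,3,2,1,4,3,2,3,5,1,0]), (887, [1,0,2,3,2,1,4,3,2,3,5,1,2]), (890, [1,0,2,3,2,1,4,3,2,5,1,0,1]), (509, [1,0,2,3,2,4,3,2,1,0,1,0,5]),
   (731, [1,0,2,3,2,4,3,2,1,0,1,2,5]), (744, [1,0,2,3,2,4,3,2,1,0,1,5,1]), (902, [1,0,2,3,2,4,3,2,1,0,5,1,0]), (903, [1,0,2,3,2,4,3,2,1,0,5,1,2]),
   (729, [1,2,3,2,1,0,1,4,3,2,1,0,1]), (819, [1,2,3,2,1,0,1,4,3,2,1,0,5]), (820, [1,2,3,2,1,0,1,4,3,2,1,5,1]), (822, [1,2,3,2,1,0,1,4,3,2,5,1,0]),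
   (823, [1,2,3,2,1,0,1,4,3,2,5,1,2]), (833, [1,2,3,2,1,0,1,4,3,5,1,0,2]), (910, [1,2,3,2,1,0,4,3,2,1,0,1,0]), (911, [1,2,3,2,1,0,4,3,2,1,0,1,3]),
   (912, [1,2,3,2,1,0,4,3,2,1,0,3,2]), (913, [1,2,3,2,1,0,4,3,2,1,0,3,4]), (914, [1,2,3,2,1,0,4,3,2,1,0,3,5]), (425, [1,2,3,2,1,0,4,3,2,1,3,2,3]),
   (915, [1,2,3,2,1,0,4,3,2,1,3,2,4]), (916, [1,2,3,2,1,0,4,3,2,1,3,2,5]), (917, [1,2,3,2,1,0,4,3,2,1,3,4,5]), (918, [1,2,3,2,1,0,4,3,2,1,3,5,1]),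
   (920, [1,2,3,2,1,0,4,3,2,1,5,1,0]), (921, [1,2,3,2,1,0,4,3,2,1,5,1,2]), (925, [1,2,3,2,1,0,4,3,2,3,4,5,1]), (927, [1,2,3,2,1,0,4,3,2,3,5,1,0]),
   (928, [1,2,3,2,1,0,4,3,2,3,5,1,2]), (932, [1,2,3,2,1,0,4,3,2,5,1,0,1]), (933, [1,2,3,2,1,0,4,3,2,5,1,0,2]), (935, [1,2,3,2,1,0,4,3,2,5,1,2,3]),
   (939, [1,2,3,2,1,0,4,3,5,1,0,1,2]), (794, [1,2,3,2,1,4,3,2,1,0,1,0,2]), (941, [1,2,3,2,1,4,3,2,1,0,1,0,3]), (942, [1,2,3,2,1,4,3,2,1,0,1,0,5]),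
   (791, [1,2,3,2,1,4,3,2,1,0,1,2,3]), (943, [1,2,3,2,1,4,3,2,1,0,1,2,5]), (944, [1,2,3,2,1,4,3,2,1,0,1,3,2]), (945, [1,2,3,2,1,4,3,2,1,0,1,3,4]),
   (946, [1,2,3,2,1,4,3,2,1,0,1,3,5]), (937, [1,2,3,2,1,4,3,2,1,0,1,5,1]), (949, [1,2,3,2,1,4,3,2,1,0,3,2,1]), (950, [1,2,3,2,1,4,3,2,1,0,3,2,4]),
   (951, [1,2,3,2,1,4,3,2,1,0,3,2,5]), (952, [1,2,3,2,1,4,3,2,1,0,3,4,5])]

def chainUIdx1_7 : List (ℕ × List ℕ) :=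
  [(929, [1,2,3,2,1,4,3,2,1,0,3,5,1]), (934, [1,2,3,2,1,4,3,2,1,0,5,1,0]), (936, [1,2,3,2,1,4,3,2,1,0,5,1,2]), (844, [1,2,3,2,1,4,3,2,1,3,2,3,4]),
   (923, [1,2,3,2,1,4,3,2,1,3,2,3,5]), (956, [1,2,3,2,1,4,3,2,1,3,2,4,5]), (957, [1,2,3,2,1,4,3,2,1,3,2,5,1]), (959, [1,2,3,2,1,4,3,2,1,3,4,5,1]),
   (963, [1,2,3,2,1,4,3,2,1,3,5,1,0]), (964, [1,2,3,2,1,4,3,2,1,3,5,1,2]), (628, [1,2,3,2,1,4,3,2,1,5,1,0,1]), (967, [1,2,3,2,1,4,3,2,1,5,1,0,2]),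
   (973, [1,2,3,2,1,4,3,2,3,4,5,1,0]), (974, [1,2,3,2,1,4,3,2,3,4,5,1,2]), (977, [1,2,3,2,1,4,3,2,3,5,1,0,1]), (978, [1,2,3,2,1,4,3,2,3,5,1,0,2]),
   (922, [1,2,3,2,1,4,3,2,3,5,1,2,3]), (948, [1,2,3,2,1,4,3,2,5,1,0,1,0]), (983, [1,2,3,2,1,4,3,2,5,1,0,2,1]), (375, [1,2,3,2,4,3,2,1,0,1,0,2,3]),
   (708, [1,2,3,2,4,3,2,1,0,1,0,2,5]), (709, [1,2,3,2,4,3,2,1,0,1,0,5,1]), (769, [1,2,3,2,4,3,2,1,0,1,2,3,2]), (552, [1,2,3,2,4,3,2,1,0,1,2,3,5]),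
   (996, [1,2,3,2,4,3,2,1,0,1,2,5,1]), (997, [1,2,3,2,4,3,2,1,0,1,5,1,0]), (998, [1,2,3,2,4,3,2,1,0,1,5,1,2]), (999, [1,2,3,2,4,3,2,1,0,5,1,0,1]),
   (1000, [1,2,3,2,4,3,2,1,0,5,1,0,2]), (1001, [1,2,3,2,4,3,2,1,0,5,1,2,3]), (1007, [1,2,3,2,4,3,2,1,5,1,0,1,0]), (1008, [1,2,3,2,4,3,2,1,5,1,0,1,2]),
   (1009, [1,2,3,2,4,3,2,1,5,1,0,1,5]), (1011, [1,2,3,2,4,3,2,1,5,1,0,2,1]), (1015, [1,2,3,2,4,3,2,5,1,0,1,0,2]), (1006, [1,2,3,2,4,3,2,5,1,0,1,0,5]),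
   (1016, [1,2,3,2,4,3,2,5,1,0,1,2,1]), (1017, [1,2,3,2,4,3,2,5,1,0,1,2,5]), (1018, [1,2,3,2,4,3,2,5,1,0,2,1,0]), (1019, [1,2,3,2,4,3,2,5,1,0,2,1,5]),
   (553, [1,0,1,2,1,3,2,1,4,3,2,1,0,3]), (717, [1,0,1,2,1,3,2,1,4,3,2,1,0,5]), (623, [1,0,1,2,1,3,2,1,4,3,2,1,3,2]), (821, [1,0,1,2,1,3,2,1,4,3,2,1,3,5]),
   (1025, [1,0,1,2,1,3,2,1,4,3,2,1,5,1]), (1026, [1,0,1,2,1,3,2,1,4,3,2,3,5,1]), (1027, [1,0,1,2,1,3,2,1,4,3,2,5,1,0]), (1028, [1,0,1,2,1,3,2,1,4,3,2,5,1,2]),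
   (1030, [1,0,1,2,1,3,2,1,4,3,5,1,2,3]), (732, [1,0,1,2,1,3,2,4,3,2,1,0,1,5]), (1031, [1,0,1,2,1,3,2,4,3,2,1,0,5,1]), (1032, [1,0,1,2,1,3,2,4,3,2,1,5,1,0]),
   (1033, [1,0,1,2,1,3,2,4,3,2,1,5,1,2]), (1036, [1,0,1,2,1,3,2,4,3,2,5,1,0,1]), (1037, [1,0,1,2,1,3,2,4,3,2,5,1,0,2]), (1039, [1,0,1,2,1,3,2,4,3,2,5,1,2,3]),
   (796, [1,0,1,2,1,3,2,4,3,5,1,0,2,1]), (1042, [1,0,1,2,1,3,2,4,3,5,1,2,3,4]), (1045, [1,0,1,2,3,2,1,4,3,2,1,0,1,0]), (841, [1,0,1,2,3,2,1,4,3,2,1,0,1,2]),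
   (1046, [1,0,1,2,3,2,1,4,3,2,1,0,1,5]), (1047, [1,0,1,2,3,2,1,4,3,2,1,0,3,5]), (1048, [1,0,1,2,3,2,1,4,3,2,1,0,5,1]), (837, [1,0,1,2,3,2,1,4,3,2,1,3,2,1]),
   (1049, [1,0,1,2,3,2,1,4,3,2,1,3,5,1]), (1052, [1,0,1,2,3,2,1,4,3,2,1,5,1,0]), (787, [1,0,1,2,3,2,1,4,3,2,3,2,1,0]), (1056, [1,0,1,2,3,2,1,4,3,2,3,2,1,5]),
   (1057, [1,0,1,2,3,2,1,4,3,2,3,2,5,1]), (1058, [1,0,1,2,3,2,1,4,3,2,3,5,1,0]), (1059, [1,0,1,2,3,2,1,4,3,2,3,5,1,2]), (1061, [1,0,1,2,3,2,1,4,3,2,5,1,0,1]),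
   (1069, [1,0,1,2,3,2,4,3,2,1,0,1,0,2]), (1070, [1,0,1,2,3,2,4,3,2,1,0,1,0,5]), (1071, [1,0,1,2,3,2,4,3,2,1,0,1,2,5]), (1072, [1,0,1,2,3,2,4,3,2,1,0,1,5,1]),
   (1010, [1,0,1,2,3,2,4,3,2,1,0,5,1,0]), (1074, [1,0,1,2,3,2,4,3,2,1,0,5,1,2]), (1080, [1,0,2,1,3,2,1,0,1,4,3,2,1,0]), (1081, [1,0,2,1,3,2,1,0,1,4,3,2,1,3]),
   (1082, [1,0,2,1,3,2,1,0,1,4,3,2,1,5]), (1083, [1,0,2,1,3,2,1,0,1,4,3,2,3,5]), (1085, [1,0,2,1,3,2,1,0,1,4,3,2,5,1]), (1086, [1,0,2,1,3,2,1,0,4,3,2,1,0,5]),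
   (772, [1,0,2,1,3,2,1,0,4,3,2,5,1,0]), (1087, [1,0,2,1,3,2,1,3,4,3,2,1,0,1]), (1088, [1,0,2,1,3,2,1,3,4,3,2,1,0,3]), (1089, [1,0,2,1,3,2,1,3,4,3,2,1,0,5]),
   (1091, [1,0,2,1,3,2,1,3,4,3,2,1,3,2]), (947, [1,0,2,1,3,2,1,3,4,3,2,1,3,4])]

def chainUIdx1_8 : List (ℕ × List ℕ) :=
  [(1092, [1,0,2,1,3,2,1,3,4,3,2,1,3,5]), (1093, [1,0,2,1,3,2,1,3,4,3,2,1,5,1]), (1095, [1,0,2,1,3,2,1,3,4,3,2,3,4,5]), (1096, [1,0,2,1,3,2,1,3,4,3,2,3,5,1]),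
   (1099, [1,0,2,1,3,2,1,3,4,3,2,5,1,0]), (1100, [1,0,2,1,3,2,1,3,4,3,2,5,1,2]), (832, [1,0,2,1,3,2,1,3,4,3,5,1,0,2]), (1105, [1,0,2,1,3,2,1,3,4,3,5,1,2,3]),
   (1106, [1,0,2,1,3,2,1,4,3,2,1,0,1,5]), (1107, [1,0,2,1,3,2,1,4,3,2,1,3,5,1]), (1108, [1,0,2,1,3,2,1,4,3,2,1,5,1,0]), (1110, [1,0,2,1,3,2,1,4,3,2,3,4,5,1]),
   (1112, [1,0,2,1,3,2,1,4,3,2,3,5,1,0]), (1113, [1,0,2,1,3,2,1,4,3,2,3,5,1,2]), (1117, [1,0,2,1,3,2,1,4,3,2,5,1,0,1]), (1118, [1,0,2,1,3,2,1,4,3,2,5,1,0,2]),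
   (1123, [1,0,2,1,3,2,1,4,3,5,1,0,2,1]), (1124, [1,0,2,1,3,2,1,4,3,5,1,0,2,3]), (1125, [1,0,2,1,3,2,1,4,3,5,1,2,3,4]), (1126, [1,0,2,1,3,2,3,2,4,3,2,1,0,5]),
   (1067, [1,0,2,1,3,2,3,2,4,3,2,1,5,1]), (1065, [1,0,2,1,3,2,3,2,4,3,2,5,1,0]), (1066, [1,0,2,1,3,2,3,2,4,3,2,5,1,2]), (1068, [1,0,2,1,3,2,3,2,4,3,5,1,2,3]),
   (1020, [1,0,2,1,3,2,3,4,3,2,1,0,1,3]), (1128, [1,0,2,1,3,2,3,4,3,2,1,0,1,5]), (1129, [1,0,2,1,3,2,3,4,3,2,1,0,3,5]), (1130, [1,0,2,1,3,2,3,4,3,2,1,0,5,1]),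
   (1131, [1,0,2,1,3,2,3,4,3,2,1,3,2,3]), (1132, [1,0,2,1,3,2,3,4,3,2,1,3,5,1]), (1134, [1,0,2,1,3,2,3,4,3,2,1,5,1,0]), (1135, [1,0,2,1,3,2,3,4,3,2,1,5,1,2]),
   (1138, [1,0,2,1,3,2,3,4,3,2,3,5,1,0]), (1139, [1,0,2,1,3,2,3,4,3,2,3,5,1,2]), (1141, [1,0,2,1,3,2,3,4,3,2,5,1,0,1]), (1142, [1,0,2,1,3,2,3,4,3,2,5,1,0,2]),
   (1144, [1,0,2,1,3,2,3,4,3,2,5,1,2,3]), (723, [1,0,2,1,3,2,3,4,3,5,1,0,1,2]), (831, [1,0,2,1,3,2,3,4,3,5,1,0,2,1]), (830, [1,0,2,1,3,2,3,4,3,5,1,0,2,3]),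
   (1043, [1,0,2,1,3,2,3,4,3,5,1,2,3,2]), (1147, [1,0,2,1,3,2,3,4,3,5,1,2,3,4]), (1136, [1,0,2,1,3,2,3,4,5,1,2,3,2,1]), (1148, [1,0,2,1,3,2,3,4,5,1,2,3,2,3]),
   (1149, [1,0,2,1,3,2,4,3,2,1,0,1,0,5]), (1150, [1,0,2,1,3,2,4,3,2,1,0,1,2,3]), (1151, [1,0,2,1,3,2,4,3,2,1,0,1,2,5]), (1152, [1,0,2,1,3,2,4,3,2,1,0,1,5,1]),
   (1153, [1,0,2,1,3,2,4,3,2,1,0,5,1,0]), (1154, [1,0,2,1,3,2,4,3,2,1,0,5,1,2]), (1064, [1,0,2,1,3,2,4,3,2,1,5,1,0,1]), (1156, [1,0,2,1,3,2,4,3,2,1,5,1,0,2]),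
   (1161, [1,0,2,1,3,2,4,3,2,5,1,0,1,0]), (1162, [1,0,2,1,3,2,4,3,2,5,1,0,1,2]), (1063, [1,0,2,1,3,2,4,3,2,5,1,0,1,5]), (1164, [1,0,2,1,3,2,4,3,2,5,1,0,2,1]),
   (1165, [1,0,2,1,3,2,4,3,2,5,1,0,2,3]), (1168, [1,0,2,1,3,2,4,3,2,5,1,2,3,4]), (1183, [1,0,2,1,3,2,4,3,5,1,0,1,2,1]), (1184, [1,0,2,1,3,2,4,3,5,1,0,1,2,3]),
   (1185, [1,0,2,1,3,2,4,3,5,1,0,2,1,0]), (1186, [1,0,2,1,3,2,4,3,5,1,0,2,1,3]), (1187, [1,0,2,1,3,2,4,3,5,1,0,2,1,5]), (1189, [1,0,2,1,3,2,4,3,5,1,0,2,3,4]),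
   (1190, [1,0,2,1,3,2,4,3,5,1,2,3,2,4]), (1197, [1,0,2,3,2,1,0,4,3,2,1,0,3,2]), (1198, [1,0,2,3,2,1,0,4,3,2,1,0,3,4]), (1199, [1,0,2,3,2,1,0,4,3,2,1,0,3,5]),
   (1200, [1,0,2,3,2,1,0,4,3,2,1,0,5,1]), (1201, [1,0,2,3,2,1,0,4,3,2,1,3,2,5]), (1202, [1,0,2,3,2,1,0,4,3,2,1,3,4,5]), (1203, [1,0,2,3,2,1,0,4,3,2,1,3,5,1]),
   (1205, [1,0,2,3,2,1,0,4,3,2,1,5,1,0]), (1206, [1,0,2,3,2,1,0,4,3,2,1,5,1,2]), (1210, [1,0,2,3,2,1,0,4,3,2,3,4,5,1]), (1211, [1,0,2,3,2,1,0,4,3,2,3,5,1,0]),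
   (1212, [1,0,2,3,2,1,0,4,3,2,3,5,1,2]), (1216, [1,0,2,3,2,1,0,4,3,2,5,1,0,1]), (1217, [1,0,2,3,2,1,0,4,3,2,5,1,0,2]), (1219, [1,0,2,3,2,1,0,4,3,2,5,1,2,3]),
   (1223, [1,0,2,3,2,1,0,4,3,5,1,0,2,1]), (1224, [1,0,2,3,2,1,0,4,3,5,1,0,2,3]), (1227, [1,0,2,3,2,1,0,4,5,1,2,3,2,1]), (1228, [1,0,2,3,2,1,0,4,5,1,2,3,2,3]),
   (1050, [1,0,2,3,2,1,4,3,2,1,0,1,2,5]), (758, [1,0,2,3,2,1,4,3,2,1,0,1,3,4]), (1221, [1,0,2,3,2,1,4,3,2,1,0,1,5,1]), (1229, [1,0,2,3,2,1,4,3,2,1,0,3,4,5]),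
   (1213, [1,0,2,3,2,1,4,3,2,1,0,3,5,1]), (1218, [1,0,2,3,2,1,4,3,2,1,0,5,1,0])]

def chainUIdx1_9 : List (ℕ × List ℕ) :=
  [(1220, [1,0,2,3,2,1,4,3,2,1,0,5,1,2]), (1230, [1,0,2,3,2,1,4,3,2,1,3,4,5,1]), (1233, [1,0,2,3,2,1,4,3,2,1,3,5,1,0]), (1173, [1,0,2,3,2,1,4,3,2,1,3,5,1,2]),
   (843, [1,0,2,3,2,1,4,3,2,1,5,1,0,1]), (1235, [1,0,2,3,2,1,4,3,2,3,2,1,4,3]), (1236, [1,0,2,3,2,1,4,3,2,3,2,4,3,5]), (1051, [1,0,2,3,2,1,4,3,2,3,2,5,1,2]),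
   (1238, [1,0,2,3,2,1,4,3,2,3,4,5,1,0]), (1239, [1,0,2,3,2,1,4,3,2,3,4,5,1,2]), (1242, [1,0,2,3,2,1,4,3,2,3,5,1,0,2]), (1055, [1,0,2,3,2,1,4,3,2,3,5,1,2,3]),
   (745, [1,0,2,3,2,4,3,2,1,0,1,0,5,1]), (1054, [1,0,2,3,2,4,3,2,1,0,1,2,5,1]), (1075, [1,0,2,3,2,4,3,2,1,0,1,5,1,0]), (1076, [1,0,2,3,2,4,3,2,1,0,1,5,1,2]),
   (1262, [1,0,2,3,2,4,3,2,1,0,5,1,0,1]), (1263, [1,0,2,3,2,4,3,2,1,0,5,1,0,2]), (1264, [1,0,2,3,2,4,3,2,1,0,5,1,2,3]), (1174, [1,2,3,2,1,0,1,4,3,2,1,5,1,0]),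
   (1175, [1,2,3,2,1,0,1,4,3,2,1,5,1,2]), (1178, [1,2,3,2,1,0,1,4,3,2,5,1,0,1]), (1179, [1,2,3,2,1,0,1,4,3,2,5,1,0,2]), (1181, [1,2,3,2,1,0,1,4,3,2,5,1,2,3]),
   (1268, [1,2,3,2,1,0,4,3,2,1,0,1,0,3]), (1269, [1,2,3,2,1,0,4,3,2,1,0,1,3,2]), (1270, [1,2,3,2,1,0,4,3,2,1,0,1,3,4]), (1271, [1,2,3,2,1,0,4,3,2,1,0,3,2,4]),
   (919, [1,2,3,2,1,0,4,3,2,1,0,3,2,5]), (1272, [1,2,3,2,1,0,4,3,2,1,0,3,4,5]), (573, [1,2,3,2,1,0,4,3,2,1,3,2,3,4]), (630, [1,2,3,2,1,0,4,3,2,1,3,2,3,5]),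
   (1273, [1,2,3,2,1,0,4,3,2,1,3,2,4,5]), (1274, [1,2,3,2,1,0,4,3,2,1,3,2,5,1]), (1275, [1,2,3,2,1,0,4,3,2,1,3,4,5,1]), (1277, [1,2,3,2,1,0,4,3,2,1,3,5,1,0]),
   (673, [1,2,3,2,1,0,4,3,2,1,3,5,1,2]), (677, [1,2,3,2,1,0,4,3,2,1,5,1,0,1]), (1169, [1,2,3,2,1,0,4,3,2,1,5,1,0,2]), (1166, [1,2,3,2,1,0,4,3,2,1,5,1,2,3]),
   (1279, [1,2,3,2,1,0,4,3,2,3,4,5,1,0]), (1280, [1,2,3,2,1,0,4,3,2,3,4,5,1,2]), (1284, [1,2,3,2,1,0,4,3,2,3,5,1,0,1]), (965, [1,2,3,2,1,0,4,3,2,3,5,1,0,2]),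
   (680, [1,2,3,2,1,0,4,3,2,3,5,1,2,3]), (1285, [1,2,3,2,1,0,4,3,2,5,1,0,1,0]), (1286, [1,2,3,2,1,0,4,3,2,5,1,0,1,2]), (969, [1,2,3,2,1,0,4,3,2,5,1,0,1,5]),
   (1288, [1,2,3,2,1,0,4,3,2,5,1,0,2,1]), (1171, [1,2,3,2,1,0,4,3,2,5,1,0,2,3]), (810, [1,2,3,2,1,0,4,3,2,5,1,2,3,2]), (1291, [1,2,3,2,1,0,4,3,5,1,0,1,2,3]),
   (543, [1,2,3,2,1,4,3,2,1,0,1,0,2,3]), (1133, [1,2,3,2,1,4,3,2,1,0,1,0,2,5]), (1292, [1,2,3,2,1,4,3,2,1,0,1,0,3,2]), (1293, [1,2,3,2,1,4,3,2,1,0,1,0,3,4]),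
   (1294, [1,2,3,2,1,4,3,2,1,0,1,0,3,5]), (1090, [1,2,3,2,1,4,3,2,1,0,1,2,3,2]), (1295, [1,2,3,2,1,4,3,2,1,0,1,3,2,1]), (1296, [1,2,3,2,1,4,3,2,1,0,1,3,2,3]),
   (1297, [1,2,3,2,1,4,3,2,1,0,1,3,2,5]), (1299, [1,2,3,2,1,4,3,2,1,0,1,3,4,5]), (1301, [1,2,3,2,1,4,3,2,1,0,3,2,1,4]), (1302, [1,2,3,2,1,4,3,2,1,0,3,2,4,5]),
   (1281, [1,2,3,2,1,4,3,2,1,0,3,4,5,1]), (988, [1,2,3,2,1,4,3,2,1,0,5,1,0,1]), (1289, [1,2,3,2,1,4,3,2,1,0,5,1,0,2]), (1208, [1,2,3,2,1,4,3,2,1,3,2,3,4,5]),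
   (986, [1,2,3,2,1,4,3,2,1,3,2,3,5,1]), (1304, [1,2,3,2,1,4,3,2,1,3,2,4,5,1]), (980, [1,2,3,2,1,4,3,2,1,3,2,5,1,0]), (1306, [1,2,3,2,1,4,3,2,1,3,2,5,1,2]),
   (1308, [1,2,3,2,1,4,3,2,1,3,4,5,1,0]), (1309, [1,2,3,2,1,4,3,2,1,3,4,5,1,2]), (1316, [1,2,3,2,1,4,3,2,1,5,1,0,2,1]), (1322, [1,2,3,2,1,4,3,2,3,4,5,1,0,1]),
   (1323, [1,2,3,2,1,4,3,2,3,4,5,1,0,2]), (1325, [1,2,3,2,1,4,3,2,3,4,5,1,2,3]), (1300, [1,2,3,2,1,4,3,2,3,5,1,0,1,0]), (1329, [1,2,3,2,1,4,3,2,3,5,1,0,1,2]),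
   (1207, [1,2,3,2,1,4,3,2,3,5,1,2,3,4]), (1332, [1,2,3,2,1,4,3,2,5,1,0,2,1,0]), (554, [1,2,3,2,4,3,2,1,0,1,0,2,3,5]), (1021, [1,2,3,2,4,3,2,1,0,1,0,2,5,1]),
   (1022, [1,2,3,2,4,3,2,1,0,1,0,5,1,0]), (1023, [1,2,3,2,4,3,2,1,0,1,0,5,1,2]), (1345, [1,2,3,2,4,3,2,1,0,1,5,1,0,1]), (1346, [1,2,3,2,4,3,2,1,0,1,5,1,0,2]),
   (1079, [1,2,3,2,4,3,2,1,0,5,1,0,1,0]), (1347, [1,2,3,2,4,3,2,1,0,5,1,0,1,2])]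

def chainUIdx1_10 : List (ℕ × List ℕ) :=
  [(1024, [1,2,3,2,4,3,2,1,0,5,1,0,1,5]), (1348, [1,2,3,2,4,3,2,1,0,5,1,0,2,1]), (1349, [1,2,3,2,4,3,2,1,0,5,1,0,2,3]), (1350, [1,2,3,2,4,3,2,1,0,5,1,2,3,4]),
   (1354, [1,2,3,2,4,3,2,1,5,1,0,1,0,2]), (1355, [1,2,3,2,4,3,2,1,5,1,0,1,0,5]), (1356, [1,2,3,2,4,3,2,1,5,1,0,1,2,1]), (1357, [1,2,3,2,4,3,2,1,5,1,0,1,2,3]),
   (1358, [1,2,3,2,4,3,2,1,5,1,0,1,2,5]), (1360, [1,2,3,2,4,3,2,1,5,1,0,2,1,0]), (1361, [1,2,3,2,4,3,2,1,5,1,0,2,1,5]), (1353, [1,2,3,2,4,3,2,5,1,0,1,0,2,5]),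
   (1077, [1,2,3,2,4,3,2,5,1,0,1,0,5,1]), (1364, [1,2,3,2,4,3,2,5,1,0,1,2,1,5]), (1365, [1,2,3,2,4,3,2,5,1,0,1,2,5,1]), (1366, [1,2,3,2,4,3,2,5,1,0,2,1,0,5]),
   (811, [1,0,1,2,1,3,2,1,4,3,2,1,0,3,5]), (1035, [1,0,1,2,1,3,2,1,4,3,2,1,0,5,1]), (1177, [1,0,1,2,1,3,2,1,4,3,2,1,3,5,1]), (1372, [1,0,1,2,1,3,2,1,4,3,2,1,5,1,0]),
   (1373, [1,0,1,2,1,3,2,1,4,3,2,1,5,1,2]), (1375, [1,0,1,2,1,3,2,1,4,3,2,3,5,1,0]), (1060, [1,0,1,2,1,3,2,1,4,3,2,3,5,1,2]), (1376, [1,0,1,2,1,3,2,1,4,3,2,5,1,0,1]),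
   (1377, [1,0,1,2,1,3,2,1,4,3,2,5,1,0,2]), (1379, [1,0,1,2,1,3,2,1,4,3,2,5,1,2,3]), (1382, [1,0,1,2,1,3,2,1,4,3,5,1,2,3,4]), (1383, [1,0,1,2,1,3,2,4,3,2,1,0,5,1,0]),
   (1374, [1,0,1,2,1,3,2,4,3,2,1,0,5,1,2]), (1384, [1,0,1,2,1,3,2,4,3,2,1,5,1,0,1]), (1385, [1,0,1,2,1,3,2,4,3,2,1,5,1,0,2]), (1386, [1,0,1,2,1,3,2,4,3,2,1,5,1,2,3]),
   (1388, [1,0,1,2,1,3,2,4,3,2,5,1,0,1,0]), (1389, [1,0,1,2,1,3,2,4,3,2,5,1,0,1,2]), (1390, [1,0,1,2,1,3,2,4,3,2,5,1,0,1,5]), (1362, [1,0,1,2,1,3,2,4,3,2,5,1,0,2,1]),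
   (1160, [1,0,1,2,1,3,2,4,3,2,5,1,0,2,3]), (1392, [1,0,1,2,1,3,2,4,3,2,5,1,2,3,2]), (1393, [1,0,1,2,1,3,2,4,3,2,5,1,2,3,4]), (797, [1,0,1,2,1,3,2,4,3,5,1,0,2,1,0]),
   (1398, [1,0,1,2,3,2,1,4,3,2,1,0,1,0,5]), (1204, [1,0,1,2,3,2,1,4,3,2,1,0,1,2,5]), (1399, [1,0,1,2,3,2,1,4,3,2,1,0,1,5,1]), (1397, [1,0,1,2,3,2,1,4,3,2,1,0,3,5,1]),
   (1396, [1,0,1,2,3,2,1,4,3,2,1,0,5,1,0]), (1401, [1,0,1,2,3,2,1,4,3,2,1,0,5,1,2]), (1403, [1,0,1,2,3,2,1,4,3,2,1,3,5,1,0]), (1405, [1,0,1,2,3,2,1,4,3,2,1,5,1,0,1]),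
   (1127, [1,0,1,2,3,2,1,4,3,2,3,2,1,0,5]), (1407, [1,0,1,2,3,2,1,4,3,2,3,2,1,5,1]), (1408, [1,0,1,2,3,2,1,4,3,2,3,2,5,1,0]), (1140, [1,0,1,2,3,2,1,4,3,2,3,2,5,1,2]),
   (1381, [1,0,1,2,3,2,1,4,3,2,3,5,1,0,1]), (1409, [1,0,1,2,3,2,1,4,3,2,3,5,1,0,2]), (1029, [1,0,1,2,3,2,1,4,3,2,3,5,1,2,3]), (1411, [1,0,1,2,3,2,1,4,3,2,5,1,0,1,0]),
   (1420, [1,0,1,2,3,2,4,3,2,1,0,1,0,2,5]), (1421, [1,0,1,2,3,2,4,3,2,1,0,1,2,5,1]), (1423, [1,0,1,2,3,2,4,3,2,1,0,1,5,1,2]), (1359, [1,0,1,2,3,2,4,3,2,1,0,5,1,0,2]),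
   (1424, [1,0,1,2,3,2,4,3,2,1,0,5,1,2,3]), (1430, [1,0,2,1,3,2,1,0,1,4,3,2,1,0,5]), (1431, [1,0,2,1,3,2,1,0,1,4,3,2,1,3,2]), (1432, [1,0,2,1,3,2,1,0,1,4,3,2,1,3,5]),
   (1433, [1,0,2,1,3,2,1,0,1,4,3,2,3,5,1]), (1094, [1,0,2,1,3,2,1,0,1,4,3,2,5,1,0]), (1109, [1,0,2,1,3,2,1,0,4,3,2,5,1,0,1]), (1434, [1,0,2,1,3,2,1,3,4,3,2,1,0,1,5]),
   (1435, [1,0,2,1,3,2,1,3,4,3,2,1,0,3,2]), (1298, [1,0,2,1,3,2,1,3,4,3,2,1,3,2,3]), (1436, [1,0,2,1,3,2,1,3,4,3,2,1,3,2,5]), (1437, [1,0,2,1,3,2,1,3,4,3,2,1,3,5,1]),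
   (1438, [1,0,2,1,3,2,1,3,4,3,2,1,5,1,0]), (1440, [1,0,2,1,3,2,1,3,4,3,2,3,4,5,1]), (1442, [1,0,2,1,3,2,1,3,4,3,2,3,5,1,0]), (1443, [1,0,2,1,3,2,1,3,4,3,2,3,5,1,2]),
   (1447, [1,0,2,1,3,2,1,3,4,3,2,5,1,0,1]), (1448, [1,0,2,1,3,2,1,3,4,3,2,5,1,0,2]), (1317, [1,0,2,1,3,2,1,3,4,3,2,5,1,2,3]), (1196, [1,0,2,1,3,2,1,3,4,3,5,1,0,2,1]),
   (1193, [1,0,2,1,3,2,1,3,4,3,5,1,0,2,3]), (1453, [1,0,2,1,3,2,1,3,4,3,5,1,2,3,4]), (1454, [1,0,2,1,3,2,1,4,3,2,1,3,5,1,2]), (1458, [1,0,2,1,3,2,1,4,3,2,3,4,5,1,2]),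
   (873, [1,0,2,1,3,2,1,4,3,2,3,5,1,0,1]), (1426, [1,0,2,1,3,2,1,4,3,2,3,5,1,0,2]), (1425, [1,0,2,1,3,2,1,4,3,2,3,5,1,2,3]), (1246, [1,0,2,1,3,2,1,4,3,2,5,1,0,1,0]),
   (1463, [1,0,2,1,3,2,1,4,3,2,5,1,0,1,2]), (1243, [1,0,2,1,3,2,1,4,3,2,5,1,0,1,5])]

def chainUIdx1_11 : List (ℕ × List ℕ) :=
  [(1464, [1,0,2,1,3,2,1,4,3,2,5,1,0,2,1]), (1467, [1,0,2,1,3,2,1,4,3,5,1,0,2,1,0]), (1468, [1,0,2,1,3,2,1,4,3,5,1,0,2,1,3]), (1469, [1,0,2,1,3,2,1,4,3,5,1,0,2,1,5]),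
   (1471, [1,0,2,1,3,2,1,4,3,5,1,0,2,3,4]), (1472, [1,0,2,1,3,2,3,2,4,3,2,1,0,5,1]), (1163, [1,0,2,1,3,2,3,2,4,3,2,1,5,1,0]), (1419, [1,0,2,1,3,2,3,2,4,3,2,1,5,1,2]),
   (1416, [1,0,2,1,3,2,3,2,4,3,2,5,1,0,1]), (1417, [1,0,2,1,3,2,3,2,4,3,2,5,1,0,2]), (1418, [1,0,2,1,3,2,3,2,4,3,2,5,1,2,3]), (1368, [1,0,2,1,3,2,3,4,3,2,1,0,1,3,5]),
   (1474, [1,0,2,1,3,2,3,4,3,2,1,0,1,5,1]), (1475, [1,0,2,1,3,2,3,4,3,2,1,0,3,5,1]), (1476, [1,0,2,1,3,2,3,4,3,2,1,0,5,1,0]), (1477, [1,0,2,1,3,2,3,4,3,2,1,0,5,1,2]),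
   (1479, [1,0,2,1,3,2,3,4,3,2,1,3,2,3,2]), (1172, [1,0,2,1,3,2,3,4,3,2,1,3,5,1,0]), (985, [1,0,2,1,3,2,3,4,3,2,1,5,1,0,1]), (1481, [1,0,2,1,3,2,3,4,3,2,1,5,1,0,2]),
   (1482, [1,0,2,1,3,2,3,4,3,2,1,5,1,2,3]), (1041, [1,0,2,1,3,2,3,4,3,2,3,5,1,0,1]), (1485, [1,0,2,1,3,2,3,4,3,2,3,5,1,0,2]), (1176, [1,0,2,1,3,2,3,4,3,2,5,1,0,1,0]),
   (1487, [1,0,2,1,3,2,3,4,3,2,5,1,0,1,2]), (824, [1,0,2,1,3,2,3,4,3,2,5,1,0,1,5]), (1488, [1,0,2,1,3,2,3,4,3,2,5,1,0,2,1]), (1489, [1,0,2,1,3,2,3,4,3,2,5,1,0,2,3]),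
   (1492, [1,0,2,1,3,2,3,4,3,2,5,1,2,3,2]), (1493, [1,0,2,1,3,2,3,4,3,2,5,1,2,3,4]), (1044, [1,0,2,1,3,2,3,4,3,5,1,0,1,2,1]), (1194, [1,0,2,1,3,2,3,4,3,5,1,0,2,1,0]),
   (1192, [1,0,2,1,3,2,3,4,3,5,1,0,2,1,3]), (1195, [1,0,2,1,3,2,3,4,3,5,1,0,2,1,5]), (1191, [1,0,2,1,3,2,3,4,3,5,1,0,2,3,4]), (1395, [1,0,2,1,3,2,3,4,3,5,1,2,3,2,4]),
   (1146, [1,0,2,1,3,2,3,4,5,1,2,3,2,1,0]), (1480, [1,0,2,1,3,2,3,4,5,1,2,3,2,1,3]), (1143, [1,0,2,1,3,2,3,4,5,1,2,3,2,1,5]), (1496, [1,0,2,1,3,2,3,4,5,1,2,3,2,3,4]),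
   (1497, [1,0,2,1,3,2,4,3,2,1,0,1,0,5,1]), (1367, [1,0,2,1,3,2,4,3,2,1,0,1,2,3,5]), (1498, [1,0,2,1,3,2,4,3,2,1,0,1,2,5,1]), (1499, [1,0,2,1,3,2,4,3,2,1,0,1,5,1,0]),
   (1500, [1,0,2,1,3,2,4,3,2,1,0,1,5,1,2]), (1502, [1,0,2,1,3,2,4,3,2,1,0,5,1,0,1]), (1478, [1,0,2,1,3,2,4,3,2,1,0,5,1,0,2]), (1503, [1,0,2,1,3,2,4,3,2,1,0,5,1,2,3]),
   (1053, [1,0,2,1,3,2,4,3,2,1,5,1,0,1,0]), (893, [1,0,2,1,3,2,4,3,2,1,5,1,0,1,2]), (737, [1,0,2,1,3,2,4,3,2,1,5,1,0,1,5]), (1505, [1,0,2,1,3,2,4,3,2,1,5,1,0,2,1]),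
   (1512, [1,0,2,1,3,2,4,3,2,5,1,0,1,0,2]), (1414, [1,0,2,1,3,2,4,3,2,5,1,0,1,0,5]), (1513, [1,0,2,1,3,2,4,3,2,5,1,0,1,2,1]), (1415, [1,0,2,1,3,2,4,3,2,5,1,0,1,2,5]),
   (1491, [1,0,2,1,3,2,4,3,5,1,0,1,2,1,5]), (1535, [1,0,2,1,3,2,4,3,5,1,0,2,1,0,1]), (1536, [1,0,2,1,3,2,4,3,5,1,0,2,1,0,3]), (1537, [1,0,2,1,3,2,4,3,5,1,0,2,1,0,5]),
   (1539, [1,0,2,1,3,2,4,3,5,1,0,2,1,3,2]), (1540, [1,0,2,1,3,2,4,3,5,1,0,2,1,3,4]), (1541, [1,0,2,1,3,2,4,3,5,1,0,2,1,3,5]), (1400, [1,0,2,3,2,1,0,4,3,2,1,0,3,2,5]),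
   (1554, [1,0,2,3,2,1,0,4,3,2,1,0,3,4,5]), (1518, [1,0,2,3,2,1,0,4,3,2,1,3,2,5,1]), (1555, [1,0,2,3,2,1,0,4,3,2,1,3,4,5,1]), (1457, [1,0,2,3,2,1,0,4,3,2,1,3,5,1,0]),
   (1556, [1,0,2,3,2,1,0,4,3,2,1,3,5,1,2]), (891, [1,0,2,3,2,1,0,4,3,2,1,5,1,0,1]), (1519, [1,0,2,3,2,1,0,4,3,2,1,5,1,0,2]), (1558, [1,0,2,3,2,1,0,4,3,2,1,5,1,2,3]),
   (1560, [1,0,2,3,2,1,0,4,3,2,3,4,5,1,0]), (1561, [1,0,2,3,2,1,0,4,3,2,3,4,5,1,2]), (1563, [1,0,2,3,2,1,0,4,3,2,3,5,1,0,2]), (1565, [1,0,2,3,2,1,0,4,3,2,3,5,1,2,3]),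
   (1567, [1,0,2,3,2,1,0,4,3,2,5,1,0,2,1]), (1568, [1,0,2,3,2,1,0,4,3,2,5,1,0,2,3]), (1570, [1,0,2,3,2,1,0,4,3,2,5,1,2,3,2]), (1571, [1,0,2,3,2,1,0,4,3,2,5,1,2,3,4]),
   (1495, [1,0,2,3,2,1,0,4,3,5,1,0,2,1,0]), (1490, [1,0,2,3,2,1,0,4,3,5,1,0,2,1,5]), (1574, [1,0,2,3,2,1,0,4,5,1,2,3,2,1,0]), (1575, [1,0,2,3,2,1,0,4,5,1,2,3,2,1,3]),
   (1576, [1,0,2,3,2,1,0,4,5,1,2,3,2,1,5]), (1562, [1,0,2,3,2,1,4,3,2,1,0,3,4,5,1]), (1564, [1,0,2,3,2,1,4,3,2,1,0,3,5,1,0]), (1566, [1,0,2,3,2,1,4,3,2,1,0,3,5,1,2]),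
   (1252, [1,0,2,3,2,1,4,3,2,1,0,5,1,0,1]), (1569, [1,0,2,3,2,1,4,3,2,1,0,5,1,0,2])]

def chainUIdx1_12 : List (ℕ × List ℕ) :=
  [(1572, [1,0,2,3,2,1,4,3,2,1,0,5,1,2,3]), (1578, [1,0,2,3,2,1,4,3,2,1,3,4,5,1,0]), (1523, [1,0,2,3,2,1,4,3,2,1,3,5,1,0,2]), (845, [1,0,2,3,2,1,4,3,2,1,5,1,0,1,0]),
   (1579, [1,0,2,3,2,1,4,3,2,3,2,1,4,3,2]), (1580, [1,0,2,3,2,1,4,3,2,3,4,5,1,0,2]), (1137, [1,0,2,3,2,1,4,3,2,3,4,5,1,2,3]), (1380, [1,0,2,3,2,1,4,3,2,3,5,1,0,2,3]),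
   (1378, [1,0,2,3,2,1,4,3,2,3,5,1,2,3,2]), (1078, [1,0,2,3,2,4,3,2,1,0,1,0,5,1,2]), (1596, [1,0,2,3,2,4,3,2,1,0,5,1,0,1,2]), (1547, [1,0,2,3,2,4,3,2,1,0,5,1,0,2,1]),
   (1524, [1,2,3,2,1,0,1,4,3,2,1,5,1,0,1]), (1525, [1,2,3,2,1,0,1,4,3,2,1,5,1,0,2]), (1517, [1,2,3,2,1,0,1,4,3,2,1,5,1,2,3]), (1527, [1,2,3,2,1,0,1,4,3,2,5,1,0,1,0]),
   (1528, [1,2,3,2,1,0,1,4,3,2,5,1,0,1,2]), (1529, [1,2,3,2,1,0,1,4,3,2,5,1,0,1,5]), (1531, [1,2,3,2,1,0,1,4,3,2,5,1,0,2,1]), (1532, [1,2,3,2,1,0,1,4,3,2,5,1,0,2,3]),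
   (1597, [1,2,3,2,1,0,4,3,2,1,0,1,0,3,2]), (1598, [1,2,3,2,1,0,4,3,2,1,0,1,3,2,3]), (1276, [1,2,3,2,1,0,4,3,2,1,0,3,2,4,5]), (924, [1,2,3,2,1,0,4,3,2,1,3,2,3,5,1]),
   (1599, [1,2,3,2,1,0,4,3,2,1,3,2,4,5,1]), (1600, [1,2,3,2,1,0,4,3,2,1,3,4,5,1,0]), (975, [1,2,3,2,1,0,4,3,2,1,3,4,5,1,2]), (979, [1,2,3,2,1,0,4,3,2,1,3,5,1,0,1]),
   (460, [1,2,3,2,1,0,4,3,2,1,3,5,1,2,3]), (984, [1,2,3,2,1,0,4,3,2,1,5,1,0,1,2]), (665, [1,2,3,2,1,0,4,3,2,1,5,1,0,1,5]), (1520, [1,2,3,2,1,0,4,3,2,1,5,1,0,2,1]),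
   (817, [1,2,3,2,1,0,4,3,2,1,5,1,0,2,3]), (815, [1,2,3,2,1,0,4,3,2,1,5,1,2,3,2]), (1602, [1,2,3,2,1,0,4,3,2,3,4,5,1,0,1]), (1310, [1,2,3,2,1,0,4,3,2,3,4,5,1,0,2]),
   (1603, [1,2,3,2,1,0,4,3,2,3,5,1,0,1,0]), (1604, [1,2,3,2,1,0,4,3,2,3,5,1,0,1,2]), (1312, [1,2,3,2,1,0,4,3,2,3,5,1,0,1,5]), (818, [1,2,3,2,1,0,4,3,2,5,1,0,2,3,2]),
   (968, [1,2,3,2,1,0,4,3,2,5,1,2,3,2,3]), (1406, [1,2,3,2,1,0,4,3,5,1,0,1,2,3,4]), (1608, [1,2,3,2,1,4,3,2,1,0,1,0,3,2,1]), (1609, [1,2,3,2,1,4,3,2,1,0,1,0,3,2,3]),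
   (1610, [1,2,3,2,1,4,3,2,1,0,1,0,3,2,5]), (1611, [1,2,3,2,1,4,3,2,1,0,1,3,2,1,3]), (1612, [1,2,3,2,1,4,3,2,1,0,1,3,2,3,5]), (1337, [1,2,3,2,1,4,3,2,1,0,5,1,0,1,2]),
   (679, [1,2,3,2,1,4,3,2,1,0,5,1,0,1,5]), (1607, [1,2,3,2,1,4,3,2,1,0,5,1,0,2,1]), (1250, [1,2,3,2,1,4,3,2,1,3,2,3,4,5,1]), (1335, [1,2,3,2,1,4,3,2,1,3,2,3,5,1,2]),
   (1326, [1,2,3,2,1,4,3,2,1,3,2,4,5,1,0]), (1614, [1,2,3,2,1,4,3,2,1,3,2,4,5,1,2]), (1618, [1,2,3,2,1,4,3,2,1,3,4,5,1,2,3]), (1404, [1,2,3,2,1,4,3,2,1,5,1,0,2,1,0]),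
   (1624, [1,2,3,2,1,4,3,2,3,4,5,1,0,1,2]), (1439, [1,2,3,2,1,4,3,2,3,4,5,1,0,2,3]), (1455, [1,2,3,2,1,4,3,2,3,4,5,1,2,3,4]), (1613, [1,2,3,2,1,4,3,2,3,5,1,0,1,0,2]),
   (812, [1,2,3,2,4,3,2,1,0,1,0,2,3,5,1]), (1040, [1,2,3,2,4,3,2,1,0,1,0,2,5,1,0]), (1038, [1,2,3,2,4,3,2,1,0,1,0,2,5,1,2]), (1369, [1,2,3,2,4,3,2,1,0,1,0,5,1,0,2]),
   (1370, [1,2,3,2,4,3,2,1,0,1,0,5,1,2,3]), (1631, [1,2,3,2,4,3,2,1,0,1,5,1,0,1,2]), (1632, [1,2,3,2,4,3,2,1,0,1,5,1,0,2,1]), (1429, [1,2,3,2,4,3,2,1,0,5,1,0,1,0,2]),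
   (1633, [1,2,3,2,4,3,2,1,0,5,1,0,1,2,1]), (1634, [1,2,3,2,4,3,2,1,0,5,1,0,1,2,3]), (1371, [1,2,3,2,4,3,2,1,0,5,1,0,1,2,5]), (1545, [1,2,3,2,4,3,2,1,0,5,1,0,2,1,0]),
   (1635, [1,2,3,2,4,3,2,1,0,5,1,0,2,1,3]), (1636, [1,2,3,2,4,3,2,1,0,5,1,0,2,1,5]), (1638, [1,2,3,2,4,3,2,1,0,5,1,0,2,3,4]), (1641, [1,2,3,2,4,3,2,1,5,1,0,1,0,2,1]),
   (1642, [1,2,3,2,4,3,2,1,5,1,0,1,0,2,3]), (1643, [1,2,3,2,4,3,2,1,5,1,0,1,0,2,5]), (1644, [1,2,3,2,4,3,2,1,5,1,0,1,2,1,0]), (1645, [1,2,3,2,4,3,2,1,5,1,0,1,2,1,3]),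
   (1637, [1,2,3,2,4,3,2,1,5,1,0,1,2,1,5]), (1647, [1,2,3,2,4,3,2,1,5,1,0,1,2,3,2]), (1648, [1,2,3,2,4,3,2,1,5,1,0,1,2,3,4]), (1649, [1,2,3,2,4,3,2,1,5,1,0,1,2,3,5]),
   (1651, [1,2,3,2,4,3,2,1,5,1,0,1,2,5,1]), (1413, [1,2,3,2,4,3,2,1,5,1,0,2,1,0,5]), (1427, [1,2,3,2,4,3,2,5,1,0,1,0,5,1,2]), (1640, [1,2,3,2,4,3,2,5,1,0,1,2,1,5,1]),
   (1582, [1,2,3,2,4,3,2,5,1,0,1,2,5,1,0]), (1657, [1,2,3,2,4,3,2,5,1,0,2,1,0,5,1])]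

def chainUIdx1_13 : List (ℕ × List ℕ) :=
  [(1157, [1,0,1,2,1,3,2,1,4,3,2,1,0,3,5,1]), (1387, [1,0,1,2,1,3,2,1,4,3,2,1,0,5,1,0]), (1034, [1,0,1,2,1,3,2,1,4,3,2,1,0,5,1,2]), (1412, [1,0,1,2,1,3,2,1,4,3,2,1,3,5,1,0]),
   (1504, [1,0,1,2,1,3,2,1,4,3,2,1,5,1,0,1]), (1663, [1,0,1,2,1,3,2,1,4,3,2,1,5,1,0,2]), (1410, [1,0,1,2,1,3,2,1,4,3,2,3,5,1,0,2]), (1664, [1,0,1,2,1,3,2,1,4,3,2,5,1,0,1,2]),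
   (1402, [1,0,1,2,1,3,2,1,4,3,2,5,1,0,2,1]), (1244, [1,0,1,2,1,3,2,1,4,3,2,5,1,0,2,3]), (1665, [1,0,1,2,1,3,2,1,4,3,2,5,1,2,3,4]), (1666, [1,0,1,2,1,3,2,4,3,2,1,0,5,1,0,1]),
   (1669, [1,0,1,2,1,3,2,4,3,2,5,1,0,1,0,2]), (1646, [1,0,1,2,1,3,2,4,3,2,5,1,0,1,2,1]), (1670, [1,0,1,2,1,3,2,4,3,2,5,1,0,1,2,3]), (1671, [1,0,1,2,1,3,2,4,3,2,5,1,0,1,2,5]),
   (1653, [1,0,1,2,1,3,2,4,3,2,5,1,0,2,1,0]), (1155, [1,0,1,2,1,3,2,4,3,2,5,1,0,2,1,3]), (1654, [1,0,1,2,1,3,2,4,3,2,5,1,0,2,1,5]), (1511, [1,0,1,2,1,3,2,4,3,2,5,1,0,2,3,2]),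
   (1553, [1,0,1,2,1,3,2,4,3,2,5,1,2,3,2,3]), (1672, [1,0,1,2,1,3,2,4,3,2,5,1,2,3,2,4]), (1659, [1,0,1,2,3,2,1,4,3,2,1,0,1,0,5,1]), (1557, [1,0,1,2,3,2,1,4,3,2,1,0,1,2,5,1]),
   (1334, [1,0,1,2,3,2,1,4,3,2,1,0,1,5,1,0]), (1675, [1,0,1,2,3,2,1,4,3,2,1,0,1,5,1,2]), (1674, [1,0,1,2,3,2,1,4,3,2,1,0,5,1,0,2]), (1552, [1,0,1,2,3,2,1,4,3,2,1,0,5,1,2,3]),
   (1473, [1,0,1,2,3,2,1,4,3,2,3,2,1,0,5,1]), (1333, [1,0,1,2,3,2,1,4,3,2,3,2,1,5,1,0]), (1486, [1,0,1,2,3,2,1,4,3,2,3,2,5,1,0,2]), (801, [1,0,1,2,3,2,1,4,3,2,3,2,5,1,2,3]),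
   (1428, [1,0,1,2,3,2,1,4,3,2,3,5,1,0,2,1]), (720, [1,0,1,2,3,2,1,4,3,2,3,5,1,2,3,4]), (1245, [1,0,1,2,3,2,4,3,2,1,0,1,2,5,1,0]), (1683, [1,0,1,2,3,2,4,3,2,1,0,1,2,5,1,2]),
   (1684, [1,0,1,2,3,2,4,3,2,1,0,1,5,1,2,3]), (1652, [1,0,1,2,3,2,4,3,2,1,0,5,1,0,2,1]), (1650, [1,0,1,2,3,2,4,3,2,1,0,5,1,0,2,3]), (1685, [1,0,1,2,3,2,4,3,2,1,0,5,1,2,3,2]),
   (1686, [1,0,1,2,3,2,4,3,2,1,0,5,1,2,3,4]), (1688, [1,0,2,1,3,2,1,0,1,4,3,2,1,3,2,5]), (1689, [1,0,2,1,3,2,1,0,1,4,3,2,3,5,1,2]), (1456, [1,0,2,1,3,2,1,0,4,3,2,5,1,0,1,2]),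
   (1690, [1,0,2,1,3,2,1,3,4,3,2,1,3,2,5,1]), (1691, [1,0,2,1,3,2,1,3,4,3,2,1,3,5,1,2]), (1694, [1,0,2,1,3,2,1,3,4,3,2,3,4,5,1,2]), (1695, [1,0,2,1,3,2,1,3,4,3,2,3,5,1,0,2]),
   (1581, [1,0,2,1,3,2,1,3,4,3,2,5,1,0,1,5]), (1551, [1,0,2,1,3,2,1,3,4,3,5,1,0,2,1,5]), (1546, [1,0,2,1,3,2,1,3,4,3,5,1,0,2,3,4]), (888, [1,0,2,1,3,2,1,4,3,2,5,1,0,1,0,5]),
   (1703, [1,0,2,1,3,2,1,4,3,5,1,0,2,1,0,1]), (1705, [1,0,2,1,3,2,1,4,3,5,1,0,2,1,3,4]), (1530, [1,0,2,1,3,2,3,2,4,3,2,1,0,5,1,0]), (1515, [1,0,2,1,3,2,3,2,4,3,2,1,5,1,0,1]),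
   (1514, [1,0,2,1,3,2,3,2,4,3,2,1,5,1,0,2]), (1606, [1,0,2,1,3,2,3,2,4,3,2,1,5,1,2,3]), (1680, [1,0,2,1,3,2,3,2,4,3,2,5,1,0,2,1]), (1681, [1,0,2,1,3,2,3,2,4,3,2,5,1,0,2,3]),
   (1682, [1,0,2,1,3,2,3,2,4,3,2,5,1,2,3,2]), (1658, [1,0,2,1,3,2,3,4,3,2,1,0,1,3,5,1]), (1667, [1,0,2,1,3,2,3,4,3,2,1,0,1,5,1,0]), (1501, [1,0,2,1,3,2,3,4,3,2,1,0,1,5,1,2]),
   (678, [1,0,2,1,3,2,3,4,3,2,1,5,1,0,1,5]), (1687, [1,0,2,1,3,2,3,4,3,2,3,5,1,0,2,1]), (1526, [1,0,2,1,3,2,3,4,3,2,5,1,0,1,0,2]), (1180, [1,0,2,1,3,2,3,4,3,2,5,1,0,1,0,5]),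
   (1711, [1,0,2,1,3,2,3,4,3,2,5,1,0,1,2,1]), (1712, [1,0,2,1,3,2,3,4,3,2,5,1,0,1,2,3]), (1182, [1,0,2,1,3,2,3,4,3,2,5,1,0,1,2,5]), (1679, [1,0,2,1,3,2,3,4,3,2,5,1,0,2,3,2]),
   (1678, [1,0,2,1,3,2,3,4,3,2,5,1,2,3,2,3]), (1713, [1,0,2,1,3,2,3,4,3,2,5,1,2,3,2,4]), (1167, [1,0,2,1,3,2,3,4,3,5,1,0,1,2,1,5]), (1550, [1,0,2,1,3,2,3,4,3,5,1,0,2,1,0,5]),
   (1548, [1,0,2,1,3,2,3,4,3,5,1,0,2,1,3,2]), (1549, [1,0,2,1,3,2,3,4,3,5,1,0,2,1,3,5]), (1715, [1,0,2,1,3,2,4,3,2,1,0,1,2,5,1,2]), (1716, [1,0,2,1,3,2,4,3,2,1,0,1,5,1,2,3]),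
   (1709, [1,0,2,1,3,2,4,3,2,1,0,5,1,0,2,3]), (1188, [1,0,2,1,3,2,4,3,2,1,0,5,1,2,3,2]), (1394, [1,0,2,1,3,2,4,3,2,1,0,5,1,2,3,4]), (1062, [1,0,2,1,3,2,4,3,2,1,5,1,0,1,0,5]),
   (606, [1,0,2,1,3,2,4,3,2,1,5,1,0,1,2,5]), (1661, [1,0,2,1,3,2,4,3,2,5,1,0,1,0,5,1]), (1251, [1,0,2,1,3,2,4,3,2,5,1,0,1,2,5,1]), (1727, [1,0,2,1,3,2,4,3,5,1,0,2,1,0,3,2]),
   (1728, [1,0,2,1,3,2,4,3,5,1,0,2,1,0,3,5]), (1725, [1,0,2,1,3,2,4,3,5,1,0,2,1,0,5,1])]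

def chainUIdx1_14 : List (ℕ × List ℕ) :=
  [(1693, [1,0,2,3,2,1,0,4,3,2,1,3,4,5,1,0]), (1677, [1,0,2,3,2,1,0,4,3,2,1,5,1,0,2,1]), (1714, [1,0,2,3,2,1,0,4,3,2,1,5,1,0,2,3]), (1739, [1,0,2,3,2,1,0,4,3,2,3,5,1,2,3,2]),
   (1740, [1,0,2,3,2,1,0,4,3,2,5,1,0,2,1,3]), (1741, [1,0,2,3,2,1,0,4,3,2,5,1,0,2,3,2]), (1516, [1,0,2,3,2,1,0,4,3,2,5,1,0,2,3,4]), (1145, [1,0,2,3,2,1,0,4,3,5,1,0,2,1,0,5]),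
   (1509, [1,0,2,3,2,1,0,4,5,1,2,3,2,1,0,1]), (1742, [1,0,2,3,2,1,0,4,5,1,2,3,2,1,0,3]), (1737, [1,0,2,3,2,1,4,3,2,1,0,3,4,5,1,2]), (1587, [1,0,2,3,2,1,4,3,2,1,0,3,5,1,0,1]),
   (1738, [1,0,2,3,2,1,4,3,2,1,0,3,5,1,0,2]), (1707, [1,0,2,3,2,1,4,3,2,1,0,3,5,1,2,3]), (1209, [1,0,2,3,2,1,4,3,2,1,0,5,1,0,1,0]), (1591, [1,0,2,3,2,1,4,3,2,1,0,5,1,0,1,2]),
   (892, [1,0,2,3,2,1,4,3,2,1,0,5,1,0,1,5]), (1722, [1,0,2,3,2,1,4,3,2,1,3,5,1,0,2,1]), (1483, [1,0,2,3,2,1,4,3,2,3,4,5,1,0,2,3]), (1484, [1,0,2,3,2,1,4,3,2,3,4,5,1,2,3,2]),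
   (1676, [1,0,2,3,2,4,3,2,1,0,5,1,0,1,2,1]), (1749, [1,0,2,3,2,4,3,2,1,0,5,1,0,1,2,3]), (1543, [1,2,3,2,1,0,1,4,3,2,1,5,1,0,1,2]), (1723, [1,2,3,2,1,0,1,4,3,2,1,5,1,0,2,1]),
   (1721, [1,2,3,2,1,0,1,4,3,2,1,5,1,0,2,3]), (1240, [1,2,3,2,1,0,1,4,3,2,5,1,0,1,2,5]), (1692, [1,2,3,2,1,0,1,4,3,2,5,1,0,2,1,0]), (1710, [1,2,3,2,1,0,1,4,3,2,5,1,0,2,1,3]),
   (1724, [1,2,3,2,1,0,1,4,3,2,5,1,0,2,1,5]), (1750, [1,2,3,2,1,0,4,3,2,1,0,1,0,3,2,1]), (1278, [1,2,3,2,1,0,4,3,2,1,3,2,3,5,1,2]), (1324, [1,2,3,2,1,0,4,3,2,1,3,4,5,1,0,1]),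
   (1170, [1,2,3,2,1,0,4,3,2,1,5,1,0,2,1,3]), (557, [1,2,3,2,1,0,4,3,2,1,5,1,0,2,3,2]), (1751, [1,2,3,2,1,0,4,3,2,3,4,5,1,0,1,2]), (1752, [1,2,3,2,1,0,4,3,2,3,5,1,0,1,0,2]),
   (1620, [1,2,3,2,1,0,4,3,2,3,5,1,0,1,2,1]), (1754, [1,2,3,2,1,4,3,2,1,0,1,0,3,2,1,3]), (1629, [1,2,3,2,1,4,3,2,1,0,5,1,0,1,2,1]), (1593, [1,2,3,2,1,4,3,2,1,0,5,1,0,1,2,3]),
   (987, [1,2,3,2,1,4,3,2,1,0,5,1,0,1,2,5]), (1590, [1,2,3,2,1,4,3,2,1,3,2,3,4,5,1,2]), (1628, [1,2,3,2,1,4,3,2,1,3,2,3,5,1,2,3]), (1745, [1,2,3,2,1,4,3,2,1,3,2,4,5,1,2,3]),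
   (1755, [1,2,3,2,1,4,3,2,3,5,1,0,1,0,2,1]), (1158, [1,2,3,2,4,3,2,1,0,1,0,2,3,5,1,0]), (1159, [1,2,3,2,4,3,2,1,0,1,0,2,3,5,1,2]), (1660, [1,2,3,2,4,3,2,1,0,1,0,5,1,2,3,2]),
   (1506, [1,2,3,2,4,3,2,1,0,5,1,0,1,0,2,1]), (1668, [1,2,3,2,4,3,2,1,0,5,1,0,1,0,2,3]), (1662, [1,2,3,2,4,3,2,1,0,5,1,0,1,2,3,5]), (1391, [1,2,3,2,4,3,2,1,0,5,1,0,1,2,5,1]),
   (1507, [1,2,3,2,4,3,2,1,5,1,0,1,0,2,1,0]), (1735, [1,2,3,2,4,3,2,1,5,1,0,1,0,2,1,3]), (1765, [1,2,3,2,4,3,2,1,5,1,0,1,0,2,3,2]), (1766, [1,2,3,2,4,3,2,1,5,1,0,1,0,2,3,4]),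
   (1767, [1,2,3,2,4,3,2,1,5,1,0,1,0,2,3,5]), (1731, [1,2,3,2,4,3,2,1,5,1,0,1,2,1,0,3]), (1729, [1,2,3,2,4,3,2,1,5,1,0,1,2,1,3,2]), (1733, [1,2,3,2,4,3,2,1,5,1,0,1,2,1,3,4]),
   (1764, [1,2,3,2,4,3,2,1,5,1,0,1,2,1,3,5]), (1656, [1,2,3,2,4,3,2,1,5,1,0,1,2,1,5,1]), (1768, [1,2,3,2,4,3,2,1,5,1,0,1,2,3,2,1]), (1769, [1,2,3,2,4,3,2,1,5,1,0,1,2,3,2,3]),
   (1771, [1,2,3,2,4,3,2,1,5,1,0,1,2,3,5,1]), (1730, [1,2,3,2,4,3,2,1,5,1,0,1,2,5,1,0]), (1508, [1,0,1,2,1,3,2,1,4,3,2,5,1,0,2,1,0]), (1585, [1,0,1,2,1,3,2,1,4,3,2,5,1,0,2,1,3]),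
   (1736, [1,0,1,2,3,2,1,4,3,2,1,0,1,2,5,1,2]), (1521, [1,0,1,2,3,2,1,4,3,2,1,0,1,5,1,2,3]), (1522, [1,0,1,2,3,2,1,4,3,2,1,0,5,1,0,2,3]), (1708, [1,0,1,2,3,2,1,4,3,2,3,2,1,0,5,1,2]),
   (1586, [1,0,1,2,3,2,4,3,2,1,0,1,2,5,1,0,2]), (1748, [1,0,1,2,3,2,4,3,2,1,0,1,2,5,1,2,3]), (1770, [1,0,1,2,3,2,4,3,2,1,0,1,5,1,2,3,2]), (1773, [1,0,2,1,3,2,1,0,1,4,3,2,1,3,2,5,1]),
   (1470, [1,0,2,1,3,2,1,0,4,3,2,5,1,0,1,2,3]), (1774, [1,0,2,1,3,2,1,3,4,3,2,1,3,2,5,1,2]), (1673, [1,0,2,1,3,2,3,2,4,3,2,1,5,1,0,1,0]), (1719, [1,0,2,1,3,2,3,2,4,3,2,1,5,1,0,2,3]),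
   (1704, [1,0,2,1,3,2,3,2,4,3,2,5,1,0,2,1,3]), (1494, [1,0,2,1,3,2,3,2,4,3,2,5,1,0,2,3,2]), (1720, [1,0,2,1,3,2,3,4,3,2,5,1,0,1,0,2,3]), (1533, [1,0,2,1,3,2,3,4,3,2,5,1,0,1,0,2,5]),
   (1744, [1,0,2,1,3,2,3,4,3,2,5,1,0,1,2,1,3]), (1717, [1,0,2,1,3,2,3,4,3,2,5,1,0,1,2,3,2]), (1534, [1,0,2,1,3,2,3,4,3,2,5,1,0,1,2,3,5]), (1743, [1,0,2,1,3,2,3,4,3,2,5,1,2,3,2,4,3]),
   (1544, [1,0,2,1,3,2,4,3,2,1,0,1,5,1,2,3,2]), (1538, [1,0,2,1,3,2,4,3,2,1,0,5,1,0,2,3,2])]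

def chainUIdx1_15 : List (ℕ × List ℕ) :=
  [(1542, [1,0,2,1,3,2,4,3,2,1,0,5,1,2,3,2,3]), (1732, [1,0,2,3,2,1,0,4,3,2,1,5,1,0,2,1,3]), (1706, [1,0,2,3,2,1,0,4,3,2,5,1,0,2,1,3,2]), (1718, [1,0,2,3,2,1,0,4,5,1,2,3,2,1,0,1,3]),
   (1559, [1,0,2,3,2,1,4,3,2,1,0,5,1,0,1,0,2]), (1601, [1,2,3,2,1,0,4,3,2,1,3,2,3,5,1,2,3]), (1779, [1,2,3,2,1,0,4,3,2,3,5,1,0,1,0,2,1]), (1577, [1,2,3,2,1,4,3,2,1,0,5,1,0,1,2,1,3]),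
   (1336, [1,2,3,2,1,4,3,2,1,0,5,1,0,1,2,3,2]), (1772, [1,2,3,2,1,4,3,2,1,3,2,4,5,1,2,3,2]), (1510, [1,2,3,2,4,3,2,1,0,1,0,2,3,5,1,2,3]), (1734, [1,2,3,2,4,3,2,1,5,1,0,1,2,1,0,3,4]),
   (1778, [1,2,3,2,4,3,2,1,5,1,0,1,2,1,3,2,1]), (1763, [1,2,3,2,4,3,2,1,5,1,0,1,2,1,3,5,1]), (1726, [1,0,2,1,3,2,3,4,3,2,5,1,0,1,0,2,3,5])]

def chainUIdx1 : List (ℕ × List ℕ) :=
  chainUIdx1_0 ++ chainUIdx1_1 ++ chainUIdx1_2 ++ chainUIdx1_3 ++ chainUIdx1_4 ++ chainUIdx1_5 ++ chainUIdx1_6 ++ chainUIdx1_7 ++ chainUIdx1_8 ++ chainUIdx1_9 ++ chainUIdx1_10 ++ chainUIdx1_11 ++ chainUIdx1_12 ++ chainUIdx1_13 ++ chainUIdx1_14 ++ chainUIdx1_15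

def chainUGens1 : List (List ℕ) :=
  [[0],
   [1],
   [2],
   [3],
   [4],
   [5]]

def chainU1 : SLev := ⟨⟨1, chainUGens1, chainUOrb1⟩, chainUIdx1⟩

def chainUOrb2_0 : List (ℕ × ℕ × ℕ) :=
  [(10, 9, 0), (5, 9, 1), (15, 9, 2), (4, 9, 4), (17, 9, 5), (39, 9, 6),
   (6, 10, 1), (18, 10, 2), (7, 10, 4), (41, 10, 5), (20, 10, 6), (2, 5, 4),
   (227, 5, 6), (27, 15, 1), (28, 15, 3), (8, 15, 4), (31, 15, 5), (11, 15, 6),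
   (22, 4, 5), (35, 4, 6), (32, 17, 4), (106, 17, 6), (59, 39, 0), (63, 39, 1),
   (21, 39, 2), (65, 39, 3), (61, 39, 6), (3, 6, 4), (214, 6, 6), (33, 18, 1),
   (34, 18, 3), (12, 18, 4), (67, 18, 5), (36, 41, 1), (165, 41, 6), (37, 20, 1),
   (38, 20, 3), (92, 20, 6), (138, 2, 6), (210, 227, 0), (241, 227, 1), (351, 227, 3),
   (49, 27, 3), (13, 27, 4), (255, 27, 5), (14, 28, 4), (54, 28, 5), (405, 28, 6),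
   (40, 8, 5), (53, 31, 1), (55, 31, 4), (232, 31, 6), (19, 11, 0), (50, 11, 6),
   (153, 22, 6), (58, 35, 3), (56, 35, 6), (159, 106, 2), (163, 106, 3), (87, 106, 6),
   (80, 59, 1), (94, 59, 3), (102, 59, 6), (104, 63, 3), (141, 63, 5), (1027, 65, 6),
   (100, 61, 1), (101, 61, 3), (89, 61, 5), (334, 214, 3), (57, 33, 3), (23, 33, 4),
   (215, 33, 5), (24, 34, 4), (108, 34, 5), (591, 34, 6), (107, 67, 1), (256, 67, 6),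
   (166, 165, 2), (252, 165, 3), (135, 165, 6), (62, 37, 3), (1025, 38, 6), (140, 92, 3),
   (213, 138, 3), (330, 210, 3), (366, 241, 3), (517, 351, 2), (933, 351, 6), (84, 49, 2)]

def chainUOrb2_1 : List (ℕ × ℕ × ℕ) :=
  [(26, 49, 4), (383, 49, 5), (302, 49, 6), (291, 13, 5), (246, 255, 4), (66, 14, 5),
   (872, 14, 6), (88, 54, 1), (90, 54, 4), (1397, 54, 6), (605, 405, 0), (503, 405, 1),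
   (601, 405, 2), (834, 405, 5), (368, 405, 6), (64, 40, 1), (356, 232, 3), (85, 50, 3),
   (238, 153, 3), (713, 58, 6), (91, 56, 3), (245, 159, 3), (250, 163, 2), (1028, 163, 6),
   (134, 87, 3), (126, 80, 3), (1372, 94, 6), (158, 102, 3), (161, 104, 2), (218, 104, 5),
   (635, 104, 6), (1377, 1027, 1), (1375, 1027, 2), (718, 1027, 3), (943, 1027, 5), (752, 1027, 6),
   (156, 100, 3), (157, 101, 2), (137, 101, 5), (664, 101, 6), (494, 334, 2), (921, 334, 6),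
   (93, 57, 2), (43, 57, 4), (335, 57, 5), (448, 57, 6), (164, 108, 1), (1044, 108, 6),
   (730, 591, 1), (869, 591, 2), (877, 591, 5), (790, 591, 6), (384, 256, 3), (253, 166, 3),
   (379, 252, 2), (1373, 252, 6), (209, 135, 3), (103, 62, 2), (627, 62, 6), (1177, 1025, 2),
   (716, 1025, 3), (646, 1025, 5), (1086, 1025, 6), (217, 140, 2), (967, 140, 6), (333, 213, 2),
   (636, 213, 6), (489, 330, 2), (1169, 330, 6), (537, 366, 2), (754, 517, 1), (1671, 517, 6),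
   (1171, 933, 2), (1217, 933, 3), (1708, 933, 5), (1082, 933, 6), (132, 84, 1), (48, 84, 4),
   (561, 84, 5), (959, 84, 6), (434, 26, 5), (663, 26, 6), (372, 383, 4), (1195, 383, 6),
   (458, 302, 0), (459, 302, 1), (454, 302, 2), (620, 302, 5), (935, 302, 6), (105, 66, 1)]

def chainUOrb2_2 : List (ℕ × ℕ × ℕ) :=
  [(1518, 66, 6), (1052, 872, 1), (1233, 872, 2), (875, 872, 5), (540, 872, 6), (136, 88, 2),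
   (422, 88, 6), (1167, 90, 6), (1194, 1397, 1), (1048, 1397, 2), (1475, 1397, 3), (541, 1397, 5),
   (791, 1397, 6), (736, 605, 1), (886, 605, 2), (595, 605, 5), (542, 605, 6), (735, 503, 2),
   (788, 503, 5), (810, 503, 6), (887, 601, 1), (882, 601, 3), (332, 601, 6), (910, 834, 1),
   (891, 834, 5), (1297, 834, 6), (519, 368, 1), (247, 368, 3), (1061, 368, 5), (523, 356, 2),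
   (559, 356, 6), (133, 85, 2), (429, 85, 6), (363, 238, 2), (1663, 238, 6), (1026, 713, 2),
   (493, 713, 3), (794, 713, 5), (514, 713, 6), (139, 91, 2), (371, 245, 2), (558, 245, 6),
   (380, 250, 1), (737, 250, 6), (1379, 1028, 2), (719, 1028, 3), (1137, 1028, 5), (486, 1028, 6),
   (208, 134, 2), (193, 126, 2), (920, 126, 6), (1412, 1372, 2), (1032, 1372, 3), (1133, 1372, 5),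
   (751, 1372, 6), (244, 158, 2), (676, 158, 6), (248, 161, 1), (339, 161, 5), (1600, 161, 6),
   (927, 635, 2), (850, 635, 3), (942, 635, 5), (491, 635, 6), (1244, 1377, 2), (1037, 1377, 3),
   (1391, 1377, 5), (711, 1377, 6), (1410, 1375, 1), (1408, 1375, 3), (796, 1375, 5), (118, 1375, 6),
   (822, 718, 2), (1050, 718, 5), (1517, 718, 6), (648, 943, 1), (1585, 943, 5), (1298, 943, 6),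
   (1246, 752, 5), (242, 156, 2), (243, 157, 1), (212, 157, 5), (424, 137, 6), (551, 664, 2),
   (804, 664, 5), (1089, 664, 6), (721, 494, 1), (1669, 494, 6), (1166, 921, 2), (1206, 921, 3)]

def chainUOrb2_3 : List (ℕ × ℕ × ℕ) :=
  [(1484, 921, 5), (1430, 921, 6), (142, 93, 1), (73, 93, 4), (496, 93, 5), (667, 93, 6),
   (1550, 335, 6), (659, 448, 2), (817, 448, 6), (251, 164, 2), (283, 164, 6), (831, 1044, 1),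
   (1396, 1044, 2), (1183, 1044, 3), (1129, 1044, 5), (1049, 730, 2), (805, 730, 5), (557, 730, 6),
   (1173, 869, 1), (1230, 869, 3), (249, 869, 6), (893, 877, 5), (944, 877, 6), (549, 790, 3),
   (1059, 790, 5), (565, 384, 2), (377, 384, 6), (381, 253, 2), (819, 253, 6), (562, 379, 1),
   (1064, 379, 6), (1463, 1373, 2), (1033, 1373, 3), (1483, 1373, 5), (717, 1373, 6), (329, 209, 2),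
   (160, 103, 1), (925, 103, 6), (918, 627, 2), (842, 627, 3), (645, 627, 5), (715, 627, 6),
   (1316, 1177, 1), (1407, 1177, 3), (83, 1177, 6), (820, 716, 2), (860, 716, 5), (1721, 716, 6),
   (440, 646, 1), (1394, 646, 5), (1329, 646, 6), (1243, 1086, 5), (338, 217, 1), (808, 967, 2),
   (806, 967, 5), (755, 967, 6), (495, 333, 1), (1672, 333, 6), (851, 636, 3), (1710, 636, 5),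
   (746, 636, 6), (714, 489, 1), (1389, 489, 6), (1519, 1169, 3), (1652, 1169, 5), (1080, 1169, 6),
   (783, 537, 1), (1062, 537, 6), (996, 754, 2), (487, 754, 5), (675, 754, 6), (1390, 1671, 1),
   (1705, 1671, 2), (1511, 1671, 3), (1289, 1671, 5), (911, 1671, 6), (818, 1171, 1), (1495, 1171, 3),
   (1737, 1171, 5), (1568, 1217, 2), (1507, 1217, 5), (1551, 1217, 6), (1473, 1708, 1), (1522, 1708, 5),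
   (673, 1708, 6), (1432, 1082, 2), (1528, 1082, 5), (1079, 132, 5), (1612, 132, 6), (640, 48, 5)]

def chainUOrb2_4 : List (ℕ × ℕ × ℕ) :=
  [(973, 48, 6), (825, 561, 1), (547, 561, 4), (1170, 561, 6), (1308, 959, 0), (1309, 959, 1),
   (1670, 959, 6), (963, 663, 2), (864, 663, 5), (1549, 1195, 2), (1187, 1195, 3), (1156, 1195, 6),
   (671, 458, 2), (876, 458, 5), (376, 459, 2), (548, 459, 5), (672, 454, 1), (546, 454, 6),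
   (677, 620, 5), (1223, 935, 3), (1531, 935, 5), (162, 105, 2), (622, 105, 6), (1399, 1518, 2),
   (1658, 1518, 3), (789, 1518, 5), (797, 1518, 6), (1403, 1052, 2), (1128, 1052, 5), (1523, 1233, 1),
   (1578, 1233, 3), (378, 1233, 6), (606, 875, 5), (1292, 875, 6), (373, 540, 3), (1409, 540, 5),
   (211, 136, 1), (1272, 136, 6), (621, 422, 2), (570, 422, 3), (649, 422, 5), (1334, 1167, 2),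
   (1491, 1167, 3), (793, 1167, 5), (543, 1167, 6), (1547, 1194, 2), (1185, 1194, 3), (809, 1194, 6),
   (1401, 1048, 1), (1011, 1048, 3), (1130, 1475, 2), (498, 1475, 5), (1175, 1475, 6), (792, 541, 1),
   (1381, 541, 5), (1579, 541, 6), (1090, 791, 1), (550, 791, 3), (1508, 791, 5), (1058, 736, 2),
   (1151, 736, 5), (815, 736, 6), (1242, 886, 1), (1238, 886, 3), (873, 595, 5), (1610, 595, 6),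
   (757, 542, 1), (374, 542, 3), (1411, 542, 5), (798, 735, 3), (1020, 735, 5), (723, 735, 6),
   (985, 788, 5), (941, 788, 6), (968, 810, 2), (1136, 810, 3), (1055, 887, 2), (1239, 887, 3),
   (490, 887, 5), (1148, 887, 6), (1105, 882, 6), (488, 332, 3), (1715, 332, 5), (1598, 332, 6),
   (1268, 910, 2), (680, 910, 5), (946, 1297, 1), (1269, 1297, 5), (1661, 1297, 6), (756, 519, 2)]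

def chainUOrb2_5 : List (ℕ × ℕ × ℕ) :=
  [(359, 519, 3), (1439, 519, 5), (326, 247, 2), (983, 247, 5), (1262, 1061, 6), (766, 523, 1),
   (786, 559, 3), (1388, 559, 5), (758, 559, 6), (207, 133, 1), (1275, 133, 6), (633, 429, 2),
   (577, 429, 3), (331, 429, 6), (538, 363, 1), (1053, 363, 6), (1416, 1663, 2), (1385, 1663, 3),
   (492, 1663, 6), (1060, 1026, 1), (1057, 1026, 3), (560, 493, 2), (729, 493, 5), (1181, 493, 6),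
   (1515, 794, 5), (1479, 794, 6), (1117, 514, 5), (216, 139, 1), (785, 558, 3), (1393, 558, 5),
   (563, 380, 2), (829, 380, 5), (678, 737, 3), (707, 737, 6), (1665, 1379, 3), (1039, 719, 2),
   (812, 719, 5), (1123, 719, 6), (553, 1137, 5), (1300, 1137, 6), (710, 486, 2), (328, 208, 1),
   (306, 193, 1), (1279, 193, 6), (1277, 920, 2), (1205, 920, 3), (1404, 1412, 1), (1333, 1412, 3),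
   (1174, 1032, 2), (1051, 1032, 5), (1532, 1032, 6), (1673, 1133, 5), (1613, 1133, 6), (888, 751, 5),
   (370, 244, 1), (555, 676, 2), (1149, 676, 5), (1406, 248, 5), (1091, 248, 6), (504, 339, 1),
   (1380, 339, 6), (1324, 1600, 1), (1693, 1600, 2), (1299, 1600, 5), (1367, 1600, 6), (965, 927, 1),
   (1294, 927, 5), (1211, 850, 2), (881, 850, 5), (1576, 850, 6), (623, 942, 5), (1527, 491, 5),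
   (1529, 1244, 3), (1530, 1244, 5), (1160, 1037, 2), (1506, 1037, 5), (1469, 1037, 6), (811, 1391, 5),
   (977, 1391, 6), (821, 711, 2), (1486, 1410, 3), (501, 1410, 6), (1065, 1408, 2), (552, 1408, 5),
   (1717, 1408, 6), (1085, 796, 1), (1402, 796, 5), (1689, 118, 6), (1179, 822, 1), (731, 822, 5)]

def chainUOrb2_6 : List (ℕ × ℕ × ℕ) :=
  [(1135, 822, 6), (861, 1050, 1), (1709, 1050, 5), (1513, 1517, 5), (630, 648, 5), (1521, 1585, 1),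
   (947, 1298, 1), (1190, 1298, 6), (1395, 1246, 6), (367, 242, 1), (1031, 242, 6), (369, 243, 2),
   (1184, 243, 5), (625, 212, 6), (626, 424, 2), (572, 424, 3), (948, 424, 5), (795, 551, 3),
   (1018, 551, 5), (978, 804, 6), (1322, 1089, 2), (768, 1089, 3), (1562, 1089, 5), (828, 721, 2),
   (1561, 1669, 2), (1464, 1669, 3), (1165, 1669, 5), (1490, 1166, 3), (1692, 1166, 5), (1558, 1206, 2),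
   (1159, 1206, 5), (1632, 1206, 6), (1552, 1484, 5), (1270, 1430, 2), (1581, 1430, 5), (1024, 142, 5),
   (1296, 142, 6), (974, 667, 1), (1725, 667, 6), (1703, 1550, 2), (1537, 1550, 3), (814, 1550, 6),
   (964, 659, 1), (832, 659, 6), (1145, 817, 3), (1724, 817, 5), (917, 251, 6), (423, 283, 2),
   (389, 283, 3), (1192, 831, 2), (826, 831, 3), (556, 831, 6), (1674, 1396, 1), (1360, 1396, 3),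
   (1476, 1183, 2), (1047, 1183, 5), (823, 1183, 6), (1029, 1129, 5), (1295, 1129, 6), (1132, 1049, 3),
   (1150, 1049, 5), (984, 805, 5), (801, 557, 3), (1472, 1173, 3), (1291, 1173, 6), (830, 1230, 6),
   (1722, 249, 5), (1688, 249, 6), (647, 944, 1), (1597, 944, 5), (1497, 944, 6), (700, 549, 2),
   (1139, 549, 5), (999, 1059, 6), (539, 377, 3), (1036, 377, 5), (564, 381, 1), (1126, 819, 3),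
   (1094, 819, 6), (827, 562, 2), (1471, 562, 5), (665, 562, 6), (1366, 1064, 6), (1580, 1463, 5),
   (1386, 1033, 2), (1158, 1033, 5), (1565, 1033, 6), (1383, 329, 6), (1502, 160, 5), (1624, 160, 6)]

def chainUOrb2_7 : List (ℕ × ℕ × ℕ) :=
  [(1280, 925, 1), (1210, 925, 2), (945, 925, 5), (1368, 925, 6), (1203, 842, 2), (859, 842, 5),
   (1739, 842, 6), (425, 645, 5), (1405, 1316, 3), (1067, 1407, 2), (1735, 1407, 6), (1609, 83, 6),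
   (616, 820, 5), (1481, 820, 6), (583, 860, 1), (1503, 860, 5), (1525, 1721, 2), (1492, 1721, 5),
   (628, 440, 5), (1042, 1329, 6), (1496, 1243, 6), (502, 338, 2), (1134, 808, 3), (1019, 808, 5),
   (1088, 755, 2), (526, 755, 3), (1618, 755, 5), (722, 495, 2), (712, 495, 5), (1392, 1672, 3),
   (816, 1672, 5), (949, 1672, 6), (1219, 851, 2), (1509, 851, 5), (1196, 851, 6), (979, 1710, 6),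
   (1081, 746, 2), (1447, 746, 5), (1030, 714, 2), (734, 714, 5), (1664, 1389, 3), (936, 1389, 5),
   (1235, 1389, 6), (1714, 1519, 2), (1641, 1519, 5), (1553, 1519, 6), (928, 1652, 6), (1301, 1080, 2),
   (1240, 1080, 5), (1124, 783, 2), (1125, 783, 5), (460, 783, 6), (784, 996, 1), (1054, 996, 3),
   (1429, 487, 5), (1323, 487, 6), (890, 675, 3), (637, 675, 5), (624, 1390, 6), (1468, 1705, 3),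
   (1569, 1511, 5), (1041, 1511, 6), (934, 1289, 1), (1146, 818, 3), (1516, 1495, 2), (1566, 1495, 5),
   (1741, 1568, 1), (1512, 1568, 6), (1157, 1507, 1), (1544, 1507, 5), (1572, 1551, 5), (1131, 1473, 6),
   (975, 673, 3), (1178, 1528, 1), (1546, 1528, 6), (1077, 1079, 5), (939, 640, 1), (803, 825, 4),
   (1427, 825, 5), (1520, 1170, 2), (1188, 1170, 3), (1281, 1308, 1), (1560, 1670, 1), (1563, 1670, 3),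
   (929, 963, 1), (1646, 1549, 3), (1541, 1187, 2), (545, 376, 3), (922, 672, 2), (1634, 672, 6)]

def chainUOrb2_8 : List (ℕ × ℕ × ℕ) :=
  [(802, 546, 2), (1571, 1223, 2), (1680, 1223, 5), (1325, 1531, 1), (913, 162, 6), (914, 622, 2),
   (836, 622, 3), (1675, 1399, 1), (1361, 1399, 3), (1474, 1658, 2), (725, 1658, 5), (1378, 789, 5),
   (554, 797, 3), (1676, 797, 5), (1172, 1403, 3), (1043, 1523, 6), (1193, 1578, 6), (1660, 378, 5),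
   (1611, 378, 6), (1657, 1292, 6), (483, 373, 2), (1485, 373, 5), (1666, 211, 5), (1431, 211, 6),
   (1276, 1272, 1), (1554, 1272, 2), (912, 621, 1), (835, 570, 2), (527, 570, 5), (322, 570, 6),
   (937, 649, 5), (1413, 1334, 3), (1667, 1491, 2), (728, 1491, 5), (1374, 793, 5), (375, 543, 3),
   (1548, 543, 5), (1348, 1547, 3), (1536, 1185, 2), (480, 1185, 6), (1356, 1401, 3), (807, 1011, 2),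
   (1644, 1011, 6), (1477, 1130, 1), (336, 1130, 5), (727, 498, 1), (1021, 498, 6), (1419, 1175, 3),
   (1162, 1175, 5), (709, 1579, 6), (1293, 1090, 2), (769, 1090, 3), (1016, 1090, 5), (475, 550, 2),
   (1653, 550, 5), (1138, 1058, 3), (1143, 815, 3), (1687, 1610, 6), (1092, 757, 2), (528, 757, 3),
   (1332, 374, 5), (838, 798, 5), (1489, 798, 6), (839, 1020, 1), (1369, 723, 5), (1087, 985, 6),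
   (1434, 968, 6), (1480, 1136, 2), (1428, 1148, 5), (915, 1148, 6), (1453, 1105, 3), (1498, 1715, 1),
   (1436, 1598, 5), (916, 946, 5), (1022, 1269, 6), (1749, 1661, 1), (1370, 1661, 3), (1109, 359, 5),
   (1198, 1439, 5), (1347, 1439, 6), (206, 326, 1), (813, 326, 5), (1607, 983, 6), (1596, 1262, 1),
   (745, 1262, 5), (1056, 786, 2), (529, 758, 3), (1435, 207, 6), (1555, 1275, 2), (848, 577, 2)]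

def chainUOrb2_9 : List (ℕ × ℕ × ℕ) :=
  [(1227, 577, 6), (1189, 538, 5), (1376, 1385, 2), (1467, 1385, 6), (1140, 1060, 3), (738, 1057, 2),
   (1510, 1057, 6), (500, 560, 5), (800, 560, 6), (1524, 729, 5), (1288, 1181, 5), (337, 216, 2),
   (787, 785, 2), (1147, 563, 5), (1310, 563, 6), (1364, 678, 6), (724, 707, 3), (1164, 1123, 5),
   (733, 710, 3), (1668, 328, 5), (1433, 1279, 5), (1457, 1205, 2), (1574, 1205, 6), (1163, 1333, 2),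
   (1718, 1333, 6), (732, 1174, 5), (1142, 1174, 6), (1716, 1051, 5), (1679, 1532, 5), (1382, 1613, 6),
   (544, 370, 2), (799, 555, 3), (1040, 1380, 3), (1273, 1299, 5), (1400, 1367, 3), (753, 1211, 5),
   (1577, 1211, 6), (837, 881, 5), (1570, 1576, 2), (1711, 1576, 5), (1387, 1160, 5), (1505, 1160, 6),
   (1127, 1506, 5), (1482, 1469, 5), (1706, 1486, 6), (1371, 501, 5), (1417, 1065, 1), (691, 1065, 5),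
   (1362, 552, 5), (1712, 1717, 1), (1707, 1717, 3), (1734, 1717, 5), (1398, 1717, 6), (1415, 1179, 5),
   (508, 731, 1), (1478, 731, 5), (1153, 731, 6), (772, 861, 2), (845, 861, 5), (1538, 1709, 1),
   (1358, 1709, 6), (1424, 1513, 5), (1141, 1513, 6), (1662, 367, 5), (1035, 1031, 3), (840, 572, 2),
   (770, 572, 5), (479, 572, 6), (1045, 795, 5), (1202, 1322, 6), (1213, 768, 5), (1212, 1561, 3),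
   (1034, 1464, 6), (1682, 1490, 2), (1456, 1490, 5), (1575, 1558, 1), (1543, 1159, 5), (1556, 1725, 3),
   (1636, 1703, 3), (1728, 1537, 2), (1494, 1145, 2), (1738, 1145, 5), (571, 389, 2), (1545, 1192, 3),
   (1186, 826, 2), (1677, 1360, 6), (1155, 1476, 1), (726, 1476, 5), (720, 1047, 5), (1066, 823, 3)]

def chainUOrb2_10 : List (ℕ × ℕ × ℕ) :=
  [(1197, 1132, 5), (1271, 1291, 6), (1191, 830, 3), (1659, 1722, 1), (919, 647, 5), (1063, 700, 5),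
   (1168, 1386, 6), (1201, 1368, 3), (1743, 1203, 6), (573, 859, 5), (1713, 1739, 5), (1514, 1067, 6),
   (1720, 1735, 1), (1729, 1735, 5), (417, 616, 1), (1154, 616, 5), (1152, 616, 6), (843, 583, 5),
   (1008, 1503, 6), (1678, 1525, 5), (1144, 1492, 1), (1684, 1492, 5), (1176, 1492, 6), (1046, 1134, 5),
   (1564, 526, 5), (1488, 1196, 5), (1220, 1664, 5), (1038, 1664, 6), (1742, 1714, 1), (1493, 1553, 5),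
   (852, 890, 5), (1207, 890, 6), (1218, 1569, 1), (1542, 1569, 6), (1767, 1041, 6), (1719, 1516, 1),
   (509, 1741, 6), (1161, 1512, 1), (1526, 1512, 3), (1631, 1512, 5), (1384, 1512, 6), (1567, 1572, 1),
   (1533, 1572, 6), (1023, 939, 5), (1078, 803, 5), (1501, 1188, 6), (1726, 1563, 6), (1727, 1646, 2),
   (1635, 1541, 1), (1606, 1571, 1), (1704, 1571, 5), (1455, 1680, 1), (1199, 836, 2), (325, 836, 6),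
   (1637, 1675, 3), (497, 1474, 5), (708, 554, 2), (1633, 554, 5), (1414, 483, 5), (1221, 527, 5),
   (342, 322, 2), (343, 322, 5), (1499, 1413, 2), (1504, 1667, 1), (499, 1667, 5), (484, 375, 2),
   (1654, 375, 5), (1645, 1356, 2), (1681, 807, 6), (1731, 1644, 2), (1650, 1477, 6), (220, 336, 1),
   (1732, 1021, 6), (1487, 1419, 5), (1074, 1162, 5), (841, 769, 5), (319, 475, 1), (1540, 1489, 5),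
   (767, 1087, 3), (1106, 1434, 3), (1470, 1480, 6), (1629, 1607, 1), (1182, 1607, 6), (1744, 848, 6),
   (1534, 1510, 1), (1733, 1510, 5), (1354, 1524, 6), (1723, 1288, 5), (824, 1288, 6), (1204, 1364, 3)]

def chainUOrb2_11 : List (ℕ × ℕ × ℕ) :=
  [(1740, 1457, 6), (1500, 732, 5), (1643, 1716, 6), (1180, 1679, 6), (1766, 1577, 5), (699, 837, 6),
   (1686, 1711, 5), (485, 1711, 6), (1764, 1387, 6), (476, 691, 1), (1357, 1712, 5), (1359, 1415, 5),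
   (1010, 508, 5), (1345, 508, 6), (1007, 845, 6), (1009, 1358, 1), (1649, 1358, 2), (1423, 1358, 3),
   (1685, 1424, 1), (507, 479, 2), (1642, 1034, 6), (1418, 1682, 1), (1539, 1636, 2), (1647, 1743, 5),
   (1769, 1713, 5), (743, 417, 5), (1355, 843, 6), (1770, 1684, 1), (1648, 852, 6), (1765, 1767, 3),
   (1072, 509, 5), (327, 1567, 6), (341, 325, 2)]

def chainUOrb2 : List (ℕ × ℕ × ℕ) :=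
  chainUOrb2_0 ++ chainUOrb2_1 ++ chainUOrb2_2 ++ chainUOrb2_3 ++ chainUOrb2_4 ++ chainUOrb2_5 ++ chainUOrb2_6 ++ chainUOrb2_7 ++ chainUOrb2_8 ++ chainUOrb2_9 ++ chainUOrb2_10 ++ chainUOrb2_11

def chainUIdx2_0 : List (ℕ × List ℕ) :=
  [(9, []), (10, [0]), (5, [1]), (15, [2]),
   (4, [4]), (17, [5]), (39, [6]), (6, [0,1]),
   (18, [0,2]), (7, [0,4]), (41, [0,5]), (20, [0,6]),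
   (2, [1,4]), (227, [1,6]), (27, [2,1]), (28, [2,3]),
   (8, [2,4]), (31, [2,5]), (11, [2,6]), (22, [4,5]),
   (35, [4,6]), (32, [5,4]), (106, [5,6]), (59, [6,0]),
   (63, [6,1]), (21, [6,2]), (65, [6,3]), (61, [6,6]),
   (3, [0,1,4]), (214, [0,1,6]), (33, [0,2,1]), (34, [0,2,3]),
   (12, [0,2,4]), (67, [0,2,5]), (36, [0,5,1]), (165, [0,5,6]),
   (37, [0,6,1]), (38, [0,6,3]), (92, [0,6,6]), (138, [1,4,6]),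
   (210, [1,6,0]), (241, [1,6,1]), (351, [1,6,3]), (49, [2,1,3]),
   (13, [2,1,4]), (255, [2,1,5]), (14, [2,3,4]), (54, [2,3,5]),
   (405, [2,3,6]), (40, [2,4,5]), (53, [2,5,1]), (55, [2,5,4]),
   (232, [2,5,6]), (19, [2,6,0]), (50, [2,6,6]), (153, [4,5,6]),
   (58, [4,6,3]), (56, [4,6,6]), (159, [5,6,2]), (163, [5,6,3]),
   (87, [5,6,6]), (80, [6,0,1]), (94, [6,0,3]), (102, [6,0,6]),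
   (104, [6,1,3]), (141, [6,1,5]), (1027, [6,3,6]), (100, [6,6,1]),
   (101, [6,6,3]), (89, [6,6,5]), (334, [0,1,6,3]), (57, [0,2,1,3]),
   (23, [0,2,1,4]), (215, [0,2,1,5]), (24, [0,2,3,4]), (108, [0,2,3,5]),
   (591, [0,2,3,6]), (107, [0,2,5,1]), (256, [0,2,5,6]), (166, [0,5,6,2]),
   (252, [0,5,6,3]), (135, [0,5,6,6]), (62, [0,6,1,3]), (1025, [0,6,3,6]),
   (140, [0,6,6,3]), (213, [1,4,6,3]), (330, [1,6,0,3]), (366, [1,6,1,3]),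
   (517, [1,6,3,2]), (933, [1,6,3,6])]

def chainUIdx2_1 : List (ℕ × List ℕ) :=
  [(84, [2,1,3,2]), (26, [2,1,3,4]), (383, [2,1,3,5]), (302, [2,1,3,6]),
   (291, [2,1,4,5]), (246, [2,1,5,4]), (66, [2,3,4,5]), (872, [2,3,4,6]),
   (88, [2,3,5,1]), (90, [2,3,5,4]), (1397, [2,3,5,6]), (605, [2,3,6,0]),
   (503, [2,3,6,1]), (601, [2,3,6,2]), (834, [2,3,6,5]), (368, [2,3,6,6]),
   (64, [2,4,5,1]), (356, [2,5,6,3]), (85, [2,6,6,3]), (238, [4,5,6,3]),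
   (713, [4,6,3,6]), (91, [4,6,6,3]), (245, [5,6,2,3]), (250, [5,6,3,2]),
   (1028, [5,6,3,6]), (134, [5,6,6,3]), (126, [6,0,1,3]), (1372, [6,0,3,6]),
   (158, [6,0,6,3]), (161, [6,1,3,2]), (218, [6,1,3,5]), (635, [6,1,3,6]),
   (1377, [6,3,6,1]), (1375, [6,3,6,2]), (718, [6,3,6,3]), (943, [6,3,6,5]),
   (752, [6,3,6,6]), (156, [6,6,1,3]), (157, [6,6,3,2]), (137, [6,6,3,5]),
   (664, [6,6,3,6]), (494, [0,1,6,3,2]), (921, [0,1,6,3,6]), (93, [0,2,1,3,2]),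
   (43, [0,2,1,3,4]), (335, [0,2,1,3,5]), (448, [0,2,1,3,6]), (164, [0,2,3,5,1]),
   (1044, [0,2,3,5,6]), (730, [0,2,3,6,1]), (869, [0,2,3,6,2]), (877, [0,2,3,6,5]),
   (790, [0,2,3,6,6]), (384, [0,2,5,6,3]), (253, [0,5,6,2,3]), (379, [0,5,6,3,2]),
   (1373, [0,5,6,3,6]), (209, [0,5,6,6,3]), (103, [0,6,1,3,2]), (627, [0,6,1,3,6]),
   (1177, [0,6,3,6,2]), (716, [0,6,3,6,3]), (646, [0,6,3,6,5]), (1086, [0,6,3,6,6]),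
   (217, [0,6,6,3,2]), (967, [0,6,6,3,6]), (333, [1,4,6,3,2]), (636, [1,4,6,3,6]),
   (489, [1,6,0,3,2]), (1169, [1,6,0,3,6]), (537, [1,6,1,3,2]), (754, [1,6,3,2,1]),
   (1671, [1,6,3,2,6]), (1171, [1,6,3,6,2]), (1217, [1,6,3,6,3]), (1708, [1,6,3,6,5]),
   (1082, [1,6,3,6,6]), (132, [2,1,3,2,1]), (48, [2,1,3,2,4]), (561, [2,1,3,2,5]),
   (959, [2,1,3,2,6]), (434, [2,1,3,4,5]), (663, [2,1,3,4,6]), (372, [2,1,3,5,4]),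
   (1195, [2,1,3,5,6]), (458, [2,1,3,6,0]), (459, [2,1,3,6,1]), (454, [2,1,3,6,2]),
   (620, [2,1,3,6,5]), (935, [2,1,3,6,6])]

def chainUIdx2_2 : List (ℕ × List ℕ) :=
  [(105, [2,3,4,5,1]), (1518, [2,3,4,5,6]), (1052, [2,3,4,6,1]), (1233, [2,3,4,6,2]),
   (875, [2,3,4,6,5]), (540, [2,3,4,6,6]), (136, [2,3,5,1,2]), (422, [2,3,5,1,6]),
   (1167, [2,3,5,4,6]), (1194, [2,3,5,6,1]), (1048, [2,3,5,6,2]), (1475, [2,3,5,6,3]),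
   (541, [2,3,5,6,5]), (791, [2,3,5,6,6]), (736, [2,3,6,0,1]), (886, [2,3,6,0,2]),
   (595, [2,3,6,0,5]), (542, [2,3,6,0,6]), (735, [2,3,6,1,2]), (788, [2,3,6,1,5]),
   (810, [2,3,6,1,6]), (887, [2,3,6,2,1]), (882, [2,3,6,2,3]), (332, [2,3,6,2,6]),
   (910, [2,3,6,5,1]), (891, [2,3,6,5,5]), (1297, [2,3,6,5,6]), (519, [2,3,6,6,1]),
   (247, [2,3,6,6,3]), (1061, [2,3,6,6,5]), (523, [2,5,6,3,2]), (559, [2,5,6,3,6]),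
   (133, [2,6,6,3,2]), (429, [2,6,6,3,6]), (363, [4,5,6,3,2]), (1663, [4,5,6,3,6]),
   (1026, [4,6,3,6,2]), (493, [4,6,3,6,3]), (794, [4,6,3,6,5]), (514, [4,6,3,6,6]),
   (139, [4,6,6,3,2]), (371, [5,6,2,3,2]), (558, [5,6,2,3,6]), (380, [5,6,3,2,1]),
   (737, [5,6,3,2,6]), (1379, [5,6,3,6,2]), (719, [5,6,3,6,3]), (1137, [5,6,3,6,5]),
   (486, [5,6,3,6,6]), (208, [5,6,6,3,2]), (193, [6,0,1,3,2]), (920, [6,0,1,3,6]),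
   (1412, [6,0,3,6,2]), (1032, [6,0,3,6,3]), (1133, [6,0,3,6,5]), (751, [6,0,3,6,6]),
   (244, [6,0,6,3,2]), (676, [6,0,6,3,6]), (248, [6,1,3,2,1]), (339, [6,1,3,2,5]),
   (1600, [6,1,3,2,6]), (927, [6,1,3,6,2]), (850, [6,1,3,6,3]), (942, [6,1,3,6,5]),
   (491, [6,1,3,6,6]), (1244, [6,3,6,1,2]), (1037, [6,3,6,1,3]), (1391, [6,3,6,1,5]),
   (711, [6,3,6,1,6]), (1410, [6,3,6,2,1]), (1408, [6,3,6,2,3]), (796, [6,3,6,2,5]),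
   (118, [6,3,6,2,6]), (822, [6,3,6,3,2]), (1050, [6,3,6,3,5]), (1517, [6,3,6,3,6]),
   (648, [6,3,6,5,1]), (1585, [6,3,6,5,5]), (1298, [6,3,6,5,6]), (1246, [6,3,6,6,5]),
   (242, [6,6,1,3,2]), (243, [6,6,3,2,1]), (212, [6,6,3,2,5]), (424, [6,6,3,5,6]),
   (551, [6,6,3,6,2]), (804, [6,6,3,6,5]), (1089, [6,6,3,6,6]), (721, [0,1,6,3,2,1]),
   (1669, [0,1,6,3,2,6]), (1166, [0,1,6,3,6,2])]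

def chainUIdx2_3 : List (ℕ × List ℕ) :=
  [(1206, [0,1,6,3,6,3]), (1484, [0,1,6,3,6,5]), (1430, [0,1,6,3,6,6]), (142, [0,2,1,3,2,1]),
   (73, [0,2,1,3,2,4]), (496, [0,2,1,3,2,5]), (667, [0,2,1,3,2,6]), (1550, [0,2,1,3,5,6]),
   (659, [0,2,1,3,6,2]), (817, [0,2,1,3,6,6]), (251, [0,2,3,5,1,2]), (283, [0,2,3,5,1,6]),
   (831, [0,2,3,5,6,1]), (1396, [0,2,3,5,6,2]), (1183, [0,2,3,5,6,3]), (1129, [0,2,3,5,6,5]),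
   (1049, [0,2,3,6,1,2]), (805, [0,2,3,6,1,5]), (557, [0,2,3,6,1,6]), (1173, [0,2,3,6,2,1]),
   (1230, [0,2,3,6,2,3]), (249, [0,2,3,6,2,6]), (893, [0,2,3,6,5,5]), (944, [0,2,3,6,5,6]),
   (549, [0,2,3,6,6,3]), (1059, [0,2,3,6,6,5]), (565, [0,2,5,6,3,2]), (377, [0,2,5,6,3,6]),
   (381, [0,5,6,2,3,2]), (819, [0,5,6,2,3,6]), (562, [0,5,6,3,2,1]), (1064, [0,5,6,3,2,6]),
   (1463, [0,5,6,3,6,2]), (1033, [0,5,6,3,6,3]), (1483, [0,5,6,3,6,5]), (717, [0,5,6,3,6,6]),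
   (329, [0,5,6,6,3,2]), (160, [0,6,1,3,2,1]), (925, [0,6,1,3,2,6]), (918, [0,6,1,3,6,2]),
   (842, [0,6,1,3,6,3]), (645, [0,6,1,3,6,5]), (715, [0,6,1,3,6,6]), (1316, [0,6,3,6,2,1]),
   (1407, [0,6,3,6,2,3]), (83, [0,6,3,6,2,6]), (820, [0,6,3,6,3,2]), (860, [0,6,3,6,3,5]),
   (1721, [0,6,3,6,3,6]), (440, [0,6,3,6,5,1]), (1394, [0,6,3,6,5,5]), (1329, [0,6,3,6,5,6]),
   (1243, [0,6,3,6,6,5]), (338, [0,6,6,3,2,1]), (808, [0,6,6,3,6,2]), (806, [0,6,6,3,6,5]),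
   (755, [0,6,6,3,6,6]), (495, [1,4,6,3,2,1]), (1672, [1,4,6,3,2,6]), (851, [1,4,6,3,6,3]),
   (1710, [1,4,6,3,6,5]), (746, [1,4,6,3,6,6]), (714, [1,6,0,3,2,1]), (1389, [1,6,0,3,2,6]),
   (1519, [1,6,0,3,6,3]), (1652, [1,6,0,3,6,5]), (1080, [1,6,0,3,6,6]), (783, [1,6,1,3,2,1]),
   (1062, [1,6,1,3,2,6]), (996, [1,6,3,2,1,2]), (487, [1,6,3,2,1,5]), (675, [1,6,3,2,1,6]),
   (1390, [1,6,3,2,6,1]), (1705, [1,6,3,2,6,2]), (1511, [1,6,3,2,6,3]), (1289, [1,6,3,2,6,5]),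
   (911, [1,6,3,2,6,6]), (818, [1,6,3,6,2,1]), (1495, [1,6,3,6,2,3]), (1737, [1,6,3,6,2,5]),
   (1568, [1,6,3,6,3,2]), (1507, [1,6,3,6,3,5]), (1551, [1,6,3,6,3,6]), (1473, [1,6,3,6,5,1]),
   (1522, [1,6,3,6,5,5]), (673, [1,6,3,6,5,6]), (1432, [1,6,3,6,6,2]), (1528, [1,6,3,6,6,5]),
   (1079, [2,1,3,2,1,5]), (1612, [2,1,3,2,1,6])]

def chainUIdx2_4 : List (ℕ × List ℕ) :=
  [(640, [2,1,3,2,4,5]), (973, [2,1,3,2,4,6]), (825, [2,1,3,2,5,1]), (547, [2,1,3,2,5,4]),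
   (1170, [2,1,3,2,5,6]), (1308, [2,1,3,2,6,0]), (1309, [2,1,3,2,6,1]), (1670, [2,1,3,2,6,6]),
   (963, [2,1,3,4,6,2]), (864, [2,1,3,4,6,5]), (1549, [2,1,3,5,6,2]), (1187, [2,1,3,5,6,3]),
   (1156, [2,1,3,5,6,6]), (671, [2,1,3,6,0,2]), (876, [2,1,3,6,0,5]), (376, [2,1,3,6,1,2]),
   (548, [2,1,3,6,1,5]), (672, [2,1,3,6,2,1]), (546, [2,1,3,6,2,6]), (677, [2,1,3,6,5,5]),
   (1223, [2,1,3,6,6,3]), (1531, [2,1,3,6,6,5]), (162, [2,3,4,5,1,2]), (622, [2,3,4,5,1,6]),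
   (1399, [2,3,4,5,6,2]), (1658, [2,3,4,5,6,3]), (789, [2,3,4,5,6,5]), (797, [2,3,4,5,6,6]),
   (1403, [2,3,4,6,1,2]), (1128, [2,3,4,6,1,5]), (1523, [2,3,4,6,2,1]), (1578, [2,3,4,6,2,3]),
   (378, [2,3,4,6,2,6]), (606, [2,3,4,6,5,5]), (1292, [2,3,4,6,5,6]), (373, [2,3,4,6,6,3]),
   (1409, [2,3,4,6,6,5]), (211, [2,3,5,1,2,1]), (1272, [2,3,5,1,2,6]), (621, [2,3,5,1,6,2]),
   (570, [2,3,5,1,6,3]), (649, [2,3,5,1,6,5]), (1334, [2,3,5,4,6,2]), (1491, [2,3,5,4,6,3]),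
   (793, [2,3,5,4,6,5]), (543, [2,3,5,4,6,6]), (1547, [2,3,5,6,1,2]), (1185, [2,3,5,6,1,3]),
   (809, [2,3,5,6,1,6]), (1401, [2,3,5,6,2,1]), (1011, [2,3,5,6,2,3]), (1130, [2,3,5,6,3,2]),
   (498, [2,3,5,6,3,5]), (1175, [2,3,5,6,3,6]), (792, [2,3,5,6,5,1]), (1381, [2,3,5,6,5,5]),
   (1579, [2,3,5,6,5,6]), (1090, [2,3,5,6,6,1]), (550, [2,3,5,6,6,3]), (1508, [2,3,5,6,6,5]),
   (1058, [2,3,6,0,1,2]), (1151, [2,3,6,0,1,5]), (815, [2,3,6,0,1,6]), (1242, [2,3,6,0,2,1]),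
   (1238, [2,3,6,0,2,3]), (873, [2,3,6,0,5,5]), (1610, [2,3,6,0,5,6]), (757, [2,3,6,0,6,1]),
   (374, [2,3,6,0,6,3]), (1411, [2,3,6,0,6,5]), (798, [2,3,6,1,2,3]), (1020, [2,3,6,1,2,5]),
   (723, [2,3,6,1,2,6]), (985, [2,3,6,1,5,5]), (941, [2,3,6,1,5,6]), (968, [2,3,6,1,6,2]),
   (1136, [2,3,6,1,6,3]), (1055, [2,3,6,2,1,2]), (1239, [2,3,6,2,1,3]), (490, [2,3,6,2,1,5]),
   (1148, [2,3,6,2,1,6]), (1105, [2,3,6,2,3,6]), (488, [2,3,6,2,6,3]), (1715, [2,3,6,2,6,5]),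
   (1598, [2,3,6,2,6,6]), (1268, [2,3,6,5,1,2]), (680, [2,3,6,5,1,5]), (946, [2,3,6,5,6,1]),
   (1269, [2,3,6,5,6,5]), (1661, [2,3,6,5,6,6])]

def chainUIdx2_5 : List (ℕ × List ℕ) :=
  [(756, [2,3,6,6,1,2]), (359, [2,3,6,6,1,3]), (1439, [2,3,6,6,1,5]), (326, [2,3,6,6,3,2]),
   (983, [2,3,6,6,3,5]), (1262, [2,3,6,6,5,6]), (766, [2,5,6,3,2,1]), (786, [2,5,6,3,6,3]),
   (1388, [2,5,6,3,6,5]), (758, [2,5,6,3,6,6]), (207, [2,6,6,3,2,1]), (1275, [2,6,6,3,2,6]),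
   (633, [2,6,6,3,6,2]), (577, [2,6,6,3,6,3]), (331, [2,6,6,3,6,6]), (538, [4,5,6,3,2,1]),
   (1053, [4,5,6,3,2,6]), (1416, [4,5,6,3,6,2]), (1385, [4,5,6,3,6,3]), (492, [4,5,6,3,6,6]),
   (1060, [4,6,3,6,2,1]), (1057, [4,6,3,6,2,3]), (560, [4,6,3,6,3,2]), (729, [4,6,3,6,3,5]),
   (1181, [4,6,3,6,3,6]), (1515, [4,6,3,6,5,5]), (1479, [4,6,3,6,5,6]), (1117, [4,6,3,6,6,5]),
   (216, [4,6,6,3,2,1]), (785, [5,6,2,3,6,3]), (1393, [5,6,2,3,6,5]), (563, [5,6,3,2,1,2]),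
   (829, [5,6,3,2,1,5]), (678, [5,6,3,2,6,3]), (707, [5,6,3,2,6,6]), (1665, [5,6,3,6,2,3]),
   (1039, [5,6,3,6,3,2]), (812, [5,6,3,6,3,5]), (1123, [5,6,3,6,3,6]), (553, [5,6,3,6,5,5]),
   (1300, [5,6,3,6,5,6]), (710, [5,6,3,6,6,2]), (328, [5,6,6,3,2,1]), (306, [6,0,1,3,2,1]),
   (1279, [6,0,1,3,2,6]), (1277, [6,0,1,3,6,2]), (1205, [6,0,1,3,6,3]), (1404, [6,0,3,6,2,1]),
   (1333, [6,0,3,6,2,3]), (1174, [6,0,3,6,3,2]), (1051, [6,0,3,6,3,5]), (1532, [6,0,3,6,3,6]),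
   (1673, [6,0,3,6,5,5]), (1613, [6,0,3,6,5,6]), (888, [6,0,3,6,6,5]), (370, [6,0,6,3,2,1]),
   (555, [6,0,6,3,6,2]), (1149, [6,0,6,3,6,5]), (1406, [6,1,3,2,1,5]), (1091, [6,1,3,2,1,6]),
   (504, [6,1,3,2,5,1]), (1380, [6,1,3,2,5,6]), (1324, [6,1,3,2,6,1]), (1693, [6,1,3,2,6,2]),
   (1299, [6,1,3,2,6,5]), (1367, [6,1,3,2,6,6]), (965, [6,1,3,6,2,1]), (1294, [6,1,3,6,2,5]),
   (1211, [6,1,3,6,3,2]), (881, [6,1,3,6,3,5]), (1576, [6,1,3,6,3,6]), (623, [6,1,3,6,5,5]),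
   (1527, [6,1,3,6,6,5]), (1529, [6,3,6,1,2,3]), (1530, [6,3,6,1,2,5]), (1160, [6,3,6,1,3,2]),
   (1506, [6,3,6,1,3,5]), (1469, [6,3,6,1,3,6]), (811, [6,3,6,1,5,5]), (977, [6,3,6,1,5,6]),
   (821, [6,3,6,1,6,2]), (1486, [6,3,6,2,1,3]), (501, [6,3,6,2,1,6]), (1065, [6,3,6,2,3,2]),
   (552, [6,3,6,2,3,5]), (1717, [6,3,6,2,3,6]), (1085, [6,3,6,2,5,1]), (1402, [6,3,6,2,5,5]),
   (1689, [6,3,6,2,6,6]), (1179, [6,3,6,3,2,1])]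

def chainUIdx2_6 : List (ℕ × List ℕ) :=
  [(731, [6,3,6,3,2,5]), (1135, [6,3,6,3,2,6]), (861, [6,3,6,3,5,1]), (1709, [6,3,6,3,5,5]),
   (1513, [6,3,6,3,6,5]), (630, [6,3,6,5,1,5]), (1521, [6,3,6,5,5,1]), (947, [6,3,6,5,6,1]),
   (1190, [6,3,6,5,6,6]), (1395, [6,3,6,6,5,6]), (367, [6,6,1,3,2,1]), (1031, [6,6,1,3,2,6]),
   (369, [6,6,3,2,1,2]), (1184, [6,6,3,2,1,5]), (625, [6,6,3,2,5,6]), (626, [6,6,3,5,6,2]),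
   (572, [6,6,3,5,6,3]), (948, [6,6,3,5,6,5]), (795, [6,6,3,6,2,3]), (1018, [6,6,3,6,2,5]),
   (978, [6,6,3,6,5,6]), (1322, [6,6,3,6,6,2]), (768, [6,6,3,6,6,3]), (1562, [6,6,3,6,6,5]),
   (828, [0,1,6,3,2,1,2]), (1561, [0,1,6,3,2,6,2]), (1464, [0,1,6,3,2,6,3]), (1165, [0,1,6,3,2,6,5]),
   (1490, [0,1,6,3,6,2,3]), (1692, [0,1,6,3,6,2,5]), (1558, [0,1,6,3,6,3,2]), (1159, [0,1,6,3,6,3,5]),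
   (1632, [0,1,6,3,6,3,6]), (1552, [0,1,6,3,6,5,5]), (1270, [0,1,6,3,6,6,2]), (1581, [0,1,6,3,6,6,5]),
   (1024, [0,2,1,3,2,1,5]), (1296, [0,2,1,3,2,1,6]), (974, [0,2,1,3,2,6,1]), (1725, [0,2,1,3,2,6,6]),
   (1703, [0,2,1,3,5,6,2]), (1537, [0,2,1,3,5,6,3]), (814, [0,2,1,3,5,6,6]), (964, [0,2,1,3,6,2,1]),
   (832, [0,2,1,3,6,2,6]), (1145, [0,2,1,3,6,6,3]), (1724, [0,2,1,3,6,6,5]), (917, [0,2,3,5,1,2,6]),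
   (423, [0,2,3,5,1,6,2]), (389, [0,2,3,5,1,6,3]), (1192, [0,2,3,5,6,1,2]), (826, [0,2,3,5,6,1,3]),
   (556, [0,2,3,5,6,1,6]), (1674, [0,2,3,5,6,2,1]), (1360, [0,2,3,5,6,2,3]), (1476, [0,2,3,5,6,3,2]),
   (1047, [0,2,3,5,6,3,5]), (823, [0,2,3,5,6,3,6]), (1029, [0,2,3,5,6,5,5]), (1295, [0,2,3,5,6,5,6]),
   (1132, [0,2,3,6,1,2,3]), (1150, [0,2,3,6,1,2,5]), (984, [0,2,3,6,1,5,5]), (801, [0,2,3,6,1,6,3]),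
   (1472, [0,2,3,6,2,1,3]), (1291, [0,2,3,6,2,1,6]), (830, [0,2,3,6,2,3,6]), (1722, [0,2,3,6,2,6,5]),
   (1688, [0,2,3,6,2,6,6]), (647, [0,2,3,6,5,6,1]), (1597, [0,2,3,6,5,6,5]), (1497, [0,2,3,6,5,6,6]),
   (700, [0,2,3,6,6,3,2]), (1139, [0,2,3,6,6,3,5]), (999, [0,2,3,6,6,5,6]), (539, [0,2,5,6,3,6,3]),
   (1036, [0,2,5,6,3,6,5]), (564, [0,5,6,2,3,2,1]), (1126, [0,5,6,2,3,6,3]), (1094, [0,5,6,2,3,6,6]),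
   (827, [0,5,6,3,2,1,2]), (1471, [0,5,6,3,2,1,5]), (665, [0,5,6,3,2,1,6]), (1366, [0,5,6,3,2,6,6]),
   (1580, [0,5,6,3,6,2,5]), (1386, [0,5,6,3,6,3,2]), (1158, [0,5,6,3,6,3,5]), (1565, [0,5,6,3,6,3,6]),
   (1383, [0,5,6,6,3,2,6]), (1502, [0,6,1,3,2,1,5])]

def chainUIdx2_7 : List (ℕ × List ℕ) :=
  [(1624, [0,6,1,3,2,1,6]), (1280, [0,6,1,3,2,6,1]), (1210, [0,6,1,3,2,6,2]), (945, [0,6,1,3,2,6,5]),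
   (1368, [0,6,1,3,2,6,6]), (1203, [0,6,1,3,6,3,2]), (859, [0,6,1,3,6,3,5]), (1739, [0,6,1,3,6,3,6]),
   (425, [0,6,1,3,6,5,5]), (1405, [0,6,3,6,2,1,3]), (1067, [0,6,3,6,2,3,2]), (1735, [0,6,3,6,2,3,6]),
   (1609, [0,6,3,6,2,6,6]), (616, [0,6,3,6,3,2,5]), (1481, [0,6,3,6,3,2,6]), (583, [0,6,3,6,3,5,1]),
   (1503, [0,6,3,6,3,5,5]), (1525, [0,6,3,6,3,6,2]), (1492, [0,6,3,6,3,6,5]), (628, [0,6,3,6,5,1,5]),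
   (1042, [0,6,3,6,5,6,6]), (1496, [0,6,3,6,6,5,6]), (502, [0,6,6,3,2,1,2]), (1134, [0,6,6,3,6,2,3]),
   (1019, [0,6,6,3,6,2,5]), (1088, [0,6,6,3,6,6,2]), (526, [0,6,6,3,6,6,3]), (1618, [0,6,6,3,6,6,5]),
   (722, [1,4,6,3,2,1,2]), (712, [1,4,6,3,2,1,5]), (1392, [1,4,6,3,2,6,3]), (816, [1,4,6,3,2,6,5]),
   (949, [1,4,6,3,2,6,6]), (1219, [1,4,6,3,6,3,2]), (1509, [1,4,6,3,6,3,5]), (1196, [1,4,6,3,6,3,6]),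
   (979, [1,4,6,3,6,5,6]), (1081, [1,4,6,3,6,6,2]), (1447, [1,4,6,3,6,6,5]), (1030, [1,6,0,3,2,1,2]),
   (734, [1,6,0,3,2,1,5]), (1664, [1,6,0,3,2,6,3]), (936, [1,6,0,3,2,6,5]), (1235, [1,6,0,3,2,6,6]),
   (1714, [1,6,0,3,6,3,2]), (1641, [1,6,0,3,6,3,5]), (1553, [1,6,0,3,6,3,6]), (928, [1,6,0,3,6,5,6]),
   (1301, [1,6,0,3,6,6,2]), (1240, [1,6,0,3,6,6,5]), (1124, [1,6,1,3,2,1,2]), (1125, [1,6,1,3,2,1,5]),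
   (460, [1,6,1,3,2,1,6]), (784, [1,6,3,2,1,2,1]), (1054, [1,6,3,2,1,2,3]), (1429, [1,6,3,2,1,5,5]),
   (1323, [1,6,3,2,1,5,6]), (890, [1,6,3,2,1,6,3]), (637, [1,6,3,2,1,6,5]), (624, [1,6,3,2,6,1,6]),
   (1468, [1,6,3,2,6,2,3]), (1569, [1,6,3,2,6,3,5]), (1041, [1,6,3,2,6,3,6]), (934, [1,6,3,2,6,5,1]),
   (1146, [1,6,3,6,2,1,3]), (1516, [1,6,3,6,2,3,2]), (1566, [1,6,3,6,2,3,5]), (1741, [1,6,3,6,3,2,1]),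
   (1512, [1,6,3,6,3,2,6]), (1157, [1,6,3,6,3,5,1]), (1544, [1,6,3,6,3,5,5]), (1572, [1,6,3,6,3,6,5]),
   (1131, [1,6,3,6,5,1,6]), (975, [1,6,3,6,5,6,3]), (1178, [1,6,3,6,6,5,1]), (1546, [1,6,3,6,6,5,6]),
   (1077, [2,1,3,2,1,5,5]), (939, [2,1,3,2,4,5,1]), (803, [2,1,3,2,5,1,4]), (1427, [2,1,3,2,5,1,5]),
   (1520, [2,1,3,2,5,6,2]), (1188, [2,1,3,2,5,6,3]), (1281, [2,1,3,2,6,0,1]), (1560, [2,1,3,2,6,6,1]),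
   (1563, [2,1,3,2,6,6,3]), (929, [2,1,3,4,6,2,1]), (1646, [2,1,3,5,6,2,3]), (1541, [2,1,3,5,6,3,2]),
   (545, [2,1,3,6,1,2,3]), (922, [2,1,3,6,2,1,2])]

def chainUIdx2_8 : List (ℕ × List ℕ) :=
  [(1634, [2,1,3,6,2,1,6]), (802, [2,1,3,6,2,6,2]), (1571, [2,1,3,6,6,3,2]), (1680, [2,1,3,6,6,3,5]),
   (1325, [2,1,3,6,6,5,1]), (913, [2,3,4,5,1,2,6]), (914, [2,3,4,5,1,6,2]), (836, [2,3,4,5,1,6,3]),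
   (1675, [2,3,4,5,6,2,1]), (1361, [2,3,4,5,6,2,3]), (1474, [2,3,4,5,6,3,2]), (725, [2,3,4,5,6,3,5]),
   (1378, [2,3,4,5,6,5,5]), (554, [2,3,4,5,6,6,3]), (1676, [2,3,4,5,6,6,5]), (1172, [2,3,4,6,1,2,3]),
   (1043, [2,3,4,6,2,1,6]), (1193, [2,3,4,6,2,3,6]), (1660, [2,3,4,6,2,6,5]), (1611, [2,3,4,6,2,6,6]),
   (1657, [2,3,4,6,5,6,6]), (483, [2,3,4,6,6,3,2]), (1485, [2,3,4,6,6,3,5]), (1666, [2,3,5,1,2,1,5]),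
   (1431, [2,3,5,1,2,1,6]), (1276, [2,3,5,1,2,6,1]), (1554, [2,3,5,1,2,6,2]), (912, [2,3,5,1,6,2,1]),
   (835, [2,3,5,1,6,3,2]), (527, [2,3,5,1,6,3,5]), (322, [2,3,5,1,6,3,6]), (937, [2,3,5,1,6,5,5]),
   (1413, [2,3,5,4,6,2,3]), (1667, [2,3,5,4,6,3,2]), (728, [2,3,5,4,6,3,5]), (1374, [2,3,5,4,6,5,5]),
   (375, [2,3,5,4,6,6,3]), (1548, [2,3,5,4,6,6,5]), (1348, [2,3,5,6,1,2,3]), (1536, [2,3,5,6,1,3,2]),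
   (480, [2,3,5,6,1,3,6]), (1356, [2,3,5,6,2,1,3]), (807, [2,3,5,6,2,3,2]), (1644, [2,3,5,6,2,3,6]),
   (1477, [2,3,5,6,3,2,1]), (336, [2,3,5,6,3,2,5]), (727, [2,3,5,6,3,5,1]), (1021, [2,3,5,6,3,5,6]),
   (1419, [2,3,5,6,3,6,3]), (1162, [2,3,5,6,3,6,5]), (709, [2,3,5,6,5,6,6]), (1293, [2,3,5,6,6,1,2]),
   (769, [2,3,5,6,6,1,3]), (1016, [2,3,5,6,6,1,5]), (475, [2,3,5,6,6,3,2]), (1653, [2,3,5,6,6,3,5]),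
   (1138, [2,3,6,0,1,2,3]), (1143, [2,3,6,0,1,6,3]), (1687, [2,3,6,0,5,6,6]), (1092, [2,3,6,0,6,1,2]),
   (528, [2,3,6,0,6,1,3]), (1332, [2,3,6,0,6,3,5]), (838, [2,3,6,1,2,3,5]), (1489, [2,3,6,1,2,3,6]),
   (839, [2,3,6,1,2,5,1]), (1369, [2,3,6,1,2,6,5]), (1087, [2,3,6,1,5,5,6]), (1434, [2,3,6,1,6,2,6]),
   (1480, [2,3,6,1,6,3,2]), (1428, [2,3,6,2,1,6,5]), (915, [2,3,6,2,1,6,6]), (1453, [2,3,6,2,3,6,3]),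
   (1498, [2,3,6,2,6,5,1]), (1436, [2,3,6,2,6,6,5]), (916, [2,3,6,5,6,1,5]), (1022, [2,3,6,5,6,5,6]),
   (1749, [2,3,6,5,6,6,1]), (1370, [2,3,6,5,6,6,3]), (1109, [2,3,6,6,1,3,5]), (1198, [2,3,6,6,1,5,5]),
   (1347, [2,3,6,6,1,5,6]), (206, [2,3,6,6,3,2,1]), (813, [2,3,6,6,3,2,5]), (1607, [2,3,6,6,3,5,6]),
   (1596, [2,3,6,6,5,6,1]), (745, [2,3,6,6,5,6,5]), (1056, [2,5,6,3,6,3,2]), (529, [2,5,6,3,6,6,3]),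
   (1435, [2,6,6,3,2,1,6]), (1555, [2,6,6,3,2,6,2])]

def chainUIdx2_9 : List (ℕ × List ℕ) :=
  [(848, [2,6,6,3,6,3,2]), (1227, [2,6,6,3,6,3,6]), (1189, [4,5,6,3,2,1,5]), (1376, [4,5,6,3,6,3,2]),
   (1467, [4,5,6,3,6,3,6]), (1140, [4,6,3,6,2,1,3]), (738, [4,6,3,6,2,3,2]), (1510, [4,6,3,6,2,3,6]),
   (500, [4,6,3,6,3,2,5]), (800, [4,6,3,6,3,2,6]), (1524, [4,6,3,6,3,5,5]), (1288, [4,6,3,6,3,6,5]),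
   (337, [4,6,6,3,2,1,2]), (787, [5,6,2,3,6,3,2]), (1147, [5,6,3,2,1,2,5]), (1310, [5,6,3,2,1,2,6]),
   (1364, [5,6,3,2,6,3,6]), (724, [5,6,3,2,6,6,3]), (1164, [5,6,3,6,3,6,5]), (733, [5,6,3,6,6,2,3]),
   (1668, [5,6,6,3,2,1,5]), (1433, [6,0,1,3,2,6,5]), (1457, [6,0,1,3,6,3,2]), (1574, [6,0,1,3,6,3,6]),
   (1163, [6,0,3,6,2,3,2]), (1718, [6,0,3,6,2,3,6]), (732, [6,0,3,6,3,2,5]), (1142, [6,0,3,6,3,2,6]),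
   (1716, [6,0,3,6,3,5,5]), (1679, [6,0,3,6,3,6,5]), (1382, [6,0,3,6,5,6,6]), (544, [6,0,6,3,2,1,2]),
   (799, [6,0,6,3,6,2,3]), (1040, [6,1,3,2,5,6,3]), (1273, [6,1,3,2,6,5,5]), (1400, [6,1,3,2,6,6,3]),
   (753, [6,1,3,6,3,2,5]), (1577, [6,1,3,6,3,2,6]), (837, [6,1,3,6,3,5,5]), (1570, [6,1,3,6,3,6,2]),
   (1711, [6,1,3,6,3,6,5]), (1387, [6,3,6,1,3,2,5]), (1505, [6,3,6,1,3,2,6]), (1127, [6,3,6,1,3,5,5]),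
   (1482, [6,3,6,1,3,6,5]), (1706, [6,3,6,2,1,3,6]), (1371, [6,3,6,2,1,6,5]), (1417, [6,3,6,2,3,2,1]),
   (691, [6,3,6,2,3,2,5]), (1362, [6,3,6,2,3,5,5]), (1712, [6,3,6,2,3,6,1]), (1707, [6,3,6,2,3,6,3]),
   (1734, [6,3,6,2,3,6,5]), (1398, [6,3,6,2,3,6,6]), (1415, [6,3,6,3,2,1,5]), (508, [6,3,6,3,2,5,1]),
   (1478, [6,3,6,3,2,5,5]), (1153, [6,3,6,3,2,5,6]), (772, [6,3,6,3,5,1,2]), (845, [6,3,6,3,5,1,5]),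
   (1538, [6,3,6,3,5,5,1]), (1358, [6,3,6,3,5,5,6]), (1424, [6,3,6,3,6,5,5]), (1141, [6,3,6,3,6,5,6]),
   (1662, [6,6,1,3,2,1,5]), (1035, [6,6,1,3,2,6,3]), (840, [6,6,3,5,6,3,2]), (770, [6,6,3,5,6,3,5]),
   (479, [6,6,3,5,6,3,6]), (1045, [6,6,3,6,2,3,5]), (1202, [6,6,3,6,6,2,6]), (1213, [6,6,3,6,6,3,5]),
   (1212, [0,1,6,3,2,6,2,3]), (1034, [0,1,6,3,2,6,3,6]), (1682, [0,1,6,3,6,2,3,2]), (1456, [0,1,6,3,6,2,3,5]),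
   (1575, [0,1,6,3,6,3,2,1]), (1543, [0,1,6,3,6,3,5,5]), (1556, [0,2,1,3,2,6,6,3]), (1636, [0,2,1,3,5,6,2,3]),
   (1728, [0,2,1,3,5,6,3,2]), (1494, [0,2,1,3,6,6,3,2]), (1738, [0,2,1,3,6,6,3,5]), (571, [0,2,3,5,1,6,3,2]),
   (1545, [0,2,3,5,6,1,2,3]), (1186, [0,2,3,5,6,1,3,2]), (1677, [0,2,3,5,6,2,3,6]), (1155, [0,2,3,5,6,3,2,1]),
   (726, [0,2,3,5,6,3,2,5]), (720, [0,2,3,5,6,3,5,5])]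

def chainUIdx2_10 : List (ℕ × List ℕ) :=
  [(1066, [0,2,3,5,6,3,6,3]), (1197, [0,2,3,6,1,2,3,5]), (1271, [0,2,3,6,2,1,6,6]), (1191, [0,2,3,6,2,3,6,3]),
   (1659, [0,2,3,6,2,6,5,1]), (919, [0,2,3,6,5,6,1,5]), (1063, [0,2,3,6,6,3,2,5]), (1168, [0,5,6,3,6,3,2,6]),
   (1201, [0,6,1,3,2,6,6,3]), (1743, [0,6,1,3,6,3,2,6]), (573, [0,6,1,3,6,3,5,5]), (1713, [0,6,1,3,6,3,6,5]),
   (1514, [0,6,3,6,2,3,2,6]), (1720, [0,6,3,6,2,3,6,1]), (1729, [0,6,3,6,2,3,6,5]), (417, [0,6,3,6,3,2,5,1]),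
   (1154, [0,6,3,6,3,2,5,5]), (1152, [0,6,3,6,3,2,5,6]), (843, [0,6,3,6,3,5,1,5]), (1008, [0,6,3,6,3,5,5,6]),
   (1678, [0,6,3,6,3,6,2,5]), (1144, [0,6,3,6,3,6,5,1]), (1684, [0,6,3,6,3,6,5,5]), (1176, [0,6,3,6,3,6,5,6]),
   (1046, [0,6,6,3,6,2,3,5]), (1564, [0,6,6,3,6,6,3,5]), (1488, [1,4,6,3,6,3,6,5]), (1220, [1,6,0,3,2,6,3,5]),
   (1038, [1,6,0,3,2,6,3,6]), (1742, [1,6,0,3,6,3,2,1]), (1493, [1,6,0,3,6,3,6,5]), (852, [1,6,3,2,1,6,3,5]),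
   (1207, [1,6,3,2,1,6,3,6]), (1218, [1,6,3,2,6,3,5,1]), (1542, [1,6,3,2,6,3,5,6]), (1767, [1,6,3,2,6,3,6,6]),
   (1719, [1,6,3,6,2,3,2,1]), (509, [1,6,3,6,3,2,1,6]), (1161, [1,6,3,6,3,2,6,1]), (1526, [1,6,3,6,3,2,6,3]),
   (1631, [1,6,3,6,3,2,6,5]), (1384, [1,6,3,6,3,2,6,6]), (1567, [1,6,3,6,3,6,5,1]), (1533, [1,6,3,6,3,6,5,6]),
   (1023, [2,1,3,2,4,5,1,5]), (1078, [2,1,3,2,5,1,4,5]), (1501, [2,1,3,2,5,6,3,6]), (1726, [2,1,3,2,6,6,3,6]),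
   (1727, [2,1,3,5,6,2,3,2]), (1635, [2,1,3,5,6,3,2,1]), (1606, [2,1,3,6,6,3,2,1]), (1704, [2,1,3,6,6,3,2,5]),
   (1455, [2,1,3,6,6,3,5,1]), (1199, [2,3,4,5,1,6,3,2]), (325, [2,3,4,5,1,6,3,6]), (1637, [2,3,4,5,6,2,1,3]),
   (497, [2,3,4,5,6,3,2,5]), (708, [2,3,4,5,6,6,3,2]), (1633, [2,3,4,5,6,6,3,5]), (1414, [2,3,4,6,6,3,2,5]),
   (1221, [2,3,5,1,6,3,5,5]), (342, [2,3,5,1,6,3,6,2]), (343, [2,3,5,1,6,3,6,5]), (1499, [2,3,5,4,6,2,3,2]),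
   (1504, [2,3,5,4,6,3,2,1]), (499, [2,3,5,4,6,3,2,5]), (484, [2,3,5,4,6,6,3,2]), (1654, [2,3,5,4,6,6,3,5]),
   (1645, [2,3,5,6,2,1,3,2]), (1681, [2,3,5,6,2,3,2,6]), (1731, [2,3,5,6,2,3,6,2]), (1650, [2,3,5,6,3,2,1,6]),
   (220, [2,3,5,6,3,2,5,1]), (1732, [2,3,5,6,3,5,6,6]), (1487, [2,3,5,6,3,6,3,5]), (1074, [2,3,5,6,3,6,5,5]),
   (841, [2,3,5,6,6,1,3,5]), (319, [2,3,5,6,6,3,2,1]), (1540, [2,3,6,1,2,3,6,5]), (767, [2,3,6,1,5,5,6,3]),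
   (1106, [2,3,6,1,6,2,6,3]), (1470, [2,3,6,1,6,3,2,6]), (1629, [2,3,6,6,3,5,6,1]), (1182, [2,3,6,6,3,5,6,6]),
   (1744, [2,6,6,3,6,3,2,6]), (1534, [4,6,3,6,2,3,6,1]), (1733, [4,6,3,6,2,3,6,5]), (1354, [4,6,3,6,3,5,5,6]),
   (1723, [4,6,3,6,3,6,5,5]), (824, [4,6,3,6,3,6,5,6])]

def chainUIdx2_11 : List (ℕ × List ℕ) :=
  [(1204, [5,6,3,2,6,3,6,3]), (1740, [6,0,1,3,6,3,2,6]), (1500, [6,0,3,6,3,2,5,5]), (1643, [6,0,3,6,3,5,5,6]),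
   (1180, [6,0,3,6,3,6,5,6]), (1766, [6,1,3,6,3,2,6,5]), (699, [6,1,3,6,3,5,5,6]), (1686, [6,1,3,6,3,6,5,5]),
   (485, [6,1,3,6,3,6,5,6]), (1764, [6,3,6,1,3,2,5,6]), (476, [6,3,6,2,3,2,5,1]), (1357, [6,3,6,2,3,6,1,5]),
   (1359, [6,3,6,3,2,1,5,5]), (1010, [6,3,6,3,2,5,1,5]), (1345, [6,3,6,3,2,5,1,6]), (1007, [6,3,6,3,5,1,5,6]),
   (1009, [6,3,6,3,5,5,6,1]), (1649, [6,3,6,3,5,5,6,2]), (1423, [6,3,6,3,5,5,6,3]), (1685, [6,3,6,3,6,5,5,1]),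
   (507, [6,6,3,5,6,3,6,2]), (1642, [0,1,6,3,2,6,3,6,6]), (1418, [0,1,6,3,6,2,3,2,1]), (1539, [0,2,1,3,5,6,2,3,2]),
   (1647, [0,6,1,3,6,3,2,6,5]), (1769, [0,6,1,3,6,3,6,5,5]), (743, [0,6,3,6,3,2,5,1,5]), (1355, [0,6,3,6,3,5,1,5,6]),
   (1770, [0,6,3,6,3,6,5,5,1]), (1648, [1,6,3,2,1,6,3,5,6]), (1765, [1,6,3,2,6,3,6,6,3]), (1072, [1,6,3,6,3,2,1,6,5]),
   (327, [1,6,3,6,3,6,5,1,6]), (341, [2,3,4,5,1,6,3,6,2])]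

def chainUIdx2 : List (ℕ × List ℕ) :=
  chainUIdx2_0 ++ chainUIdx2_1 ++ chainUIdx2_2 ++ chainUIdx2_3 ++ chainUIdx2_4 ++ chainUIdx2_5 ++ chainUIdx2_6 ++ chainUIdx2_7 ++ chainUIdx2_8 ++ chainUIdx2_9 ++ chainUIdx2_10 ++ chainUIdx2_11

def chainUGens2 : List (List ℕ) :=
  [[0],
   [2],
   [3],
   [4],
   [5],
   [1,0,5,1,0,1],
   [1,0,2,1,0,1,3,2,1,5,3,2,1]]

def chainU2 : SLev := ⟨⟨9, chainUGens2, chainUOrb2⟩, chainUIdx2⟩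

def chainUOrb3_0 : List (ℕ × ℕ × ℕ) :=
  [(51, 29, 0), (30, 29, 1), (169, 29, 2), (16, 29, 3), (259, 51, 2), (1754, 51, 3),
   (68, 30, 2), (52, 30, 3), (86, 259, 2), (1773, 259, 3), (1608, 1754, 0), (1774, 86, 3),
   (1750, 1773, 0), (1779, 1608, 3)]

def chainUOrb3 : List (ℕ × ℕ × ℕ) :=
  chainUOrb3_0

def chainUIdx3_0 : List (ℕ × List ℕ) :=
  [(29, []), (51, [0]), (30, [1]), (169, [2]),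
   (16, [3]), (259, [0,2]), (1754, [0,3]), (68, [1,2]),
   (52, [1,3]), (86, [0,2,2]), (1773, [0,2,3]), (1608, [0,3,0]),
   (1774, [0,2,2,3]), (1750, [0,2,3,0]), (1779, [0,3,0,3])]

def chainUIdx3 : List (ℕ × List ℕ) :=
  chainUIdx3_0

def chainUGens3 : List (List ℕ) :=
  [[4],
   [2,3,2],
   [2,1,0,5,1,0,1,2],
   [3,2,1,0,2,1,0,1,3,2,1,5,3,2,1,5,2]]

def chainU3 : SLev := ⟨⟨29, chainUGens3, chainUOrb3⟩, chainUIdx3⟩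

def chainUOrb4_0 : List (ℕ × ℕ × ℕ) :=
  [(3, 43, 0), (949, 43, 1), (1301, 949, 0)]

def chainUOrb4 : List (ℕ × ℕ × ℕ) :=
  chainUOrb4_0

def chainUIdx4_0 : List (ℕ × List ℕ) :=
  [(43, []), (3, [0]), (949, [1]), (1301, [1,0])]

def chainUIdx4 : List (ℕ × List ℕ) :=
  chainUIdx4_0

def chainUGens4 : List (List ℕ) :=
  [[4,2,3,2,4],
   [3,2,1,0,2,1,0,1,3,2,1,5,3,2,1,5,1,0,5,1,0,1,3,2]]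

def chainU4 : SLev := ⟨⟨43, chainUGens4, chainUOrb4⟩, chainUIdx4⟩

def chainUOrb5_0 : List (ℕ × ℕ × ℕ) :=
  [(871, 82, 0), (1004, 871, 0)]

def chainUOrb5 : List (ℕ × ℕ × ℕ) :=
  chainUOrb5_0

def chainUIdx5_0 : List (ℕ × List ℕ) :=
  [(82, []), (871, [0]), (1004, [0,0])]

def chainUIdx5 : List (ℕ × List ℕ) :=
  chainUIdx5_0

def chainUGens5 : List (List ℕ) :=
  [[4,2,3,2,4,3,2,1,0,2,1,0,1,3,2,1,5,3,2,1,5,1,0,5,1,0,1,3,2,4,2,3,2,4]]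

def chainU5 : SLev := ⟨⟨82, chainUGens5, chainUOrb5⟩, chainUIdx5⟩

def chainU : List SLev := [chainU0, chainU1, chainU2, chainU3, chainU4, chainU5]

def chainYOrb0_0 : List (ℕ × ℕ × ℕ) :=
  [(3, 2, 0), (1, 2, 1), (4, 2, 2), (5, 2, 5), (6, 3, 1), (7, 3, 2),
   (0, 1, 6), (8, 4, 3), (9, 4, 5), (10, 6, 2), (11, 7, 1), (12, 7, 3),
   (13, 8, 2), (14, 8, 4), (15, 8, 5), (16, 9, 1), (17, 10, 1), (18, 10, 3),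
   (19, 11, 0), (20, 11, 3), (21, 11, 5), (22, 11, 6), (23, 12, 2), (24, 12, 4),
   (25, 13, 1), (26, 13, 4), (27, 13, 5), (28, 14, 5), (29, 15, 1), (30, 16, 6),
   (31, 17, 3), (32, 17, 5), (33, 18, 2), (34, 18, 4), (35, 19, 3), (36, 19, 5),
   (37, 20, 2), (38, 20, 4), (39, 20, 5), (40, 20, 6), (41, 22, 5), (42, 23, 1),
   (43, 23, 4), (44, 25, 0), (45, 25, 4), (46, 25, 5), (47, 25, 6), (48, 26, 3),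
   (49, 26, 5), (50, 27, 1), (51, 28, 1), (52, 29, 2), (53, 31, 2), (54, 31, 4),
   (55, 31, 5), (56, 33, 1), (57, 33, 4), (58, 35, 4), (59, 35, 5), (60, 37, 1),
   (61, 37, 3), (62, 37, 4), (63, 37, 5), (64, 37, 6), (65, 38, 5), (66, 38, 6),
   (67, 40, 5), (68, 41, 1), (69, 42, 0), (70, 42, 4), (71, 42, 5), (72, 42, 6),
   (73, 43, 3), (74, 44, 4), (75, 44, 5), (76, 44, 6), (77, 45, 3), (78, 45, 5),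
   (79, 45, 6), (80, 46, 1), (81, 46, 6), (82, 47, 5), (83, 48, 2), (84, 48, 5),
   (85, 49, 1), (86, 51, 2), (87, 53, 1), (88, 53, 4), (89, 53, 5), (90, 54, 5)]

def chainYOrb0_1 : List (ℕ × ℕ × ℕ) :=
  [(91, 56, 4), (92, 56, 5), (93, 57, 3), (94, 58, 5), (95, 60, 0), (96, 60, 3),
   (97, 60, 4), (98, 60, 5), (99, 60, 6), (100, 61, 2), (101, 61, 4), (102, 61, 5),
   (103, 62, 3), (104, 62, 5), (105, 62, 6), (106, 63, 1), (107, 64, 5), (108, 66, 5),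
   (109, 67, 1), (110, 69, 4), (111, 69, 5), (112, 69, 6), (113, 70, 3), (114, 70, 5),
   (115, 70, 6), (116, 71, 6), (117, 72, 5), (118, 73, 2), (119, 74, 3), (120, 74, 5),
   (121, 74, 6), (122, 75, 1), (123, 77, 2), (124, 77, 5), (125, 77, 6), (126, 78, 1),
   (127, 78, 6), (128, 79, 5), (129, 81, 1), (130, 82, 1), (131, 83, 1), (132, 83, 5),
   (133, 84, 1), (134, 87, 4), (135, 87, 5), (136, 88, 3), (137, 88, 5), (138, 89, 1),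
   (139, 91, 3), (140, 91, 5), (141, 92, 6), (142, 93, 2), (143, 95, 1), (144, 95, 4),
   (145, 95, 5), (146, 95, 6), (147, 96, 4), (148, 96, 5), (149, 96, 6), (150, 97, 3),
   (151, 97, 5), (152, 97, 6), (153, 98, 1), (154, 98, 6), (155, 99, 5), (156, 100, 4),
   (157, 101, 3), (158, 101, 5), (159, 102, 1), (160, 103, 2), (161, 103, 5), (162, 103, 6),
   (163, 104, 1), (164, 105, 5), (165, 106, 0), (166, 106, 6), (167, 107, 1), (168, 108, 1),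
   (169, 109, 2), (170, 110, 3), (171, 110, 5), (172, 110, 6), (173, 111, 1), (174, 113, 2),
   (175, 113, 5), (176, 113, 6), (177, 114, 6), (178, 115, 5), (179, 116, 1), (180, 117, 1)]

def chainYOrb0_2 : List (ℕ × ℕ × ℕ) :=
  [(181, 118, 1), (182, 119, 2), (183, 119, 5), (184, 119, 6), (185, 120, 1), (186, 122, 0),
   (187, 122, 2), (188, 122, 6), (189, 123, 1), (190, 123, 3), (191, 123, 5), (192, 123, 6),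
   (193, 124, 1), (194, 124, 6), (195, 125, 5), (196, 127, 1), (197, 128, 1), (198, 129, 0),
   (199, 129, 2), (200, 129, 5), (201, 130, 2), (202, 130, 6), (203, 131, 0), (204, 131, 5),
   (205, 131, 6), (206, 132, 1), (207, 133, 2), (208, 134, 3), (209, 134, 5), (210, 135, 1),
   (211, 136, 2), (212, 136, 5), (213, 137, 1), (214, 138, 0), (215, 138, 6), (216, 139, 2),
   (217, 139, 5), (218, 140, 6), (219, 141, 1), (220, 142, 1), (221, 143, 4), (222, 143, 5),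
   (223, 143, 6), (224, 144, 3), (225, 144, 5), (226, 144, 6), (227, 145, 1), (228, 146, 1),
   (229, 147, 3), (230, 147, 5), (231, 147, 6), (232, 148, 1), (233, 148, 6), (234, 149, 5),
   (235, 150, 2), (236, 150, 5), (237, 150, 6), (238, 151, 1), (239, 151, 6), (240, 152, 5),
   (241, 153, 0), (242, 156, 3), (243, 157, 2), (244, 157, 5), (245, 158, 1), (246, 159, 2),
   (247, 160, 1), (248, 160, 5), (249, 160, 6), (250, 161, 1), (251, 162, 5), (252, 163, 0),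
   (253, 163, 6), (254, 164, 1), (255, 165, 1), (256, 166, 5), (257, 167, 0), (258, 167, 2),
   (259, 168, 2), (260, 169, 3), (261, 170, 2), (262, 170, 5), (263, 170, 6), (264, 171, 1),
   (265, 173, 0), (266, 173, 2), (267, 173, 6), (268, 174, 1), (269, 174, 3), (270, 174, 5)]

def chainYOrb0_3 : List (ℕ × ℕ × ℕ) :=
  [(271, 174, 6), (272, 175, 6), (273, 176, 5), (274, 177, 1), (275, 178, 1), (276, 179, 0),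
   (277, 179, 2), (278, 180, 2), (279, 180, 6), (280, 181, 0), (281, 181, 5), (282, 181, 6),
   (283, 182, 1), (284, 182, 3), (285, 182, 5), (286, 182, 6), (287, 183, 1), (288, 185, 0),
   (289, 185, 2), (290, 185, 6), (291, 186, 1), (292, 186, 2), (293, 187, 3), (294, 187, 6),
   (295, 189, 0), (296, 189, 3), (297, 189, 5), (298, 189, 6), (299, 190, 4), (300, 190, 5),
   (301, 190, 6), (302, 191, 1), (303, 191, 6), (304, 192, 1), (305, 192, 5), (306, 193, 2),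
   (307, 194, 1), (308, 195, 1), (309, 196, 0), (310, 196, 2), (311, 196, 5), (312, 197, 2),
   (313, 197, 6), (314, 198, 2), (315, 199, 3), (316, 199, 5), (317, 201, 3), (318, 201, 6),
   (319, 203, 1), (320, 203, 5), (321, 203, 6), (322, 204, 1), (323, 204, 6), (324, 205, 5),
   (325, 206, 0), (326, 206, 2), (327, 206, 6), (328, 208, 2), (329, 208, 5), (330, 209, 1),
   (331, 211, 1), (332, 211, 5), (333, 212, 1), (334, 213, 0), (335, 213, 6), (336, 216, 1),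
   (337, 216, 3), (338, 216, 5), (339, 217, 6), (340, 218, 1), (341, 220, 0), (342, 220, 5),
   (343, 220, 6), (344, 221, 3), (345, 221, 5), (346, 221, 6), (347, 223, 1), (348, 224, 2),
   (349, 224, 5), (350, 224, 6), (351, 225, 1), (352, 226, 1), (353, 229, 2), (354, 229, 5),
   (355, 229, 6), (356, 230, 1), (357, 230, 6), (358, 231, 5), (359, 235, 1), (360, 235, 3)]

def chainYOrb0_4 : List (ℕ × ℕ × ℕ) :=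
  [(361, 235, 5), (362, 235, 6), (363, 236, 1), (364, 236, 6), (365, 237, 5), (366, 238, 0),
   (367, 242, 2), (368, 243, 1), (369, 243, 3), (370, 243, 5), (371, 244, 1), (372, 245, 2),
   (373, 247, 0), (374, 247, 5), (375, 247, 6), (376, 248, 1), (377, 249, 1), (378, 249, 5),
   (379, 250, 0), (380, 250, 2), (381, 250, 6), (382, 251, 1), (383, 252, 1), (384, 253, 5),
   (385, 254, 0), (386, 254, 2), (387, 257, 2), (388, 258, 3), (389, 261, 1), (390, 261, 3),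
   (391, 261, 5), (392, 261, 6), (393, 262, 1), (394, 264, 0), (395, 264, 2), (396, 264, 6),
   (397, 268, 0), (398, 268, 3), (399, 268, 5), (400, 268, 6), (401, 269, 2), (402, 269, 4),
   (403, 269, 5), (404, 269, 6), (405, 270, 1), (406, 270, 6), (407, 271, 1), (408, 271, 5),
   (409, 272, 1), (410, 273, 1), (411, 274, 0), (412, 274, 2), (413, 275, 2), (414, 275, 6),
   (415, 278, 3), (416, 278, 6), (417, 280, 1), (418, 280, 5), (419, 280, 6), (420, 281, 6),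
   (421, 282, 5), (422, 283, 0), (423, 283, 3), (424, 283, 5), (425, 283, 6), (426, 284, 4),
   (427, 284, 5), (428, 284, 6), (429, 285, 1), (430, 286, 1), (431, 287, 0), (432, 287, 2),
   (433, 287, 6), (434, 288, 1), (435, 288, 2), (436, 289, 6), (437, 292, 3), (438, 293, 6),
   (439, 294, 1), (440, 295, 1), (441, 295, 3), (442, 295, 5), (443, 295, 6), (444, 296, 2),
   (445, 296, 4), (446, 296, 5), (447, 296, 6), (448, 297, 1), (449, 297, 6), (450, 298, 1)]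

def chainYOrb0_5 : List (ℕ × ℕ × ℕ) :=
  [(451, 298, 5), (452, 299, 5), (453, 299, 6), (454, 300, 1), (455, 300, 6), (456, 301, 1),
   (457, 301, 5), (458, 302, 0), (459, 302, 2), (460, 302, 6), (461, 303, 1), (462, 307, 0),
   (463, 307, 2), (464, 307, 5), (465, 308, 2), (466, 308, 6), (467, 309, 2), (468, 310, 5),
   (469, 312, 6), (470, 314, 3), (471, 315, 5), (472, 317, 2), (473, 317, 6), (474, 318, 1),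
   (475, 319, 2), (476, 319, 5), (477, 320, 1), (478, 321, 1), (479, 322, 0), (480, 322, 2),
   (481, 323, 1), (482, 325, 1), (483, 325, 2), (484, 326, 6), (485, 327, 5), (486, 328, 1),
   (487, 328, 3), (488, 328, 5), (489, 329, 1), (490, 331, 0), (491, 331, 5), (492, 331, 6),
   (493, 332, 1), (494, 333, 0), (495, 333, 2), (496, 333, 6), (497, 336, 0), (498, 336, 3),
   (499, 336, 5), (500, 336, 6), (501, 337, 2), (502, 337, 5), (503, 338, 1), (504, 338, 6),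
   (505, 339, 1), (506, 341, 1), (507, 341, 5), (508, 342, 6), (509, 343, 5), (510, 344, 2),
   (511, 344, 5), (512, 344, 6), (513, 346, 1), (514, 348, 1), (515, 348, 5), (516, 348, 6),
   (517, 349, 1), (518, 350, 1), (519, 353, 1), (520, 353, 3), (521, 353, 5), (522, 353, 6),
   (523, 354, 1), (524, 354, 6), (525, 355, 5), (526, 359, 0), (527, 359, 3), (528, 359, 5),
   (529, 359, 6), (530, 360, 4), (531, 360, 5), (532, 360, 6), (533, 361, 1), (534, 361, 6),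
   (535, 362, 1), (536, 362, 5), (537, 363, 0), (538, 363, 2), (539, 367, 1), (540, 368, 0)]

def chainYOrb0_6 : List (ℕ × ℕ × ℕ) :=
  [(541, 368, 3), (542, 368, 5), (543, 368, 6), (544, 369, 5), (545, 370, 1), (546, 371, 2),
   (547, 372, 3), (548, 373, 1), (549, 373, 5), (550, 373, 6), (551, 374, 1), (552, 374, 6),
   (553, 375, 1), (554, 375, 5), (555, 376, 0), (556, 376, 2), (557, 376, 6), (558, 377, 0),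
   (559, 377, 5), (560, 378, 1), (561, 379, 1), (562, 379, 2), (563, 380, 3), (564, 380, 6),
   (565, 381, 5), (566, 382, 0), (567, 382, 2), (568, 385, 2), (569, 387, 3), (570, 389, 0),
   (571, 389, 3), (572, 389, 5), (573, 389, 6), (574, 390, 4), (575, 390, 5), (576, 390, 6),
   (577, 391, 1), (578, 392, 1), (579, 393, 0), (580, 393, 2), (581, 393, 6), (582, 395, 3),
   (583, 397, 1), (584, 397, 3), (585, 397, 5), (586, 397, 6), (587, 398, 2), (588, 398, 4),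
   (589, 398, 5), (590, 398, 6), (591, 399, 1), (592, 399, 6), (593, 400, 1), (594, 400, 5),
   (595, 401, 1), (596, 401, 4), (597, 401, 5), (598, 401, 6), (599, 402, 5), (600, 402, 6),
   (601, 403, 1), (602, 403, 6), (603, 404, 1), (604, 404, 5), (605, 405, 0), (606, 405, 6),
   (607, 406, 1), (608, 409, 0), (609, 409, 2), (610, 409, 5), (611, 410, 2), (612, 410, 6),
   (613, 413, 6), (614, 415, 2), (615, 415, 6), (616, 417, 2), (617, 418, 1), (618, 419, 1),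
   (619, 420, 1), (620, 422, 1), (621, 422, 3), (622, 422, 5), (623, 422, 6), (624, 423, 2),
   (625, 423, 4), (626, 423, 5), (627, 424, 1), (628, 424, 6), (629, 425, 1), (630, 425, 5)]

def chainYOrb0_7 : List (ℕ × ℕ × ℕ) :=
  [(631, 426, 5), (632, 426, 6), (633, 427, 1), (634, 428, 1), (635, 429, 0), (636, 429, 2),
   (637, 429, 6), (638, 430, 0), (639, 430, 5), (640, 431, 1), (641, 431, 2), (642, 432, 6),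
   (643, 436, 1), (644, 438, 1), (645, 440, 0), (646, 440, 2), (647, 440, 3), (648, 440, 5),
   (649, 440, 6), (650, 441, 2), (651, 441, 4), (652, 441, 5), (653, 441, 6), (654, 443, 1),
   (655, 444, 4), (656, 444, 5), (657, 445, 5), (658, 445, 6), (659, 446, 1), (660, 446, 6),
   (661, 447, 1), (662, 447, 5), (663, 448, 0), (664, 448, 2), (665, 448, 6), (666, 449, 1),
   (667, 452, 1), (668, 452, 6), (669, 453, 1), (670, 453, 5), (671, 454, 0), (672, 454, 2),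
   (673, 454, 6), (674, 455, 1), (675, 458, 1), (676, 458, 2), (677, 458, 6), (678, 459, 6),
   (679, 460, 1), (680, 460, 5), (681, 461, 0), (682, 461, 2), (683, 461, 5), (684, 462, 2),
   (685, 463, 5), (686, 465, 6), (687, 469, 1), (688, 472, 1), (689, 472, 6), (690, 473, 1),
   (691, 475, 5), (692, 476, 1), (693, 477, 0), (694, 477, 2), (695, 477, 6), (696, 478, 0),
   (697, 478, 2), (698, 478, 5), (699, 479, 1), (700, 479, 2), (701, 481, 0), (702, 481, 2),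
   (703, 481, 5), (704, 482, 0), (705, 482, 2), (706, 482, 5), (707, 483, 1), (708, 484, 5),
   (709, 485, 1), (710, 486, 3), (711, 486, 5), (712, 487, 5), (713, 488, 1), (714, 489, 2),
   (715, 490, 5), (716, 491, 1), (717, 492, 5), (718, 493, 0), (719, 493, 2), (720, 493, 6)]

def chainYOrb0_8 : List (ℕ × ℕ × ℕ) :=
  [(721, 494, 2), (722, 495, 3), (723, 495, 6), (724, 497, 1), (725, 497, 3), (726, 497, 5),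
   (727, 498, 2), (728, 498, 5), (729, 498, 6), (730, 499, 1), (731, 499, 6), (732, 500, 5),
   (733, 501, 1), (734, 501, 5), (735, 502, 1), (736, 503, 0), (737, 503, 6), (738, 504, 1),
   (739, 505, 2), (740, 506, 0), (741, 506, 2), (742, 506, 5), (743, 507, 1), (744, 508, 1),
   (745, 509, 1), (746, 510, 1), (747, 510, 3), (748, 510, 5), (749, 510, 6), (750, 512, 1),
   (751, 514, 0), (752, 514, 5), (753, 515, 1), (754, 517, 2), (755, 519, 0), (756, 519, 3),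
   (757, 519, 5), (758, 519, 6), (759, 520, 4), (760, 520, 5), (761, 520, 6), (762, 521, 1),
   (763, 521, 6), (764, 522, 1), (765, 522, 5), (766, 523, 2), (767, 526, 1), (768, 526, 5),
   (769, 526, 6), (770, 527, 5), (771, 528, 1), (772, 529, 5), (773, 530, 5), (774, 531, 1),
   (775, 531, 6), (776, 532, 5), (777, 533, 0), (778, 533, 2), (779, 533, 6), (780, 534, 1),
   (781, 535, 5), (782, 536, 1), (783, 537, 2), (784, 538, 3), (785, 539, 0), (786, 539, 5),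
   (787, 539, 6), (788, 540, 1), (789, 540, 3), (790, 540, 5), (791, 540, 6), (792, 541, 2),
   (793, 541, 5), (794, 541, 6), (795, 542, 1), (796, 542, 6), (797, 543, 5), (798, 544, 1),
   (799, 545, 0), (800, 545, 2), (801, 545, 6), (802, 546, 3), (803, 547, 2), (804, 548, 0),
   (805, 548, 2), (806, 548, 5), (807, 549, 1), (808, 551, 0), (809, 551, 2), (810, 551, 6)]

def chainYOrb0_9 : List (ℕ × ℕ × ℕ) :=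
  [(811, 553, 5), (812, 554, 1), (813, 555, 1), (814, 555, 2), (815, 555, 6), (816, 556, 3),
   (817, 556, 6), (818, 557, 5), (819, 558, 5), (820, 559, 1), (821, 559, 6), (822, 560, 0),
   (823, 560, 2), (824, 560, 6), (825, 561, 2), (826, 562, 1), (827, 562, 3), (828, 563, 2),
   (829, 563, 4), (830, 563, 6), (831, 564, 1), (832, 564, 5), (833, 566, 2), (834, 570, 1),
   (835, 570, 3), (836, 570, 5), (837, 570, 6), (838, 571, 2), (839, 571, 4), (840, 571, 5),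
   (841, 571, 6), (842, 572, 1), (843, 572, 6), (844, 573, 1), (845, 573, 5), (846, 574, 5),
   (847, 574, 6), (848, 575, 1), (849, 576, 1), (850, 577, 0), (851, 577, 2), (852, 577, 6),
   (853, 578, 0), (854, 578, 5), (855, 579, 2), (856, 580, 3), (857, 580, 6), (858, 582, 2),
   (859, 583, 0), (860, 583, 2), (861, 583, 5), (862, 584, 4), (863, 584, 5), (864, 587, 1),
   (865, 587, 4), (866, 587, 5), (867, 588, 5), (868, 588, 6), (869, 589, 1), (870, 590, 1),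
   (871, 590, 5), (872, 591, 0), (873, 591, 6), (874, 592, 1), (875, 595, 0), (876, 595, 4),
   (877, 595, 5), (878, 596, 3), (879, 596, 5), (880, 596, 6), (881, 597, 1), (882, 599, 1),
   (883, 599, 6), (884, 600, 1), (885, 600, 5), (886, 601, 0), (887, 601, 2), (888, 601, 6),
   (889, 602, 1), (890, 605, 1), (891, 605, 6), (892, 606, 1), (893, 606, 5), (894, 607, 0),
   (895, 607, 2), (896, 607, 5), (897, 608, 2), (898, 609, 3), (899, 609, 5), (900, 611, 6)]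

def chainYOrb0_10 : List (ℕ × ℕ × ℕ) :=
  [(901, 614, 1), (902, 617, 0), (903, 617, 2), (904, 617, 6), (905, 618, 0), (906, 618, 5),
   (907, 619, 0), (908, 619, 2), (909, 619, 5), (910, 620, 0), (911, 620, 3), (912, 621, 2),
   (913, 621, 4), (914, 621, 5), (915, 624, 4), (916, 624, 5), (917, 625, 5), (918, 626, 1),
   (919, 626, 6), (920, 627, 0), (921, 627, 2), (922, 627, 6), (923, 629, 5), (924, 630, 1),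
   (925, 631, 1), (926, 632, 1), (927, 633, 0), (928, 633, 2), (929, 633, 6), (930, 634, 0),
   (931, 634, 5), (932, 635, 1), (933, 635, 2), (934, 635, 6), (935, 636, 3), (936, 636, 6),
   (937, 637, 5), (938, 638, 5), (939, 640, 2), (940, 642, 1), (941, 645, 3), (942, 645, 5),
   (943, 646, 5), (944, 647, 2), (945, 647, 4), (946, 647, 5), (947, 647, 6), (948, 649, 5),
   (949, 650, 1), (950, 650, 4), (951, 650, 5), (952, 651, 5), (953, 651, 6), (954, 653, 1),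
   (955, 654, 5), (956, 655, 5), (957, 656, 1), (958, 656, 6), (959, 657, 1), (960, 657, 6),
   (961, 658, 1), (962, 658, 5), (963, 659, 0), (964, 659, 2), (965, 659, 6), (966, 660, 1),
   (967, 663, 2), (968, 664, 6), (969, 665, 1), (970, 666, 0), (971, 666, 2), (972, 666, 5),
   (973, 667, 0), (974, 667, 2), (975, 667, 6), (976, 668, 1), (977, 671, 1), (978, 671, 2),
   (979, 671, 6), (980, 673, 1), (981, 674, 0), (982, 674, 2), (983, 676, 1), (984, 676, 6),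
   (985, 678, 5), (986, 679, 0), (987, 679, 2), (988, 679, 5), (989, 681, 1), (990, 681, 2)]

def chainYOrb0_11 : List (ℕ × ℕ × ℕ) :=
  [(991, 681, 5), (992, 682, 3), (993, 682, 5), (994, 685, 1), (995, 688, 5), (996, 691, 1),
   (997, 692, 0), (998, 692, 2), (999, 693, 1), (1000, 693, 2), (1001, 694, 3), (1002, 696, 1),
   (1003, 696, 2), (1004, 696, 5), (1005, 697, 5), (1006, 698, 6), (1007, 699, 0), (1008, 699, 2),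
   (1009, 699, 5), (1010, 699, 6), (1011, 700, 1), (1012, 701, 2), (1013, 702, 3), (1014, 702, 5),
   (1015, 704, 2), (1016, 705, 1), (1017, 705, 5), (1018, 707, 0), (1019, 707, 5), (1020, 707, 6),
   (1021, 708, 1), (1022, 709, 0), (1023, 709, 2), (1024, 709, 6), (1025, 711, 1), (1026, 712, 1),
   (1027, 713, 0), (1028, 713, 2), (1029, 713, 6), (1030, 714, 3), (1031, 715, 1), (1032, 716, 0),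
   (1033, 716, 2), (1034, 716, 6), (1035, 717, 1), (1036, 718, 1), (1037, 718, 2), (1038, 718, 6),
   (1039, 719, 3), (1040, 719, 6), (1041, 720, 5), (1042, 722, 4), (1043, 722, 6), (1044, 723, 1),
   (1045, 724, 0), (1046, 724, 5), (1047, 725, 5), (1048, 726, 1), (1049, 728, 1), (1050, 728, 6),
   (1051, 729, 5), (1052, 730, 0), (1053, 730, 6), (1054, 731, 1), (1055, 732, 1), (1056, 733, 5),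
   (1057, 734, 1), (1058, 735, 0), (1059, 735, 2), (1060, 735, 6), (1061, 736, 1), (1062, 736, 6),
   (1063, 737, 1), (1064, 737, 5), (1065, 738, 0), (1066, 738, 2), (1067, 738, 5), (1068, 739, 3),
   (1069, 740, 2), (1070, 740, 5), (1071, 741, 5), (1072, 742, 1), (1073, 742, 6), (1074, 743, 2),
   (1075, 744, 0), (1076, 744, 2), (1077, 745, 0), (1078, 745, 2), (1079, 745, 6), (1080, 746, 0)]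

def chainYOrb0_12 : List (ℕ × ℕ × ℕ) :=
  [(1081, 746, 3), (1082, 746, 5), (1083, 747, 5), (1084, 747, 6), (1085, 748, 1), (1086, 751, 5),
   (1087, 755, 1), (1088, 755, 3), (1089, 755, 5), (1090, 755, 6), (1091, 756, 2), (1092, 756, 5),
   (1093, 757, 1), (1094, 758, 5), (1095, 759, 5), (1096, 760, 1), (1097, 760, 6), (1098, 761, 5),
   (1099, 762, 0), (1100, 762, 2), (1101, 762, 6), (1102, 763, 1), (1103, 764, 5), (1104, 765, 1),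
   (1105, 766, 3), (1106, 767, 5), (1107, 770, 1), (1108, 771, 0), (1109, 772, 1), (1110, 773, 1),
   (1111, 773, 6), (1112, 774, 0), (1113, 774, 2), (1114, 774, 6), (1115, 775, 1), (1116, 776, 1),
   (1117, 777, 1), (1118, 777, 2), (1119, 777, 6), (1120, 779, 1), (1121, 779, 5), (1122, 780, 0),
   (1123, 783, 1), (1124, 783, 3), (1125, 784, 4), (1126, 785, 5), (1127, 787, 5), (1128, 788, 5),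
   (1129, 789, 5), (1130, 790, 1), (1131, 792, 3), (1132, 793, 1), (1133, 794, 5), (1134, 795, 0),
   (1135, 795, 2), (1136, 795, 6), (1137, 797, 1), (1138, 798, 0), (1139, 798, 2), (1140, 798, 6),
   (1141, 799, 1), (1142, 799, 2), (1143, 799, 6), (1144, 800, 3), (1145, 800, 6), (1146, 801, 5),
   (1147, 802, 4), (1148, 803, 3), (1149, 804, 5), (1150, 805, 3), (1151, 805, 5), (1152, 806, 1),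
   (1153, 807, 0), (1154, 807, 2), (1155, 807, 6), (1156, 808, 2), (1157, 811, 1), (1158, 812, 0),
   (1159, 812, 2), (1160, 812, 6), (1161, 813, 0), (1162, 813, 2), (1163, 813, 6), (1164, 814, 1),
   (1165, 814, 3), (1166, 814, 6), (1167, 815, 1), (1168, 816, 4), (1169, 816, 6), (1170, 817, 1)]

def chainYOrb0_13 : List (ℕ × ℕ × ℕ) :=
  [(1171, 817, 5), (1172, 818, 1), (1173, 819, 1), (1174, 820, 0), (1175, 820, 2), (1176, 820, 6),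
   (1177, 821, 1), (1178, 822, 1), (1179, 822, 2), (1180, 822, 6), (1181, 823, 3), (1182, 823, 6),
   (1183, 825, 1), (1184, 825, 3), (1185, 826, 0), (1186, 826, 3), (1187, 826, 5), (1188, 826, 6),
   (1189, 827, 4), (1190, 828, 4), (1191, 829, 6), (1192, 830, 1), (1193, 830, 5), (1194, 831, 0),
   (1195, 831, 5), (1196, 832, 1), (1197, 835, 2), (1198, 835, 4), (1199, 835, 5), (1200, 836, 1),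
   (1201, 838, 5), (1202, 839, 5), (1203, 840, 1), (1204, 841, 5), (1205, 842, 0), (1206, 842, 2),
   (1207, 842, 6), (1208, 844, 5), (1209, 845, 1), (1210, 846, 1), (1211, 848, 0), (1212, 848, 2),
   (1213, 848, 6), (1214, 849, 0), (1215, 849, 5), (1216, 850, 1), (1217, 850, 2), (1218, 850, 6),
   (1219, 851, 3), (1220, 851, 6), (1221, 852, 5), (1222, 853, 5), (1223, 855, 1), (1224, 855, 3),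
   (1225, 856, 6), (1226, 857, 1), (1227, 858, 1), (1228, 858, 3), (1229, 862, 5), (1230, 867, 1),
   (1231, 868, 1), (1232, 868, 5), (1233, 869, 0), (1234, 874, 2), (1235, 876, 3), (1236, 878, 5),
   (1237, 878, 6), (1238, 882, 0), (1239, 882, 2), (1240, 882, 6), (1241, 883, 1), (1242, 886, 2),
   (1243, 886, 6), (1244, 887, 6), (1245, 888, 1), (1246, 888, 5), (1247, 889, 0), (1248, 889, 2),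
   (1249, 889, 5), (1250, 892, 0), (1251, 892, 2), (1252, 892, 5), (1253, 894, 1), (1254, 894, 2),
   (1255, 894, 5), (1256, 895, 3), (1257, 895, 5), (1258, 897, 1), (1259, 897, 3), (1260, 898, 5)]

def chainYOrb0_14 : List (ℕ × ℕ × ℕ) :=
  [(1261, 899, 1), (1262, 902, 1), (1263, 902, 2), (1264, 903, 3), (1265, 905, 1), (1266, 907, 2),
   (1267, 908, 5), (1268, 910, 3), (1269, 911, 2), (1270, 911, 4), (1271, 912, 4), (1272, 913, 5),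
   (1273, 915, 5), (1274, 916, 1), (1275, 917, 1), (1276, 917, 6), (1277, 918, 0), (1278, 924, 2),
   (1279, 925, 0), (1280, 925, 2), (1281, 925, 6), (1282, 926, 0), (1283, 926, 5), (1284, 927, 1),
   (1285, 932, 0), (1286, 932, 2), (1287, 932, 6), (1288, 933, 1), (1289, 933, 6), (1290, 938, 1),
   (1291, 939, 3), (1292, 941, 2), (1293, 941, 4), (1294, 941, 5), (1295, 944, 1), (1296, 944, 3),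
   (1297, 944, 5), (1298, 944, 6), (1299, 945, 5), (1300, 947, 5), (1301, 949, 4), (1302, 950, 5),
   (1303, 954, 5), (1304, 956, 1), (1305, 956, 6), (1306, 957, 2), (1307, 958, 1), (1308, 959, 0),
   (1309, 959, 2), (1310, 959, 6), (1311, 960, 1), (1312, 965, 1), (1313, 966, 0), (1314, 966, 2),
   (1315, 966, 5), (1316, 967, 1), (1317, 969, 2), (1318, 970, 1), (1319, 970, 2), (1320, 971, 3),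
   (1321, 971, 5), (1322, 973, 1), (1323, 973, 2), (1324, 973, 6), (1325, 974, 3), (1326, 975, 1),
   (1327, 976, 0), (1328, 976, 2), (1329, 977, 2), (1330, 981, 1), (1331, 981, 2), (1332, 983, 0),
   (1333, 983, 6), (1334, 984, 1), (1335, 986, 2), (1336, 987, 3), (1337, 987, 5), (1338, 989, 2),
   (1339, 990, 1), (1340, 990, 3), (1341, 990, 5), (1342, 992, 5), (1343, 993, 1), (1344, 994, 0),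
   (1345, 997, 1), (1346, 997, 2), (1347, 999, 2), (1348, 1000, 1), (1349, 1000, 3), (1350, 1001, 4)]

def chainYOrb0_15 : List (ℕ × ℕ × ℕ) :=
  [(1351, 1003, 5), (1352, 1005, 1), (1353, 1005, 6), (1354, 1007, 2), (1355, 1007, 5), (1356, 1008, 1),
   (1357, 1008, 3), (1358, 1008, 5), (1359, 1008, 6), (1360, 1011, 0), (1361, 1011, 5), (1362, 1011, 6),
   (1363, 1014, 1), (1364, 1016, 5), (1365, 1017, 1), (1366, 1018, 5), (1367, 1019, 6), (1368, 1020, 5),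
   (1369, 1022, 2), (1370, 1023, 3), (1371, 1023, 6), (1372, 1025, 0), (1373, 1025, 2), (1374, 1025, 6),
   (1375, 1026, 0), (1376, 1027, 1), (1377, 1027, 2), (1378, 1027, 6), (1379, 1028, 3), (1380, 1028, 6),
   (1381, 1029, 5), (1382, 1030, 4), (1383, 1031, 0), (1384, 1032, 1), (1385, 1032, 2), (1386, 1033, 3),
   (1387, 1035, 0), (1388, 1036, 0), (1389, 1036, 2), (1390, 1036, 5), (1391, 1036, 6), (1392, 1039, 2),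
   (1393, 1039, 4), (1394, 1040, 1), (1395, 1042, 6), (1396, 1043, 1), (1397, 1044, 0), (1398, 1045, 5),
   (1399, 1046, 1), (1400, 1046, 6), (1401, 1048, 2), (1402, 1048, 6), (1403, 1049, 0), (1404, 1049, 6),
   (1405, 1052, 1), (1406, 1053, 1), (1407, 1056, 1), (1408, 1057, 0), (1409, 1058, 2), (1410, 1058, 6),
   (1411, 1061, 0), (1412, 1061, 6), (1413, 1062, 1), (1414, 1063, 0), (1415, 1063, 2), (1416, 1065, 1),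
   (1417, 1065, 2), (1418, 1066, 3), (1419, 1066, 5), (1420, 1069, 5), (1421, 1071, 1), (1422, 1071, 6),
   (1423, 1072, 2), (1424, 1074, 3), (1425, 1075, 2), (1426, 1076, 3), (1427, 1077, 2), (1428, 1078, 3),
   (1429, 1078, 6), (1430, 1080, 5), (1431, 1081, 2), (1432, 1081, 5), (1433, 1083, 1), (1434, 1087, 5),
   (1435, 1088, 2), (1436, 1091, 5), (1437, 1092, 1), (1438, 1093, 0), (1439, 1094, 1), (1440, 1095, 1)]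

def chainYOrb0_16 : List (ℕ × ℕ × ℕ) :=
  [(1441, 1095, 6), (1442, 1096, 0), (1443, 1096, 2), (1444, 1096, 6), (1445, 1097, 1), (1446, 1098, 1),
   (1447, 1099, 1), (1448, 1099, 2), (1449, 1099, 6), (1450, 1101, 1), (1451, 1101, 5), (1452, 1102, 0),
   (1453, 1105, 4), (1454, 1107, 2), (1455, 1109, 0), (1456, 1109, 2), (1457, 1109, 6), (1458, 1110, 2),
   (1459, 1111, 1), (1460, 1114, 5), (1461, 1115, 0), (1462, 1116, 2), (1463, 1117, 2), (1464, 1118, 1),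
   (1465, 1120, 0), (1466, 1121, 1), (1467, 1123, 0), (1468, 1123, 3), (1469, 1123, 5), (1470, 1123, 6),
   (1471, 1124, 4), (1472, 1126, 1), (1473, 1127, 1), (1474, 1128, 1), (1475, 1129, 1), (1476, 1130, 0),
   (1477, 1130, 2), (1478, 1130, 6), (1479, 1131, 2), (1480, 1132, 6), (1481, 1134, 2), (1482, 1135, 3),
   (1483, 1137, 0), (1484, 1137, 2), (1485, 1138, 2), (1486, 1138, 6), (1487, 1141, 2), (1488, 1142, 1),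
   (1489, 1142, 3), (1490, 1142, 6), (1491, 1143, 1), (1492, 1144, 2), (1493, 1144, 4), (1494, 1144, 6),
   (1495, 1145, 5), (1496, 1148, 4), (1497, 1149, 1), (1498, 1151, 1), (1499, 1152, 0), (1500, 1152, 2),
   (1501, 1152, 6), (1502, 1153, 1), (1503, 1154, 3), (1504, 1155, 5), (1505, 1156, 1), (1506, 1157, 0),
   (1507, 1157, 2), (1508, 1158, 1), (1509, 1158, 2), (1510, 1159, 3), (1511, 1159, 6), (1512, 1161, 2),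
   (1513, 1162, 1), (1514, 1162, 6), (1515, 1163, 1), (1516, 1164, 6), (1517, 1166, 1), (1518, 1167, 0),
   (1519, 1168, 6), (1520, 1169, 1), (1521, 1170, 0), (1522, 1170, 5), (1523, 1173, 0), (1524, 1174, 1),
   (1525, 1174, 2), (1526, 1175, 6), (1527, 1178, 0), (1528, 1178, 2), (1529, 1178, 5), (1530, 1178, 6)]

def chainYOrb0_17 : List (ℕ × ℕ × ℕ) :=
  [(1531, 1179, 1), (1532, 1179, 3), (1533, 1179, 6), (1534, 1181, 6), (1535, 1185, 1), (1536, 1185, 3),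
   (1537, 1185, 5), (1538, 1185, 6), (1539, 1186, 2), (1540, 1186, 4), (1541, 1186, 5), (1542, 1186, 6),
   (1543, 1187, 6), (1544, 1188, 5), (1545, 1191, 1), (1546, 1191, 5), (1547, 1192, 0), (1548, 1192, 2),
   (1549, 1192, 5), (1550, 1194, 5), (1551, 1195, 1), (1552, 1195, 6), (1553, 1196, 0), (1554, 1198, 5),
   (1555, 1202, 1), (1556, 1203, 2), (1557, 1204, 1), (1558, 1206, 3), (1559, 1209, 2), (1560, 1210, 0),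
   (1561, 1210, 2), (1562, 1210, 6), (1563, 1211, 2), (1564, 1211, 6), (1565, 1212, 3), (1566, 1212, 6),
   (1567, 1217, 1), (1568, 1217, 3), (1569, 1217, 6), (1570, 1219, 2), (1571, 1219, 4), (1572, 1219, 6),
   (1573, 1225, 1), (1574, 1227, 0), (1575, 1227, 3), (1576, 1227, 5), (1577, 1227, 6), (1578, 1230, 0),
   (1579, 1235, 2), (1580, 1238, 2), (1581, 1238, 6), (1582, 1240, 1), (1583, 1241, 0), (1584, 1241, 2),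
   (1585, 1244, 1), (1586, 1245, 2), (1587, 1245, 5), (1588, 1247, 2), (1589, 1248, 3), (1590, 1250, 2),
   (1591, 1251, 3), (1592, 1257, 1), (1593, 1258, 6), (1594, 1260, 1), (1595, 1261, 0), (1596, 1262, 2),
   (1597, 1268, 2), (1598, 1269, 3), (1599, 1273, 1), (1600, 1275, 0), (1601, 1278, 3), (1602, 1279, 1),
   (1603, 1284, 0), (1604, 1284, 2), (1605, 1284, 6), (1606, 1288, 6), (1607, 1289, 1), (1608, 1292, 1),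
   (1609, 1292, 3), (1610, 1292, 5), (1611, 1295, 3), (1612, 1296, 5), (1613, 1298, 5), (1614, 1304, 2),
   (1615, 1305, 1), (1616, 1307, 0), (1617, 1307, 2), (1618, 1309, 3), (1619, 1311, 2), (1620, 1312, 2)]

def chainYOrb0_18 : List (ℕ × ℕ × ℕ) :=
  [(1621, 1313, 1), (1622, 1313, 2), (1623, 1314, 5), (1624, 1322, 2), (1625, 1327, 1), (1626, 1327, 2),
   (1627, 1330, 2), (1628, 1335, 3), (1629, 1337, 1), (1630, 1344, 1), (1631, 1345, 2), (1632, 1346, 1),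
   (1633, 1347, 1), (1634, 1347, 3), (1635, 1348, 3), (1636, 1348, 5), (1637, 1348, 6), (1638, 1349, 4),
   (1639, 1352, 0), (1640, 1352, 6), (1641, 1354, 1), (1642, 1354, 3), (1643, 1354, 5), (1644, 1356, 0),
   (1645, 1356, 3), (1646, 1356, 6), (1647, 1357, 2), (1648, 1357, 4), (1649, 1357, 5), (1650, 1357, 6),
   (1651, 1358, 1), (1652, 1359, 1), (1653, 1360, 6), (1654, 1362, 5), (1655, 1363, 0), (1656, 1363, 6),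
   (1657, 1366, 1), (1658, 1368, 1), (1659, 1369, 3), (1660, 1370, 2), (1661, 1370, 4), (1662, 1370, 6),
   (1663, 1372, 2), (1664, 1376, 2), (1665, 1379, 4), (1666, 1383, 1), (1667, 1384, 6), (1668, 1387, 1),
   (1669, 1388, 2), (1670, 1389, 3), (1671, 1389, 5), (1672, 1392, 4), (1673, 1394, 5), (1674, 1396, 2),
   (1675, 1399, 2), (1676, 1399, 6), (1677, 1413, 2), (1678, 1414, 2), (1679, 1415, 3), (1680, 1417, 1),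
   (1681, 1417, 3), (1682, 1418, 2), (1683, 1421, 2), (1684, 1423, 3), (1685, 1424, 2), (1686, 1424, 4),
   (1687, 1428, 4), (1688, 1431, 5), (1689, 1433, 2), (1690, 1436, 1), (1691, 1437, 2), (1692, 1439, 2),
   (1693, 1439, 6), (1694, 1440, 2), (1695, 1442, 2), (1696, 1443, 6), (1697, 1444, 1), (1698, 1444, 5),
   (1699, 1445, 2), (1700, 1446, 2), (1701, 1450, 0), (1702, 1466, 2), (1703, 1467, 1), (1704, 1467, 6),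
   (1705, 1468, 4), (1706, 1469, 6), (1707, 1470, 5), (1708, 1473, 2), (1709, 1475, 6), (1710, 1483, 2)]

def chainYOrb0_19 : List (ℕ × ℕ × ℕ) :=
  [(1711, 1487, 1), (1712, 1487, 3), (1713, 1492, 4), (1714, 1493, 6), (1715, 1497, 6), (1716, 1500, 3),
   (1717, 1507, 3), (1718, 1509, 3), (1719, 1513, 6), (1720, 1516, 1), (1721, 1517, 0), (1722, 1523, 1),
   (1723, 1525, 1), (1724, 1531, 5), (1725, 1531, 6), (1726, 1532, 6), (1727, 1536, 2), (1728, 1536, 5),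
   (1729, 1536, 6), (1730, 1538, 1), (1731, 1539, 6), (1732, 1540, 6), (1733, 1541, 6), (1734, 1542, 5),
   (1735, 1551, 6), (1736, 1557, 2), (1737, 1561, 6), (1738, 1563, 6), (1739, 1565, 2), (1740, 1567, 3),
   (1741, 1568, 2), (1742, 1574, 3), (1743, 1574, 6), (1744, 1577, 5), (1745, 1582, 5), (1746, 1583, 2),
   (1747, 1584, 3), (1748, 1586, 5), (1749, 1596, 3), (1750, 1597, 1), (1751, 1602, 2), (1752, 1603, 2),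
   (1753, 1604, 6), (1754, 1608, 3), (1755, 1613, 1), (1756, 1615, 2), (1757, 1616, 2), (1758, 1621, 2),
   (1759, 1622, 1), (1760, 1625, 2), (1761, 1630, 0), (1762, 1630, 2), (1763, 1630, 6), (1764, 1635, 6),
   (1765, 1642, 2), (1766, 1642, 4), (1767, 1642, 5), (1768, 1647, 1), (1769, 1647, 3), (1770, 1648, 6),
   (1771, 1649, 1), (1772, 1655, 6), (1773, 1688, 1), (1774, 1690, 2), (1775, 1696, 1), (1776, 1696, 5),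
   (1777, 1697, 2), (1778, 1729, 1), (1779, 1752, 1), (1780, 1758, 1), (1781, 1775, 2)]

def chainYOrb0 : List (ℕ × ℕ × ℕ) :=
  chainYOrb0_0 ++ chainYOrb0_1 ++ chainYOrb0_2 ++ chainYOrb0_3 ++ chainYOrb0_4 ++ chainYOrb0_5 ++ chainYOrb0_6 ++ chainYOrb0_7 ++ chainYOrb0_8 ++ chainYOrb0_9 ++ chainYOrb0_10 ++ chainYOrb0_11 ++ chainYOrb0_12 ++ chainYOrb0_13 ++ chainYOrb0_14 ++ chainYOrb0_15 ++ chainYOrb0_16 ++ chainYOrb0_17 ++ chainYOrb0_18 ++ chainYOrb0_19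

def chainYIdx0_0 : List (ℕ × List ℕ) :=
  [(2, []), (3, [0]), (1, [1]), (4, [2]),
   (5, [5]), (6, [0,1]), (7, [0,2]), (0, [1,6]),
   (8, [2,3]), (9, [2,5]), (10, [0,1,2]), (11, [0,2,1]),
   (12, [0,2,3]), (13, [2,3,2]), (14, [2,3,4]), (15, [2,3,5]),
   (16, [2,5,1]), (17, [0,1,2,1]), (18, [0,1,2,3]), (19, [0,2,1,0]),
   (20, [0,2,1,3]), (21, [0,2,1,5]), (22, [0,2,1,6]), (23, [0,2,3,2]),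
   (24, [0,2,3,4]), (25, [2,3,2,1]), (26, [2,3,2,4]), (27, [2,3,2,5]),
   (28, [2,3,4,5]), (29, [2,3,5,1]), (30, [2,5,1,6]), (31, [0,1,2,1,3]),
   (32, [0,1,2,1,5]), (33, [0,1,2,3,2]), (34, [0,1,2,3,4]), (35, [0,2,1,0,3]),
   (36, [0,2,1,0,5]), (37, [0,2,1,3,2]), (38, [0,2,1,3,4]), (39, [0,2,1,3,5]),
   (40, [0,2,1,3,6]), (41, [0,2,1,6,5]), (42, [0,2,3,2,1]), (43, [0,2,3,2,4]),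
   (44, [2,3,2,1,0]), (45, [2,3,2,1,4]), (46, [2,3,2,1,5]), (47, [2,3,2,1,6]),
   (48, [2,3,2,4,3]), (49, [2,3,2,4,5]), (50, [2,3,2,5,1]), (51, [2,3,4,5,1]),
   (52, [2,3,5,1,2]), (53, [0,1,2,1,3,2]), (54, [0,1,2,1,3,4]), (55, [0,1,2,1,3,5]),
   (56, [0,1,2,3,2,1]), (57, [0,1,2,3,2,4]), (58, [0,2,1,0,3,4]), (59, [0,2,1,0,3,5]),
   (60, [0,2,1,3,2,1]), (61, [0,2,1,3,2,3]), (62, [0,2,1,3,2,4]), (63, [0,2,1,3,2,5]),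
   (64, [0,2,1,3,2,6]), (65, [0,2,1,3,4,5]), (66, [0,2,1,3,4,6]), (67, [0,2,1,3,6,5]),
   (68, [0,2,1,6,5,1]), (69, [0,2,3,2,1,0]), (70, [0,2,3,2,1,4]), (71, [0,2,3,2,1,5]),
   (72, [0,2,3,2,1,6]), (73, [0,2,3,2,4,3]), (74, [2,3,2,1,0,4]), (75, [2,3,2,1,0,5]),
   (76, [2,3,2,1,0,6]), (77, [2,3,2,1,4,3]), (78, [2,3,2,1,4,5]), (79, [2,3,2,1,4,6]),
   (80, [2,3,2,1,5,1]), (81, [2,3,2,1,5,6]), (82, [2,3,2,1,6,5]), (83, [2,3,2,4,3,2]),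
   (84, [2,3,2,4,3,5]), (85, [2,3,2,4,5,1]), (86, [2,3,4,5,1,2]), (87, [0,1,2,1,3,2,1]),
   (88, [0,1,2,1,3,2,4]), (89, [0,1,2,1,3,2,5])]

def chainYIdx0_1 : List (ℕ × List ℕ) :=
  [(90, [0,1,2,1,3,4,5]), (91, [0,1,2,3,2,1,4]), (92, [0,1,2,3,2,1,5]), (93, [0,1,2,3,2,4,3]),
   (94, [0,2,1,0,3,4,5]), (95, [0,2,1,3,2,1,0]), (96, [0,2,1,3,2,1,3]), (97, [0,2,1,3,2,1,4]),
   (98, [0,2,1,3,2,1,5]), (99, [0,2,1,3,2,1,6]), (100, [0,2,1,3,2,3,2]), (101, [0,2,1,3,2,3,4]),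
   (102, [0,2,1,3,2,3,5]), (103, [0,2,1,3,2,4,3]), (104, [0,2,1,3,2,4,5]), (105, [0,2,1,3,2,4,6]),
   (106, [0,2,1,3,2,5,1]), (107, [0,2,1,3,2,6,5]), (108, [0,2,1,3,4,6,5]), (109, [0,2,1,3,6,5,1]),
   (110, [0,2,3,2,1,0,4]), (111, [0,2,3,2,1,0,5]), (112, [0,2,3,2,1,0,6]), (113, [0,2,3,2,1,4,3]),
   (114, [0,2,3,2,1,4,5]), (115, [0,2,3,2,1,4,6]), (116, [0,2,3,2,1,5,6]), (117, [0,2,3,2,1,6,5]),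
   (118, [0,2,3,2,4,3,2]), (119, [2,3,2,1,0,4,3]), (120, [2,3,2,1,0,4,5]), (121, [2,3,2,1,0,4,6]),
   (122, [2,3,2,1,0,5,1]), (123, [2,3,2,1,4,3,2]), (124, [2,3,2,1,4,3,5]), (125, [2,3,2,1,4,3,6]),
   (126, [2,3,2,1,4,5,1]), (127, [2,3,2,1,4,5,6]), (128, [2,3,2,1,4,6,5]), (129, [2,3,2,1,5,6,1]),
   (130, [2,3,2,1,6,5,1]), (131, [2,3,2,4,3,2,1]), (132, [2,3,2,4,3,2,5]), (133, [2,3,2,4,3,5,1]),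
   (134, [0,1,2,1,3,2,1,4]), (135, [0,1,2,1,3,2,1,5]), (136, [0,1,2,1,3,2,4,3]), (137, [0,1,2,1,3,2,4,5]),
   (138, [0,1,2,1,3,2,5,1]), (139, [0,1,2,3,2,1,4,3]), (140, [0,1,2,3,2,1,4,5]), (141, [0,1,2,3,2,1,5,6]),
   (142, [0,1,2,3,2,4,3,2]), (143, [0,2,1,3,2,1,0,1]), (144, [0,2,1,3,2,1,0,4]), (145, [0,2,1,3,2,1,0,5]),
   (146, [0,2,1,3,2,1,0,6]), (147, [0,2,1,3,2,1,3,4]), (148, [0,2,1,3,2,1,3,5]), (149, [0,2,1,3,2,1,3,6]),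
   (150, [0,2,1,3,2,1,4,3]), (151, [0,2,1,3,2,1,4,5]), (152, [0,2,1,3,2,1,4,6]), (153, [0,2,1,3,2,1,5,1]),
   (154, [0,2,1,3,2,1,5,6]), (155, [0,2,1,3,2,1,6,5]), (156, [0,2,1,3,2,3,2,4]), (157, [0,2,1,3,2,3,4,3]),
   (158, [0,2,1,3,2,3,4,5]), (159, [0,2,1,3,2,3,5,1]), (160, [0,2,1,3,2,4,3,2]), (161, [0,2,1,3,2,4,3,5]),
   (162, [0,2,1,3,2,4,3,6]), (163, [0,2,1,3,2,4,5,1]), (164, [0,2,1,3,2,4,6,5]), (165, [0,2,1,3,2,5,1,0]),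
   (166, [0,2,1,3,2,5,1,6]), (167, [0,2,1,3,2,6,5,1]), (168, [0,2,1,3,4,6,5,1]), (169, [0,2,1,3,6,5,1,2]),
   (170, [0,2,3,2,1,0,4,3]), (171, [0,2,3,2,1,0,4,5]), (172, [0,2,3,2,1,0,4,6]), (173, [0,2,3,2,1,0,5,1]),
   (174, [0,2,3,2,1,4,3,2]), (175, [0,2,3,2,1,4,3,5]), (176, [0,2,3,2,1,4,3,6]), (177, [0,2,3,2,1,4,5,6]),
   (178, [0,2,3,2,1,4,6,5]), (179, [0,2,3,2,1,5,6,1])]

def chainYIdx0_2 : List (ℕ × List ℕ) :=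
  [(180, [0,2,3,2,1,6,5,1]), (181, [0,2,3,2,4,3,2,1]), (182, [2,3,2,1,0,4,3,2]), (183, [2,3,2,1,0,4,3,5]),
   (184, [2,3,2,1,0,4,3,6]), (185, [2,3,2,1,0,4,5,1]), (186, [2,3,2,1,0,5,1,0]), (187, [2,3,2,1,0,5,1,2]),
   (188, [2,3,2,1,0,5,1,6]), (189, [2,3,2,1,4,3,2,1]), (190, [2,3,2,1,4,3,2,3]), (191, [2,3,2,1,4,3,2,5]),
   (192, [2,3,2,1,4,3,2,6]), (193, [2,3,2,1,4,3,5,1]), (194, [2,3,2,1,4,3,5,6]), (195, [2,3,2,1,4,3,6,5]),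
   (196, [2,3,2,1,4,5,6,1]), (197, [2,3,2,1,4,6,5,1]), (198, [2,3,2,1,5,6,1,0]), (199, [2,3,2,1,5,6,1,2]),
   (200, [2,3,2,1,5,6,1,5]), (201, [2,3,2,1,6,5,1,2]), (202, [2,3,2,1,6,5,1,6]), (203, [2,3,2,4,3,2,1,0]),
   (204, [2,3,2,4,3,2,1,5]), (205, [2,3,2,4,3,2,1,6]), (206, [2,3,2,4,3,2,5,1]), (207, [2,3,2,4,3,5,1,2]),
   (208, [0,1,2,1,3,2,1,4,3]), (209, [0,1,2,1,3,2,1,4,5]), (210, [0,1,2,1,3,2,1,5,1]), (211, [0,1,2,1,3,2,4,3,2]),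
   (212, [0,1,2,1,3,2,4,3,5]), (213, [0,1,2,1,3,2,4,5,1]), (214, [0,1,2,1,3,2,5,1,0]), (215, [0,1,2,1,3,2,5,1,6]),
   (216, [0,1,2,3,2,1,4,3,2]), (217, [0,1,2,3,2,1,4,3,5]), (218, [0,1,2,3,2,1,4,5,6]), (219, [0,1,2,3,2,1,5,6,1]),
   (220, [0,1,2,3,2,4,3,2,1]), (221, [0,2,1,3,2,1,0,1,4]), (222, [0,2,1,3,2,1,0,1,5]), (223, [0,2,1,3,2,1,0,1,6]),
   (224, [0,2,1,3,2,1,0,4,3]), (225, [0,2,1,3,2,1,0,4,5]), (226, [0,2,1,3,2,1,0,4,6]), (227, [0,2,1,3,2,1,0,5,1]),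
   (228, [0,2,1,3,2,1,0,6,1]), (229, [0,2,1,3,2,1,3,4,3]), (230, [0,2,1,3,2,1,3,4,5]), (231, [0,2,1,3,2,1,3,4,6]),
   (232, [0,2,1,3,2,1,3,5,1]), (233, [0,2,1,3,2,1,3,5,6]), (234, [0,2,1,3,2,1,3,6,5]), (235, [0,2,1,3,2,1,4,3,2]),
   (236, [0,2,1,3,2,1,4,3,5]), (237, [0,2,1,3,2,1,4,3,6]), (238, [0,2,1,3,2,1,4,5,1]), (239, [0,2,1,3,2,1,4,5,6]),
   (240, [0,2,1,3,2,1,4,6,5]), (241, [0,2,1,3,2,1,5,1,0]), (242, [0,2,1,3,2,3,2,4,3]), (243, [0,2,1,3,2,3,4,3,2]),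
   (244, [0,2,1,3,2,3,4,3,5]), (245, [0,2,1,3,2,3,4,5,1]), (246, [0,2,1,3,2,3,5,1,2]), (247, [0,2,1,3,2,4,3,2,1]),
   (248, [0,2,1,3,2,4,3,2,5]), (249, [0,2,1,3,2,4,3,2,6]), (250, [0,2,1,3,2,4,3,5,1]), (251, [0,2,1,3,2,4,3,6,5]),
   (252, [0,2,1,3,2,4,5,1,0]), (253, [0,2,1,3,2,4,5,1,6]), (254, [0,2,1,3,2,4,6,5,1]), (255, [0,2,1,3,2,5,1,0,1]),
   (256, [0,2,1,3,2,5,1,6,5]), (257, [0,2,1,3,2,6,5,1,0]), (258, [0,2,1,3,2,6,5,1,2]), (259, [0,2,1,3,4,6,5,1,2]),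
   (260, [0,2,1,3,6,5,1,2,3]), (261, [0,2,3,2,1,0,4,3,2]), (262, [0,2,3,2,1,0,4,3,5]), (263, [0,2,3,2,1,0,4,3,6]),
   (264, [0,2,3,2,1,0,4,5,1]), (265, [0,2,3,2,1,0,5,1,0]), (266, [0,2,3,2,1,0,5,1,2]), (267, [0,2,3,2,1,0,5,1,6]),
   (268, [0,2,3,2,1,4,3,2,1]), (269, [0,2,3,2,1,4,3,2,3])]

def chainYIdx0_3 : List (ℕ × List ℕ) :=
  [(270, [0,2,3,2,1,4,3,2,5]), (271, [0,2,3,2,1,4,3,2,6]), (272, [0,2,3,2,1,4,3,5,6]), (273, [0,2,3,2,1,4,3,6,5]),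
   (274, [0,2,3,2,1,4,5,6,1]), (275, [0,2,3,2,1,4,6,5,1]), (276, [0,2,3,2,1,5,6,1,0]), (277, [0,2,3,2,1,5,6,1,2]),
   (278, [0,2,3,2,1,6,5,1,2]), (279, [0,2,3,2,1,6,5,1,6]), (280, [0,2,3,2,4,3,2,1,0]), (281, [0,2,3,2,4,3,2,1,5]),
   (282, [0,2,3,2,4,3,2,1,6]), (283, [2,3,2,1,0,4,3,2,1]), (284, [2,3,2,1,0,4,3,2,3]), (285, [2,3,2,1,0,4,3,2,5]),
   (286, [2,3,2,1,0,4,3,2,6]), (287, [2,3,2,1,0,4,3,5,1]), (288, [2,3,2,1,0,4,5,1,0]), (289, [2,3,2,1,0,4,5,1,2]),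
   (290, [2,3,2,1,0,4,5,1,6]), (291, [2,3,2,1,0,5,1,0,1]), (292, [2,3,2,1,0,5,1,0,2]), (293, [2,3,2,1,0,5,1,2,3]),
   (294, [2,3,2,1,0,5,1,2,6]), (295, [2,3,2,1,4,3,2,1,0]), (296, [2,3,2,1,4,3,2,1,3]), (297, [2,3,2,1,4,3,2,1,5]),
   (298, [2,3,2,1,4,3,2,1,6]), (299, [2,3,2,1,4,3,2,3,4]), (300, [2,3,2,1,4,3,2,3,5]), (301, [2,3,2,1,4,3,2,3,6]),
   (302, [2,3,2,1,4,3,2,5,1]), (303, [2,3,2,1,4,3,2,5,6]), (304, [2,3,2,1,4,3,2,6,1]), (305, [2,3,2,1,4,3,2,6,5]),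
   (306, [2,3,2,1,4,3,5,1,2]), (307, [2,3,2,1,4,3,5,6,1]), (308, [2,3,2,1,4,3,6,5,1]), (309, [2,3,2,1,4,5,6,1,0]),
   (310, [2,3,2,1,4,5,6,1,2]), (311, [2,3,2,1,4,5,6,1,5]), (312, [2,3,2,1,4,6,5,1,2]), (313, [2,3,2,1,4,6,5,1,6]),
   (314, [2,3,2,1,5,6,1,0,2]), (315, [2,3,2,1,5,6,1,2,3]), (316, [2,3,2,1,5,6,1,2,5]), (317, [2,3,2,1,6,5,1,2,3]),
   (318, [2,3,2,1,6,5,1,2,6]), (319, [2,3,2,4,3,2,1,0,1]), (320, [2,3,2,4,3,2,1,0,5]), (321, [2,3,2,4,3,2,1,0,6]),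
   (322, [2,3,2,4,3,2,1,5,1]), (323, [2,3,2,4,3,2,1,5,6]), (324, [2,3,2,4,3,2,1,6,5]), (325, [2,3,2,4,3,2,5,1,0]),
   (326, [2,3,2,4,3,2,5,1,2]), (327, [2,3,2,4,3,2,5,1,6]), (328, [0,1,2,1,3,2,1,4,3,2]), (329, [0,1,2,1,3,2,1,4,3,5]),
   (330, [0,1,2,1,3,2,1,4,5,1]), (331, [0,1,2,1,3,2,4,3,2,1]), (332, [0,1,2,1,3,2,4,3,2,5]), (333, [0,1,2,1,3,2,4,3,5,1]),
   (334, [0,1,2,1,3,2,4,5,1,0]), (335, [0,1,2,1,3,2,4,5,1,6]), (336, [0,1,2,3,2,1,4,3,2,1]), (337, [0,1,2,3,2,1,4,3,2,3]),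
   (338, [0,1,2,3,2,1,4,3,2,5]), (339, [0,1,2,3,2,1,4,3,5,6]), (340, [0,1,2,3,2,1,4,5,6,1]), (341, [0,1,2,3,2,4,3,2,1,0]),
   (342, [0,1,2,3,2,4,3,2,1,5]), (343, [0,1,2,3,2,4,3,2,1,6]), (344, [0,2,1,3,2,1,0,1,4,3]), (345, [0,2,1,3,2,1,0,1,4,5]),
   (346, [0,2,1,3,2,1,0,1,4,6]), (347, [0,2,1,3,2,1,0,1,6,1]), (348, [0,2,1,3,2,1,0,4,3,2]), (349, [0,2,1,3,2,1,0,4,3,5]),
   (350, [0,2,1,3,2,1,0,4,3,6]), (351, [0,2,1,3,2,1,0,4,5,1]), (352, [0,2,1,3,2,1,0,4,6,1]), (353, [0,2,1,3,2,1,3,4,3,2]),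
   (354, [0,2,1,3,2,1,3,4,3,5]), (355, [0,2,1,3,2,1,3,4,3,6]), (356, [0,2,1,3,2,1,3,4,5,1]), (357, [0,2,1,3,2,1,3,4,5,6]),
   (358, [0,2,1,3,2,1,3,4,6,5]), (359, [0,2,1,3,2,1,4,3,2,1])]

def chainYIdx0_4 : List (ℕ × List ℕ) :=
  [(360, [0,2,1,3,2,1,4,3,2,3]), (361, [0,2,1,3,2,1,4,3,2,5]), (362, [0,2,1,3,2,1,4,3,2,6]), (363, [0,2,1,3,2,1,4,3,5,1]),
   (364, [0,2,1,3,2,1,4,3,5,6]), (365, [0,2,1,3,2,1,4,3,6,5]), (366, [0,2,1,3,2,1,4,5,1,0]), (367, [0,2,1,3,2,3,2,4,3,2]),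
   (368, [0,2,1,3,2,3,4,3,2,1]), (369, [0,2,1,3,2,3,4,3,2,3]), (370, [0,2,1,3,2,3,4,3,2,5]), (371, [0,2,1,3,2,3,4,3,5,1]),
   (372, [0,2,1,3,2,3,4,5,1,2]), (373, [0,2,1,3,2,4,3,2,1,0]), (374, [0,2,1,3,2,4,3,2,1,5]), (375, [0,2,1,3,2,4,3,2,1,6]),
   (376, [0,2,1,3,2,4,3,2,5,1]), (377, [0,2,1,3,2,4,3,2,6,1]), (378, [0,2,1,3,2,4,3,2,6,5]), (379, [0,2,1,3,2,4,3,5,1,0]),
   (380, [0,2,1,3,2,4,3,5,1,2]), (381, [0,2,1,3,2,4,3,5,1,6]), (382, [0,2,1,3,2,4,3,6,5,1]), (383, [0,2,1,3,2,4,5,1,0,1]),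
   (384, [0,2,1,3,2,4,5,1,6,5]), (385, [0,2,1,3,2,4,6,5,1,0]), (386, [0,2,1,3,2,4,6,5,1,2]), (387, [0,2,1,3,2,6,5,1,0,2]),
   (388, [0,2,1,3,2,6,5,1,2,3]), (389, [0,2,3,2,1,0,4,3,2,1]), (390, [0,2,3,2,1,0,4,3,2,3]), (391, [0,2,3,2,1,0,4,3,2,5]),
   (392, [0,2,3,2,1,0,4,3,2,6]), (393, [0,2,3,2,1,0,4,3,5,1]), (394, [0,2,3,2,1,0,4,5,1,0]), (395, [0,2,3,2,1,0,4,5,1,2]),
   (396, [0,2,3,2,1,0,4,5,1,6]), (397, [0,2,3,2,1,4,3,2,1,0]), (398, [0,2,3,2,1,4,3,2,1,3]), (399, [0,2,3,2,1,4,3,2,1,5]),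
   (400, [0,2,3,2,1,4,3,2,1,6]), (401, [0,2,3,2,1,4,3,2,3,2]), (402, [0,2,3,2,1,4,3,2,3,4]), (403, [0,2,3,2,1,4,3,2,3,5]),
   (404, [0,2,3,2,1,4,3,2,3,6]), (405, [0,2,3,2,1,4,3,2,5,1]), (406, [0,2,3,2,1,4,3,2,5,6]), (407, [0,2,3,2,1,4,3,2,6,1]),
   (408, [0,2,3,2,1,4,3,2,6,5]), (409, [0,2,3,2,1,4,3,5,6,1]), (410, [0,2,3,2,1,4,3,6,5,1]), (411, [0,2,3,2,1,4,5,6,1,0]),
   (412, [0,2,3,2,1,4,5,6,1,2]), (413, [0,2,3,2,1,4,6,5,1,2]), (414, [0,2,3,2,1,4,6,5,1,6]), (415, [0,2,3,2,1,6,5,1,2,3]),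
   (416, [0,2,3,2,1,6,5,1,2,6]), (417, [0,2,3,2,4,3,2,1,0,1]), (418, [0,2,3,2,4,3,2,1,0,5]), (419, [0,2,3,2,4,3,2,1,0,6]),
   (420, [0,2,3,2,4,3,2,1,5,6]), (421, [0,2,3,2,4,3,2,1,6,5]), (422, [2,3,2,1,0,4,3,2,1,0]), (423, [2,3,2,1,0,4,3,2,1,3]),
   (424, [2,3,2,1,0,4,3,2,1,5]), (425, [2,3,2,1,0,4,3,2,1,6]), (426, [2,3,2,1,0,4,3,2,3,4]), (427, [2,3,2,1,0,4,3,2,3,5]),
   (428, [2,3,2,1,0,4,3,2,3,6]), (429, [2,3,2,1,0,4,3,2,5,1]), (430, [2,3,2,1,0,4,3,2,6,1]), (431, [2,3,2,1,0,4,3,5,1,0]),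
   (432, [2,3,2,1,0,4,3,5,1,2]), (433, [2,3,2,1,0,4,3,5,1,6]), (434, [2,3,2,1,0,4,5,1,0,1]), (435, [2,3,2,1,0,4,5,1,0,2]),
   (436, [2,3,2,1,0,4,5,1,2,6]), (437, [2,3,2,1,0,5,1,0,2,3]), (438, [2,3,2,1,0,5,1,2,3,6]), (439, [2,3,2,1,0,5,1,2,6,1]),
   (440, [2,3,2,1,4,3,2,1,0,1]), (441, [2,3,2,1,4,3,2,1,0,3]), (442, [2,3,2,1,4,3,2,1,0,5]), (443, [2,3,2,1,4,3,2,1,0,6]),
   (444, [2,3,2,1,4,3,2,1,3,2]), (445, [2,3,2,1,4,3,2,1,3,4]), (446, [2,3,2,1,4,3,2,1,3,5]), (447, [2,3,2,1,4,3,2,1,3,6]),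
   (448, [2,3,2,1,4,3,2,1,5,1]), (449, [2,3,2,1,4,3,2,1,5,6])]

def chainYIdx0_5 : List (ℕ × List ℕ) :=
  [(450, [2,3,2,1,4,3,2,1,6,1]), (451, [2,3,2,1,4,3,2,1,6,5]), (452, [2,3,2,1,4,3,2,3,4,5]), (453, [2,3,2,1,4,3,2,3,4,6]),
   (454, [2,3,2,1,4,3,2,3,5,1]), (455, [2,3,2,1,4,3,2,3,5,6]), (456, [2,3,2,1,4,3,2,3,6,1]), (457, [2,3,2,1,4,3,2,3,6,5]),
   (458, [2,3,2,1,4,3,2,5,1,0]), (459, [2,3,2,1,4,3,2,5,1,2]), (460, [2,3,2,1,4,3,2,5,1,6]), (461, [2,3,2,1,4,3,2,5,6,1]),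
   (462, [2,3,2,1,4,3,5,6,1,0]), (463, [2,3,2,1,4,3,5,6,1,2]), (464, [2,3,2,1,4,3,5,6,1,5]), (465, [2,3,2,1,4,3,6,5,1,2]),
   (466, [2,3,2,1,4,3,6,5,1,6]), (467, [2,3,2,1,4,5,6,1,0,2]), (468, [2,3,2,1,4,5,6,1,2,5]), (469, [2,3,2,1,4,6,5,1,2,6]),
   (470, [2,3,2,1,5,6,1,0,2,3]), (471, [2,3,2,1,5,6,1,2,3,5]), (472, [2,3,2,1,6,5,1,2,3,2]), (473, [2,3,2,1,6,5,1,2,3,6]),
   (474, [2,3,2,1,6,5,1,2,6,1]), (475, [2,3,2,4,3,2,1,0,1,2]), (476, [2,3,2,4,3,2,1,0,1,5]), (477, [2,3,2,4,3,2,1,0,5,1]),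
   (478, [2,3,2,4,3,2,1,0,6,1]), (479, [2,3,2,4,3,2,1,5,1,0]), (480, [2,3,2,4,3,2,1,5,1,2]), (481, [2,3,2,4,3,2,1,5,6,1]),
   (482, [2,3,2,4,3,2,5,1,0,1]), (483, [2,3,2,4,3,2,5,1,0,2]), (484, [2,3,2,4,3,2,5,1,2,6]), (485, [2,3,2,4,3,2,5,1,6,5]),
   (486, [0,1,2,1,3,2,1,4,3,2,1]), (487, [0,1,2,1,3,2,1,4,3,2,3]), (488, [0,1,2,1,3,2,1,4,3,2,5]), (489, [0,1,2,1,3,2,1,4,3,5,1]),
   (490, [0,1,2,1,3,2,4,3,2,1,0]), (491, [0,1,2,1,3,2,4,3,2,1,5]), (492, [0,1,2,1,3,2,4,3,2,1,6]), (493, [0,1,2,1,3,2,4,3,2,5,1]),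
   (494, [0,1,2,1,3,2,4,3,5,1,0]), (495, [0,1,2,1,3,2,4,3,5,1,2]), (496, [0,1,2,1,3,2,4,3,5,1,6]), (497, [0,1,2,3,2,1,4,3,2,1,0]),
   (498, [0,1,2,3,2,1,4,3,2,1,3]), (499, [0,1,2,3,2,1,4,3,2,1,5]), (500, [0,1,2,3,2,1,4,3,2,1,6]), (501, [0,1,2,3,2,1,4,3,2,3,2]),
   (502, [0,1,2,3,2,1,4,3,2,3,5]), (503, [0,1,2,3,2,1,4,3,2,5,1]), (504, [0,1,2,3,2,1,4,3,2,5,6]), (505, [0,1,2,3,2,1,4,3,5,6,1]),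
   (506, [0,1,2,3,2,4,3,2,1,0,1]), (507, [0,1,2,3,2,4,3,2,1,0,5]), (508, [0,1,2,3,2,4,3,2,1,5,6]), (509, [0,1,2,3,2,4,3,2,1,6,5]),
   (510, [0,2,1,3,2,1,0,1,4,3,2]), (511, [0,2,1,3,2,1,0,1,4,3,5]), (512, [0,2,1,3,2,1,0,1,4,3,6]), (513, [0,2,1,3,2,1,0,1,4,6,1]),
   (514, [0,2,1,3,2,1,0,4,3,2,1]), (515, [0,2,1,3,2,1,0,4,3,2,5]), (516, [0,2,1,3,2,1,0,4,3,2,6]), (517, [0,2,1,3,2,1,0,4,3,5,1]),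
   (518, [0,2,1,3,2,1,0,4,3,6,1]), (519, [0,2,1,3,2,1,3,4,3,2,1]), (520, [0,2,1,3,2,1,3,4,3,2,3]), (521, [0,2,1,3,2,1,3,4,3,2,5]),
   (522, [0,2,1,3,2,1,3,4,3,2,6]), (523, [0,2,1,3,2,1,3,4,3,5,1]), (524, [0,2,1,3,2,1,3,4,3,5,6]), (525, [0,2,1,3,2,1,3,4,3,6,5]),
   (526, [0,2,1,3,2,1,4,3,2,1,0]), (527, [0,2,1,3,2,1,4,3,2,1,3]), (528, [0,2,1,3,2,1,4,3,2,1,5]), (529, [0,2,1,3,2,1,4,3,2,1,6]),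
   (530, [0,2,1,3,2,1,4,3,2,3,4]), (531, [0,2,1,3,2,1,4,3,2,3,5]), (532, [0,2,1,3,2,1,4,3,2,3,6]), (533, [0,2,1,3,2,1,4,3,2,5,1]),
   (534, [0,2,1,3,2,1,4,3,2,5,6]), (535, [0,2,1,3,2,1,4,3,2,6,1]), (536, [0,2,1,3,2,1,4,3,2,6,5]), (537, [0,2,1,3,2,1,4,3,5,1,0]),
   (538, [0,2,1,3,2,1,4,3,5,1,2]), (539, [0,2,1,3,2,3,2,4,3,2,1])]

def chainYIdx0_6 : List (ℕ × List ℕ) :=
  [(540, [0,2,1,3,2,3,4,3,2,1,0]), (541, [0,2,1,3,2,3,4,3,2,1,3]), (542, [0,2,1,3,2,3,4,3,2,1,5]), (543, [0,2,1,3,2,3,4,3,2,1,6]),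
   (544, [0,2,1,3,2,3,4,3,2,3,5]), (545, [0,2,1,3,2,3,4,3,2,5,1]), (546, [0,2,1,3,2,3,4,3,5,1,2]), (547, [0,2,1,3,2,3,4,5,1,2,3]),
   (548, [0,2,1,3,2,4,3,2,1,0,1]), (549, [0,2,1,3,2,4,3,2,1,0,5]), (550, [0,2,1,3,2,4,3,2,1,0,6]), (551, [0,2,1,3,2,4,3,2,1,5,1]),
   (552, [0,2,1,3,2,4,3,2,1,5,6]), (553, [0,2,1,3,2,4,3,2,1,6,1]), (554, [0,2,1,3,2,4,3,2,1,6,5]), (555, [0,2,1,3,2,4,3,2,5,1,0]),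
   (556, [0,2,1,3,2,4,3,2,5,1,2]), (557, [0,2,1,3,2,4,3,2,5,1,6]), (558, [0,2,1,3,2,4,3,2,6,1,0]), (559, [0,2,1,3,2,4,3,2,6,1,5]),
   (560, [0,2,1,3,2,4,3,2,6,5,1]), (561, [0,2,1,3,2,4,3,5,1,0,1]), (562, [0,2,1,3,2,4,3,5,1,0,2]), (563, [0,2,1,3,2,4,3,5,1,2,3]),
   (564, [0,2,1,3,2,4,3,5,1,2,6]), (565, [0,2,1,3,2,4,3,5,1,6,5]), (566, [0,2,1,3,2,4,3,6,5,1,0]), (567, [0,2,1,3,2,4,3,6,5,1,2]),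
   (568, [0,2,1,3,2,4,6,5,1,0,2]), (569, [0,2,1,3,2,6,5,1,0,2,3]), (570, [0,2,3,2,1,0,4,3,2,1,0]), (571, [0,2,3,2,1,0,4,3,2,1,3]),
   (572, [0,2,3,2,1,0,4,3,2,1,5]), (573, [0,2,3,2,1,0,4,3,2,1,6]), (574, [0,2,3,2,1,0,4,3,2,3,4]), (575, [0,2,3,2,1,0,4,3,2,3,5]),
   (576, [0,2,3,2,1,0,4,3,2,3,6]), (577, [0,2,3,2,1,0,4,3,2,5,1]), (578, [0,2,3,2,1,0,4,3,2,6,1]), (579, [0,2,3,2,1,0,4,3,5,1,0]),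
   (580, [0,2,3,2,1,0,4,3,5,1,2]), (581, [0,2,3,2,1,0,4,3,5,1,6]), (582, [0,2,3,2,1,0,4,5,1,2,3]), (583, [0,2,3,2,1,4,3,2,1,0,1]),
   (584, [0,2,3,2,1,4,3,2,1,0,3]), (585, [0,2,3,2,1,4,3,2,1,0,5]), (586, [0,2,3,2,1,4,3,2,1,0,6]), (587, [0,2,3,2,1,4,3,2,1,3,2]),
   (588, [0,2,3,2,1,4,3,2,1,3,4]), (589, [0,2,3,2,1,4,3,2,1,3,5]), (590, [0,2,3,2,1,4,3,2,1,3,6]), (591, [0,2,3,2,1,4,3,2,1,5,1]),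
   (592, [0,2,3,2,1,4,3,2,1,5,6]), (593, [0,2,3,2,1,4,3,2,1,6,1]), (594, [0,2,3,2,1,4,3,2,1,6,5]), (595, [0,2,3,2,1,4,3,2,3,2,1]),
   (596, [0,2,3,2,1,4,3,2,3,2,4]), (597, [0,2,3,2,1,4,3,2,3,2,5]), (598, [0,2,3,2,1,4,3,2,3,2,6]), (599, [0,2,3,2,1,4,3,2,3,4,5]),
   (600, [0,2,3,2,1,4,3,2,3,4,6]), (601, [0,2,3,2,1,4,3,2,3,5,1]), (602, [0,2,3,2,1,4,3,2,3,5,6]), (603, [0,2,3,2,1,4,3,2,3,6,1]),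
   (604, [0,2,3,2,1,4,3,2,3,6,5]), (605, [0,2,3,2,1,4,3,2,5,1,0]), (606, [0,2,3,2,1,4,3,2,5,1,6]), (607, [0,2,3,2,1,4,3,2,5,6,1]),
   (608, [0,2,3,2,1,4,3,5,6,1,0]), (609, [0,2,3,2,1,4,3,5,6,1,2]), (610, [0,2,3,2,1,4,3,5,6,1,5]), (611, [0,2,3,2,1,4,3,6,5,1,2]),
   (612, [0,2,3,2,1,4,3,6,5,1,6]), (613, [0,2,3,2,1,4,6,5,1,2,6]), (614, [0,2,3,2,1,6,5,1,2,3,2]), (615, [0,2,3,2,1,6,5,1,2,3,6]),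
   (616, [0,2,3,2,4,3,2,1,0,1,2]), (617, [0,2,3,2,4,3,2,1,0,5,1]), (618, [0,2,3,2,4,3,2,1,0,6,1]), (619, [0,2,3,2,4,3,2,1,5,6,1]),
   (620, [2,3,2,1,0,4,3,2,1,0,1]), (621, [2,3,2,1,0,4,3,2,1,0,3]), (622, [2,3,2,1,0,4,3,2,1,0,5]), (623, [2,3,2,1,0,4,3,2,1,0,6]),
   (624, [2,3,2,1,0,4,3,2,1,3,2]), (625, [2,3,2,1,0,4,3,2,1,3,4]), (626, [2,3,2,1,0,4,3,2,1,3,5]), (627, [2,3,2,1,0,4,3,2,1,5,1]),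
   (628, [2,3,2,1,0,4,3,2,1,5,6]), (629, [2,3,2,1,0,4,3,2,1,6,1])]

def chainYIdx0_7 : List (ℕ × List ℕ) :=
  [(630, [2,3,2,1,0,4,3,2,1,6,5]), (631, [2,3,2,1,0,4,3,2,3,4,5]), (632, [2,3,2,1,0,4,3,2,3,4,6]), (633, [2,3,2,1,0,4,3,2,3,5,1]),
   (634, [2,3,2,1,0,4,3,2,3,6,1]), (635, [2,3,2,1,0,4,3,2,5,1,0]), (636, [2,3,2,1,0,4,3,2,5,1,2]), (637, [2,3,2,1,0,4,3,2,5,1,6]),
   (638, [2,3,2,1,0,4,3,2,6,1,0]), (639, [2,3,2,1,0,4,3,2,6,1,5]), (640, [2,3,2,1,0,4,3,5,1,0,1]), (641, [2,3,2,1,0,4,3,5,1,0,2]),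
   (642, [2,3,2,1,0,4,3,5,1,2,6]), (643, [2,3,2,1,0,4,5,1,2,6,1]), (644, [2,3,2,1,0,5,1,2,3,6,1]), (645, [2,3,2,1,4,3,2,1,0,1,0]),
   (646, [2,3,2,1,4,3,2,1,0,1,2]), (647, [2,3,2,1,4,3,2,1,0,1,3]), (648, [2,3,2,1,4,3,2,1,0,1,5]), (649, [2,3,2,1,4,3,2,1,0,1,6]),
   (650, [2,3,2,1,4,3,2,1,0,3,2]), (651, [2,3,2,1,4,3,2,1,0,3,4]), (652, [2,3,2,1,4,3,2,1,0,3,5]), (653, [2,3,2,1,4,3,2,1,0,3,6]),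
   (654, [2,3,2,1,4,3,2,1,0,6,1]), (655, [2,3,2,1,4,3,2,1,3,2,4]), (656, [2,3,2,1,4,3,2,1,3,2,5]), (657, [2,3,2,1,4,3,2,1,3,4,5]),
   (658, [2,3,2,1,4,3,2,1,3,4,6]), (659, [2,3,2,1,4,3,2,1,3,5,1]), (660, [2,3,2,1,4,3,2,1,3,5,6]), (661, [2,3,2,1,4,3,2,1,3,6,1]),
   (662, [2,3,2,1,4,3,2,1,3,6,5]), (663, [2,3,2,1,4,3,2,1,5,1,0]), (664, [2,3,2,1,4,3,2,1,5,1,2]), (665, [2,3,2,1,4,3,2,1,5,1,6]),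
   (666, [2,3,2,1,4,3,2,1,5,6,1]), (667, [2,3,2,1,4,3,2,3,4,5,1]), (668, [2,3,2,1,4,3,2,3,4,5,6]), (669, [2,3,2,1,4,3,2,3,4,6,1]),
   (670, [2,3,2,1,4,3,2,3,4,6,5]), (671, [2,3,2,1,4,3,2,3,5,1,0]), (672, [2,3,2,1,4,3,2,3,5,1,2]), (673, [2,3,2,1,4,3,2,3,5,1,6]),
   (674, [2,3,2,1,4,3,2,3,5,6,1]), (675, [2,3,2,1,4,3,2,5,1,0,1]), (676, [2,3,2,1,4,3,2,5,1,0,2]), (677, [2,3,2,1,4,3,2,5,1,0,6]),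
   (678, [2,3,2,1,4,3,2,5,1,2,6]), (679, [2,3,2,1,4,3,2,5,1,6,1]), (680, [2,3,2,1,4,3,2,5,1,6,5]), (681, [2,3,2,1,4,3,2,5,6,1,0]),
   (682, [2,3,2,1,4,3,2,5,6,1,2]), (683, [2,3,2,1,4,3,2,5,6,1,5]), (684, [2,3,2,1,4,3,5,6,1,0,2]), (685, [2,3,2,1,4,3,5,6,1,2,5]),
   (686, [2,3,2,1,4,3,6,5,1,2,6]), (687, [2,3,2,1,4,6,5,1,2,6,1]), (688, [2,3,2,1,6,5,1,2,3,2,1]), (689, [2,3,2,1,6,5,1,2,3,2,6]),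
   (690, [2,3,2,1,6,5,1,2,3,6,1]), (691, [2,3,2,4,3,2,1,0,1,2,5]), (692, [2,3,2,4,3,2,1,0,1,5,1]), (693, [2,3,2,4,3,2,1,0,5,1,0]),
   (694, [2,3,2,4,3,2,1,0,5,1,2]), (695, [2,3,2,4,3,2,1,0,5,1,6]), (696, [2,3,2,4,3,2,1,0,6,1,0]), (697, [2,3,2,4,3,2,1,0,6,1,2]),
   (698, [2,3,2,4,3,2,1,0,6,1,5]), (699, [2,3,2,4,3,2,1,5,1,0,1]), (700, [2,3,2,4,3,2,1,5,1,0,2]), (701, [2,3,2,4,3,2,1,5,6,1,0]),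
   (702, [2,3,2,4,3,2,1,5,6,1,2]), (703, [2,3,2,4,3,2,1,5,6,1,5]), (704, [2,3,2,4,3,2,5,1,0,1,0]), (705, [2,3,2,4,3,2,5,1,0,1,2]),
   (706, [2,3,2,4,3,2,5,1,0,1,5]), (707, [2,3,2,4,3,2,5,1,0,2,1]), (708, [2,3,2,4,3,2,5,1,2,6,5]), (709, [2,3,2,4,3,2,5,1,6,5,1]),
   (710, [0,1,2,1,3,2,1,4,3,2,1,3]), (711, [0,1,2,1,3,2,1,4,3,2,1,5]), (712, [0,1,2,1,3,2,1,4,3,2,3,5]), (713, [0,1,2,1,3,2,1,4,3,2,5,1]),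
   (714, [0,1,2,1,3,2,1,4,3,5,1,2]), (715, [0,1,2,1,3,2,4,3,2,1,0,5]), (716, [0,1,2,1,3,2,4,3,2,1,5,1]), (717, [0,1,2,1,3,2,4,3,2,1,6,5]),
   (718, [0,1,2,1,3,2,4,3,2,5,1,0]), (719, [0,1,2,1,3,2,4,3,2,5,1,2])]

def chainYIdx0_8 : List (ℕ × List ℕ) :=
  [(720, [0,1,2,1,3,2,4,3,2,5,1,6]), (721, [0,1,2,1,3,2,4,3,5,1,0,2]), (722, [0,1,2,1,3,2,4,3,5,1,2,3]), (723, [0,1,2,1,3,2,4,3,5,1,2,6]),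
   (724, [0,1,2,3,2,1,4,3,2,1,0,1]), (725, [0,1,2,3,2,1,4,3,2,1,0,3]), (726, [0,1,2,3,2,1,4,3,2,1,0,5]), (727, [0,1,2,3,2,1,4,3,2,1,3,2]),
   (728, [0,1,2,3,2,1,4,3,2,1,3,5]), (729, [0,1,2,3,2,1,4,3,2,1,3,6]), (730, [0,1,2,3,2,1,4,3,2,1,5,1]), (731, [0,1,2,3,2,1,4,3,2,1,5,6]),
   (732, [0,1,2,3,2,1,4,3,2,1,6,5]), (733, [0,1,2,3,2,1,4,3,2,3,2,1]), (734, [0,1,2,3,2,1,4,3,2,3,2,5]), (735, [0,1,2,3,2,1,4,3,2,3,5,1]),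
   (736, [0,1,2,3,2,1,4,3,2,5,1,0]), (737, [0,1,2,3,2,1,4,3,2,5,1,6]), (738, [0,1,2,3,2,1,4,3,2,5,6,1]), (739, [0,1,2,3,2,1,4,3,5,6,1,2]),
   (740, [0,1,2,3,2,4,3,2,1,0,1,0]), (741, [0,1,2,3,2,4,3,2,1,0,1,2]), (742, [0,1,2,3,2,4,3,2,1,0,1,5]), (743, [0,1,2,3,2,4,3,2,1,0,5,1]),
   (744, [0,1,2,3,2,4,3,2,1,5,6,1]), (745, [0,1,2,3,2,4,3,2,1,6,5,1]), (746, [0,2,1,3,2,1,0,1,4,3,2,1]), (747, [0,2,1,3,2,1,0,1,4,3,2,3]),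
   (748, [0,2,1,3,2,1,0,1,4,3,2,5]), (749, [0,2,1,3,2,1,0,1,4,3,2,6]), (750, [0,2,1,3,2,1,0,1,4,3,6,1]), (751, [0,2,1,3,2,1,0,4,3,2,1,0]),
   (752, [0,2,1,3,2,1,0,4,3,2,1,5]), (753, [0,2,1,3,2,1,0,4,3,2,5,1]), (754, [0,2,1,3,2,1,0,4,3,5,1,2]), (755, [0,2,1,3,2,1,3,4,3,2,1,0]),
   (756, [0,2,1,3,2,1,3,4,3,2,1,3]), (757, [0,2,1,3,2,1,3,4,3,2,1,5]), (758, [0,2,1,3,2,1,3,4,3,2,1,6]), (759, [0,2,1,3,2,1,3,4,3,2,3,4]),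
   (760, [0,2,1,3,2,1,3,4,3,2,3,5]), (761, [0,2,1,3,2,1,3,4,3,2,3,6]), (762, [0,2,1,3,2,1,3,4,3,2,5,1]), (763, [0,2,1,3,2,1,3,4,3,2,5,6]),
   (764, [0,2,1,3,2,1,3,4,3,2,6,1]), (765, [0,2,1,3,2,1,3,4,3,2,6,5]), (766, [0,2,1,3,2,1,3,4,3,5,1,2]), (767, [0,2,1,3,2,1,4,3,2,1,0,1]),
   (768, [0,2,1,3,2,1,4,3,2,1,0,5]), (769, [0,2,1,3,2,1,4,3,2,1,0,6]), (770, [0,2,1,3,2,1,4,3,2,1,3,5]), (771, [0,2,1,3,2,1,4,3,2,1,5,1]),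
   (772, [0,2,1,3,2,1,4,3,2,1,6,5]), (773, [0,2,1,3,2,1,4,3,2,3,4,5]), (774, [0,2,1,3,2,1,4,3,2,3,5,1]), (775, [0,2,1,3,2,1,4,3,2,3,5,6]),
   (776, [0,2,1,3,2,1,4,3,2,3,6,5]), (777, [0,2,1,3,2,1,4,3,2,5,1,0]), (778, [0,2,1,3,2,1,4,3,2,5,1,2]), (779, [0,2,1,3,2,1,4,3,2,5,1,6]),
   (780, [0,2,1,3,2,1,4,3,2,5,6,1]), (781, [0,2,1,3,2,1,4,3,2,6,1,5]), (782, [0,2,1,3,2,1,4,3,2,6,5,1]), (783, [0,2,1,3,2,1,4,3,5,1,0,2]),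
   (784, [0,2,1,3,2,1,4,3,5,1,2,3]), (785, [0,2,1,3,2,3,2,4,3,2,1,0]), (786, [0,2,1,3,2,3,2,4,3,2,1,5]), (787, [0,2,1,3,2,3,2,4,3,2,1,6]),
   (788, [0,2,1,3,2,3,4,3,2,1,0,1]), (789, [0,2,1,3,2,3,4,3,2,1,0,3]), (790, [0,2,1,3,2,3,4,3,2,1,0,5]), (791, [0,2,1,3,2,3,4,3,2,1,0,6]),
   (792, [0,2,1,3,2,3,4,3,2,1,3,2]), (793, [0,2,1,3,2,3,4,3,2,1,3,5]), (794, [0,2,1,3,2,3,4,3,2,1,3,6]), (795, [0,2,1,3,2,3,4,3,2,1,5,1]),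
   (796, [0,2,1,3,2,3,4,3,2,1,5,6]), (797, [0,2,1,3,2,3,4,3,2,1,6,5]), (798, [0,2,1,3,2,3,4,3,2,3,5,1]), (799, [0,2,1,3,2,3,4,3,2,5,1,0]),
   (800, [0,2,1,3,2,3,4,3,2,5,1,2]), (801, [0,2,1,3,2,3,4,3,2,5,1,6]), (802, [0,2,1,3,2,3,4,3,5,1,2,3]), (803, [0,2,1,3,2,3,4,5,1,2,3,2]),
   (804, [0,2,1,3,2,4,3,2,1,0,1,0]), (805, [0,2,1,3,2,4,3,2,1,0,1,2]), (806, [0,2,1,3,2,4,3,2,1,0,1,5]), (807, [0,2,1,3,2,4,3,2,1,0,5,1]),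
   (808, [0,2,1,3,2,4,3,2,1,5,1,0]), (809, [0,2,1,3,2,4,3,2,1,5,1,2])]

def chainYIdx0_9 : List (ℕ × List ℕ) :=
  [(810, [0,2,1,3,2,4,3,2,1,5,1,6]), (811, [0,2,1,3,2,4,3,2,1,6,1,5]), (812, [0,2,1,3,2,4,3,2,1,6,5,1]), (813, [0,2,1,3,2,4,3,2,5,1,0,1]),
   (814, [0,2,1,3,2,4,3,2,5,1,0,2]), (815, [0,2,1,3,2,4,3,2,5,1,0,6]), (816, [0,2,1,3,2,4,3,2,5,1,2,3]), (817, [0,2,1,3,2,4,3,2,5,1,2,6]),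
   (818, [0,2,1,3,2,4,3,2,5,1,6,5]), (819, [0,2,1,3,2,4,3,2,6,1,0,5]), (820, [0,2,1,3,2,4,3,2,6,1,5,1]), (821, [0,2,1,3,2,4,3,2,6,1,5,6]),
   (822, [0,2,1,3,2,4,3,2,6,5,1,0]), (823, [0,2,1,3,2,4,3,2,6,5,1,2]), (824, [0,2,1,3,2,4,3,2,6,5,1,6]), (825, [0,2,1,3,2,4,3,5,1,0,1,2]),
   (826, [0,2,1,3,2,4,3,5,1,0,2,1]), (827, [0,2,1,3,2,4,3,5,1,0,2,3]), (828, [0,2,1,3,2,4,3,5,1,2,3,2]), (829, [0,2,1,3,2,4,3,5,1,2,3,4]),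
   (830, [0,2,1,3,2,4,3,5,1,2,3,6]), (831, [0,2,1,3,2,4,3,5,1,2,6,1]), (832, [0,2,1,3,2,4,3,5,1,2,6,5]), (833, [0,2,1,3,2,4,3,6,5,1,0,2]),
   (834, [0,2,3,2,1,0,4,3,2,1,0,1]), (835, [0,2,3,2,1,0,4,3,2,1,0,3]), (836, [0,2,3,2,1,0,4,3,2,1,0,5]), (837, [0,2,3,2,1,0,4,3,2,1,0,6]),
   (838, [0,2,3,2,1,0,4,3,2,1,3,2]), (839, [0,2,3,2,1,0,4,3,2,1,3,4]), (840, [0,2,3,2,1,0,4,3,2,1,3,5]), (841, [0,2,3,2,1,0,4,3,2,1,3,6]),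
   (842, [0,2,3,2,1,0,4,3,2,1,5,1]), (843, [0,2,3,2,1,0,4,3,2,1,5,6]), (844, [0,2,3,2,1,0,4,3,2,1,6,1]), (845, [0,2,3,2,1,0,4,3,2,1,6,5]),
   (846, [0,2,3,2,1,0,4,3,2,3,4,5]), (847, [0,2,3,2,1,0,4,3,2,3,4,6]), (848, [0,2,3,2,1,0,4,3,2,3,5,1]), (849, [0,2,3,2,1,0,4,3,2,3,6,1]),
   (850, [0,2,3,2,1,0,4,3,2,5,1,0]), (851, [0,2,3,2,1,0,4,3,2,5,1,2]), (852, [0,2,3,2,1,0,4,3,2,5,1,6]), (853, [0,2,3,2,1,0,4,3,2,6,1,0]),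
   (854, [0,2,3,2,1,0,4,3,2,6,1,5]), (855, [0,2,3,2,1,0,4,3,5,1,0,2]), (856, [0,2,3,2,1,0,4,3,5,1,2,3]), (857, [0,2,3,2,1,0,4,3,5,1,2,6]),
   (858, [0,2,3,2,1,0,4,5,1,2,3,2]), (859, [0,2,3,2,1,4,3,2,1,0,1,0]), (860, [0,2,3,2,1,4,3,2,1,0,1,2]), (861, [0,2,3,2,1,4,3,2,1,0,1,5]),
   (862, [0,2,3,2,1,4,3,2,1,0,3,4]), (863, [0,2,3,2,1,4,3,2,1,0,3,5]), (864, [0,2,3,2,1,4,3,2,1,3,2,1]), (865, [0,2,3,2,1,4,3,2,1,3,2,4]),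
   (866, [0,2,3,2,1,4,3,2,1,3,2,5]), (867, [0,2,3,2,1,4,3,2,1,3,4,5]), (868, [0,2,3,2,1,4,3,2,1,3,4,6]), (869, [0,2,3,2,1,4,3,2,1,3,5,1]),
   (870, [0,2,3,2,1,4,3,2,1,3,6,1]), (871, [0,2,3,2,1,4,3,2,1,3,6,5]), (872, [0,2,3,2,1,4,3,2,1,5,1,0]), (873, [0,2,3,2,1,4,3,2,1,5,1,6]),
   (874, [0,2,3,2,1,4,3,2,1,5,6,1]), (875, [0,2,3,2,1,4,3,2,3,2,1,0]), (876, [0,2,3,2,1,4,3,2,3,2,1,4]), (877, [0,2,3,2,1,4,3,2,3,2,1,5]),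
   (878, [0,2,3,2,1,4,3,2,3,2,4,3]), (879, [0,2,3,2,1,4,3,2,3,2,4,5]), (880, [0,2,3,2,1,4,3,2,3,2,4,6]), (881, [0,2,3,2,1,4,3,2,3,2,5,1]),
   (882, [0,2,3,2,1,4,3,2,3,4,5,1]), (883, [0,2,3,2,1,4,3,2,3,4,5,6]), (884, [0,2,3,2,1,4,3,2,3,4,6,1]), (885, [0,2,3,2,1,4,3,2,3,4,6,5]),
   (886, [0,2,3,2,1,4,3,2,3,5,1,0]), (887, [0,2,3,2,1,4,3,2,3,5,1,2]), (888, [0,2,3,2,1,4,3,2,3,5,1,6]), (889, [0,2,3,2,1,4,3,2,3,5,6,1]),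
   (890, [0,2,3,2,1,4,3,2,5,1,0,1]), (891, [0,2,3,2,1,4,3,2,5,1,0,6]), (892, [0,2,3,2,1,4,3,2,5,1,6,1]), (893, [0,2,3,2,1,4,3,2,5,1,6,5]),
   (894, [0,2,3,2,1,4,3,2,5,6,1,0]), (895, [0,2,3,2,1,4,3,2,5,6,1,2]), (896, [0,2,3,2,1,4,3,2,5,6,1,5]), (897, [0,2,3,2,1,4,3,5,6,1,0,2]),
   (898, [0,2,3,2,1,4,3,5,6,1,2,3]), (899, [0,2,3,2,1,4,3,5,6,1,2,5])]

def chainYIdx0_10 : List (ℕ × List ℕ) :=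
  [(900, [0,2,3,2,1,4,3,6,5,1,2,6]), (901, [0,2,3,2,1,6,5,1,2,3,2,1]), (902, [0,2,3,2,4,3,2,1,0,5,1,0]), (903, [0,2,3,2,4,3,2,1,0,5,1,2]),
   (904, [0,2,3,2,4,3,2,1,0,5,1,6]), (905, [0,2,3,2,4,3,2,1,0,6,1,0]), (906, [0,2,3,2,4,3,2,1,0,6,1,5]), (907, [0,2,3,2,4,3,2,1,5,6,1,0]),
   (908, [0,2,3,2,4,3,2,1,5,6,1,2]), (909, [0,2,3,2,4,3,2,1,5,6,1,5]), (910, [2,3,2,1,0,4,3,2,1,0,1,0]), (911, [2,3,2,1,0,4,3,2,1,0,1,3]),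
   (912, [2,3,2,1,0,4,3,2,1,0,3,2]), (913, [2,3,2,1,0,4,3,2,1,0,3,4]), (914, [2,3,2,1,0,4,3,2,1,0,3,5]), (915, [2,3,2,1,0,4,3,2,1,3,2,4]),
   (916, [2,3,2,1,0,4,3,2,1,3,2,5]), (917, [2,3,2,1,0,4,3,2,1,3,4,5]), (918, [2,3,2,1,0,4,3,2,1,3,5,1]), (919, [2,3,2,1,0,4,3,2,1,3,5,6]),
   (920, [2,3,2,1,0,4,3,2,1,5,1,0]), (921, [2,3,2,1,0,4,3,2,1,5,1,2]), (922, [2,3,2,1,0,4,3,2,1,5,1,6]), (923, [2,3,2,1,0,4,3,2,1,6,1,5]),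
   (924, [2,3,2,1,0,4,3,2,1,6,5,1]), (925, [2,3,2,1,0,4,3,2,3,4,5,1]), (926, [2,3,2,1,0,4,3,2,3,4,6,1]), (927, [2,3,2,1,0,4,3,2,3,5,1,0]),
   (928, [2,3,2,1,0,4,3,2,3,5,1,2]), (929, [2,3,2,1,0,4,3,2,3,5,1,6]), (930, [2,3,2,1,0,4,3,2,3,6,1,0]), (931, [2,3,2,1,0,4,3,2,3,6,1,5]),
   (932, [2,3,2,1,0,4,3,2,5,1,0,1]), (933, [2,3,2,1,0,4,3,2,5,1,0,2]), (934, [2,3,2,1,0,4,3,2,5,1,0,6]), (935, [2,3,2,1,0,4,3,2,5,1,2,3]),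
   (936, [2,3,2,1,0,4,3,2,5,1,2,6]), (937, [2,3,2,1,0,4,3,2,5,1,6,5]), (938, [2,3,2,1,0,4,3,2,6,1,0,5]), (939, [2,3,2,1,0,4,3,5,1,0,1,2]),
   (940, [2,3,2,1,0,4,3,5,1,2,6,1]), (941, [2,3,2,1,4,3,2,1,0,1,0,3]), (942, [2,3,2,1,4,3,2,1,0,1,0,5]), (943, [2,3,2,1,4,3,2,1,0,1,2,5]),
   (944, [2,3,2,1,4,3,2,1,0,1,3,2]), (945, [2,3,2,1,4,3,2,1,0,1,3,4]), (946, [2,3,2,1,4,3,2,1,0,1,3,5]), (947, [2,3,2,1,4,3,2,1,0,1,3,6]),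
   (948, [2,3,2,1,4,3,2,1,0,1,6,5]), (949, [2,3,2,1,4,3,2,1,0,3,2,1]), (950, [2,3,2,1,4,3,2,1,0,3,2,4]), (951, [2,3,2,1,4,3,2,1,0,3,2,5]),
   (952, [2,3,2,1,4,3,2,1,0,3,4,5]), (953, [2,3,2,1,4,3,2,1,0,3,4,6]), (954, [2,3,2,1,4,3,2,1,0,3,6,1]), (955, [2,3,2,1,4,3,2,1,0,6,1,5]),
   (956, [2,3,2,1,4,3,2,1,3,2,4,5]), (957, [2,3,2,1,4,3,2,1,3,2,5,1]), (958, [2,3,2,1,4,3,2,1,3,2,5,6]), (959, [2,3,2,1,4,3,2,1,3,4,5,1]),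
   (960, [2,3,2,1,4,3,2,1,3,4,5,6]), (961, [2,3,2,1,4,3,2,1,3,4,6,1]), (962, [2,3,2,1,4,3,2,1,3,4,6,5]), (963, [2,3,2,1,4,3,2,1,3,5,1,0]),
   (964, [2,3,2,1,4,3,2,1,3,5,1,2]), (965, [2,3,2,1,4,3,2,1,3,5,1,6]), (966, [2,3,2,1,4,3,2,1,3,5,6,1]), (967, [2,3,2,1,4,3,2,1,5,1,0,2]),
   (968, [2,3,2,1,4,3,2,1,5,1,2,6]), (969, [2,3,2,1,4,3,2,1,5,1,6,1]), (970, [2,3,2,1,4,3,2,1,5,6,1,0]), (971, [2,3,2,1,4,3,2,1,5,6,1,2]),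
   (972, [2,3,2,1,4,3,2,1,5,6,1,5]), (973, [2,3,2,1,4,3,2,3,4,5,1,0]), (974, [2,3,2,1,4,3,2,3,4,5,1,2]), (975, [2,3,2,1,4,3,2,3,4,5,1,6]),
   (976, [2,3,2,1,4,3,2,3,4,5,6,1]), (977, [2,3,2,1,4,3,2,3,5,1,0,1]), (978, [2,3,2,1,4,3,2,3,5,1,0,2]), (979, [2,3,2,1,4,3,2,3,5,1,0,6]),
   (980, [2,3,2,1,4,3,2,3,5,1,6,1]), (981, [2,3,2,1,4,3,2,3,5,6,1,0]), (982, [2,3,2,1,4,3,2,3,5,6,1,2]), (983, [2,3,2,1,4,3,2,5,1,0,2,1]),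
   (984, [2,3,2,1,4,3,2,5,1,0,2,6]), (985, [2,3,2,1,4,3,2,5,1,2,6,5]), (986, [2,3,2,1,4,3,2,5,1,6,1,0]), (987, [2,3,2,1,4,3,2,5,1,6,1,2]),
   (988, [2,3,2,1,4,3,2,5,1,6,1,5]), (989, [2,3,2,1,4,3,2,5,6,1,0,1])]

def chainYIdx0_11 : List (ℕ × List ℕ) :=
  [(990, [2,3,2,1,4,3,2,5,6,1,0,2]), (991, [2,3,2,1,4,3,2,5,6,1,0,5]), (992, [2,3,2,1,4,3,2,5,6,1,2,3]), (993, [2,3,2,1,4,3,2,5,6,1,2,5]),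
   (994, [2,3,2,1,4,3,5,6,1,2,5,1]), (995, [2,3,2,1,6,5,1,2,3,2,1,5]), (996, [2,3,2,4,3,2,1,0,1,2,5,1]), (997, [2,3,2,4,3,2,1,0,1,5,1,0]),
   (998, [2,3,2,4,3,2,1,0,1,5,1,2]), (999, [2,3,2,4,3,2,1,0,5,1,0,1]), (1000, [2,3,2,4,3,2,1,0,5,1,0,2]), (1001, [2,3,2,4,3,2,1,0,5,1,2,3]),
   (1002, [2,3,2,4,3,2,1,0,6,1,0,1]), (1003, [2,3,2,4,3,2,1,0,6,1,0,2]), (1004, [2,3,2,4,3,2,1,0,6,1,0,5]), (1005, [2,3,2,4,3,2,1,0,6,1,2,5]),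
   (1006, [2,3,2,4,3,2,1,0,6,1,5,6]), (1007, [2,3,2,4,3,2,1,5,1,0,1,0]), (1008, [2,3,2,4,3,2,1,5,1,0,1,2]), (1009, [2,3,2,4,3,2,1,5,1,0,1,5]),
   (1010, [2,3,2,4,3,2,1,5,1,0,1,6]), (1011, [2,3,2,4,3,2,1,5,1,0,2,1]), (1012, [2,3,2,4,3,2,1,5,6,1,0,2]), (1013, [2,3,2,4,3,2,1,5,6,1,2,3]),
   (1014, [2,3,2,4,3,2,1,5,6,1,2,5]), (1015, [2,3,2,4,3,2,5,1,0,1,0,2]), (1016, [2,3,2,4,3,2,5,1,0,1,2,1]), (1017, [2,3,2,4,3,2,5,1,0,1,2,5]),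
   (1018, [2,3,2,4,3,2,5,1,0,2,1,0]), (1019, [2,3,2,4,3,2,5,1,0,2,1,5]), (1020, [2,3,2,4,3,2,5,1,0,2,1,6]), (1021, [2,3,2,4,3,2,5,1,2,6,5,1]),
   (1022, [2,3,2,4,3,2,5,1,6,5,1,0]), (1023, [2,3,2,4,3,2,5,1,6,5,1,2]), (1024, [2,3,2,4,3,2,5,1,6,5,1,6]), (1025, [0,1,2,1,3,2,1,4,3,2,1,5,1]),
   (1026, [0,1,2,1,3,2,1,4,3,2,3,5,1]), (1027, [0,1,2,1,3,2,1,4,3,2,5,1,0]), (1028, [0,1,2,1,3,2,1,4,3,2,5,1,2]), (1029, [0,1,2,1,3,2,1,4,3,2,5,1,6]),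
   (1030, [0,1,2,1,3,2,1,4,3,5,1,2,3]), (1031, [0,1,2,1,3,2,4,3,2,1,0,5,1]), (1032, [0,1,2,1,3,2,4,3,2,1,5,1,0]), (1033, [0,1,2,1,3,2,4,3,2,1,5,1,2]),
   (1034, [0,1,2,1,3,2,4,3,2,1,5,1,6]), (1035, [0,1,2,1,3,2,4,3,2,1,6,5,1]), (1036, [0,1,2,1,3,2,4,3,2,5,1,0,1]), (1037, [0,1,2,1,3,2,4,3,2,5,1,0,2]),
   (1038, [0,1,2,1,3,2,4,3,2,5,1,0,6]), (1039, [0,1,2,1,3,2,4,3,2,5,1,2,3]), (1040, [0,1,2,1,3,2,4,3,2,5,1,2,6]), (1041, [0,1,2,1,3,2,4,3,2,5,1,6,5]),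
   (1042, [0,1,2,1,3,2,4,3,5,1,2,3,4]), (1043, [0,1,2,1,3,2,4,3,5,1,2,3,6]), (1044, [0,1,2,1,3,2,4,3,5,1,2,6,1]), (1045, [0,1,2,3,2,1,4,3,2,1,0,1,0]),
   (1046, [0,1,2,3,2,1,4,3,2,1,0,1,5]), (1047, [0,1,2,3,2,1,4,3,2,1,0,3,5]), (1048, [0,1,2,3,2,1,4,3,2,1,0,5,1]), (1049, [0,1,2,3,2,1,4,3,2,1,3,5,1]),
   (1050, [0,1,2,3,2,1,4,3,2,1,3,5,6]), (1051, [0,1,2,3,2,1,4,3,2,1,3,6,5]), (1052, [0,1,2,3,2,1,4,3,2,1,5,1,0]), (1053, [0,1,2,3,2,1,4,3,2,1,5,1,6]),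
   (1054, [0,1,2,3,2,1,4,3,2,1,5,6,1]), (1055, [0,1,2,3,2,1,4,3,2,1,6,5,1]), (1056, [0,1,2,3,2,1,4,3,2,3,2,1,5]), (1057, [0,1,2,3,2,1,4,3,2,3,2,5,1]),
   (1058, [0,1,2,3,2,1,4,3,2,3,5,1,0]), (1059, [0,1,2,3,2,1,4,3,2,3,5,1,2]), (1060, [0,1,2,3,2,1,4,3,2,3,5,1,6]), (1061, [0,1,2,3,2,1,4,3,2,5,1,0,1]),
   (1062, [0,1,2,3,2,1,4,3,2,5,1,0,6]), (1063, [0,1,2,3,2,1,4,3,2,5,1,6,1]), (1064, [0,1,2,3,2,1,4,3,2,5,1,6,5]), (1065, [0,1,2,3,2,1,4,3,2,5,6,1,0]),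
   (1066, [0,1,2,3,2,1,4,3,2,5,6,1,2]), (1067, [0,1,2,3,2,1,4,3,2,5,6,1,5]), (1068, [0,1,2,3,2,1,4,3,5,6,1,2,3]), (1069, [0,1,2,3,2,4,3,2,1,0,1,0,2]),
   (1070, [0,1,2,3,2,4,3,2,1,0,1,0,5]), (1071, [0,1,2,3,2,4,3,2,1,0,1,2,5]), (1072, [0,1,2,3,2,4,3,2,1,0,1,5,1]), (1073, [0,1,2,3,2,4,3,2,1,0,1,5,6]),
   (1074, [0,1,2,3,2,4,3,2,1,0,5,1,2]), (1075, [0,1,2,3,2,4,3,2,1,5,6,1,0]), (1076, [0,1,2,3,2,4,3,2,1,5,6,1,2]), (1077, [0,1,2,3,2,4,3,2,1,6,5,1,0]),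
   (1078, [0,1,2,3,2,4,3,2,1,6,5,1,2]), (1079, [0,1,2,3,2,4,3,2,1,6,5,1,6])]

def chainYIdx0_12 : List (ℕ × List ℕ) :=
  [(1080, [0,2,1,3,2,1,0,1,4,3,2,1,0]), (1081, [0,2,1,3,2,1,0,1,4,3,2,1,3]), (1082, [0,2,1,3,2,1,0,1,4,3,2,1,5]), (1083, [0,2,1,3,2,1,0,1,4,3,2,3,5]),
   (1084, [0,2,1,3,2,1,0,1,4,3,2,3,6]), (1085, [0,2,1,3,2,1,0,1,4,3,2,5,1]), (1086, [0,2,1,3,2,1,0,4,3,2,1,0,5]), (1087, [0,2,1,3,2,1,3,4,3,2,1,0,1]),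
   (1088, [0,2,1,3,2,1,3,4,3,2,1,0,3]), (1089, [0,2,1,3,2,1,3,4,3,2,1,0,5]), (1090, [0,2,1,3,2,1,3,4,3,2,1,0,6]), (1091, [0,2,1,3,2,1,3,4,3,2,1,3,2]),
   (1092, [0,2,1,3,2,1,3,4,3,2,1,3,5]), (1093, [0,2,1,3,2,1,3,4,3,2,1,5,1]), (1094, [0,2,1,3,2,1,3,4,3,2,1,6,5]), (1095, [0,2,1,3,2,1,3,4,3,2,3,4,5]),
   (1096, [0,2,1,3,2,1,3,4,3,2,3,5,1]), (1097, [0,2,1,3,2,1,3,4,3,2,3,5,6]), (1098, [0,2,1,3,2,1,3,4,3,2,3,6,5]), (1099, [0,2,1,3,2,1,3,4,3,2,5,1,0]),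
   (1100, [0,2,1,3,2,1,3,4,3,2,5,1,2]), (1101, [0,2,1,3,2,1,3,4,3,2,5,1,6]), (1102, [0,2,1,3,2,1,3,4,3,2,5,6,1]), (1103, [0,2,1,3,2,1,3,4,3,2,6,1,5]),
   (1104, [0,2,1,3,2,1,3,4,3,2,6,5,1]), (1105, [0,2,1,3,2,1,3,4,3,5,1,2,3]), (1106, [0,2,1,3,2,1,4,3,2,1,0,1,5]), (1107, [0,2,1,3,2,1,4,3,2,1,3,5,1]),
   (1108, [0,2,1,3,2,1,4,3,2,1,5,1,0]), (1109, [0,2,1,3,2,1,4,3,2,1,6,5,1]), (1110, [0,2,1,3,2,1,4,3,2,3,4,5,1]), (1111, [0,2,1,3,2,1,4,3,2,3,4,5,6]),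
   (1112, [0,2,1,3,2,1,4,3,2,3,5,1,0]), (1113, [0,2,1,3,2,1,4,3,2,3,5,1,2]), (1114, [0,2,1,3,2,1,4,3,2,3,5,1,6]), (1115, [0,2,1,3,2,1,4,3,2,3,5,6,1]),
   (1116, [0,2,1,3,2,1,4,3,2,3,6,5,1]), (1117, [0,2,1,3,2,1,4,3,2,5,1,0,1]), (1118, [0,2,1,3,2,1,4,3,2,5,1,0,2]), (1119, [0,2,1,3,2,1,4,3,2,5,1,0,6]),
   (1120, [0,2,1,3,2,1,4,3,2,5,1,6,1]), (1121, [0,2,1,3,2,1,4,3,2,5,1,6,5]), (1122, [0,2,1,3,2,1,4,3,2,5,6,1,0]), (1123, [0,2,1,3,2,1,4,3,5,1,0,2,1]),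
   (1124, [0,2,1,3,2,1,4,3,5,1,0,2,3]), (1125, [0,2,1,3,2,1,4,3,5,1,2,3,4]), (1126, [0,2,1,3,2,3,2,4,3,2,1,0,5]), (1127, [0,2,1,3,2,3,2,4,3,2,1,6,5]),
   (1128, [0,2,1,3,2,3,4,3,2,1,0,1,5]), (1129, [0,2,1,3,2,3,4,3,2,1,0,3,5]), (1130, [0,2,1,3,2,3,4,3,2,1,0,5,1]), (1131, [0,2,1,3,2,3,4,3,2,1,3,2,3]),
   (1132, [0,2,1,3,2,3,4,3,2,1,3,5,1]), (1133, [0,2,1,3,2,3,4,3,2,1,3,6,5]), (1134, [0,2,1,3,2,3,4,3,2,1,5,1,0]), (1135, [0,2,1,3,2,3,4,3,2,1,5,1,2]),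
   (1136, [0,2,1,3,2,3,4,3,2,1,5,1,6]), (1137, [0,2,1,3,2,3,4,3,2,1,6,5,1]), (1138, [0,2,1,3,2,3,4,3,2,3,5,1,0]), (1139, [0,2,1,3,2,3,4,3,2,3,5,1,2]),
   (1140, [0,2,1,3,2,3,4,3,2,3,5,1,6]), (1141, [0,2,1,3,2,3,4,3,2,5,1,0,1]), (1142, [0,2,1,3,2,3,4,3,2,5,1,0,2]), (1143, [0,2,1,3,2,3,4,3,2,5,1,0,6]),
   (1144, [0,2,1,3,2,3,4,3,2,5,1,2,3]), (1145, [0,2,1,3,2,3,4,3,2,5,1,2,6]), (1146, [0,2,1,3,2,3,4,3,2,5,1,6,5]), (1147, [0,2,1,3,2,3,4,3,5,1,2,3,4]),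
   (1148, [0,2,1,3,2,3,4,5,1,2,3,2,3]), (1149, [0,2,1,3,2,4,3,2,1,0,1,0,5]), (1150, [0,2,1,3,2,4,3,2,1,0,1,2,3]), (1151, [0,2,1,3,2,4,3,2,1,0,1,2,5]),
   (1152, [0,2,1,3,2,4,3,2,1,0,1,5,1]), (1153, [0,2,1,3,2,4,3,2,1,0,5,1,0]), (1154, [0,2,1,3,2,4,3,2,1,0,5,1,2]), (1155, [0,2,1,3,2,4,3,2,1,0,5,1,6]),
   (1156, [0,2,1,3,2,4,3,2,1,5,1,0,2]), (1157, [0,2,1,3,2,4,3,2,1,6,1,5,1]), (1158, [0,2,1,3,2,4,3,2,1,6,5,1,0]), (1159, [0,2,1,3,2,4,3,2,1,6,5,1,2]),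
   (1160, [0,2,1,3,2,4,3,2,1,6,5,1,6]), (1161, [0,2,1,3,2,4,3,2,5,1,0,1,0]), (1162, [0,2,1,3,2,4,3,2,5,1,0,1,2]), (1163, [0,2,1,3,2,4,3,2,5,1,0,1,6]),
   (1164, [0,2,1,3,2,4,3,2,5,1,0,2,1]), (1165, [0,2,1,3,2,4,3,2,5,1,0,2,3]), (1166, [0,2,1,3,2,4,3,2,5,1,0,2,6]), (1167, [0,2,1,3,2,4,3,2,5,1,0,6,1]),
   (1168, [0,2,1,3,2,4,3,2,5,1,2,3,4]), (1169, [0,2,1,3,2,4,3,2,5,1,2,3,6])]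

def chainYIdx0_13 : List (ℕ × List ℕ) :=
  [(1170, [0,2,1,3,2,4,3,2,5,1,2,6,1]), (1171, [0,2,1,3,2,4,3,2,5,1,2,6,5]), (1172, [0,2,1,3,2,4,3,2,5,1,6,5,1]), (1173, [0,2,1,3,2,4,3,2,6,1,0,5,1]),
   (1174, [0,2,1,3,2,4,3,2,6,1,5,1,0]), (1175, [0,2,1,3,2,4,3,2,6,1,5,1,2]), (1176, [0,2,1,3,2,4,3,2,6,1,5,1,6]), (1177, [0,2,1,3,2,4,3,2,6,1,5,6,1]),
   (1178, [0,2,1,3,2,4,3,2,6,5,1,0,1]), (1179, [0,2,1,3,2,4,3,2,6,5,1,0,2]), (1180, [0,2,1,3,2,4,3,2,6,5,1,0,6]), (1181, [0,2,1,3,2,4,3,2,6,5,1,2,3]),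
   (1182, [0,2,1,3,2,4,3,2,6,5,1,2,6]), (1183, [0,2,1,3,2,4,3,5,1,0,1,2,1]), (1184, [0,2,1,3,2,4,3,5,1,0,1,2,3]), (1185, [0,2,1,3,2,4,3,5,1,0,2,1,0]),
   (1186, [0,2,1,3,2,4,3,5,1,0,2,1,3]), (1187, [0,2,1,3,2,4,3,5,1,0,2,1,5]), (1188, [0,2,1,3,2,4,3,5,1,0,2,1,6]), (1189, [0,2,1,3,2,4,3,5,1,0,2,3,4]),
   (1190, [0,2,1,3,2,4,3,5,1,2,3,2,4]), (1191, [0,2,1,3,2,4,3,5,1,2,3,4,6]), (1192, [0,2,1,3,2,4,3,5,1,2,3,6,1]), (1193, [0,2,1,3,2,4,3,5,1,2,3,6,5]),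
   (1194, [0,2,1,3,2,4,3,5,1,2,6,1,0]), (1195, [0,2,1,3,2,4,3,5,1,2,6,1,5]), (1196, [0,2,1,3,2,4,3,5,1,2,6,5,1]), (1197, [0,2,3,2,1,0,4,3,2,1,0,3,2]),
   (1198, [0,2,3,2,1,0,4,3,2,1,0,3,4]), (1199, [0,2,3,2,1,0,4,3,2,1,0,3,5]), (1200, [0,2,3,2,1,0,4,3,2,1,0,5,1]), (1201, [0,2,3,2,1,0,4,3,2,1,3,2,5]),
   (1202, [0,2,3,2,1,0,4,3,2,1,3,4,5]), (1203, [0,2,3,2,1,0,4,3,2,1,3,5,1]), (1204, [0,2,3,2,1,0,4,3,2,1,3,6,5]), (1205, [0,2,3,2,1,0,4,3,2,1,5,1,0]),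
   (1206, [0,2,3,2,1,0,4,3,2,1,5,1,2]), (1207, [0,2,3,2,1,0,4,3,2,1,5,1,6]), (1208, [0,2,3,2,1,0,4,3,2,1,6,1,5]), (1209, [0,2,3,2,1,0,4,3,2,1,6,5,1]),
   (1210, [0,2,3,2,1,0,4,3,2,3,4,5,1]), (1211, [0,2,3,2,1,0,4,3,2,3,5,1,0]), (1212, [0,2,3,2,1,0,4,3,2,3,5,1,2]), (1213, [0,2,3,2,1,0,4,3,2,3,5,1,6]),
   (1214, [0,2,3,2,1,0,4,3,2,3,6,1,0]), (1215, [0,2,3,2,1,0,4,3,2,3,6,1,5]), (1216, [0,2,3,2,1,0,4,3,2,5,1,0,1]), (1217, [0,2,3,2,1,0,4,3,2,5,1,0,2]),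
   (1218, [0,2,3,2,1,0,4,3,2,5,1,0,6]), (1219, [0,2,3,2,1,0,4,3,2,5,1,2,3]), (1220, [0,2,3,2,1,0,4,3,2,5,1,2,6]), (1221, [0,2,3,2,1,0,4,3,2,5,1,6,5]),
   (1222, [0,2,3,2,1,0,4,3,2,6,1,0,5]), (1223, [0,2,3,2,1,0,4,3,5,1,0,2,1]), (1224, [0,2,3,2,1,0,4,3,5,1,0,2,3]), (1225, [0,2,3,2,1,0,4,3,5,1,2,3,6]),
   (1226, [0,2,3,2,1,0,4,3,5,1,2,6,1]), (1227, [0,2,3,2,1,0,4,5,1,2,3,2,1]), (1228, [0,2,3,2,1,0,4,5,1,2,3,2,3]), (1229, [0,2,3,2,1,4,3,2,1,0,3,4,5]),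
   (1230, [0,2,3,2,1,4,3,2,1,3,4,5,1]), (1231, [0,2,3,2,1,4,3,2,1,3,4,6,1]), (1232, [0,2,3,2,1,4,3,2,1,3,4,6,5]), (1233, [0,2,3,2,1,4,3,2,1,3,5,1,0]),
   (1234, [0,2,3,2,1,4,3,2,1,5,6,1,2]), (1235, [0,2,3,2,1,4,3,2,3,2,1,4,3]), (1236, [0,2,3,2,1,4,3,2,3,2,4,3,5]), (1237, [0,2,3,2,1,4,3,2,3,2,4,3,6]),
   (1238, [0,2,3,2,1,4,3,2,3,4,5,1,0]), (1239, [0,2,3,2,1,4,3,2,3,4,5,1,2]), (1240, [0,2,3,2,1,4,3,2,3,4,5,1,6]), (1241, [0,2,3,2,1,4,3,2,3,4,5,6,1]),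
   (1242, [0,2,3,2,1,4,3,2,3,5,1,0,2]), (1243, [0,2,3,2,1,4,3,2,3,5,1,0,6]), (1244, [0,2,3,2,1,4,3,2,3,5,1,2,6]), (1245, [0,2,3,2,1,4,3,2,3,5,1,6,1]),
   (1246, [0,2,3,2,1,4,3,2,3,5,1,6,5]), (1247, [0,2,3,2,1,4,3,2,3,5,6,1,0]), (1248, [0,2,3,2,1,4,3,2,3,5,6,1,2]), (1249, [0,2,3,2,1,4,3,2,3,5,6,1,5]),
   (1250, [0,2,3,2,1,4,3,2,5,1,6,1,0]), (1251, [0,2,3,2,1,4,3,2,5,1,6,1,2]), (1252, [0,2,3,2,1,4,3,2,5,1,6,1,5]), (1253, [0,2,3,2,1,4,3,2,5,6,1,0,1]),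
   (1254, [0,2,3,2,1,4,3,2,5,6,1,0,2]), (1255, [0,2,3,2,1,4,3,2,5,6,1,0,5]), (1256, [0,2,3,2,1,4,3,2,5,6,1,2,3]), (1257, [0,2,3,2,1,4,3,2,5,6,1,2,5]),
   (1258, [0,2,3,2,1,4,3,5,6,1,0,2,1]), (1259, [0,2,3,2,1,4,3,5,6,1,0,2,3])]

def chainYIdx0_14 : List (ℕ × List ℕ) :=
  [(1260, [0,2,3,2,1,4,3,5,6,1,2,3,5]), (1261, [0,2,3,2,1,4,3,5,6,1,2,5,1]), (1262, [0,2,3,2,4,3,2,1,0,5,1,0,1]), (1263, [0,2,3,2,4,3,2,1,0,5,1,0,2]),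
   (1264, [0,2,3,2,4,3,2,1,0,5,1,2,3]), (1265, [0,2,3,2,4,3,2,1,0,6,1,0,1]), (1266, [0,2,3,2,4,3,2,1,5,6,1,0,2]), (1267, [0,2,3,2,4,3,2,1,5,6,1,2,5]),
   (1268, [2,3,2,1,0,4,3,2,1,0,1,0,3]), (1269, [2,3,2,1,0,4,3,2,1,0,1,3,2]), (1270, [2,3,2,1,0,4,3,2,1,0,1,3,4]), (1271, [2,3,2,1,0,4,3,2,1,0,3,2,4]),
   (1272, [2,3,2,1,0,4,3,2,1,0,3,4,5]), (1273, [2,3,2,1,0,4,3,2,1,3,2,4,5]), (1274, [2,3,2,1,0,4,3,2,1,3,2,5,1]), (1275, [2,3,2,1,0,4,3,2,1,3,4,5,1]),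
   (1276, [2,3,2,1,0,4,3,2,1,3,4,5,6]), (1277, [2,3,2,1,0,4,3,2,1,3,5,1,0]), (1278, [2,3,2,1,0,4,3,2,1,6,5,1,2]), (1279, [2,3,2,1,0,4,3,2,3,4,5,1,0]),
   (1280, [2,3,2,1,0,4,3,2,3,4,5,1,2]), (1281, [2,3,2,1,0,4,3,2,3,4,5,1,6]), (1282, [2,3,2,1,0,4,3,2,3,4,6,1,0]), (1283, [2,3,2,1,0,4,3,2,3,4,6,1,5]),
   (1284, [2,3,2,1,0,4,3,2,3,5,1,0,1]), (1285, [2,3,2,1,0,4,3,2,5,1,0,1,0]), (1286, [2,3,2,1,0,4,3,2,5,1,0,1,2]), (1287, [2,3,2,1,0,4,3,2,5,1,0,1,6]),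
   (1288, [2,3,2,1,0,4,3,2,5,1,0,2,1]), (1289, [2,3,2,1,0,4,3,2,5,1,0,2,6]), (1290, [2,3,2,1,0,4,3,2,6,1,0,5,1]), (1291, [2,3,2,1,0,4,3,5,1,0,1,2,3]),
   (1292, [2,3,2,1,4,3,2,1,0,1,0,3,2]), (1293, [2,3,2,1,4,3,2,1,0,1,0,3,4]), (1294, [2,3,2,1,4,3,2,1,0,1,0,3,5]), (1295, [2,3,2,1,4,3,2,1,0,1,3,2,1]),
   (1296, [2,3,2,1,4,3,2,1,0,1,3,2,3]), (1297, [2,3,2,1,4,3,2,1,0,1,3,2,5]), (1298, [2,3,2,1,4,3,2,1,0,1,3,2,6]), (1299, [2,3,2,1,4,3,2,1,0,1,3,4,5]),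
   (1300, [2,3,2,1,4,3,2,1,0,1,3,6,5]), (1301, [2,3,2,1,4,3,2,1,0,3,2,1,4]), (1302, [2,3,2,1,4,3,2,1,0,3,2,4,5]), (1303, [2,3,2,1,4,3,2,1,0,3,6,1,5]),
   (1304, [2,3,2,1,4,3,2,1,3,2,4,5,1]), (1305, [2,3,2,1,4,3,2,1,3,2,4,5,6]), (1306, [2,3,2,1,4,3,2,1,3,2,5,1,2]), (1307, [2,3,2,1,4,3,2,1,3,2,5,6,1]),
   (1308, [2,3,2,1,4,3,2,1,3,4,5,1,0]), (1309, [2,3,2,1,4,3,2,1,3,4,5,1,2]), (1310, [2,3,2,1,4,3,2,1,3,4,5,1,6]), (1311, [2,3,2,1,4,3,2,1,3,4,5,6,1]),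
   (1312, [2,3,2,1,4,3,2,1,3,5,1,6,1]), (1313, [2,3,2,1,4,3,2,1,3,5,6,1,0]), (1314, [2,3,2,1,4,3,2,1,3,5,6,1,2]), (1315, [2,3,2,1,4,3,2,1,3,5,6,1,5]),
   (1316, [2,3,2,1,4,3,2,1,5,1,0,2,1]), (1317, [2,3,2,1,4,3,2,1,5,1,6,1,2]), (1318, [2,3,2,1,4,3,2,1,5,6,1,0,1]), (1319, [2,3,2,1,4,3,2,1,5,6,1,0,2]),
   (1320, [2,3,2,1,4,3,2,1,5,6,1,2,3]), (1321, [2,3,2,1,4,3,2,1,5,6,1,2,5]), (1322, [2,3,2,1,4,3,2,3,4,5,1,0,1]), (1323, [2,3,2,1,4,3,2,3,4,5,1,0,2]),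
   (1324, [2,3,2,1,4,3,2,3,4,5,1,0,6]), (1325, [2,3,2,1,4,3,2,3,4,5,1,2,3]), (1326, [2,3,2,1,4,3,2,3,4,5,1,6,1]), (1327, [2,3,2,1,4,3,2,3,4,5,6,1,0]),
   (1328, [2,3,2,1,4,3,2,3,4,5,6,1,2]), (1329, [2,3,2,1,4,3,2,3,5,1,0,1,2]), (1330, [2,3,2,1,4,3,2,3,5,6,1,0,1]), (1331, [2,3,2,1,4,3,2,3,5,6,1,0,2]),
   (1332, [2,3,2,1,4,3,2,5,1,0,2,1,0]), (1333, [2,3,2,1,4,3,2,5,1,0,2,1,6]), (1334, [2,3,2,1,4,3,2,5,1,0,2,6,1]), (1335, [2,3,2,1,4,3,2,5,1,6,1,0,2]),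
   (1336, [2,3,2,1,4,3,2,5,1,6,1,2,3]), (1337, [2,3,2,1,4,3,2,5,1,6,1,2,5]), (1338, [2,3,2,1,4,3,2,5,6,1,0,1,2]), (1339, [2,3,2,1,4,3,2,5,6,1,0,2,1]),
   (1340, [2,3,2,1,4,3,2,5,6,1,0,2,3]), (1341, [2,3,2,1,4,3,2,5,6,1,0,2,5]), (1342, [2,3,2,1,4,3,2,5,6,1,2,3,5]), (1343, [2,3,2,1,4,3,2,5,6,1,2,5,1]),
   (1344, [2,3,2,1,4,3,5,6,1,2,5,1,0]), (1345, [2,3,2,4,3,2,1,0,1,5,1,0,1]), (1346, [2,3,2,4,3,2,1,0,1,5,1,0,2]), (1347, [2,3,2,4,3,2,1,0,5,1,0,1,2]),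
   (1348, [2,3,2,4,3,2,1,0,5,1,0,2,1]), (1349, [2,3,2,4,3,2,1,0,5,1,0,2,3])]

def chainYIdx0_15 : List (ℕ × List ℕ) :=
  [(1350, [2,3,2,4,3,2,1,0,5,1,2,3,4]), (1351, [2,3,2,4,3,2,1,0,6,1,0,2,5]), (1352, [2,3,2,4,3,2,1,0,6,1,2,5,1]), (1353, [2,3,2,4,3,2,1,0,6,1,2,5,6]),
   (1354, [2,3,2,4,3,2,1,5,1,0,1,0,2]), (1355, [2,3,2,4,3,2,1,5,1,0,1,0,5]), (1356, [2,3,2,4,3,2,1,5,1,0,1,2,1]), (1357, [2,3,2,4,3,2,1,5,1,0,1,2,3]),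
   (1358, [2,3,2,4,3,2,1,5,1,0,1,2,5]), (1359, [2,3,2,4,3,2,1,5,1,0,1,2,6]), (1360, [2,3,2,4,3,2,1,5,1,0,2,1,0]), (1361, [2,3,2,4,3,2,1,5,1,0,2,1,5]),
   (1362, [2,3,2,4,3,2,1,5,1,0,2,1,6]), (1363, [2,3,2,4,3,2,1,5,6,1,2,5,1]), (1364, [2,3,2,4,3,2,5,1,0,1,2,1,5]), (1365, [2,3,2,4,3,2,5,1,0,1,2,5,1]),
   (1366, [2,3,2,4,3,2,5,1,0,2,1,0,5]), (1367, [2,3,2,4,3,2,5,1,0,2,1,5,6]), (1368, [2,3,2,4,3,2,5,1,0,2,1,6,5]), (1369, [2,3,2,4,3,2,5,1,6,5,1,0,2]),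
   (1370, [2,3,2,4,3,2,5,1,6,5,1,2,3]), (1371, [2,3,2,4,3,2,5,1,6,5,1,2,6]), (1372, [0,1,2,1,3,2,1,4,3,2,1,5,1,0]), (1373, [0,1,2,1,3,2,1,4,3,2,1,5,1,2]),
   (1374, [0,1,2,1,3,2,1,4,3,2,1,5,1,6]), (1375, [0,1,2,1,3,2,1,4,3,2,3,5,1,0]), (1376, [0,1,2,1,3,2,1,4,3,2,5,1,0,1]), (1377, [0,1,2,1,3,2,1,4,3,2,5,1,0,2]),
   (1378, [0,1,2,1,3,2,1,4,3,2,5,1,0,6]), (1379, [0,1,2,1,3,2,1,4,3,2,5,1,2,3]), (1380, [0,1,2,1,3,2,1,4,3,2,5,1,2,6]), (1381, [0,1,2,1,3,2,1,4,3,2,5,1,6,5]),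
   (1382, [0,1,2,1,3,2,1,4,3,5,1,2,3,4]), (1383, [0,1,2,1,3,2,4,3,2,1,0,5,1,0]), (1384, [0,1,2,1,3,2,4,3,2,1,5,1,0,1]), (1385, [0,1,2,1,3,2,4,3,2,1,5,1,0,2]),
   (1386, [0,1,2,1,3,2,4,3,2,1,5,1,2,3]), (1387, [0,1,2,1,3,2,4,3,2,1,6,5,1,0]), (1388, [0,1,2,1,3,2,4,3,2,5,1,0,1,0]), (1389, [0,1,2,1,3,2,4,3,2,5,1,0,1,2]),
   (1390, [0,1,2,1,3,2,4,3,2,5,1,0,1,5]), (1391, [0,1,2,1,3,2,4,3,2,5,1,0,1,6]), (1392, [0,1,2,1,3,2,4,3,2,5,1,2,3,2]), (1393, [0,1,2,1,3,2,4,3,2,5,1,2,3,4]),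
   (1394, [0,1,2,1,3,2,4,3,2,5,1,2,6,1]), (1395, [0,1,2,1,3,2,4,3,5,1,2,3,4,6]), (1396, [0,1,2,1,3,2,4,3,5,1,2,3,6,1]), (1397, [0,1,2,1,3,2,4,3,5,1,2,6,1,0]),
   (1398, [0,1,2,3,2,1,4,3,2,1,0,1,0,5]), (1399, [0,1,2,3,2,1,4,3,2,1,0,1,5,1]), (1400, [0,1,2,3,2,1,4,3,2,1,0,1,5,6]), (1401, [0,1,2,3,2,1,4,3,2,1,0,5,1,2]),
   (1402, [0,1,2,3,2,1,4,3,2,1,0,5,1,6]), (1403, [0,1,2,3,2,1,4,3,2,1,3,5,1,0]), (1404, [0,1,2,3,2,1,4,3,2,1,3,5,1,6]), (1405, [0,1,2,3,2,1,4,3,2,1,5,1,0,1]),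
   (1406, [0,1,2,3,2,1,4,3,2,1,5,1,6,1]), (1407, [0,1,2,3,2,1,4,3,2,3,2,1,5,1]), (1408, [0,1,2,3,2,1,4,3,2,3,2,5,1,0]), (1409, [0,1,2,3,2,1,4,3,2,3,5,1,0,2]),
   (1410, [0,1,2,3,2,1,4,3,2,3,5,1,0,6]), (1411, [0,1,2,3,2,1,4,3,2,5,1,0,1,0]), (1412, [0,1,2,3,2,1,4,3,2,5,1,0,1,6]), (1413, [0,1,2,3,2,1,4,3,2,5,1,0,6,1]),
   (1414, [0,1,2,3,2,1,4,3,2,5,1,6,1,0]), (1415, [0,1,2,3,2,1,4,3,2,5,1,6,1,2]), (1416, [0,1,2,3,2,1,4,3,2,5,6,1,0,1]), (1417, [0,1,2,3,2,1,4,3,2,5,6,1,0,2]),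
   (1418, [0,1,2,3,2,1,4,3,2,5,6,1,2,3]), (1419, [0,1,2,3,2,1,4,3,2,5,6,1,2,5]), (1420, [0,1,2,3,2,4,3,2,1,0,1,0,2,5]), (1421, [0,1,2,3,2,4,3,2,1,0,1,2,5,1]),
   (1422, [0,1,2,3,2,4,3,2,1,0,1,2,5,6]), (1423, [0,1,2,3,2,4,3,2,1,0,1,5,1,2]), (1424, [0,1,2,3,2,4,3,2,1,0,5,1,2,3]), (1425, [0,1,2,3,2,4,3,2,1,5,6,1,0,2]),
   (1426, [0,1,2,3,2,4,3,2,1,5,6,1,2,3]), (1427, [0,1,2,3,2,4,3,2,1,6,5,1,0,2]), (1428, [0,1,2,3,2,4,3,2,1,6,5,1,2,3]), (1429, [0,1,2,3,2,4,3,2,1,6,5,1,2,6]),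
   (1430, [0,2,1,3,2,1,0,1,4,3,2,1,0,5]), (1431, [0,2,1,3,2,1,0,1,4,3,2,1,3,2]), (1432, [0,2,1,3,2,1,0,1,4,3,2,1,3,5]), (1433, [0,2,1,3,2,1,0,1,4,3,2,3,5,1]),
   (1434, [0,2,1,3,2,1,3,4,3,2,1,0,1,5]), (1435, [0,2,1,3,2,1,3,4,3,2,1,0,3,2]), (1436, [0,2,1,3,2,1,3,4,3,2,1,3,2,5]), (1437, [0,2,1,3,2,1,3,4,3,2,1,3,5,1]),
   (1438, [0,2,1,3,2,1,3,4,3,2,1,5,1,0]), (1439, [0,2,1,3,2,1,3,4,3,2,1,6,5,1])]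

def chainYIdx0_16 : List (ℕ × List ℕ) :=
  [(1440, [0,2,1,3,2,1,3,4,3,2,3,4,5,1]), (1441, [0,2,1,3,2,1,3,4,3,2,3,4,5,6]), (1442, [0,2,1,3,2,1,3,4,3,2,3,5,1,0]), (1443, [0,2,1,3,2,1,3,4,3,2,3,5,1,2]),
   (1444, [0,2,1,3,2,1,3,4,3,2,3,5,1,6]), (1445, [0,2,1,3,2,1,3,4,3,2,3,5,6,1]), (1446, [0,2,1,3,2,1,3,4,3,2,3,6,5,1]), (1447, [0,2,1,3,2,1,3,4,3,2,5,1,0,1]),
   (1448, [0,2,1,3,2,1,3,4,3,2,5,1,0,2]), (1449, [0,2,1,3,2,1,3,4,3,2,5,1,0,6]), (1450, [0,2,1,3,2,1,3,4,3,2,5,1,6,1]), (1451, [0,2,1,3,2,1,3,4,3,2,5,1,6,5]),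
   (1452, [0,2,1,3,2,1,3,4,3,2,5,6,1,0]), (1453, [0,2,1,3,2,1,3,4,3,5,1,2,3,4]), (1454, [0,2,1,3,2,1,4,3,2,1,3,5,1,2]), (1455, [0,2,1,3,2,1,4,3,2,1,6,5,1,0]),
   (1456, [0,2,1,3,2,1,4,3,2,1,6,5,1,2]), (1457, [0,2,1,3,2,1,4,3,2,1,6,5,1,6]), (1458, [0,2,1,3,2,1,4,3,2,3,4,5,1,2]), (1459, [0,2,1,3,2,1,4,3,2,3,4,5,6,1]),
   (1460, [0,2,1,3,2,1,4,3,2,3,5,1,6,5]), (1461, [0,2,1,3,2,1,4,3,2,3,5,6,1,0]), (1462, [0,2,1,3,2,1,4,3,2,3,6,5,1,2]), (1463, [0,2,1,3,2,1,4,3,2,5,1,0,1,2]),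
   (1464, [0,2,1,3,2,1,4,3,2,5,1,0,2,1]), (1465, [0,2,1,3,2,1,4,3,2,5,1,6,1,0]), (1466, [0,2,1,3,2,1,4,3,2,5,1,6,5,1]), (1467, [0,2,1,3,2,1,4,3,5,1,0,2,1,0]),
   (1468, [0,2,1,3,2,1,4,3,5,1,0,2,1,3]), (1469, [0,2,1,3,2,1,4,3,5,1,0,2,1,5]), (1470, [0,2,1,3,2,1,4,3,5,1,0,2,1,6]), (1471, [0,2,1,3,2,1,4,3,5,1,0,2,3,4]),
   (1472, [0,2,1,3,2,3,2,4,3,2,1,0,5,1]), (1473, [0,2,1,3,2,3,2,4,3,2,1,6,5,1]), (1474, [0,2,1,3,2,3,4,3,2,1,0,1,5,1]), (1475, [0,2,1,3,2,3,4,3,2,1,0,3,5,1]),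
   (1476, [0,2,1,3,2,3,4,3,2,1,0,5,1,0]), (1477, [0,2,1,3,2,3,4,3,2,1,0,5,1,2]), (1478, [0,2,1,3,2,3,4,3,2,1,0,5,1,6]), (1479, [0,2,1,3,2,3,4,3,2,1,3,2,3,2]),
   (1480, [0,2,1,3,2,3,4,3,2,1,3,5,1,6]), (1481, [0,2,1,3,2,3,4,3,2,1,5,1,0,2]), (1482, [0,2,1,3,2,3,4,3,2,1,5,1,2,3]), (1483, [0,2,1,3,2,3,4,3,2,1,6,5,1,0]),
   (1484, [0,2,1,3,2,3,4,3,2,1,6,5,1,2]), (1485, [0,2,1,3,2,3,4,3,2,3,5,1,0,2]), (1486, [0,2,1,3,2,3,4,3,2,3,5,1,0,6]), (1487, [0,2,1,3,2,3,4,3,2,5,1,0,1,2]),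
   (1488, [0,2,1,3,2,3,4,3,2,5,1,0,2,1]), (1489, [0,2,1,3,2,3,4,3,2,5,1,0,2,3]), (1490, [0,2,1,3,2,3,4,3,2,5,1,0,2,6]), (1491, [0,2,1,3,2,3,4,3,2,5,1,0,6,1]),
   (1492, [0,2,1,3,2,3,4,3,2,5,1,2,3,2]), (1493, [0,2,1,3,2,3,4,3,2,5,1,2,3,4]), (1494, [0,2,1,3,2,3,4,3,2,5,1,2,3,6]), (1495, [0,2,1,3,2,3,4,3,2,5,1,2,6,5]),
   (1496, [0,2,1,3,2,3,4,5,1,2,3,2,3,4]), (1497, [0,2,1,3,2,4,3,2,1,0,1,0,5,1]), (1498, [0,2,1,3,2,4,3,2,1,0,1,2,5,1]), (1499, [0,2,1,3,2,4,3,2,1,0,1,5,1,0]),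
   (1500, [0,2,1,3,2,4,3,2,1,0,1,5,1,2]), (1501, [0,2,1,3,2,4,3,2,1,0,1,5,1,6]), (1502, [0,2,1,3,2,4,3,2,1,0,5,1,0,1]), (1503, [0,2,1,3,2,4,3,2,1,0,5,1,2,3]),
   (1504, [0,2,1,3,2,4,3,2,1,0,5,1,6,5]), (1505, [0,2,1,3,2,4,3,2,1,5,1,0,2,1]), (1506, [0,2,1,3,2,4,3,2,1,6,1,5,1,0]), (1507, [0,2,1,3,2,4,3,2,1,6,1,5,1,2]),
   (1508, [0,2,1,3,2,4,3,2,1,6,5,1,0,1]), (1509, [0,2,1,3,2,4,3,2,1,6,5,1,0,2]), (1510, [0,2,1,3,2,4,3,2,1,6,5,1,2,3]), (1511, [0,2,1,3,2,4,3,2,1,6,5,1,2,6]),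
   (1512, [0,2,1,3,2,4,3,2,5,1,0,1,0,2]), (1513, [0,2,1,3,2,4,3,2,5,1,0,1,2,1]), (1514, [0,2,1,3,2,4,3,2,5,1,0,1,2,6]), (1515, [0,2,1,3,2,4,3,2,5,1,0,1,6,1]),
   (1516, [0,2,1,3,2,4,3,2,5,1,0,2,1,6]), (1517, [0,2,1,3,2,4,3,2,5,1,0,2,6,1]), (1518, [0,2,1,3,2,4,3,2,5,1,0,6,1,0]), (1519, [0,2,1,3,2,4,3,2,5,1,2,3,4,6]),
   (1520, [0,2,1,3,2,4,3,2,5,1,2,3,6,1]), (1521, [0,2,1,3,2,4,3,2,5,1,2,6,1,0]), (1522, [0,2,1,3,2,4,3,2,5,1,2,6,1,5]), (1523, [0,2,1,3,2,4,3,2,6,1,0,5,1,0]),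
   (1524, [0,2,1,3,2,4,3,2,6,1,5,1,0,1]), (1525, [0,2,1,3,2,4,3,2,6,1,5,1,0,2]), (1526, [0,2,1,3,2,4,3,2,6,1,5,1,2,6]), (1527, [0,2,1,3,2,4,3,2,6,5,1,0,1,0]),
   (1528, [0,2,1,3,2,4,3,2,6,5,1,0,1,2]), (1529, [0,2,1,3,2,4,3,2,6,5,1,0,1,5])]

def chainYIdx0_17 : List (ℕ × List ℕ) :=
  [(1530, [0,2,1,3,2,4,3,2,6,5,1,0,1,6]), (1531, [0,2,1,3,2,4,3,2,6,5,1,0,2,1]), (1532, [0,2,1,3,2,4,3,2,6,5,1,0,2,3]), (1533, [0,2,1,3,2,4,3,2,6,5,1,0,2,6]),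
   (1534, [0,2,1,3,2,4,3,2,6,5,1,2,3,6]), (1535, [0,2,1,3,2,4,3,5,1,0,2,1,0,1]), (1536, [0,2,1,3,2,4,3,5,1,0,2,1,0,3]), (1537, [0,2,1,3,2,4,3,5,1,0,2,1,0,5]),
   (1538, [0,2,1,3,2,4,3,5,1,0,2,1,0,6]), (1539, [0,2,1,3,2,4,3,5,1,0,2,1,3,2]), (1540, [0,2,1,3,2,4,3,5,1,0,2,1,3,4]), (1541, [0,2,1,3,2,4,3,5,1,0,2,1,3,5]),
   (1542, [0,2,1,3,2,4,3,5,1,0,2,1,3,6]), (1543, [0,2,1,3,2,4,3,5,1,0,2,1,5,6]), (1544, [0,2,1,3,2,4,3,5,1,0,2,1,6,5]), (1545, [0,2,1,3,2,4,3,5,1,2,3,4,6,1]),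
   (1546, [0,2,1,3,2,4,3,5,1,2,3,4,6,5]), (1547, [0,2,1,3,2,4,3,5,1,2,3,6,1,0]), (1548, [0,2,1,3,2,4,3,5,1,2,3,6,1,2]), (1549, [0,2,1,3,2,4,3,5,1,2,3,6,1,5]),
   (1550, [0,2,1,3,2,4,3,5,1,2,6,1,0,5]), (1551, [0,2,1,3,2,4,3,5,1,2,6,1,5,1]), (1552, [0,2,1,3,2,4,3,5,1,2,6,1,5,6]), (1553, [0,2,1,3,2,4,3,5,1,2,6,5,1,0]),
   (1554, [0,2,3,2,1,0,4,3,2,1,0,3,4,5]), (1555, [0,2,3,2,1,0,4,3,2,1,3,4,5,1]), (1556, [0,2,3,2,1,0,4,3,2,1,3,5,1,2]), (1557, [0,2,3,2,1,0,4,3,2,1,3,6,5,1]),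
   (1558, [0,2,3,2,1,0,4,3,2,1,5,1,2,3]), (1559, [0,2,3,2,1,0,4,3,2,1,6,5,1,2]), (1560, [0,2,3,2,1,0,4,3,2,3,4,5,1,0]), (1561, [0,2,3,2,1,0,4,3,2,3,4,5,1,2]),
   (1562, [0,2,3,2,1,0,4,3,2,3,4,5,1,6]), (1563, [0,2,3,2,1,0,4,3,2,3,5,1,0,2]), (1564, [0,2,3,2,1,0,4,3,2,3,5,1,0,6]), (1565, [0,2,3,2,1,0,4,3,2,3,5,1,2,3]),
   (1566, [0,2,3,2,1,0,4,3,2,3,5,1,2,6]), (1567, [0,2,3,2,1,0,4,3,2,5,1,0,2,1]), (1568, [0,2,3,2,1,0,4,3,2,5,1,0,2,3]), (1569, [0,2,3,2,1,0,4,3,2,5,1,0,2,6]),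
   (1570, [0,2,3,2,1,0,4,3,2,5,1,2,3,2]), (1571, [0,2,3,2,1,0,4,3,2,5,1,2,3,4]), (1572, [0,2,3,2,1,0,4,3,2,5,1,2,3,6]), (1573, [0,2,3,2,1,0,4,3,5,1,2,3,6,1]),
   (1574, [0,2,3,2,1,0,4,5,1,2,3,2,1,0]), (1575, [0,2,3,2,1,0,4,5,1,2,3,2,1,3]), (1576, [0,2,3,2,1,0,4,5,1,2,3,2,1,5]), (1577, [0,2,3,2,1,0,4,5,1,2,3,2,1,6]),
   (1578, [0,2,3,2,1,4,3,2,1,3,4,5,1,0]), (1579, [0,2,3,2,1,4,3,2,3,2,1,4,3,2]), (1580, [0,2,3,2,1,4,3,2,3,4,5,1,0,2]), (1581, [0,2,3,2,1,4,3,2,3,4,5,1,0,6]),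
   (1582, [0,2,3,2,1,4,3,2,3,4,5,1,6,1]), (1583, [0,2,3,2,1,4,3,2,3,4,5,6,1,0]), (1584, [0,2,3,2,1,4,3,2,3,4,5,6,1,2]), (1585, [0,2,3,2,1,4,3,2,3,5,1,2,6,1]),
   (1586, [0,2,3,2,1,4,3,2,3,5,1,6,1,2]), (1587, [0,2,3,2,1,4,3,2,3,5,1,6,1,5]), (1588, [0,2,3,2,1,4,3,2,3,5,6,1,0,2]), (1589, [0,2,3,2,1,4,3,2,3,5,6,1,2,3]),
   (1590, [0,2,3,2,1,4,3,2,5,1,6,1,0,2]), (1591, [0,2,3,2,1,4,3,2,5,1,6,1,2,3]), (1592, [0,2,3,2,1,4,3,2,5,6,1,2,5,1]), (1593, [0,2,3,2,1,4,3,5,6,1,0,2,1,6]),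
   (1594, [0,2,3,2,1,4,3,5,6,1,2,3,5,1]), (1595, [0,2,3,2,1,4,3,5,6,1,2,5,1,0]), (1596, [0,2,3,2,4,3,2,1,0,5,1,0,1,2]), (1597, [2,3,2,1,0,4,3,2,1,0,1,0,3,2]),
   (1598, [2,3,2,1,0,4,3,2,1,0,1,3,2,3]), (1599, [2,3,2,1,0,4,3,2,1,3,2,4,5,1]), (1600, [2,3,2,1,0,4,3,2,1,3,4,5,1,0]), (1601, [2,3,2,1,0,4,3,2,1,6,5,1,2,3]),
   (1602, [2,3,2,1,0,4,3,2,3,4,5,1,0,1]), (1603, [2,3,2,1,0,4,3,2,3,5,1,0,1,0]), (1604, [2,3,2,1,0,4,3,2,3,5,1,0,1,2]), (1605, [2,3,2,1,0,4,3,2,3,5,1,0,1,6]),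
   (1606, [2,3,2,1,0,4,3,2,5,1,0,2,1,6]), (1607, [2,3,2,1,0,4,3,2,5,1,0,2,6,1]), (1608, [2,3,2,1,4,3,2,1,0,1,0,3,2,1]), (1609, [2,3,2,1,4,3,2,1,0,1,0,3,2,3]),
   (1610, [2,3,2,1,4,3,2,1,0,1,0,3,2,5]), (1611, [2,3,2,1,4,3,2,1,0,1,3,2,1,3]), (1612, [2,3,2,1,4,3,2,1,0,1,3,2,3,5]), (1613, [2,3,2,1,4,3,2,1,0,1,3,2,6,5]),
   (1614, [2,3,2,1,4,3,2,1,3,2,4,5,1,2]), (1615, [2,3,2,1,4,3,2,1,3,2,4,5,6,1]), (1616, [2,3,2,1,4,3,2,1,3,2,5,6,1,0]), (1617, [2,3,2,1,4,3,2,1,3,2,5,6,1,2]),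
   (1618, [2,3,2,1,4,3,2,1,3,4,5,1,2,3]), (1619, [2,3,2,1,4,3,2,1,3,4,5,6,1,2])]

def chainYIdx0_18 : List (ℕ × List ℕ) :=
  [(1620, [2,3,2,1,4,3,2,1,3,5,1,6,1,2]), (1621, [2,3,2,1,4,3,2,1,3,5,6,1,0,1]), (1622, [2,3,2,1,4,3,2,1,3,5,6,1,0,2]), (1623, [2,3,2,1,4,3,2,1,3,5,6,1,2,5]),
   (1624, [2,3,2,1,4,3,2,3,4,5,1,0,1,2]), (1625, [2,3,2,1,4,3,2,3,4,5,6,1,0,1]), (1626, [2,3,2,1,4,3,2,3,4,5,6,1,0,2]), (1627, [2,3,2,1,4,3,2,3,5,6,1,0,1,2]),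
   (1628, [2,3,2,1,4,3,2,5,1,6,1,0,2,3]), (1629, [2,3,2,1,4,3,2,5,1,6,1,2,5,1]), (1630, [2,3,2,1,4,3,5,6,1,2,5,1,0,1]), (1631, [2,3,2,4,3,2,1,0,1,5,1,0,1,2]),
   (1632, [2,3,2,4,3,2,1,0,1,5,1,0,2,1]), (1633, [2,3,2,4,3,2,1,0,5,1,0,1,2,1]), (1634, [2,3,2,4,3,2,1,0,5,1,0,1,2,3]), (1635, [2,3,2,4,3,2,1,0,5,1,0,2,1,3]),
   (1636, [2,3,2,4,3,2,1,0,5,1,0,2,1,5]), (1637, [2,3,2,4,3,2,1,0,5,1,0,2,1,6]), (1638, [2,3,2,4,3,2,1,0,5,1,0,2,3,4]), (1639, [2,3,2,4,3,2,1,0,6,1,2,5,1,0]),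
   (1640, [2,3,2,4,3,2,1,0,6,1,2,5,1,6]), (1641, [2,3,2,4,3,2,1,5,1,0,1,0,2,1]), (1642, [2,3,2,4,3,2,1,5,1,0,1,0,2,3]), (1643, [2,3,2,4,3,2,1,5,1,0,1,0,2,5]),
   (1644, [2,3,2,4,3,2,1,5,1,0,1,2,1,0]), (1645, [2,3,2,4,3,2,1,5,1,0,1,2,1,3]), (1646, [2,3,2,4,3,2,1,5,1,0,1,2,1,6]), (1647, [2,3,2,4,3,2,1,5,1,0,1,2,3,2]),
   (1648, [2,3,2,4,3,2,1,5,1,0,1,2,3,4]), (1649, [2,3,2,4,3,2,1,5,1,0,1,2,3,5]), (1650, [2,3,2,4,3,2,1,5,1,0,1,2,3,6]), (1651, [2,3,2,4,3,2,1,5,1,0,1,2,5,1]),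
   (1652, [2,3,2,4,3,2,1,5,1,0,1,2,6,1]), (1653, [2,3,2,4,3,2,1,5,1,0,2,1,0,6]), (1654, [2,3,2,4,3,2,1,5,1,0,2,1,6,5]), (1655, [2,3,2,4,3,2,1,5,6,1,2,5,1,0]),
   (1656, [2,3,2,4,3,2,1,5,6,1,2,5,1,6]), (1657, [2,3,2,4,3,2,5,1,0,2,1,0,5,1]), (1658, [2,3,2,4,3,2,5,1,0,2,1,6,5,1]), (1659, [2,3,2,4,3,2,5,1,6,5,1,0,2,3]),
   (1660, [2,3,2,4,3,2,5,1,6,5,1,2,3,2]), (1661, [2,3,2,4,3,2,5,1,6,5,1,2,3,4]), (1662, [2,3,2,4,3,2,5,1,6,5,1,2,3,6]), (1663, [0,1,2,1,3,2,1,4,3,2,1,5,1,0,2]),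
   (1664, [0,1,2,1,3,2,1,4,3,2,5,1,0,1,2]), (1665, [0,1,2,1,3,2,1,4,3,2,5,1,2,3,4]), (1666, [0,1,2,1,3,2,4,3,2,1,0,5,1,0,1]), (1667, [0,1,2,1,3,2,4,3,2,1,5,1,0,1,6]),
   (1668, [0,1,2,1,3,2,4,3,2,1,6,5,1,0,1]), (1669, [0,1,2,1,3,2,4,3,2,5,1,0,1,0,2]), (1670, [0,1,2,1,3,2,4,3,2,5,1,0,1,2,3]), (1671, [0,1,2,1,3,2,4,3,2,5,1,0,1,2,5]),
   (1672, [0,1,2,1,3,2,4,3,2,5,1,2,3,2,4]), (1673, [0,1,2,1,3,2,4,3,2,5,1,2,6,1,5]), (1674, [0,1,2,1,3,2,4,3,5,1,2,3,6,1,2]), (1675, [0,1,2,3,2,1,4,3,2,1,0,1,5,1,2]),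
   (1676, [0,1,2,3,2,1,4,3,2,1,0,1,5,1,6]), (1677, [0,1,2,3,2,1,4,3,2,5,1,0,6,1,2]), (1678, [0,1,2,3,2,1,4,3,2,5,1,6,1,0,2]), (1679, [0,1,2,3,2,1,4,3,2,5,1,6,1,2,3]),
   (1680, [0,1,2,3,2,1,4,3,2,5,6,1,0,2,1]), (1681, [0,1,2,3,2,1,4,3,2,5,6,1,0,2,3]), (1682, [0,1,2,3,2,1,4,3,2,5,6,1,2,3,2]), (1683, [0,1,2,3,2,4,3,2,1,0,1,2,5,1,2]),
   (1684, [0,1,2,3,2,4,3,2,1,0,1,5,1,2,3]), (1685, [0,1,2,3,2,4,3,2,1,0,5,1,2,3,2]), (1686, [0,1,2,3,2,4,3,2,1,0,5,1,2,3,4]), (1687, [0,1,2,3,2,4,3,2,1,6,5,1,2,3,4]),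
   (1688, [0,2,1,3,2,1,0,1,4,3,2,1,3,2,5]), (1689, [0,2,1,3,2,1,0,1,4,3,2,3,5,1,2]), (1690, [0,2,1,3,2,1,3,4,3,2,1,3,2,5,1]), (1691, [0,2,1,3,2,1,3,4,3,2,1,3,5,1,2]),
   (1692, [0,2,1,3,2,1,3,4,3,2,1,6,5,1,2]), (1693, [0,2,1,3,2,1,3,4,3,2,1,6,5,1,6]), (1694, [0,2,1,3,2,1,3,4,3,2,3,4,5,1,2]), (1695, [0,2,1,3,2,1,3,4,3,2,3,5,1,0,2]),
   (1696, [0,2,1,3,2,1,3,4,3,2,3,5,1,2,6]), (1697, [0,2,1,3,2,1,3,4,3,2,3,5,1,6,1]), (1698, [0,2,1,3,2,1,3,4,3,2,3,5,1,6,5]), (1699, [0,2,1,3,2,1,3,4,3,2,3,5,6,1,2]),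
   (1700, [0,2,1,3,2,1,3,4,3,2,3,6,5,1,2]), (1701, [0,2,1,3,2,1,3,4,3,2,5,1,6,1,0]), (1702, [0,2,1,3,2,1,4,3,2,5,1,6,5,1,2]), (1703, [0,2,1,3,2,1,4,3,5,1,0,2,1,0,1]),
   (1704, [0,2,1,3,2,1,4,3,5,1,0,2,1,0,6]), (1705, [0,2,1,3,2,1,4,3,5,1,0,2,1,3,4]), (1706, [0,2,1,3,2,1,4,3,5,1,0,2,1,5,6]), (1707, [0,2,1,3,2,1,4,3,5,1,0,2,1,6,5]),
   (1708, [0,2,1,3,2,3,2,4,3,2,1,6,5,1,2]), (1709, [0,2,1,3,2,3,4,3,2,1,0,3,5,1,6])]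

def chainYIdx0_19 : List (ℕ × List ℕ) :=
  [(1710, [0,2,1,3,2,3,4,3,2,1,6,5,1,0,2]), (1711, [0,2,1,3,2,3,4,3,2,5,1,0,1,2,1]), (1712, [0,2,1,3,2,3,4,3,2,5,1,0,1,2,3]), (1713, [0,2,1,3,2,3,4,3,2,5,1,2,3,2,4]),
   (1714, [0,2,1,3,2,3,4,3,2,5,1,2,3,4,6]), (1715, [0,2,1,3,2,4,3,2,1,0,1,0,5,1,6]), (1716, [0,2,1,3,2,4,3,2,1,0,1,5,1,2,3]), (1717, [0,2,1,3,2,4,3,2,1,6,1,5,1,2,3]),
   (1718, [0,2,1,3,2,4,3,2,1,6,5,1,0,2,3]), (1719, [0,2,1,3,2,4,3,2,5,1,0,1,2,1,6]), (1720, [0,2,1,3,2,4,3,2,5,1,0,2,1,6,1]), (1721, [0,2,1,3,2,4,3,2,5,1,0,2,6,1,0]),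
   (1722, [0,2,1,3,2,4,3,2,6,1,0,5,1,0,1]), (1723, [0,2,1,3,2,4,3,2,6,1,5,1,0,2,1]), (1724, [0,2,1,3,2,4,3,2,6,5,1,0,2,1,5]), (1725, [0,2,1,3,2,4,3,2,6,5,1,0,2,1,6]),
   (1726, [0,2,1,3,2,4,3,2,6,5,1,0,2,3,6]), (1727, [0,2,1,3,2,4,3,5,1,0,2,1,0,3,2]), (1728, [0,2,1,3,2,4,3,5,1,0,2,1,0,3,5]), (1729, [0,2,1,3,2,4,3,5,1,0,2,1,0,3,6]),
   (1730, [0,2,1,3,2,4,3,5,1,0,2,1,0,6,1]), (1731, [0,2,1,3,2,4,3,5,1,0,2,1,3,2,6]), (1732, [0,2,1,3,2,4,3,5,1,0,2,1,3,4,6]), (1733, [0,2,1,3,2,4,3,5,1,0,2,1,3,5,6]),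
   (1734, [0,2,1,3,2,4,3,5,1,0,2,1,3,6,5]), (1735, [0,2,1,3,2,4,3,5,1,2,6,1,5,1,6]), (1736, [0,2,3,2,1,0,4,3,2,1,3,6,5,1,2]), (1737, [0,2,3,2,1,0,4,3,2,3,4,5,1,2,6]),
   (1738, [0,2,3,2,1,0,4,3,2,3,5,1,0,2,6]), (1739, [0,2,3,2,1,0,4,3,2,3,5,1,2,3,2]), (1740, [0,2,3,2,1,0,4,3,2,5,1,0,2,1,3]), (1741, [0,2,3,2,1,0,4,3,2,5,1,0,2,3,2]),
   (1742, [0,2,3,2,1,0,4,5,1,2,3,2,1,0,3]), (1743, [0,2,3,2,1,0,4,5,1,2,3,2,1,0,6]), (1744, [0,2,3,2,1,0,4,5,1,2,3,2,1,6,5]), (1745, [0,2,3,2,1,4,3,2,3,4,5,1,6,1,5]),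
   (1746, [0,2,3,2,1,4,3,2,3,4,5,6,1,0,2]), (1747, [0,2,3,2,1,4,3,2,3,4,5,6,1,2,3]), (1748, [0,2,3,2,1,4,3,2,3,5,1,6,1,2,5]), (1749, [0,2,3,2,4,3,2,1,0,5,1,0,1,2,3]),
   (1750, [2,3,2,1,0,4,3,2,1,0,1,0,3,2,1]), (1751, [2,3,2,1,0,4,3,2,3,4,5,1,0,1,2]), (1752, [2,3,2,1,0,4,3,2,3,5,1,0,1,0,2]), (1753, [2,3,2,1,0,4,3,2,3,5,1,0,1,2,6]),
   (1754, [2,3,2,1,4,3,2,1,0,1,0,3,2,1,3]), (1755, [2,3,2,1,4,3,2,1,0,1,3,2,6,5,1]), (1756, [2,3,2,1,4,3,2,1,3,2,4,5,6,1,2]), (1757, [2,3,2,1,4,3,2,1,3,2,5,6,1,0,2]),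
   (1758, [2,3,2,1,4,3,2,1,3,5,6,1,0,1,2]), (1759, [2,3,2,1,4,3,2,1,3,5,6,1,0,2,1]), (1760, [2,3,2,1,4,3,2,3,4,5,6,1,0,1,2]), (1761, [2,3,2,1,4,3,5,6,1,2,5,1,0,1,0]),
   (1762, [2,3,2,1,4,3,5,6,1,2,5,1,0,1,2]), (1763, [2,3,2,1,4,3,5,6,1,2,5,1,0,1,6]), (1764, [2,3,2,4,3,2,1,0,5,1,0,2,1,3,6]), (1765, [2,3,2,4,3,2,1,5,1,0,1,0,2,3,2]),
   (1766, [2,3,2,4,3,2,1,5,1,0,1,0,2,3,4]), (1767, [2,3,2,4,3,2,1,5,1,0,1,0,2,3,5]), (1768, [2,3,2,4,3,2,1,5,1,0,1,2,3,2,1]), (1769, [2,3,2,4,3,2,1,5,1,0,1,2,3,2,3]),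
   (1770, [2,3,2,4,3,2,1,5,1,0,1,2,3,4,6]), (1771, [2,3,2,4,3,2,1,5,1,0,1,2,3,5,1]), (1772, [2,3,2,4,3,2,1,5,6,1,2,5,1,0,6]), (1773, [0,2,1,3,2,1,0,1,4,3,2,1,3,2,5,1]),
   (1774, [0,2,1,3,2,1,3,4,3,2,1,3,2,5,1,2]), (1775, [0,2,1,3,2,1,3,4,3,2,3,5,1,2,6,1]), (1776, [0,2,1,3,2,1,3,4,3,2,3,5,1,2,6,5]), (1777, [0,2,1,3,2,1,3,4,3,2,3,5,1,6,1,2]),
   (1778, [0,2,1,3,2,4,3,5,1,0,2,1,0,3,6,1]), (1779, [2,3,2,1,0,4,3,2,3,5,1,0,1,0,2,1]), (1780, [2,3,2,1,4,3,2,1,3,5,6,1,0,1,2,1]), (1781, [0,2,1,3,2,1,3,4,3,2,3,5,1,2,6,1,2])]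

def chainYIdx0 : List (ℕ × List ℕ) :=
  chainYIdx0_0 ++ chainYIdx0_1 ++ chainYIdx0_2 ++ chainYIdx0_3 ++ chainYIdx0_4 ++ chainYIdx0_5 ++ chainYIdx0_6 ++ chainYIdx0_7 ++ chainYIdx0_8 ++ chainYIdx0_9 ++ chainYIdx0_10 ++ chainYIdx0_11 ++ chainYIdx0_12 ++ chainYIdx0_13 ++ chainYIdx0_14 ++ chainYIdx0_15 ++ chainYIdx0_16 ++ chainYIdx0_17 ++ chainYIdx0_18 ++ chainYIdx0_19

def chainYGens0 : List (List ℕ) :=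
  [[0],
   [1],
   [2],
   [3],
   [4],
   [5],
   [6]]

def chainY0 : SLev := ⟨⟨2, chainYGens0, chainYOrb0⟩, chainYIdx0⟩

def chainYOrb1_0 : List (ℕ × ℕ × ℕ) :=
  [(1132, 795, 0), (551, 795, 1), (1136, 795, 2), (1130, 795, 3), (1093, 795, 4), (243, 795, 5),
   (1049, 1132, 1), (1480, 1132, 2), (1475, 1132, 3), (458, 1132, 4), (369, 1132, 5), (664, 551, 0),
   (810, 551, 2), (807, 551, 3), (771, 551, 4), (160, 551, 5), (1044, 1136, 3), (579, 1136, 4),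
   (1183, 1136, 5), (1478, 1130, 2), (1238, 1130, 4), (788, 1130, 5), (1437, 1093, 0), (1104, 1093, 2),
   (353, 1093, 5), (367, 243, 2), (730, 1049, 0), (1404, 1049, 2), (1397, 1049, 3), (605, 1049, 4),
   (337, 1049, 5), (1396, 1480, 3), (1192, 1480, 4), (1476, 1480, 5), (1709, 1475, 2), (1285, 1475, 4),
   (1020, 1475, 5), (671, 458, 0), (677, 458, 2), (623, 458, 5), (501, 369, 2), (968, 664, 2),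
   (1011, 664, 3), (204, 664, 4), (207, 664, 5), (431, 810, 4), (1155, 807, 2), (886, 807, 4),
   (548, 807, 5), (1107, 771, 0), (782, 771, 2), (235, 771, 5), (249, 160, 2), (1394, 1044, 2),
   (381, 1044, 4), (394, 579, 0), (610, 579, 2), (379, 579, 5), (1503, 1183, 2), (1042, 1478, 3),
   (1546, 1478, 4), (718, 1478, 5), (973, 1238, 0), (1581, 1238, 2), (1087, 1238, 5), (1603, 1437, 1),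
   (1446, 1437, 2), (1690, 1437, 4), (520, 1437, 5), (1102, 1104, 3), (764, 1104, 5), (522, 353, 2),
   (794, 367, 3), (261, 367, 4), (1067, 367, 5), (1053, 730, 2), (1048, 730, 3), (281, 730, 4),
   (216, 730, 5), (1360, 1404, 3), (1545, 1404, 4), (1153, 1404, 5), (1585, 1397, 2), (838, 1397, 5),
   (891, 605, 2), (837, 605, 5), (487, 337, 2), (1508, 1396, 2), (1144, 1396, 4), (831, 1192, 0)]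

def chainYOrb1_1 : List (ℕ × ℕ × ℕ) :=
  [(1520, 1192, 2), (1511, 1192, 5), (1154, 1476, 2), (1382, 1709, 3), (1582, 1709, 4), (822, 1709, 5),
   (972, 1285, 2), (530, 1285, 5), (707, 1020, 2), (979, 671, 2), (1297, 671, 4), (912, 671, 5),
   (424, 677, 3), (932, 677, 5), (422, 623, 2), (543, 501, 3), (727, 501, 4), (1407, 501, 5),
   (1317, 968, 4), (1362, 1011, 2), (699, 1011, 4), (323, 204, 2), (132, 204, 5), (211, 207, 2),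
   (288, 431, 0), (464, 431, 2), (722, 1155, 3), (1193, 1155, 4), (1027, 1155, 5), (1243, 886, 2),
   (767, 886, 5), (1116, 1107, 2), (360, 1107, 5), (780, 782, 3), (535, 782, 5), (362, 235, 2),
   (729, 249, 3), (182, 249, 4), (820, 249, 5), (708, 1394, 3), (557, 1394, 4), (1668, 1394, 5),
   (253, 381, 0), (250, 381, 2), (265, 394, 1), (412, 394, 2), (158, 394, 4), (252, 394, 5),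
   (364, 610, 3), (263, 610, 5), (371, 379, 2), (732, 1503, 3), (801, 1503, 4), (1666, 1503, 5),
   (1395, 1042, 2), (1728, 1042, 4), (1527, 1042, 5), (1471, 1546, 0), (1646, 1546, 5), (1038, 718, 2),
   (1324, 973, 2), (1612, 973, 4), (1271, 973, 5), (1202, 1581, 3), (1438, 1581, 5), (1198, 1087, 2),
   (1315, 1603, 2), (1755, 1603, 4), (759, 1603, 5), (1445, 1446, 3), (953, 1446, 5), (1091, 1690, 5),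
   (761, 520, 2), (1450, 1102, 2), (749, 1102, 5), (862, 764, 2), (1231, 522, 3), (392, 522, 4),
   (1449, 522, 5), (541, 794, 2), (834, 794, 4), (1472, 794, 5), (390, 261, 0), (842, 261, 5),
   (1161, 1067, 2), (1426, 1053, 4), (1402, 1048, 2), (743, 1048, 4), (724, 1048, 5), (420, 281, 2)]

def chainYOrb1_2 : List (ℕ × ℕ × ℕ) :=
  [(142, 281, 5), (328, 216, 2), (1653, 1360, 2), (1493, 1360, 4), (1540, 1545, 0), (1677, 1545, 2),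
   (1671, 1545, 5), (1477, 1153, 2), (1030, 1585, 3), (1245, 1585, 4), (1065, 1585, 5), (572, 891, 3),
   (1216, 891, 5), (570, 837, 2), (375, 487, 3), (792, 487, 4), (1177, 487, 5), (554, 1508, 3),
   (1574, 1508, 4), (1429, 1508, 5), (800, 1144, 0), (1494, 1144, 2), (826, 831, 1), (1170, 831, 2),
   (496, 831, 4), (1196, 831, 5), (1175, 1520, 3), (1288, 1520, 5), (1159, 1511, 2), (1051, 1154, 3),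
   (768, 1154, 4), (1722, 1154, 5), (1502, 1382, 2), (1693, 1382, 4), (1388, 1382, 5), (1326, 1582, 0),
   (1241, 1582, 2), (1325, 1582, 5), (1180, 822, 2), (1459, 972, 3), (443, 972, 5), (654, 530, 2),
   (482, 707, 4), (626, 979, 3), (1277, 979, 4), (1284, 979, 5), (1329, 1297, 2), (1269, 1297, 5),
   (621, 912, 2), (628, 424, 2), (285, 424, 5), (1287, 932, 2), (645, 422, 3), (859, 422, 4),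
   (587, 422, 5), (368, 543, 2), (844, 543, 4), (1473, 543, 5), (526, 727, 0), (872, 727, 5),
   (1332, 1407, 2), (1100, 1317, 0), (971, 1317, 2), (495, 1362, 3), (1036, 1362, 4), (1375, 1362, 5),
   (1010, 699, 2), (907, 323, 3), (698, 323, 5), (500, 211, 3), (716, 211, 5), (186, 288, 1),
   (311, 288, 2), (385, 288, 4), (524, 464, 3), (184, 464, 5), (1043, 722, 2), (1539, 722, 4),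
   (1463, 722, 5), (832, 1193, 0), (1124, 1193, 2), (1549, 1193, 5), (1378, 1027, 2), (840, 1243, 3),
   (1108, 1243, 5), (835, 767, 2), (1115, 1116, 3), (889, 1116, 4), (586, 1116, 5), (532, 360, 2)]

def chainYOrb1_3 : List (ℕ × ℕ × ℕ) :=
  [(1120, 780, 2), (516, 780, 5), (584, 535, 2), (870, 362, 3), (286, 362, 4), (1119, 362, 5),
   (498, 729, 2), (620, 729, 4), (1173, 729, 5), (284, 182, 0), (627, 182, 5), (1176, 820, 2),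
   (700, 708, 2), (1023, 708, 4), (717, 708, 5), (678, 557, 0), (376, 557, 2), (1138, 557, 5),
   (1428, 1668, 2), (166, 253, 1), (163, 253, 2), (335, 253, 4), (124, 250, 3), (150, 250, 5),
   (277, 265, 2), (102, 265, 4), (165, 265, 5), (239, 412, 3), (172, 412, 5), (244, 158, 0),
   (209, 158, 2), (230, 158, 5), (245, 252, 2), (236, 364, 2), (750, 364, 5), (170, 263, 2),
   (175, 371, 3), (545, 371, 4), (229, 371, 5), (726, 732, 2), (1078, 732, 4), (715, 732, 5),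
   (1140, 801, 0), (1058, 801, 5), (1687, 1666, 2), (1713, 1395, 4), (1062, 1395, 5), (1537, 1728, 0),
   (1734, 1728, 2), (1448, 1728, 5), (1727, 1471, 5), (1356, 1646, 2), (1400, 1038, 3), (485, 1038, 4),
   (917, 1324, 3), (1600, 1324, 4), (1602, 1324, 5), (1624, 1612, 2), (1598, 1612, 5), (913, 1271, 2),
   (1434, 1202, 2), (846, 1202, 5), (1451, 1438, 2), (1090, 1198, 3), (1015, 1198, 5), (1616, 1315, 3),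
   (653, 1315, 5), (1298, 1755, 5), (954, 759, 2), (1697, 1445, 2), (1084, 1445, 5), (651, 953, 2),
   (1296, 1091, 2), (961, 761, 3), (1282, 761, 4), (1311, 761, 5), (1103, 1450, 3), (1013, 1450, 4),
   (1639, 1450, 5), (510, 749, 2), (1082, 862, 3), (787, 862, 4), (1439, 862, 5), (884, 1231, 2),
   (853, 1231, 4), (885, 1231, 5), (576, 392, 0), (896, 392, 5), (1099, 1449, 2), (710, 541, 4)]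

def chainYOrb1_4 : List (ℕ × ℕ × ℕ) :=
  [(798, 541, 5), (1086, 834, 0), (877, 834, 2), (1200, 834, 5), (574, 390, 1), (725, 390, 4),
   (1203, 390, 5), (1207, 842, 2), (676, 1161, 3), (818, 1161, 4), (1076, 1426, 0), (1234, 1426, 2),
   (714, 1402, 3), (1376, 1402, 4), (1408, 1402, 5), (1007, 743, 2), (506, 743, 5), (701, 420, 3),
   (906, 420, 5), (484, 328, 3), (1025, 328, 5), (797, 1653, 3), (1532, 1653, 4), (1371, 1653, 5),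
   (1168, 1493, 0), (1714, 1493, 2), (1186, 1540, 1), (1732, 1540, 2), (1393, 1540, 4), (1705, 1540, 5),
   (1419, 1677, 3), (1567, 1677, 5), (1484, 1671, 2), (1133, 1477, 3), (1089, 1477, 4), (1662, 1477, 5),
   (1184, 1030, 2), (1457, 1030, 4), (1386, 1030, 5), (892, 1245, 0), (1455, 1245, 5), (1414, 1065, 2),
   (843, 572, 2), (391, 572, 5), (1460, 1216, 2), (865, 570, 5), (247, 375, 2), (629, 375, 4),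
   (1157, 375, 5), (1131, 792, 0), (663, 792, 5), (1411, 1177, 2), (549, 554, 2), (1456, 554, 4),
   (811, 554, 5), (1742, 1574, 0), (1743, 1574, 2), (1354, 1574, 5), (556, 800, 1), (1145, 800, 2),
   (1778, 1494, 3), (1726, 1494, 5), (1188, 826, 2), (561, 826, 4), (1123, 826, 5), (1517, 1170, 3),
   (720, 1170, 4), (1512, 1170, 5), (333, 496, 2), (566, 496, 5), (1510, 1196, 2), (1526, 1175, 2),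
   (432, 1175, 5), (1606, 1288, 2), (1417, 1159, 3), (772, 1159, 4), (1335, 1159, 5), (1047, 1051, 2),
   (403, 1051, 4), (819, 1051, 5), (890, 768, 0), (1106, 768, 5), (1661, 1722, 2), (1390, 1502, 4),
   (1410, 1502, 5), (980, 1326, 1), (976, 1326, 2), (974, 1326, 5), (1232, 1241, 3), (697, 1241, 5)]

def chainYOrb1_5 : List (ℕ × ℕ × ℕ) :=
  [(1555, 1325, 2), (1398, 1180, 3), (1716, 1180, 4), (1409, 1180, 5), (1318, 1459, 2), (880, 1459, 5),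
   (295, 443, 2), (450, 654, 3), (478, 654, 4), (666, 654, 5), (919, 626, 2), (427, 626, 5),
   (920, 1277, 0), (978, 1277, 2), (1312, 1277, 5), (1605, 1284, 2), (1610, 1329, 3), (1295, 1329, 5),
   (1597, 1269, 2), (941, 621, 3), (1479, 621, 4), (650, 621, 5), (297, 628, 3), (1316, 628, 4),
   (675, 628, 5), (305, 285, 2), (639, 1287, 3), (1259, 1287, 4), (989, 1287, 5), (596, 645, 5),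
   (769, 859, 0), (401, 859, 5), (638, 587, 2), (336, 368, 3), (741, 844, 0), (578, 844, 2),
   (1209, 844, 5), (755, 526, 1), (805, 526, 4), (1233, 526, 5), (893, 872, 2), (555, 1332, 3),
   (1171, 1332, 4), (778, 1100, 1), (1320, 1100, 2), (354, 1100, 4), (1342, 971, 3), (1363, 971, 5),
   (723, 495, 2), (332, 495, 4), (1373, 495, 5), (1178, 1036, 0), (1391, 1036, 2), (1384, 1036, 5),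
   (902, 1010, 3), (693, 1010, 5), (1075, 907, 2), (686, 907, 5), (1006, 698, 2), (1031, 500, 5),
   (1034, 716, 2), (200, 186, 2), (257, 186, 4), (357, 311, 3), (275, 311, 4), (121, 311, 5),
   (309, 385, 2), (518, 524, 5), (119, 184, 2), (1492, 1043, 4), (984, 1043, 5), (1636, 1539, 0),
   (1731, 1539, 2), (1118, 1539, 5), (783, 832, 1), (833, 832, 4), (1195, 832, 5), (1550, 1124, 3),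
   (1541, 1124, 5), (1401, 1549, 2), (1367, 1378, 3), (509, 1378, 4), (575, 840, 5), (1121, 1108, 2),
   (1069, 835, 5), (1338, 1115, 2), (871, 1115, 4), (598, 1115, 5), (607, 889, 0), (849, 889, 5)]

def chainYOrb1_6 : List (ℕ × ℕ × ℕ) :=
  [(397, 586, 2), (593, 532, 3), (618, 532, 4), (874, 532, 5), (781, 1120, 3), (1466, 1120, 5),
   (348, 516, 2), (752, 584, 3), (553, 584, 4), (1109, 584, 5), (603, 870, 2), (604, 870, 5),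
   (428, 286, 0), (683, 286, 5), (777, 1119, 2), (733, 498, 4), (735, 498, 5), (911, 620, 0),
   (910, 620, 2), (866, 620, 5), (426, 284, 1), (444, 284, 4), (918, 284, 5), (922, 627, 2),
   (736, 1176, 3), (1146, 1176, 4), (1008, 700, 4), (1019, 700, 5), (1370, 1023, 0), (1374, 1023, 5),
   (737, 678, 1), (459, 678, 2), (987, 678, 4), (799, 678, 5), (1486, 1138, 2), (1381, 1428, 4),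
   (106, 166, 2), (215, 166, 4), (78, 163, 3), (90, 163, 4), (97, 163, 5), (213, 335, 2),
   (194, 124, 2), (84, 124, 5), (237, 150, 2), (154, 277, 3), (112, 277, 5), (63, 102, 0),
   (135, 102, 2), (148, 102, 5), (159, 165, 2), (151, 239, 2), (513, 239, 5), (110, 172, 2),
   (161, 244, 1), (329, 244, 2), (225, 209, 3), (137, 209, 5), (114, 245, 3), (340, 245, 4),
   (147, 245, 5), (582, 236, 3), (136, 170, 3), (539, 170, 4), (505, 170, 5), (272, 175, 2),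
   (503, 175, 4), (93, 175, 5), (355, 229, 2), (1074, 726, 4), (1046, 726, 5), (1060, 1140, 1),
   (502, 1140, 4), (1041, 1687, 4), (1519, 1713, 5), (1544, 1537, 2), (1458, 1537, 5), (1336, 1734, 3),
   (1516, 1734, 5), (1592, 1448, 2), (1645, 1727, 2), (1641, 1356, 3), (479, 1356, 4), (1651, 1356, 5),
   (1070, 1400, 4), (1276, 917, 2), (631, 917, 5), (1323, 1600, 2), (1442, 1600, 5), (1698, 1602, 2)]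

def chainYOrb1_7 : List (ℕ × ℕ × ℕ) :=
  [(1689, 1624, 3), (1611, 1624, 5), (1688, 1598, 2), (1293, 913, 3), (1435, 913, 4), (950, 913, 5),
   (867, 1434, 3), (1005, 1451, 3), (1761, 1451, 4), (1701, 1451, 5), (1003, 1015, 2), (1621, 1616, 2),
   (1237, 1616, 5), (441, 653, 2), (944, 1298, 2), (661, 954, 3), (930, 954, 4), (966, 954, 5),
   (960, 1697, 3), (1775, 1697, 4), (1626, 1697, 5), (747, 1084, 2), (1432, 651, 3), (1431, 1296, 3),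
   (669, 961, 2), (632, 961, 4), (670, 961, 5), (1615, 1282, 5), (1257, 1103, 4), (765, 1103, 5),
   (702, 1013, 0), (1747, 1013, 5), (1745, 1639, 2), (1430, 1082, 2), (550, 1082, 4), (748, 1082, 5),
   (785, 787, 0), (1137, 787, 5), (1214, 853, 0), (1461, 853, 5), (847, 576, 1), (419, 576, 4),
   (1249, 576, 5), (486, 710, 0), (558, 710, 2), (1026, 710, 5), (1150, 1086, 4), (1420, 1086, 5),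
   (597, 877, 5), (854, 1200, 2), (789, 574, 4), (497, 725, 0), (860, 725, 2), (1518, 725, 5),
   (1112, 1207, 3), (808, 1207, 4), (793, 676, 4), (985, 818, 0), (998, 1076, 1), (908, 1076, 2),
   (731, 1076, 4), (1340, 1234, 3), (1589, 1234, 5), (825, 714, 2), (488, 714, 4), (1033, 714, 5),
   (1385, 1376, 0), (1506, 1376, 2), (1504, 1376, 5), (1485, 1408, 2), (997, 701, 2), (900, 701, 5),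
   (326, 484, 2), (1035, 484, 5), (790, 797, 2), (1692, 797, 4), (1127, 797, 5), (1179, 1532, 0),
   (1359, 1532, 5), (816, 1168, 1), (1050, 1168, 4), (1763, 1714, 3), (1542, 1186, 2), (1039, 1186, 4),
   (1468, 1186, 5), (1718, 1732, 4), (1740, 1732, 5), (1665, 1393, 0), (1483, 1393, 2), (580, 1419, 5)]

def chainYOrb1_8 : List (ℕ × ℕ × ℕ) :=
  [(1570, 1567, 2), (1094, 1484, 4), (1590, 1484, 5), (1129, 1133, 2), (599, 1133, 4), (1126, 1133, 5),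
   (1322, 1089, 0), (1160, 1184, 4), (1205, 1457, 0), (679, 892, 1), (1063, 892, 4), (1366, 1414, 3),
   (1673, 1414, 4), (399, 843, 3), (1405, 843, 4), (408, 391, 2), (898, 1460, 4), (1253, 1460, 5),
   (430, 629, 2), (924, 629, 5), (1088, 1131, 1), (963, 1131, 5), (680, 663, 2), (1495, 1411, 4),
   (1242, 549, 4), (806, 549, 5), (1470, 1456, 0), (1278, 1456, 5), (1681, 1742, 1), (1642, 1742, 5),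
   (1357, 1743, 3), (817, 556, 2), (1730, 1145, 3), (1380, 1145, 4), (1533, 1145, 5), (1648, 1778, 5),
   (1576, 1188, 3), (1029, 1188, 4), (383, 561, 0), (489, 561, 2), (1720, 1517, 2), (1167, 1517, 4),
   (641, 1517, 5), (824, 720, 0), (493, 720, 2), (1172, 720, 5), (382, 333, 3), (208, 333, 5),
   (462, 566, 2), (1593, 1510, 4), (1628, 1510, 5), (855, 1526, 3), (1403, 1526, 4), (642, 432, 2),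
   (1228, 1606, 4), (856, 1606, 5), (1678, 1417, 2), (1246, 1417, 4), (1770, 1417, 5), (861, 772, 0),
   (863, 772, 5), (990, 1335, 2), (1454, 1047, 4), (1201, 1047, 5), (270, 403, 0), (602, 403, 2),
   (589, 403, 5), (1061, 890, 4), (1522, 1661, 4), (1529, 1390, 0), (1032, 1390, 5), (674, 980, 2),
   (672, 980, 5), (962, 976, 3), (926, 976, 5), (1275, 974, 2), (1229, 1232, 2), (705, 697, 2),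
   (1353, 1555, 3), (1658, 1555, 4), (1523, 1398, 4), (1151, 1398, 5), (1500, 1716, 0), (1383, 1716, 5),
   (449, 1318, 3), (1254, 1318, 4), (991, 1318, 5), (475, 295, 4), (937, 295, 5), (304, 450, 2)]

def chainYOrb1_9 : List (ℕ × ℕ × ℕ) :=
  [(205, 450, 4), (481, 478, 5), (969, 666, 2), (446, 919, 3), (652, 919, 4), (977, 919, 5),
   (457, 427, 2), (1334, 920, 4), (1236, 978, 3), (931, 1605, 3), (1330, 1605, 4), (1613, 1610, 2),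
   (1608, 1610, 5), (1292, 1597, 4), (1750, 941, 4), (878, 941, 5), (480, 297, 4), (191, 297, 5),
   (1064, 1316, 0), (983, 1316, 5), (648, 675, 2), (465, 305, 4), (1343, 639, 4), (303, 639, 5),
   (897, 1259, 0), (1339, 1259, 5), (1290, 989, 2), (1557, 741, 5), (407, 578, 3), (804, 755, 4),
   (1578, 755, 5), (1659, 805, 5), (1156, 893, 4), (1252, 893, 5), (815, 555, 2), (1513, 555, 4),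
   (933, 1171, 0), (993, 1320, 3), (1630, 1320, 5), (1601, 1342, 2), (1656, 1363, 2), (564, 723, 4),
   (378, 332, 0), (248, 332, 2), (491, 332, 5), (1416, 1178, 1), (1530, 1178, 2), (1531, 1178, 4),
   (1524, 1178, 5), (1676, 1391, 3), (1633, 1391, 5), (1667, 1384, 2), (909, 902, 2), (703, 693, 2),
   (706, 1075, 3), (1739, 1075, 4), (1079, 1075, 5), (233, 200, 3), (180, 200, 4), (76, 200, 5),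
   (266, 257, 0), (198, 257, 2), (274, 357, 4), (352, 357, 5), (410, 275, 0), (414, 275, 2),
   (115, 275, 5), (74, 121, 2), (177, 309, 3), (377, 119, 4), (1169, 1492, 5), (1703, 1636, 1),
   (1644, 1636, 2), (1710, 1636, 4), (1346, 1636, 5), (1568, 1731, 5), (858, 783, 4), (1187, 783, 5),
   (567, 833, 0), (684, 833, 2), (1166, 833, 5), (1552, 1195, 2), (1113, 1550, 5), (1733, 1541, 2),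
   (1652, 1401, 3), (507, 1401, 4), (1683, 1401, 5), (1215, 1121, 3), (1762, 1121, 4), (1465, 1121, 5)]

def chainYOrb1_10 : List (ℕ × ℕ × ℕ) :=
  [(592, 1338, 3), (1255, 1338, 5), (594, 871, 0), (461, 607, 1), (409, 607, 4), (616, 397, 4),
   (1221, 397, 5), (282, 593, 4), (619, 618, 5), (536, 781, 5), (1587, 1466, 2), (791, 752, 4),
   (515, 752, 5), (492, 553, 0), (812, 553, 5), (982, 428, 5), (1057, 733, 5), (1270, 911, 1),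
   (1268, 911, 2), (951, 911, 5), (879, 910, 5), (655, 426, 4), (634, 444, 2), (1274, 444, 5),
   (1134, 922, 4), (728, 736, 4), (1251, 737, 4), (682, 987, 2), (1711, 987, 5), (1143, 799, 2),
   (1128, 1486, 3), (1372, 1486, 4), (46, 106, 3), (55, 106, 4), (60, 106, 5), (255, 215, 0),
   (138, 215, 2), (127, 78, 2), (94, 78, 4), (49, 78, 5), (65, 90, 2), (24, 90, 5),
   (152, 97, 2), (254, 213, 3), (134, 213, 5), (608, 194, 3), (365, 194, 5), (125, 237, 3),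
   (307, 237, 5), (98, 154, 2), (347, 154, 5), (69, 112, 2), (104, 63, 1), (89, 63, 2),
   (145, 135, 3), (71, 159, 3), (219, 159, 4), (96, 159, 5), (395, 151, 3), (88, 110, 3),
   (212, 161, 2), (349, 329, 3), (1028, 329, 4), (240, 225, 2), (345, 225, 5), (330, 114, 4),
   (57, 114, 5), (231, 147, 2), (133, 136, 2), (738, 539, 5), (895, 272, 4), (525, 272, 5),
   (176, 355, 3), (1424, 1074, 0), (1736, 1074, 5), (544, 1060, 4), (338, 502, 0), (734, 502, 2),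
   (1141, 1041, 0), (1319, 1458, 2), (992, 1336, 2), (1744, 1336, 5), (1164, 1516, 2), (609, 1592, 5),
   (1735, 1645, 3), (1768, 1645, 4), (1771, 1645, 5), (1664, 1641, 2), (1746, 1651, 2), (657, 1276, 3)]

def chainYOrb1_11 : List (ℕ × ℕ × ℕ) :=
  [(952, 1276, 4), (1083, 1323, 3), (1283, 1698, 3), (1625, 1698, 4), (1436, 1689, 2), (1754, 1689, 5),
   (1609, 1688, 4), (1773, 1293, 4), (1014, 1005, 4), (883, 1005, 5), (1655, 1761, 0), (1588, 1761, 5),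
   (1452, 1701, 2), (1002, 1003, 4), (660, 1621, 3), (1759, 1621, 4), (1331, 1621, 5), (1579, 944, 3),
   (456, 661, 2), (1307, 930, 5), (1756, 960, 4), (1098, 960, 5), (1760, 1775, 5), (1614, 1626, 2),
   (1328, 632, 5), (1559, 1257, 2), (899, 1257, 5), (1584, 702, 5), (1650, 1745, 4), (1528, 1745, 5),
   (1197, 1430, 4), (373, 550, 2), (721, 550, 5), (1239, 785, 5), (1265, 1214, 4), (1122, 1214, 5),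
   (321, 847, 4), (1352, 847, 5), (280, 419, 2), (331, 486, 1), (490, 486, 2), (713, 486, 5),
   (887, 558, 5), (1059, 1026, 2), (1018, 1150, 2), (1369, 1150, 5), (776, 597, 2), (406, 854, 5),
   (540, 789, 0), (646, 789, 2), (483, 497, 1), (1399, 497, 5), (1054, 860, 5), (1406, 1112, 4),
   (967, 808, 0), (542, 793, 0), (943, 793, 2), (1165, 985, 4), (691, 998, 4), (1248, 908, 5),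
   (499, 731, 2), (857, 1340, 5), (562, 825, 4), (712, 488, 0), (370, 488, 2), (711, 488, 5),
   (1663, 1385, 1), (1387, 1385, 2), (1499, 1385, 4), (1654, 1385, 5), (1149, 1485, 3), (742, 997, 3),
   (1721, 997, 4), (1024, 997, 5), (611, 900, 2), (1580, 790, 4), (1704, 1542, 4), (719, 1039, 0),
   (1158, 1039, 2), (1379, 1039, 5), (1509, 1718, 0), (1553, 1718, 2), (1767, 1718, 5), (1037, 1483, 3),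
   (1347, 1483, 5), (1068, 1570, 4), (1224, 1570, 5), (1299, 1094, 0), (1535, 1129, 4), (1368, 1129, 5)]

def chainYOrb1_12 : List (ℕ × ℕ × ℕ) :=
  [(452, 599, 0), (1413, 1205, 4), (1139, 1063, 0), (1308, 1088, 5), (928, 963, 2), (1481, 680, 4),
   (988, 680, 5), (1715, 1242, 5), (1766, 1681, 5), (1586, 817, 3), (1040, 817, 4), (1686, 1730, 5),
   (1660, 1380, 5), (1491, 1576, 4), (1765, 1720, 4), (1515, 1167, 2), (939, 1167, 5), (685, 641, 2),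
   (560, 824, 2), (139, 208, 2), (1258, 462, 4), (612, 462, 5), (1337, 1593, 0), (1712, 1593, 5),
   (803, 855, 4), (1052, 1403, 0), (1682, 1228, 5), (1225, 856, 2), (1749, 1678, 4), (829, 861, 4),
   (585, 861, 5), (1263, 1454, 0), (1462, 1454, 2), (1556, 1454, 5), (1412, 1061, 2), (1674, 1522, 0),
   (1244, 1529, 1), (1174, 1529, 5), (662, 674, 3), (1302, 1275, 3), (1599, 1275, 4), (1640, 705, 5),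
   (1427, 1353, 4), (1474, 1658, 0), (1501, 1500, 1), (955, 449, 5), (1260, 1254, 5), (828, 475, 5),
   (451, 304, 5), (131, 205, 2), (692, 481, 2), (1291, 969, 4), (1306, 446, 4), (300, 446, 5),
   (442, 652, 0), (946, 652, 5), (1548, 1334, 2), (1303, 1236, 2), (455, 931, 4), (1752, 1613, 4),
   (374, 480, 0), (306, 480, 5), (1505, 1064, 4), (813, 1064, 5), (1333, 983, 2), (563, 648, 4),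
   (1012, 1343, 0), (463, 1343, 5), (1266, 897, 5), (1657, 804, 5), (1289, 1156, 0), (1489, 1156, 5),
   (1551, 815, 4), (1162, 1513, 0), (1719, 1513, 2), (1217, 933, 1), (1286, 933, 4), (830, 564, 0),
   (380, 564, 2), (504, 378, 1), (559, 378, 5), (1680, 1416, 4), (1725, 1531, 2), (1723, 1531, 5),
   (1361, 1633, 2), (1148, 1667, 5), (1004, 909, 3), (1073, 703, 3), (1741, 1739, 0), (745, 1079, 2)]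

def chainYOrb1_13 : List (ℕ × ℕ × ℕ) :=
  [(179, 233, 4), (228, 233, 5), (130, 180, 0), (279, 180, 2), (72, 180, 5), (44, 76, 2),
   (276, 266, 2), (116, 198, 3), (308, 410, 1), (358, 414, 3), (70, 115, 2), (66, 74, 4),
   (1425, 1703, 5), (1147, 1644, 4), (1672, 1710, 2), (1631, 1710, 5), (1488, 1568, 2), (1490, 858, 5),
   (1543, 1187, 2), (739, 567, 1), (921, 567, 5), (814, 1166, 2), (1724, 1552, 3), (1514, 1552, 4),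
   (1748, 1552, 5), (1706, 1733, 3), (1389, 1652, 2), (1267, 1215, 4), (1190, 616, 5), (181, 282, 2),
   (744, 619, 2), (754, 791, 5), (343, 492, 4), (1021, 492, 5), (1591, 1251, 0), (994, 682, 5),
   (1469, 1143, 4), (1634, 1128, 4), (81, 46, 2), (59, 46, 4), (27, 46, 5), (32, 55, 0),
   (39, 55, 2), (12, 55, 5), (99, 60, 2), (210, 255, 2), (222, 255, 4), (167, 138, 3),
   (87, 138, 5), (411, 127, 3), (310, 127, 4), (108, 94, 2), (86, 94, 5), (168, 65, 3),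
   (34, 65, 5), (79, 152, 3), (196, 152, 5), (91, 134, 2), (466, 608, 5), (77, 125, 2),
   (53, 69, 3), (155, 145, 2), (33, 71, 5), (149, 96, 2), (85, 88, 2), (511, 212, 3),
   (552, 349, 4), (313, 240, 3), (413, 240, 4), (206, 133, 4), (1256, 895, 0), (1261, 895, 5),
   (113, 176, 2), (1163, 1424, 4), (1056, 734, 5), (940, 992, 5), (1772, 1768, 0), (1467, 1664, 3),
   (1377, 1664, 4), (668, 1283, 4), (1691, 1436, 4), (1344, 1014, 0), (1000, 1014, 2), (1321, 1014, 5),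
   (1702, 1655, 1), (1595, 1655, 4), (1617, 660, 4), (1627, 1759, 5), (1700, 1756, 5), (1280, 1614, 5)]

def chainYOrb1_14 : List (ℕ × ℕ × ℕ) :=
  [(1045, 1197, 0), (1152, 373, 5), (203, 321, 2), (327, 280, 3), (1055, 490, 5), (1497, 1018, 5),
   (1596, 1369, 2), (996, 646, 5), (1496, 1406, 0), (821, 967, 4), (796, 542, 2), (1350, 542, 4),
   (827, 562, 0), (546, 562, 2), (1525, 1721, 0), (709, 1024, 2), (1392, 1509, 2), (1643, 1509, 5),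
   (1558, 1068, 5), (1638, 1535, 0), (1607, 1481, 5), (1685, 1765, 0), (786, 1515, 3), (220, 139, 4),
   (1341, 1258, 0), (1226, 1258, 5), (1487, 1337, 5), (1191, 829, 2), (903, 829, 5), (802, 1674, 4),
   (1498, 1427, 0), (694, 442, 4), (1623, 1303, 4), (1001, 374, 4), (1206, 1505, 2), (1569, 1289, 1),
   (1142, 1289, 5), (1264, 1217, 4), (1594, 1286, 2), (129, 179, 0), (197, 130, 1), (202, 130, 2),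
   (47, 130, 5), (234, 279, 3), (42, 72, 2), (40, 44, 4), (416, 276, 4), (45, 70, 3),
   (38, 70, 4), (1189, 1147, 2), (1563, 1672, 3), (1738, 1543, 3), (1670, 1724, 2), (199, 81, 4),
   (36, 59, 0), (67, 59, 2), (52, 59, 5), (21, 32, 2), (7, 32, 5), (109, 39, 3),
   (18, 39, 5), (56, 87, 2), (613, 411, 4), (386, 310, 2), (51, 86, 2), (28, 34, 2),
   (54, 91, 4), (50, 53, 2), (278, 155, 4), (643, 313, 4), (1573, 1256, 4), (1349, 1344, 2),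
   (439, 202, 4), (25, 47, 2), (20, 42, 4), (22, 40, 0), (615, 416, 0), (14, 45, 4),
   (315, 199, 0), (258, 199, 2), (41, 36, 2), (68, 36, 4), (30, 36, 5), (29, 52, 2),
   (10, 21, 5), (15, 18, 2), (31, 56, 4), (58, 28, 4), (415, 278, 0), (644, 439, 0)]

def chainYOrb1_15 : List (ℕ × ℕ × ℕ) :=
  [(8, 25, 4), (11, 20, 0), (388, 315, 2), (16, 30, 2), (9, 10, 2), (35, 15, 4),
   (17, 31, 0), (4, 8, 0), (6, 11, 4), (5, 16, 4), (19, 35, 0), (3, 17, 4),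
   (1, 4, 4), (0, 1, 2)]

def chainYOrb1 : List (ℕ × ℕ × ℕ) :=
  chainYOrb1_0 ++ chainYOrb1_1 ++ chainYOrb1_2 ++ chainYOrb1_3 ++ chainYOrb1_4 ++ chainYOrb1_5 ++ chainYOrb1_6 ++ chainYOrb1_7 ++ chainYOrb1_8 ++ chainYOrb1_9 ++ chainYOrb1_10 ++ chainYOrb1_11 ++ chainYOrb1_12 ++ chainYOrb1_13 ++ chainYOrb1_14 ++ chainYOrb1_15

def chainYIdx1_0 : List (ℕ × List ℕ) :=
  [(795, []), (1132, [0]), (551, [1]), (1136, [2]),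
   (1130, [3]), (1093, [4]), (243, [5]), (1049, [0,1]),
   (1480, [0,2]), (1475, [0,3]), (458, [0,4]), (369, [0,5]),
   (664, [1,0]), (810, [1,2]), (807, [1,3]), (771, [1,4]),
   (160, [1,5]), (1044, [2,3]), (579, [2,4]), (1183, [2,5]),
   (1478, [3,2]), (1238, [3,4]), (788, [3,5]), (1437, [4,0]),
   (1104, [4,2]), (353, [4,5]), (367, [5,2]), (730, [0,1,0]),
   (1404, [0,1,2]), (1397, [0,1,3]), (605, [0,1,4]), (337, [0,1,5]),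
   (1396, [0,2,3]), (1192, [0,2,4]), (1476, [0,2,5]), (1709, [0,3,2]),
   (1285, [0,3,4]), (1020, [0,3,5]), (671, [0,4,0]), (677, [0,4,2]),
   (623, [0,4,5]), (501, [0,5,2]), (968, [1,0,2]), (1011, [1,0,3]),
   (204, [1,0,4]), (207, [1,0,5]), (431, [1,2,4]), (1155, [1,3,2]),
   (886, [1,3,4]), (548, [1,3,5]), (1107, [1,4,0]), (782, [1,4,2]),
   (235, [1,4,5]), (249, [1,5,2]), (1394, [2,3,2]), (381, [2,3,4]),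
   (394, [2,4,0]), (610, [2,4,2]), (379, [2,4,5]), (1503, [2,5,2]),
   (1042, [3,2,3]), (1546, [3,2,4]), (718, [3,2,5]), (973, [3,4,0]),
   (1581, [3,4,2]), (1087, [3,4,5]), (1603, [4,0,1]), (1446, [4,0,2]),
   (1690, [4,0,4]), (520, [4,0,5]), (1102, [4,2,3]), (764, [4,2,5]),
   (522, [4,5,2]), (794, [5,2,3]), (261, [5,2,4]), (1067, [5,2,5]),
   (1053, [0,1,0,2]), (1048, [0,1,0,3]), (281, [0,1,0,4]), (216, [0,1,0,5]),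
   (1360, [0,1,2,3]), (1545, [0,1,2,4]), (1153, [0,1,2,5]), (1585, [0,1,3,2]),
   (838, [0,1,3,5]), (891, [0,1,4,2]), (837, [0,1,4,5]), (487, [0,1,5,2]),
   (1508, [0,2,3,2]), (1144, [0,2,3,4])]

def chainYIdx1_1 : List (ℕ × List ℕ) :=
  [(831, [0,2,4,0]), (1520, [0,2,4,2]), (1511, [0,2,4,5]), (1154, [0,2,5,2]),
   (1382, [0,3,2,3]), (1582, [0,3,2,4]), (822, [0,3,2,5]), (972, [0,3,4,2]),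
   (530, [0,3,4,5]), (707, [0,3,5,2]), (979, [0,4,0,2]), (1297, [0,4,0,4]),
   (912, [0,4,0,5]), (424, [0,4,2,3]), (932, [0,4,2,5]), (422, [0,4,5,2]),
   (543, [0,5,2,3]), (727, [0,5,2,4]), (1407, [0,5,2,5]), (1317, [1,0,2,4]),
   (1362, [1,0,3,2]), (699, [1,0,3,4]), (323, [1,0,4,2]), (132, [1,0,4,5]),
   (211, [1,0,5,2]), (288, [1,2,4,0]), (464, [1,2,4,2]), (722, [1,3,2,3]),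
   (1193, [1,3,2,4]), (1027, [1,3,2,5]), (1243, [1,3,4,2]), (767, [1,3,4,5]),
   (1116, [1,4,0,2]), (360, [1,4,0,5]), (780, [1,4,2,3]), (535, [1,4,2,5]),
   (362, [1,4,5,2]), (729, [1,5,2,3]), (182, [1,5,2,4]), (820, [1,5,2,5]),
   (708, [2,3,2,3]), (557, [2,3,2,4]), (1668, [2,3,2,5]), (253, [2,3,4,0]),
   (250, [2,3,4,2]), (265, [2,4,0,1]), (412, [2,4,0,2]), (158, [2,4,0,4]),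
   (252, [2,4,0,5]), (364, [2,4,2,3]), (263, [2,4,2,5]), (371, [2,4,5,2]),
   (732, [2,5,2,3]), (801, [2,5,2,4]), (1666, [2,5,2,5]), (1395, [3,2,3,2]),
   (1728, [3,2,3,4]), (1527, [3,2,3,5]), (1471, [3,2,4,0]), (1646, [3,2,4,5]),
   (1038, [3,2,5,2]), (1324, [3,4,0,2]), (1612, [3,4,0,4]), (1271, [3,4,0,5]),
   (1202, [3,4,2,3]), (1438, [3,4,2,5]), (1198, [3,4,5,2]), (1315, [4,0,1,2]),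
   (1755, [4,0,1,4]), (759, [4,0,1,5]), (1445, [4,0,2,3]), (953, [4,0,2,5]),
   (1091, [4,0,4,5]), (761, [4,0,5,2]), (1450, [4,2,3,2]), (749, [4,2,3,5]),
   (862, [4,2,5,2]), (1231, [4,5,2,3]), (392, [4,5,2,4]), (1449, [4,5,2,5]),
   (541, [5,2,3,2]), (834, [5,2,3,4]), (1472, [5,2,3,5]), (390, [5,2,4,0]),
   (842, [5,2,4,5]), (1161, [5,2,5,2]), (1426, [0,1,0,2,4]), (1402, [0,1,0,3,2]),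
   (743, [0,1,0,3,4]), (724, [0,1,0,3,5])]

def chainYIdx1_2 : List (ℕ × List ℕ) :=
  [(420, [0,1,0,4,2]), (142, [0,1,0,4,5]), (328, [0,1,0,5,2]), (1653, [0,1,2,3,2]),
   (1493, [0,1,2,3,4]), (1540, [0,1,2,4,0]), (1677, [0,1,2,4,2]), (1671, [0,1,2,4,5]),
   (1477, [0,1,2,5,2]), (1030, [0,1,3,2,3]), (1245, [0,1,3,2,4]), (1065, [0,1,3,2,5]),
   (572, [0,1,4,2,3]), (1216, [0,1,4,2,5]), (570, [0,1,4,5,2]), (375, [0,1,5,2,3]),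
   (792, [0,1,5,2,4]), (1177, [0,1,5,2,5]), (554, [0,2,3,2,3]), (1574, [0,2,3,2,4]),
   (1429, [0,2,3,2,5]), (800, [0,2,3,4,0]), (1494, [0,2,3,4,2]), (826, [0,2,4,0,1]),
   (1170, [0,2,4,0,2]), (496, [0,2,4,0,4]), (1196, [0,2,4,0,5]), (1175, [0,2,4,2,3]),
   (1288, [0,2,4,2,5]), (1159, [0,2,4,5,2]), (1051, [0,2,5,2,3]), (768, [0,2,5,2,4]),
   (1722, [0,2,5,2,5]), (1502, [0,3,2,3,2]), (1693, [0,3,2,3,4]), (1388, [0,3,2,3,5]),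
   (1326, [0,3,2,4,0]), (1241, [0,3,2,4,2]), (1325, [0,3,2,4,5]), (1180, [0,3,2,5,2]),
   (1459, [0,3,4,2,3]), (443, [0,3,4,2,5]), (654, [0,3,4,5,2]), (482, [0,3,5,2,4]),
   (626, [0,4,0,2,3]), (1277, [0,4,0,2,4]), (1284, [0,4,0,2,5]), (1329, [0,4,0,4,2]),
   (1269, [0,4,0,4,5]), (621, [0,4,0,5,2]), (628, [0,4,2,3,2]), (285, [0,4,2,3,5]),
   (1287, [0,4,2,5,2]), (645, [0,4,5,2,3]), (859, [0,4,5,2,4]), (587, [0,4,5,2,5]),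
   (368, [0,5,2,3,2]), (844, [0,5,2,3,4]), (1473, [0,5,2,3,5]), (526, [0,5,2,4,0]),
   (872, [0,5,2,4,5]), (1332, [0,5,2,5,2]), (1100, [1,0,2,4,0]), (971, [1,0,2,4,2]),
   (495, [1,0,3,2,3]), (1036, [1,0,3,2,4]), (1375, [1,0,3,2,5]), (1010, [1,0,3,4,2]),
   (907, [1,0,4,2,3]), (698, [1,0,4,2,5]), (500, [1,0,5,2,3]), (716, [1,0,5,2,5]),
   (186, [1,2,4,0,1]), (311, [1,2,4,0,2]), (385, [1,2,4,0,4]), (524, [1,2,4,2,3]),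
   (184, [1,2,4,2,5]), (1043, [1,3,2,3,2]), (1539, [1,3,2,3,4]), (1463, [1,3,2,3,5]),
   (832, [1,3,2,4,0]), (1124, [1,3,2,4,2]), (1549, [1,3,2,4,5]), (1378, [1,3,2,5,2]),
   (840, [1,3,4,2,3]), (1108, [1,3,4,2,5]), (835, [1,3,4,5,2]), (1115, [1,4,0,2,3]),
   (889, [1,4,0,2,4]), (586, [1,4,0,2,5])]

def chainYIdx1_3 : List (ℕ × List ℕ) :=
  [(532, [1,4,0,5,2]), (1120, [1,4,2,3,2]), (516, [1,4,2,3,5]), (584, [1,4,2,5,2]),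
   (870, [1,4,5,2,3]), (286, [1,4,5,2,4]), (1119, [1,4,5,2,5]), (498, [1,5,2,3,2]),
   (620, [1,5,2,3,4]), (1173, [1,5,2,3,5]), (284, [1,5,2,4,0]), (627, [1,5,2,4,5]),
   (1176, [1,5,2,5,2]), (700, [2,3,2,3,2]), (1023, [2,3,2,3,4]), (717, [2,3,2,3,5]),
   (678, [2,3,2,4,0]), (376, [2,3,2,4,2]), (1138, [2,3,2,4,5]), (1428, [2,3,2,5,2]),
   (166, [2,3,4,0,1]), (163, [2,3,4,0,2]), (335, [2,3,4,0,4]), (124, [2,3,4,2,3]),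
   (150, [2,3,4,2,5]), (277, [2,4,0,1,2]), (102, [2,4,0,1,4]), (165, [2,4,0,1,5]),
   (239, [2,4,0,2,3]), (172, [2,4,0,2,5]), (244, [2,4,0,4,0]), (209, [2,4,0,4,2]),
   (230, [2,4,0,4,5]), (245, [2,4,0,5,2]), (236, [2,4,2,3,2]), (750, [2,4,2,3,5]),
   (170, [2,4,2,5,2]), (175, [2,4,5,2,3]), (545, [2,4,5,2,4]), (229, [2,4,5,2,5]),
   (726, [2,5,2,3,2]), (1078, [2,5,2,3,4]), (715, [2,5,2,3,5]), (1140, [2,5,2,4,0]),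
   (1058, [2,5,2,4,5]), (1687, [2,5,2,5,2]), (1713, [3,2,3,2,4]), (1062, [3,2,3,2,5]),
   (1537, [3,2,3,4,0]), (1734, [3,2,3,4,2]), (1448, [3,2,3,4,5]), (1727, [3,2,4,0,5]),
   (1356, [3,2,4,5,2]), (1400, [3,2,5,2,3]), (485, [3,2,5,2,4]), (917, [3,4,0,2,3]),
   (1600, [3,4,0,2,4]), (1602, [3,4,0,2,5]), (1624, [3,4,0,4,2]), (1598, [3,4,0,4,5]),
   (913, [3,4,0,5,2]), (1434, [3,4,2,3,2]), (846, [3,4,2,3,5]), (1451, [3,4,2,5,2]),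
   (1090, [3,4,5,2,3]), (1015, [3,4,5,2,5]), (1616, [4,0,1,2,3]), (653, [4,0,1,2,5]),
   (1298, [4,0,1,4,5]), (954, [4,0,1,5,2]), (1697, [4,0,2,3,2]), (1084, [4,0,2,3,5]),
   (651, [4,0,2,5,2]), (1296, [4,0,4,5,2]), (961, [4,0,5,2,3]), (1282, [4,0,5,2,4]),
   (1311, [4,0,5,2,5]), (1103, [4,2,3,2,3]), (1013, [4,2,3,2,4]), (1639, [4,2,3,2,5]),
   (510, [4,2,3,5,2]), (1082, [4,2,5,2,3]), (787, [4,2,5,2,4]), (1439, [4,2,5,2,5]),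
   (884, [4,5,2,3,2]), (853, [4,5,2,3,4]), (885, [4,5,2,3,5]), (576, [4,5,2,4,0]),
   (896, [4,5,2,4,5]), (1099, [4,5,2,5,2])]

def chainYIdx1_4 : List (ℕ × List ℕ) :=
  [(710, [5,2,3,2,4]), (798, [5,2,3,2,5]), (1086, [5,2,3,4,0]), (877, [5,2,3,4,2]),
   (1200, [5,2,3,4,5]), (574, [5,2,4,0,1]), (725, [5,2,4,0,4]), (1203, [5,2,4,0,5]),
   (1207, [5,2,4,5,2]), (676, [5,2,5,2,3]), (818, [5,2,5,2,4]), (1076, [0,1,0,2,4,0]),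
   (1234, [0,1,0,2,4,2]), (714, [0,1,0,3,2,3]), (1376, [0,1,0,3,2,4]), (1408, [0,1,0,3,2,5]),
   (1007, [0,1,0,3,4,2]), (506, [0,1,0,3,4,5]), (701, [0,1,0,4,2,3]), (906, [0,1,0,4,2,5]),
   (484, [0,1,0,5,2,3]), (1025, [0,1,0,5,2,5]), (797, [0,1,2,3,2,3]), (1532, [0,1,2,3,2,4]),
   (1371, [0,1,2,3,2,5]), (1168, [0,1,2,3,4,0]), (1714, [0,1,2,3,4,2]), (1186, [0,1,2,4,0,1]),
   (1732, [0,1,2,4,0,2]), (1393, [0,1,2,4,0,4]), (1705, [0,1,2,4,0,5]), (1419, [0,1,2,4,2,3]),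
   (1567, [0,1,2,4,2,5]), (1484, [0,1,2,4,5,2]), (1133, [0,1,2,5,2,3]), (1089, [0,1,2,5,2,4]),
   (1662, [0,1,2,5,2,5]), (1184, [0,1,3,2,3,2]), (1457, [0,1,3,2,3,4]), (1386, [0,1,3,2,3,5]),
   (892, [0,1,3,2,4,0]), (1455, [0,1,3,2,4,5]), (1414, [0,1,3,2,5,2]), (843, [0,1,4,2,3,2]),
   (391, [0,1,4,2,3,5]), (1460, [0,1,4,2,5,2]), (865, [0,1,4,5,2,5]), (247, [0,1,5,2,3,2]),
   (629, [0,1,5,2,3,4]), (1157, [0,1,5,2,3,5]), (1131, [0,1,5,2,4,0]), (663, [0,1,5,2,4,5]),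
   (1411, [0,1,5,2,5,2]), (549, [0,2,3,2,3,2]), (1456, [0,2,3,2,3,4]), (811, [0,2,3,2,3,5]),
   (1742, [0,2,3,2,4,0]), (1743, [0,2,3,2,4,2]), (1354, [0,2,3,2,4,5]), (556, [0,2,3,4,0,1]),
   (1145, [0,2,3,4,0,2]), (1778, [0,2,3,4,2,3]), (1726, [0,2,3,4,2,5]), (1188, [0,2,4,0,1,2]),
   (561, [0,2,4,0,1,4]), (1123, [0,2,4,0,1,5]), (1517, [0,2,4,0,2,3]), (720, [0,2,4,0,2,4]),
   (1512, [0,2,4,0,2,5]), (333, [0,2,4,0,4,2]), (566, [0,2,4,0,4,5]), (1510, [0,2,4,0,5,2]),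
   (1526, [0,2,4,2,3,2]), (432, [0,2,4,2,3,5]), (1606, [0,2,4,2,5,2]), (1417, [0,2,4,5,2,3]),
   (772, [0,2,4,5,2,4]), (1335, [0,2,4,5,2,5]), (1047, [0,2,5,2,3,2]), (403, [0,2,5,2,3,4]),
   (819, [0,2,5,2,3,5]), (890, [0,2,5,2,4,0]), (1106, [0,2,5,2,4,5]), (1661, [0,2,5,2,5,2]),
   (1390, [0,3,2,3,2,4]), (1410, [0,3,2,3,2,5]), (980, [0,3,2,4,0,1]), (976, [0,3,2,4,0,2]),
   (974, [0,3,2,4,0,5]), (1232, [0,3,2,4,2,3])]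

def chainYIdx1_5 : List (ℕ × List ℕ) :=
  [(697, [0,3,2,4,2,5]), (1555, [0,3,2,4,5,2]), (1398, [0,3,2,5,2,3]), (1716, [0,3,2,5,2,4]),
   (1409, [0,3,2,5,2,5]), (1318, [0,3,4,2,3,2]), (880, [0,3,4,2,3,5]), (295, [0,3,4,2,5,2]),
   (450, [0,3,4,5,2,3]), (478, [0,3,4,5,2,4]), (666, [0,3,4,5,2,5]), (919, [0,4,0,2,3,2]),
   (427, [0,4,0,2,3,5]), (920, [0,4,0,2,4,0]), (978, [0,4,0,2,4,2]), (1312, [0,4,0,2,4,5]),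
   (1605, [0,4,0,2,5,2]), (1610, [0,4,0,4,2,3]), (1295, [0,4,0,4,2,5]), (1597, [0,4,0,4,5,2]),
   (941, [0,4,0,5,2,3]), (1479, [0,4,0,5,2,4]), (650, [0,4,0,5,2,5]), (297, [0,4,2,3,2,3]),
   (1316, [0,4,2,3,2,4]), (675, [0,4,2,3,2,5]), (305, [0,4,2,3,5,2]), (639, [0,4,2,5,2,3]),
   (1259, [0,4,2,5,2,4]), (989, [0,4,2,5,2,5]), (596, [0,4,5,2,3,5]), (769, [0,4,5,2,4,0]),
   (401, [0,4,5,2,4,5]), (638, [0,4,5,2,5,2]), (336, [0,5,2,3,2,3]), (741, [0,5,2,3,4,0]),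
   (578, [0,5,2,3,4,2]), (1209, [0,5,2,3,4,5]), (755, [0,5,2,4,0,1]), (805, [0,5,2,4,0,4]),
   (1233, [0,5,2,4,0,5]), (893, [0,5,2,4,5,2]), (555, [0,5,2,5,2,3]), (1171, [0,5,2,5,2,4]),
   (778, [1,0,2,4,0,1]), (1320, [1,0,2,4,0,2]), (354, [1,0,2,4,0,4]), (1342, [1,0,2,4,2,3]),
   (1363, [1,0,2,4,2,5]), (723, [1,0,3,2,3,2]), (332, [1,0,3,2,3,4]), (1373, [1,0,3,2,3,5]),
   (1178, [1,0,3,2,4,0]), (1391, [1,0,3,2,4,2]), (1384, [1,0,3,2,4,5]), (902, [1,0,3,4,2,3]),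
   (693, [1,0,3,4,2,5]), (1075, [1,0,4,2,3,2]), (686, [1,0,4,2,3,5]), (1006, [1,0,4,2,5,2]),
   (1031, [1,0,5,2,3,5]), (1034, [1,0,5,2,5,2]), (200, [1,2,4,0,1,2]), (257, [1,2,4,0,1,4]),
   (357, [1,2,4,0,2,3]), (275, [1,2,4,0,2,4]), (121, [1,2,4,0,2,5]), (309, [1,2,4,0,4,2]),
   (518, [1,2,4,2,3,5]), (119, [1,2,4,2,5,2]), (1492, [1,3,2,3,2,4]), (984, [1,3,2,3,2,5]),
   (1636, [1,3,2,3,4,0]), (1731, [1,3,2,3,4,2]), (1118, [1,3,2,3,4,5]), (783, [1,3,2,4,0,1]),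
   (833, [1,3,2,4,0,4]), (1195, [1,3,2,4,0,5]), (1550, [1,3,2,4,2,3]), (1541, [1,3,2,4,2,5]),
   (1401, [1,3,2,4,5,2]), (1367, [1,3,2,5,2,3]), (509, [1,3,2,5,2,4]), (575, [1,3,4,2,3,5]),
   (1121, [1,3,4,2,5,2]), (1069, [1,3,4,5,2,5]), (1338, [1,4,0,2,3,2]), (871, [1,4,0,2,3,4]),
   (598, [1,4,0,2,3,5]), (607, [1,4,0,2,4,0])]

def chainYIdx1_6 : List (ℕ × List ℕ) :=
  [(849, [1,4,0,2,4,5]), (397, [1,4,0,2,5,2]), (593, [1,4,0,5,2,3]), (618, [1,4,0,5,2,4]),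
   (874, [1,4,0,5,2,5]), (781, [1,4,2,3,2,3]), (1466, [1,4,2,3,2,5]), (348, [1,4,2,3,5,2]),
   (752, [1,4,2,5,2,3]), (553, [1,4,2,5,2,4]), (1109, [1,4,2,5,2,5]), (603, [1,4,5,2,3,2]),
   (604, [1,4,5,2,3,5]), (428, [1,4,5,2,4,0]), (683, [1,4,5,2,4,5]), (777, [1,4,5,2,5,2]),
   (733, [1,5,2,3,2,4]), (735, [1,5,2,3,2,5]), (911, [1,5,2,3,4,0]), (910, [1,5,2,3,4,2]),
   (866, [1,5,2,3,4,5]), (426, [1,5,2,4,0,1]), (444, [1,5,2,4,0,4]), (918, [1,5,2,4,0,5]),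
   (922, [1,5,2,4,5,2]), (736, [1,5,2,5,2,3]), (1146, [1,5,2,5,2,4]), (1008, [2,3,2,3,2,4]),
   (1019, [2,3,2,3,2,5]), (1370, [2,3,2,3,4,0]), (1374, [2,3,2,3,4,5]), (737, [2,3,2,4,0,1]),
   (459, [2,3,2,4,0,2]), (987, [2,3,2,4,0,4]), (799, [2,3,2,4,0,5]), (1486, [2,3,2,4,5,2]),
   (1381, [2,3,2,5,2,4]), (106, [2,3,4,0,1,2]), (215, [2,3,4,0,1,4]), (78, [2,3,4,0,2,3]),
   (90, [2,3,4,0,2,4]), (97, [2,3,4,0,2,5]), (213, [2,3,4,0,4,2]), (194, [2,3,4,2,3,2]),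
   (84, [2,3,4,2,3,5]), (237, [2,3,4,2,5,2]), (154, [2,4,0,1,2,3]), (112, [2,4,0,1,2,5]),
   (63, [2,4,0,1,4,0]), (135, [2,4,0,1,4,2]), (148, [2,4,0,1,4,5]), (159, [2,4,0,1,5,2]),
   (151, [2,4,0,2,3,2]), (513, [2,4,0,2,3,5]), (110, [2,4,0,2,5,2]), (161, [2,4,0,4,0,1]),
   (329, [2,4,0,4,0,2]), (225, [2,4,0,4,2,3]), (137, [2,4,0,4,2,5]), (114, [2,4,0,5,2,3]),
   (340, [2,4,0,5,2,4]), (147, [2,4,0,5,2,5]), (582, [2,4,2,3,2,3]), (136, [2,4,2,5,2,3]),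
   (539, [2,4,2,5,2,4]), (505, [2,4,2,5,2,5]), (272, [2,4,5,2,3,2]), (503, [2,4,5,2,3,4]),
   (93, [2,4,5,2,3,5]), (355, [2,4,5,2,5,2]), (1074, [2,5,2,3,2,4]), (1046, [2,5,2,3,2,5]),
   (1060, [2,5,2,4,0,1]), (502, [2,5,2,4,0,4]), (1041, [2,5,2,5,2,4]), (1519, [3,2,3,2,4,5]),
   (1544, [3,2,3,4,0,2]), (1458, [3,2,3,4,0,5]), (1336, [3,2,3,4,2,3]), (1516, [3,2,3,4,2,5]),
   (1592, [3,2,3,4,5,2]), (1645, [3,2,4,0,5,2]), (1641, [3,2,4,5,2,3]), (479, [3,2,4,5,2,4]),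
   (1651, [3,2,4,5,2,5]), (1070, [3,2,5,2,3,4]), (1276, [3,4,0,2,3,2]), (631, [3,4,0,2,3,5]),
   (1323, [3,4,0,2,4,2]), (1442, [3,4,0,2,4,5])]

def chainYIdx1_7 : List (ℕ × List ℕ) :=
  [(1698, [3,4,0,2,5,2]), (1689, [3,4,0,4,2,3]), (1611, [3,4,0,4,2,5]), (1688, [3,4,0,4,5,2]),
   (1293, [3,4,0,5,2,3]), (1435, [3,4,0,5,2,4]), (950, [3,4,0,5,2,5]), (867, [3,4,2,3,2,3]),
   (1005, [3,4,2,5,2,3]), (1761, [3,4,2,5,2,4]), (1701, [3,4,2,5,2,5]), (1003, [3,4,5,2,5,2]),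
   (1621, [4,0,1,2,3,2]), (1237, [4,0,1,2,3,5]), (441, [4,0,1,2,5,2]), (944, [4,0,1,4,5,2]),
   (661, [4,0,1,5,2,3]), (930, [4,0,1,5,2,4]), (966, [4,0,1,5,2,5]), (960, [4,0,2,3,2,3]),
   (1775, [4,0,2,3,2,4]), (1626, [4,0,2,3,2,5]), (747, [4,0,2,3,5,2]), (1432, [4,0,2,5,2,3]),
   (1431, [4,0,4,5,2,3]), (669, [4,0,5,2,3,2]), (632, [4,0,5,2,3,4]), (670, [4,0,5,2,3,5]),
   (1615, [4,0,5,2,4,5]), (1257, [4,2,3,2,3,4]), (765, [4,2,3,2,3,5]), (702, [4,2,3,2,4,0]),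
   (1747, [4,2,3,2,4,5]), (1745, [4,2,3,2,5,2]), (1430, [4,2,5,2,3,2]), (550, [4,2,5,2,3,4]),
   (748, [4,2,5,2,3,5]), (785, [4,2,5,2,4,0]), (1137, [4,2,5,2,4,5]), (1214, [4,5,2,3,4,0]),
   (1461, [4,5,2,3,4,5]), (847, [4,5,2,4,0,1]), (419, [4,5,2,4,0,4]), (1249, [4,5,2,4,0,5]),
   (486, [5,2,3,2,4,0]), (558, [5,2,3,2,4,2]), (1026, [5,2,3,2,4,5]), (1150, [5,2,3,4,0,4]),
   (1420, [5,2,3,4,0,5]), (597, [5,2,3,4,2,5]), (854, [5,2,3,4,5,2]), (789, [5,2,4,0,1,4]),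
   (497, [5,2,4,0,4,0]), (860, [5,2,4,0,4,2]), (1518, [5,2,4,0,4,5]), (1112, [5,2,4,5,2,3]),
   (808, [5,2,4,5,2,4]), (793, [5,2,5,2,3,4]), (985, [5,2,5,2,4,0]), (998, [0,1,0,2,4,0,1]),
   (908, [0,1,0,2,4,0,2]), (731, [0,1,0,2,4,0,4]), (1340, [0,1,0,2,4,2,3]), (1589, [0,1,0,2,4,2,5]),
   (825, [0,1,0,3,2,3,2]), (488, [0,1,0,3,2,3,4]), (1033, [0,1,0,3,2,3,5]), (1385, [0,1,0,3,2,4,0]),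
   (1506, [0,1,0,3,2,4,2]), (1504, [0,1,0,3,2,4,5]), (1485, [0,1,0,3,2,5,2]), (997, [0,1,0,4,2,3,2]),
   (900, [0,1,0,4,2,3,5]), (326, [0,1,0,5,2,3,2]), (1035, [0,1,0,5,2,3,5]), (790, [0,1,2,3,2,3,2]),
   (1692, [0,1,2,3,2,3,4]), (1127, [0,1,2,3,2,3,5]), (1179, [0,1,2,3,2,4,0]), (1359, [0,1,2,3,2,4,5]),
   (816, [0,1,2,3,4,0,1]), (1050, [0,1,2,3,4,0,4]), (1763, [0,1,2,3,4,2,3]), (1542, [0,1,2,4,0,1,2]),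
   (1039, [0,1,2,4,0,1,4]), (1468, [0,1,2,4,0,1,5]), (1718, [0,1,2,4,0,2,4]), (1740, [0,1,2,4,0,2,5]),
   (1665, [0,1,2,4,0,4,0]), (1483, [0,1,2,4,0,4,2])]

def chainYIdx1_8 : List (ℕ × List ℕ) :=
  [(580, [0,1,2,4,2,3,5]), (1570, [0,1,2,4,2,5,2]), (1094, [0,1,2,4,5,2,4]), (1590, [0,1,2,4,5,2,5]),
   (1129, [0,1,2,5,2,3,2]), (599, [0,1,2,5,2,3,4]), (1126, [0,1,2,5,2,3,5]), (1322, [0,1,2,5,2,4,0]),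
   (1160, [0,1,3,2,3,2,4]), (1205, [0,1,3,2,3,4,0]), (679, [0,1,3,2,4,0,1]), (1063, [0,1,3,2,4,0,4]),
   (1366, [0,1,3,2,5,2,3]), (1673, [0,1,3,2,5,2,4]), (399, [0,1,4,2,3,2,3]), (1405, [0,1,4,2,3,2,4]),
   (408, [0,1,4,2,3,5,2]), (898, [0,1,4,2,5,2,4]), (1253, [0,1,4,2,5,2,5]), (430, [0,1,5,2,3,4,2]),
   (924, [0,1,5,2,3,4,5]), (1088, [0,1,5,2,4,0,1]), (963, [0,1,5,2,4,0,5]), (680, [0,1,5,2,4,5,2]),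
   (1495, [0,1,5,2,5,2,4]), (1242, [0,2,3,2,3,2,4]), (806, [0,2,3,2,3,2,5]), (1470, [0,2,3,2,3,4,0]),
   (1278, [0,2,3,2,3,4,5]), (1681, [0,2,3,2,4,0,1]), (1642, [0,2,3,2,4,0,5]), (1357, [0,2,3,2,4,2,3]),
   (817, [0,2,3,4,0,1,2]), (1730, [0,2,3,4,0,2,3]), (1380, [0,2,3,4,0,2,4]), (1533, [0,2,3,4,0,2,5]),
   (1648, [0,2,3,4,2,3,5]), (1576, [0,2,4,0,1,2,3]), (1029, [0,2,4,0,1,2,4]), (383, [0,2,4,0,1,4,0]),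
   (489, [0,2,4,0,1,4,2]), (1720, [0,2,4,0,2,3,2]), (1167, [0,2,4,0,2,3,4]), (641, [0,2,4,0,2,3,5]),
   (824, [0,2,4,0,2,4,0]), (493, [0,2,4,0,2,4,2]), (1172, [0,2,4,0,2,4,5]), (382, [0,2,4,0,4,2,3]),
   (208, [0,2,4,0,4,2,5]), (462, [0,2,4,0,4,5,2]), (1593, [0,2,4,0,5,2,4]), (1628, [0,2,4,0,5,2,5]),
   (855, [0,2,4,2,3,2,3]), (1403, [0,2,4,2,3,2,4]), (642, [0,2,4,2,3,5,2]), (1228, [0,2,4,2,5,2,4]),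
   (856, [0,2,4,2,5,2,5]), (1678, [0,2,4,5,2,3,2]), (1246, [0,2,4,5,2,3,4]), (1770, [0,2,4,5,2,3,5]),
   (861, [0,2,4,5,2,4,0]), (863, [0,2,4,5,2,4,5]), (990, [0,2,4,5,2,5,2]), (1454, [0,2,5,2,3,2,4]),
   (1201, [0,2,5,2,3,2,5]), (270, [0,2,5,2,3,4,0]), (602, [0,2,5,2,3,4,2]), (589, [0,2,5,2,3,4,5]),
   (1061, [0,2,5,2,4,0,4]), (1522, [0,2,5,2,5,2,4]), (1529, [0,3,2,3,2,4,0]), (1032, [0,3,2,3,2,4,5]),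
   (674, [0,3,2,4,0,1,2]), (672, [0,3,2,4,0,1,5]), (962, [0,3,2,4,0,2,3]), (926, [0,3,2,4,0,2,5]),
   (1275, [0,3,2,4,0,5,2]), (1229, [0,3,2,4,2,3,2]), (705, [0,3,2,4,2,5,2]), (1353, [0,3,2,4,5,2,3]),
   (1658, [0,3,2,4,5,2,4]), (1523, [0,3,2,5,2,3,4]), (1151, [0,3,2,5,2,3,5]), (1500, [0,3,2,5,2,4,0]),
   (1383, [0,3,2,5,2,4,5]), (449, [0,3,4,2,3,2,3]), (1254, [0,3,4,2,3,2,4]), (991, [0,3,4,2,3,2,5]),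
   (475, [0,3,4,2,5,2,4]), (937, [0,3,4,2,5,2,5])]

def chainYIdx1_9 : List (ℕ × List ℕ) :=
  [(304, [0,3,4,5,2,3,2]), (205, [0,3,4,5,2,3,4]), (481, [0,3,4,5,2,4,5]), (969, [0,3,4,5,2,5,2]),
   (446, [0,4,0,2,3,2,3]), (652, [0,4,0,2,3,2,4]), (977, [0,4,0,2,3,2,5]), (457, [0,4,0,2,3,5,2]),
   (1334, [0,4,0,2,4,0,4]), (1236, [0,4,0,2,4,2,3]), (931, [0,4,0,2,5,2,3]), (1330, [0,4,0,2,5,2,4]),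
   (1613, [0,4,0,4,2,3,2]), (1608, [0,4,0,4,2,3,5]), (1292, [0,4,0,4,5,2,4]), (1750, [0,4,0,5,2,3,4]),
   (878, [0,4,0,5,2,3,5]), (480, [0,4,2,3,2,3,4]), (191, [0,4,2,3,2,3,5]), (1064, [0,4,2,3,2,4,0]),
   (983, [0,4,2,3,2,4,5]), (648, [0,4,2,3,2,5,2]), (465, [0,4,2,3,5,2,4]), (1343, [0,4,2,5,2,3,4]),
   (303, [0,4,2,5,2,3,5]), (897, [0,4,2,5,2,4,0]), (1339, [0,4,2,5,2,4,5]), (1290, [0,4,2,5,2,5,2]),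
   (1557, [0,5,2,3,4,0,5]), (407, [0,5,2,3,4,2,3]), (804, [0,5,2,4,0,1,4]), (1578, [0,5,2,4,0,1,5]),
   (1659, [0,5,2,4,0,4,5]), (1156, [0,5,2,4,5,2,4]), (1252, [0,5,2,4,5,2,5]), (815, [0,5,2,5,2,3,2]),
   (1513, [0,5,2,5,2,3,4]), (933, [0,5,2,5,2,4,0]), (993, [1,0,2,4,0,2,3]), (1630, [1,0,2,4,0,2,5]),
   (1601, [1,0,2,4,2,3,2]), (1656, [1,0,2,4,2,5,2]), (564, [1,0,3,2,3,2,4]), (378, [1,0,3,2,3,4,0]),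
   (248, [1,0,3,2,3,4,2]), (491, [1,0,3,2,3,4,5]), (1416, [1,0,3,2,4,0,1]), (1530, [1,0,3,2,4,0,2]),
   (1531, [1,0,3,2,4,0,4]), (1524, [1,0,3,2,4,0,5]), (1676, [1,0,3,2,4,2,3]), (1633, [1,0,3,2,4,2,5]),
   (1667, [1,0,3,2,4,5,2]), (909, [1,0,3,4,2,3,2]), (703, [1,0,3,4,2,5,2]), (706, [1,0,4,2,3,2,3]),
   (1739, [1,0,4,2,3,2,4]), (1079, [1,0,4,2,3,2,5]), (233, [1,2,4,0,1,2,3]), (180, [1,2,4,0,1,2,4]),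
   (76, [1,2,4,0,1,2,5]), (266, [1,2,4,0,1,4,0]), (198, [1,2,4,0,1,4,2]), (274, [1,2,4,0,2,3,4]),
   (352, [1,2,4,0,2,3,5]), (410, [1,2,4,0,2,4,0]), (414, [1,2,4,0,2,4,2]), (115, [1,2,4,0,2,4,5]),
   (74, [1,2,4,0,2,5,2]), (177, [1,2,4,0,4,2,3]), (377, [1,2,4,2,5,2,4]), (1169, [1,3,2,3,2,4,5]),
   (1703, [1,3,2,3,4,0,1]), (1644, [1,3,2,3,4,0,2]), (1710, [1,3,2,3,4,0,4]), (1346, [1,3,2,3,4,0,5]),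
   (1568, [1,3,2,3,4,2,5]), (858, [1,3,2,4,0,1,4]), (1187, [1,3,2,4,0,1,5]), (567, [1,3,2,4,0,4,0]),
   (684, [1,3,2,4,0,4,2]), (1166, [1,3,2,4,0,4,5]), (1552, [1,3,2,4,0,5,2]), (1113, [1,3,2,4,2,3,5]),
   (1733, [1,3,2,4,2,5,2]), (1652, [1,3,2,4,5,2,3]), (507, [1,3,2,4,5,2,4]), (1683, [1,3,2,4,5,2,5]),
   (1215, [1,3,4,2,5,2,3]), (1762, [1,3,4,2,5,2,4])]

def chainYIdx1_10 : List (ℕ × List ℕ) :=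
  [(1465, [1,3,4,2,5,2,5]), (592, [1,4,0,2,3,2,3]), (1255, [1,4,0,2,3,2,5]), (594, [1,4,0,2,3,4,0]),
   (461, [1,4,0,2,4,0,1]), (409, [1,4,0,2,4,0,4]), (616, [1,4,0,2,5,2,4]), (1221, [1,4,0,2,5,2,5]),
   (282, [1,4,0,5,2,3,4]), (619, [1,4,0,5,2,4,5]), (536, [1,4,2,3,2,3,5]), (1587, [1,4,2,3,2,5,2]),
   (791, [1,4,2,5,2,3,4]), (515, [1,4,2,5,2,3,5]), (492, [1,4,2,5,2,4,0]), (812, [1,4,2,5,2,4,5]),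
   (982, [1,4,5,2,4,0,5]), (1057, [1,5,2,3,2,4,5]), (1270, [1,5,2,3,4,0,1]), (1268, [1,5,2,3,4,0,2]),
   (951, [1,5,2,3,4,0,5]), (879, [1,5,2,3,4,2,5]), (655, [1,5,2,4,0,1,4]), (634, [1,5,2,4,0,4,2]),
   (1274, [1,5,2,4,0,4,5]), (1134, [1,5,2,4,5,2,4]), (728, [1,5,2,5,2,3,4]), (1251, [2,3,2,4,0,1,4]),
   (682, [2,3,2,4,0,4,2]), (1711, [2,3,2,4,0,4,5]), (1143, [2,3,2,4,0,5,2]), (1128, [2,3,2,4,5,2,3]),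
   (1372, [2,3,2,4,5,2,4]), (46, [2,3,4,0,1,2,3]), (55, [2,3,4,0,1,2,4]), (60, [2,3,4,0,1,2,5]),
   (255, [2,3,4,0,1,4,0]), (138, [2,3,4,0,1,4,2]), (127, [2,3,4,0,2,3,2]), (94, [2,3,4,0,2,3,4]),
   (49, [2,3,4,0,2,3,5]), (65, [2,3,4,0,2,4,2]), (24, [2,3,4,0,2,4,5]), (152, [2,3,4,0,2,5,2]),
   (254, [2,3,4,0,4,2,3]), (134, [2,3,4,0,4,2,5]), (608, [2,3,4,2,3,2,3]), (365, [2,3,4,2,3,2,5]),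
   (125, [2,3,4,2,5,2,3]), (307, [2,3,4,2,5,2,5]), (98, [2,4,0,1,2,3,2]), (347, [2,4,0,1,2,3,5]),
   (69, [2,4,0,1,2,5,2]), (104, [2,4,0,1,4,0,1]), (89, [2,4,0,1,4,0,2]), (145, [2,4,0,1,4,2,3]),
   (71, [2,4,0,1,5,2,3]), (219, [2,4,0,1,5,2,4]), (96, [2,4,0,1,5,2,5]), (395, [2,4,0,2,3,2,3]),
   (88, [2,4,0,2,5,2,3]), (212, [2,4,0,4,0,1,2]), (349, [2,4,0,4,0,2,3]), (1028, [2,4,0,4,0,2,4]),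
   (240, [2,4,0,4,2,3,2]), (345, [2,4,0,4,2,3,5]), (330, [2,4,0,5,2,3,4]), (57, [2,4,0,5,2,3,5]),
   (231, [2,4,0,5,2,5,2]), (133, [2,4,2,5,2,3,2]), (738, [2,4,2,5,2,4,5]), (895, [2,4,5,2,3,2,4]),
   (525, [2,4,5,2,3,2,5]), (176, [2,4,5,2,5,2,3]), (1424, [2,5,2,3,2,4,0]), (1736, [2,5,2,3,2,4,5]),
   (544, [2,5,2,4,0,1,4]), (338, [2,5,2,4,0,4,0]), (734, [2,5,2,4,0,4,2]), (1141, [2,5,2,5,2,4,0]),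
   (1319, [3,2,3,4,0,5,2]), (992, [3,2,3,4,2,3,2]), (1744, [3,2,3,4,2,3,5]), (1164, [3,2,3,4,2,5,2]),
   (609, [3,2,3,4,5,2,5]), (1735, [3,2,4,0,5,2,3]), (1768, [3,2,4,0,5,2,4]), (1771, [3,2,4,0,5,2,5]),
   (1664, [3,2,4,5,2,3,2]), (1746, [3,2,4,5,2,5,2])]

def chainYIdx1_11 : List (ℕ × List ℕ) :=
  [(657, [3,4,0,2,3,2,3]), (952, [3,4,0,2,3,2,4]), (1083, [3,4,0,2,4,2,3]), (1283, [3,4,0,2,5,2,3]),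
   (1625, [3,4,0,2,5,2,4]), (1436, [3,4,0,4,2,3,2]), (1754, [3,4,0,4,2,3,5]), (1609, [3,4,0,4,5,2,4]),
   (1773, [3,4,0,5,2,3,4]), (1014, [3,4,2,5,2,3,4]), (883, [3,4,2,5,2,3,5]), (1655, [3,4,2,5,2,4,0]),
   (1588, [3,4,2,5,2,4,5]), (1452, [3,4,2,5,2,5,2]), (1002, [3,4,5,2,5,2,4]), (660, [4,0,1,2,3,2,3]),
   (1759, [4,0,1,2,3,2,4]), (1331, [4,0,1,2,3,2,5]), (1579, [4,0,1,4,5,2,3]), (456, [4,0,1,5,2,3,2]),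
   (1307, [4,0,1,5,2,4,5]), (1756, [4,0,2,3,2,3,4]), (1098, [4,0,2,3,2,3,5]), (1760, [4,0,2,3,2,4,5]),
   (1614, [4,0,2,3,2,5,2]), (1328, [4,0,5,2,3,4,5]), (1559, [4,2,3,2,3,4,2]), (899, [4,2,3,2,3,4,5]),
   (1584, [4,2,3,2,4,0,5]), (1650, [4,2,3,2,5,2,4]), (1528, [4,2,3,2,5,2,5]), (1197, [4,2,5,2,3,2,4]),
   (373, [4,2,5,2,3,4,2]), (721, [4,2,5,2,3,4,5]), (1239, [4,2,5,2,4,0,5]), (1265, [4,5,2,3,4,0,4]),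
   (1122, [4,5,2,3,4,0,5]), (321, [4,5,2,4,0,1,4]), (1352, [4,5,2,4,0,1,5]), (280, [4,5,2,4,0,4,2]),
   (331, [5,2,3,2,4,0,1]), (490, [5,2,3,2,4,0,2]), (713, [5,2,3,2,4,0,5]), (887, [5,2,3,2,4,2,5]),
   (1059, [5,2,3,2,4,5,2]), (1018, [5,2,3,4,0,4,2]), (1369, [5,2,3,4,0,4,5]), (776, [5,2,3,4,2,5,2]),
   (406, [5,2,3,4,5,2,5]), (540, [5,2,4,0,1,4,0]), (646, [5,2,4,0,1,4,2]), (483, [5,2,4,0,4,0,1]),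
   (1399, [5,2,4,0,4,0,5]), (1054, [5,2,4,0,4,2,5]), (1406, [5,2,4,5,2,3,4]), (967, [5,2,4,5,2,4,0]),
   (542, [5,2,5,2,3,4,0]), (943, [5,2,5,2,3,4,2]), (1165, [5,2,5,2,4,0,4]), (691, [0,1,0,2,4,0,1,4]),
   (1248, [0,1,0,2,4,0,2,5]), (499, [0,1,0,2,4,0,4,2]), (857, [0,1,0,2,4,2,3,5]), (562, [0,1,0,3,2,3,2,4]),
   (712, [0,1,0,3,2,3,4,0]), (370, [0,1,0,3,2,3,4,2]), (711, [0,1,0,3,2,3,4,5]), (1663, [0,1,0,3,2,4,0,1]),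
   (1387, [0,1,0,3,2,4,0,2]), (1499, [0,1,0,3,2,4,0,4]), (1654, [0,1,0,3,2,4,0,5]), (1149, [0,1,0,3,2,5,2,3]),
   (742, [0,1,0,4,2,3,2,3]), (1721, [0,1,0,4,2,3,2,4]), (1024, [0,1,0,4,2,3,2,5]), (611, [0,1,0,4,2,3,5,2]),
   (1580, [0,1,2,3,2,3,2,4]), (1704, [0,1,2,4,0,1,2,4]), (719, [0,1,2,4,0,1,4,0]), (1158, [0,1,2,4,0,1,4,2]),
   (1379, [0,1,2,4,0,1,4,5]), (1509, [0,1,2,4,0,2,4,0]), (1553, [0,1,2,4,0,2,4,2]), (1767, [0,1,2,4,0,2,4,5]),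
   (1037, [0,1,2,4,0,4,2,3]), (1347, [0,1,2,4,0,4,2,5]), (1068, [0,1,2,4,2,5,2,4]), (1224, [0,1,2,4,2,5,2,5]),
   (1299, [0,1,2,4,5,2,4,0]), (1535, [0,1,2,5,2,3,2,4])]

def chainYIdx1_12 : List (ℕ × List ℕ) :=
  [(1368, [0,1,2,5,2,3,2,5]), (452, [0,1,2,5,2,3,4,0]), (1413, [0,1,3,2,3,4,0,4]), (1139, [0,1,3,2,4,0,4,0]),
   (1308, [0,1,5,2,4,0,1,5]), (928, [0,1,5,2,4,0,5,2]), (1481, [0,1,5,2,4,5,2,4]), (988, [0,1,5,2,4,5,2,5]),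
   (1715, [0,2,3,2,3,2,4,5]), (1766, [0,2,3,2,4,0,1,5]), (1586, [0,2,3,4,0,1,2,3]), (1040, [0,2,3,4,0,1,2,4]),
   (1686, [0,2,3,4,0,2,3,5]), (1660, [0,2,3,4,0,2,4,5]), (1491, [0,2,4,0,1,2,3,4]), (1765, [0,2,4,0,2,3,2,4]),
   (1515, [0,2,4,0,2,3,4,2]), (939, [0,2,4,0,2,3,4,5]), (685, [0,2,4,0,2,3,5,2]), (560, [0,2,4,0,2,4,0,2]),
   (139, [0,2,4,0,4,2,5,2]), (1258, [0,2,4,0,4,5,2,4]), (612, [0,2,4,0,4,5,2,5]), (1337, [0,2,4,0,5,2,4,0]),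
   (1712, [0,2,4,0,5,2,4,5]), (803, [0,2,4,2,3,2,3,4]), (1052, [0,2,4,2,3,2,4,0]), (1682, [0,2,4,2,5,2,4,5]),
   (1225, [0,2,4,2,5,2,5,2]), (1749, [0,2,4,5,2,3,2,4]), (829, [0,2,4,5,2,4,0,4]), (585, [0,2,4,5,2,4,0,5]),
   (1263, [0,2,5,2,3,2,4,0]), (1462, [0,2,5,2,3,2,4,2]), (1556, [0,2,5,2,3,2,4,5]), (1412, [0,2,5,2,4,0,4,2]),
   (1674, [0,2,5,2,5,2,4,0]), (1244, [0,3,2,3,2,4,0,1]), (1174, [0,3,2,3,2,4,0,5]), (662, [0,3,2,4,0,1,2,3]),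
   (1302, [0,3,2,4,0,5,2,3]), (1599, [0,3,2,4,0,5,2,4]), (1640, [0,3,2,4,2,5,2,5]), (1427, [0,3,2,4,5,2,3,4]),
   (1474, [0,3,2,4,5,2,4,0]), (1501, [0,3,2,5,2,4,0,1]), (955, [0,3,4,2,3,2,3,5]), (1260, [0,3,4,2,3,2,4,5]),
   (828, [0,3,4,2,5,2,4,5]), (451, [0,3,4,5,2,3,2,5]), (131, [0,3,4,5,2,3,4,2]), (692, [0,3,4,5,2,4,5,2]),
   (1291, [0,3,4,5,2,5,2,4]), (1306, [0,4,0,2,3,2,3,4]), (300, [0,4,0,2,3,2,3,5]), (442, [0,4,0,2,3,2,4,0]),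
   (946, [0,4,0,2,3,2,4,5]), (1548, [0,4,0,2,4,0,4,2]), (1303, [0,4,0,2,4,2,3,2]), (455, [0,4,0,2,5,2,3,4]),
   (1752, [0,4,0,4,2,3,2,4]), (374, [0,4,2,3,2,3,4,0]), (306, [0,4,2,3,2,3,4,5]), (1505, [0,4,2,3,2,4,0,4]),
   (813, [0,4,2,3,2,4,0,5]), (1333, [0,4,2,3,2,4,5,2]), (563, [0,4,2,3,2,5,2,4]), (1012, [0,4,2,5,2,3,4,0]),
   (463, [0,4,2,5,2,3,4,5]), (1266, [0,4,2,5,2,4,0,5]), (1657, [0,5,2,4,0,1,4,5]), (1289, [0,5,2,4,5,2,4,0]),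
   (1489, [0,5,2,4,5,2,4,5]), (1551, [0,5,2,5,2,3,2,4]), (1162, [0,5,2,5,2,3,4,0]), (1719, [0,5,2,5,2,3,4,2]),
   (1217, [0,5,2,5,2,4,0,1]), (1286, [0,5,2,5,2,4,0,4]), (830, [1,0,3,2,3,2,4,0]), (380, [1,0,3,2,3,2,4,2]),
   (504, [1,0,3,2,3,4,0,1]), (559, [1,0,3,2,3,4,0,5]), (1680, [1,0,3,2,4,0,1,4]), (1725, [1,0,3,2,4,0,4,2]),
   (1723, [1,0,3,2,4,0,4,5]), (1361, [1,0,3,2,4,2,5,2]), (1148, [1,0,3,2,4,5,2,5]), (1004, [1,0,3,4,2,3,2,3]),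
   (1073, [1,0,3,4,2,5,2,3]), (1741, [1,0,4,2,3,2,4,0])]

def chainYIdx1_13 : List (ℕ × List ℕ) :=
  [(745, [1,0,4,2,3,2,5,2]), (179, [1,2,4,0,1,2,3,4]), (228, [1,2,4,0,1,2,3,5]), (130, [1,2,4,0,1,2,4,0]),
   (279, [1,2,4,0,1,2,4,2]), (72, [1,2,4,0,1,2,4,5]), (44, [1,2,4,0,1,2,5,2]), (276, [1,2,4,0,1,4,0,2]),
   (116, [1,2,4,0,1,4,2,3]), (308, [1,2,4,0,2,4,0,1]), (358, [1,2,4,0,2,4,2,3]), (70, [1,2,4,0,2,4,5,2]),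
   (66, [1,2,4,0,2,5,2,4]), (1425, [1,3,2,3,4,0,1,5]), (1147, [1,3,2,3,4,0,2,4]), (1672, [1,3,2,3,4,0,4,2]),
   (1631, [1,3,2,3,4,0,4,5]), (1488, [1,3,2,3,4,2,5,2]), (1490, [1,3,2,4,0,1,4,5]), (1543, [1,3,2,4,0,1,5,2]),
   (739, [1,3,2,4,0,4,0,1]), (921, [1,3,2,4,0,4,0,5]), (814, [1,3,2,4,0,4,5,2]), (1724, [1,3,2,4,0,5,2,3]),
   (1514, [1,3,2,4,0,5,2,4]), (1748, [1,3,2,4,0,5,2,5]), (1706, [1,3,2,4,2,5,2,3]), (1389, [1,3,2,4,5,2,3,2]),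
   (1267, [1,3,4,2,5,2,3,4]), (1190, [1,4,0,2,5,2,4,5]), (181, [1,4,0,5,2,3,4,2]), (744, [1,4,0,5,2,4,5,2]),
   (754, [1,4,2,5,2,3,4,5]), (343, [1,4,2,5,2,4,0,4]), (1021, [1,4,2,5,2,4,0,5]), (1591, [2,3,2,4,0,1,4,0]),
   (994, [2,3,2,4,0,4,2,5]), (1469, [2,3,2,4,0,5,2,4]), (1634, [2,3,2,4,5,2,3,4]), (81, [2,3,4,0,1,2,3,2]),
   (59, [2,3,4,0,1,2,3,4]), (27, [2,3,4,0,1,2,3,5]), (32, [2,3,4,0,1,2,4,0]), (39, [2,3,4,0,1,2,4,2]),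
   (12, [2,3,4,0,1,2,4,5]), (99, [2,3,4,0,1,2,5,2]), (210, [2,3,4,0,1,4,0,2]), (222, [2,3,4,0,1,4,0,4]),
   (167, [2,3,4,0,1,4,2,3]), (87, [2,3,4,0,1,4,2,5]), (411, [2,3,4,0,2,3,2,3]), (310, [2,3,4,0,2,3,2,4]),
   (108, [2,3,4,0,2,3,4,2]), (86, [2,3,4,0,2,3,4,5]), (168, [2,3,4,0,2,4,2,3]), (34, [2,3,4,0,2,4,2,5]),
   (79, [2,3,4,0,2,5,2,3]), (196, [2,3,4,0,2,5,2,5]), (91, [2,3,4,0,4,2,5,2]), (466, [2,3,4,2,3,2,3,5]),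
   (77, [2,3,4,2,5,2,3,2]), (53, [2,4,0,1,2,5,2,3]), (155, [2,4,0,1,4,2,3,2]), (33, [2,4,0,1,5,2,3,5]),
   (149, [2,4,0,1,5,2,5,2]), (85, [2,4,0,2,5,2,3,2]), (511, [2,4,0,4,0,1,2,3]), (552, [2,4,0,4,0,2,3,4]),
   (313, [2,4,0,4,2,3,2,3]), (413, [2,4,0,4,2,3,2,4]), (206, [2,4,2,5,2,3,2,4]), (1256, [2,4,5,2,3,2,4,0]),
   (1261, [2,4,5,2,3,2,4,5]), (113, [2,4,5,2,5,2,3,2]), (1163, [2,5,2,3,2,4,0,4]), (1056, [2,5,2,4,0,4,2,5]),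
   (940, [3,2,3,4,2,3,2,5]), (1772, [3,2,4,0,5,2,4,0]), (1467, [3,2,4,5,2,3,2,3]), (1377, [3,2,4,5,2,3,2,4]),
   (668, [3,4,0,2,5,2,3,4]), (1691, [3,4,0,4,2,3,2,4]), (1344, [3,4,2,5,2,3,4,0]), (1000, [3,4,2,5,2,3,4,2]),
   (1321, [3,4,2,5,2,3,4,5]), (1702, [3,4,2,5,2,4,0,1]), (1595, [3,4,2,5,2,4,0,4]), (1617, [4,0,1,2,3,2,3,4]),
   (1627, [4,0,1,2,3,2,4,5]), (1700, [4,0,2,3,2,3,4,5])]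

def chainYIdx1_14 : List (ℕ × List ℕ) :=
  [(1280, [4,0,2,3,2,5,2,5]), (1045, [4,2,5,2,3,2,4,0]), (1152, [4,2,5,2,3,4,2,5]), (203, [4,5,2,4,0,1,4,2]),
   (327, [4,5,2,4,0,4,2,3]), (1055, [5,2,3,2,4,0,2,5]), (1497, [5,2,3,4,0,4,2,5]), (1596, [5,2,3,4,0,4,5,2]),
   (996, [5,2,4,0,1,4,2,5]), (1496, [5,2,4,5,2,3,4,0]), (821, [5,2,4,5,2,4,0,4]), (796, [5,2,5,2,3,4,0,2]),
   (1350, [5,2,5,2,3,4,0,4]), (827, [0,1,0,3,2,3,2,4,0]), (546, [0,1,0,3,2,3,2,4,2]), (1525, [0,1,0,4,2,3,2,4,0]),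
   (709, [0,1,0,4,2,3,2,5,2]), (1392, [0,1,2,4,0,2,4,0,2]), (1643, [0,1,2,4,0,2,4,0,5]), (1558, [0,1,2,4,2,5,2,4,5]),
   (1638, [0,1,2,5,2,3,2,4,0]), (1607, [0,1,5,2,4,5,2,4,5]), (1685, [0,2,4,0,2,3,2,4,0]), (786, [0,2,4,0,2,3,4,2,3]),
   (220, [0,2,4,0,4,2,5,2,4]), (1341, [0,2,4,0,4,5,2,4,0]), (1226, [0,2,4,0,4,5,2,4,5]), (1487, [0,2,4,0,5,2,4,0,5]),
   (1191, [0,2,4,5,2,4,0,4,2]), (903, [0,2,4,5,2,4,0,4,5]), (802, [0,2,5,2,5,2,4,0,4]), (1498, [0,3,2,4,5,2,3,4,0]),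
   (694, [0,4,0,2,3,2,4,0,4]), (1623, [0,4,0,2,4,2,3,2,4]), (1001, [0,4,2,3,2,3,4,0,4]), (1206, [0,4,2,3,2,4,0,4,2]),
   (1569, [0,5,2,4,5,2,4,0,1]), (1142, [0,5,2,4,5,2,4,0,5]), (1264, [0,5,2,5,2,4,0,1,4]), (1594, [0,5,2,5,2,4,0,4,2]),
   (129, [1,2,4,0,1,2,3,4,0]), (197, [1,2,4,0,1,2,4,0,1]), (202, [1,2,4,0,1,2,4,0,2]), (47, [1,2,4,0,1,2,4,0,5]),
   (234, [1,2,4,0,1,2,4,2,3]), (42, [1,2,4,0,1,2,4,5,2]), (40, [1,2,4,0,1,2,5,2,4]), (416, [1,2,4,0,1,4,0,2,4]),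
   (45, [1,2,4,0,2,4,5,2,3]), (38, [1,2,4,0,2,4,5,2,4]), (1189, [1,3,2,3,4,0,2,4,2]), (1563, [1,3,2,3,4,0,4,2,3]),
   (1738, [1,3,2,4,0,1,5,2,3]), (1670, [1,3,2,4,0,5,2,3,2]), (199, [2,3,4,0,1,2,3,2,4]), (36, [2,3,4,0,1,2,3,4,0]),
   (67, [2,3,4,0,1,2,3,4,2]), (52, [2,3,4,0,1,2,3,4,5]), (21, [2,3,4,0,1,2,4,0,2]), (7, [2,3,4,0,1,2,4,0,5]),
   (109, [2,3,4,0,1,2,4,2,3]), (18, [2,3,4,0,1,2,4,2,5]), (56, [2,3,4,0,1,4,2,5,2]), (613, [2,3,4,0,2,3,2,3,4]),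
   (386, [2,3,4,0,2,3,2,4,2]), (51, [2,3,4,0,2,3,4,5,2]), (28, [2,3,4,0,2,4,2,5,2]), (54, [2,3,4,0,4,2,5,2,4]),
   (50, [2,4,0,1,2,5,2,3,2]), (278, [2,4,0,1,4,2,3,2,4]), (643, [2,4,0,4,2,3,2,3,4]), (1573, [2,4,5,2,3,2,4,0,4]),
   (1349, [3,4,2,5,2,3,4,0,2]), (439, [1,2,4,0,1,2,4,0,2,4]), (25, [1,2,4,0,1,2,4,0,5,2]), (20, [1,2,4,0,1,2,4,5,2,4]),
   (22, [1,2,4,0,1,2,5,2,4,0]), (615, [1,2,4,0,1,4,0,2,4,0]), (14, [1,2,4,0,2,4,5,2,3,4]), (315, [2,3,4,0,1,2,3,2,4,0]),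
   (258, [2,3,4,0,1,2,3,2,4,2]), (41, [2,3,4,0,1,2,3,4,0,2]), (68, [2,3,4,0,1,2,3,4,0,4]), (30, [2,3,4,0,1,2,3,4,0,5]),
   (29, [2,3,4,0,1,2,3,4,5,2]), (10, [2,3,4,0,1,2,4,0,2,5]), (15, [2,3,4,0,1,2,4,2,5,2]), (31, [2,3,4,0,1,4,2,5,2,4]),
   (58, [2,3,4,0,2,4,2,5,2,4]), (415, [2,4,0,1,4,2,3,2,4,0])]

def chainYIdx1_15 : List (ℕ × List ℕ) :=
  [(644, [1,2,4,0,1,2,4,0,2,4,0]), (8, [1,2,4,0,1,2,4,0,5,2,4]), (11, [1,2,4,0,1,2,4,5,2,4,0]), (388, [2,3,4,0,1,2,3,2,4,0,2]),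
   (16, [2,3,4,0,1,2,3,4,0,5,2]), (9, [2,3,4,0,1,2,4,0,2,5,2]), (35, [2,3,4,0,1,2,4,2,5,2,4]), (17, [2,3,4,0,1,4,2,5,2,4,0]),
   (4, [1,2,4,0,1,2,4,0,5,2,4,0]), (6, [1,2,4,0,1,2,4,5,2,4,0,4]), (5, [2,3,4,0,1,2,3,4,0,5,2,4]), (19, [2,3,4,0,1,2,4,2,5,2,4,0]),
   (3, [2,3,4,0,1,4,2,5,2,4,0,4]), (1, [1,2,4,0,1,2,4,0,5,2,4,0,4]), (0, [1,2,4,0,1,2,4,0,5,2,4,0,4,2])]

def chainYIdx1 : List (ℕ × List ℕ) :=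
  chainYIdx1_0 ++ chainYIdx1_1 ++ chainYIdx1_2 ++ chainYIdx1_3 ++ chainYIdx1_4 ++ chainYIdx1_5 ++ chainYIdx1_6 ++ chainYIdx1_7 ++ chainYIdx1_8 ++ chainYIdx1_9 ++ chainYIdx1_10 ++ chainYIdx1_11 ++ chainYIdx1_12 ++ chainYIdx1_13 ++ chainYIdx1_14 ++ chainYIdx1_15

def chainYGens1 : List (List ℕ) :=
  [[3],
   [4],
   [6],
   [1,0,1],
   [1,2,1],
   [1,5,1]]

def chainY1 : SLev := ⟨⟨795, chainYGens1, chainYOrb1⟩, chainYIdx1⟩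

def chainYOrb2_0 : List (ℕ × ℕ × ℕ) :=
  [(767, 749, 0), (849, 749, 1), (368, 749, 2), (1456, 749, 3), (1432, 749, 4), (930, 767, 2),
   (397, 767, 3), (1652, 767, 4), (1528, 849, 0), (47, 849, 1), (208, 849, 2), (890, 849, 3),
   (1249, 849, 4), (1411, 368, 0), (1573, 368, 3), (237, 368, 4), (1519, 1456, 0), (802, 1456, 1),
   (1745, 1456, 2), (1074, 1456, 4), (672, 1432, 0), (327, 1432, 1), (487, 1432, 2), (1008, 1432, 3),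
   (1028, 1432, 4), (1088, 930, 0), (1733, 930, 3), (1169, 930, 4), (1318, 397, 0), (522, 397, 2),
   (1496, 397, 4), (1267, 1652, 0), (1075, 1652, 1), (1586, 1652, 2), (1395, 1652, 3), (1702, 1652, 4),
   (1061, 1528, 1), (1050, 1528, 2), (1517, 1528, 3), (1084, 1528, 4), (134, 47, 0), (30, 47, 2),
   (439, 47, 4), (176, 208, 0), (127, 208, 3), (239, 208, 4), (991, 890, 0), (1711, 890, 2),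
   (1581, 890, 4), (1090, 1249, 0), (465, 1249, 1), (1498, 1249, 2), (607, 1249, 3), (1642, 1249, 4),
   (1434, 1411, 1), (830, 1411, 2), (723, 1411, 3), (1000, 1411, 4), (1217, 1573, 0), (278, 1573, 1),
   (1057, 1573, 2), (910, 1573, 4), (272, 237, 0), (121, 237, 1), (362, 237, 2), (288, 237, 3),
   (70, 237, 4), (726, 1519, 1), (1522, 1519, 2), (1131, 1519, 3), (1509, 802, 0), (1405, 802, 2),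
   (1172, 802, 4), (589, 1745, 0), (1078, 1745, 3), (1326, 1745, 4), (1705, 1074, 0), (1128, 1074, 1),
   (609, 1074, 2), (928, 1074, 3), (1290, 1074, 4), (1548, 672, 1), (857, 672, 2), (353, 672, 3),
   (1055, 672, 4), (205, 327, 0), (295, 327, 1), (844, 327, 2), (827, 327, 3), (1471, 327, 4)]

def chainYOrb2_1 : List (ℕ × ℕ × ℕ) :=
  [(1709, 487, 0), (1029, 487, 3), (535, 487, 4), (1468, 1008, 0), (984, 1008, 1), (582, 1008, 2),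
   (1556, 1008, 4), (813, 1028, 0), (968, 1028, 1), (1104, 1028, 2), (819, 1028, 3), (125, 1028, 4),
   (574, 1088, 1), (705, 1088, 2), (1644, 1088, 3), (1481, 1088, 4), (1544, 1733, 0), (885, 1733, 2),
   (1289, 1733, 4), (1692, 1169, 0), (1184, 1169, 1), (1552, 1169, 2), (1480, 1169, 3), (422, 1169, 4),
   (960, 1318, 1), (1559, 1318, 2), (1736, 1318, 3), (1243, 522, 0), (550, 522, 3), (952, 522, 4),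
   (733, 1496, 0), (631, 1496, 1), (1007, 1496, 2), (1531, 1496, 3), (866, 1496, 4), (1605, 1267, 1),
   (1099, 1267, 2), (1741, 1267, 3), (77, 1267, 4), (1070, 1075, 0), (1645, 1075, 1), (1372, 1075, 2),
   (1032, 1075, 3), (1590, 1586, 0), (1621, 1586, 3), (540, 1586, 4), (1378, 1395, 0), (1467, 1395, 1),
   (381, 1395, 2), (420, 1395, 4), (1563, 1702, 0), (463, 1702, 1), (1152, 1702, 2), (1265, 1702, 3),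
   (84, 1702, 4), (1039, 1061, 0), (987, 1061, 1), (566, 1061, 2), (488, 1061, 3), (1640, 1061, 4),
   (1341, 1050, 3), (150, 1050, 4), (1288, 1517, 0), (748, 1517, 2), (1025, 1517, 4), (912, 1084, 0),
   (72, 1084, 1), (603, 1084, 2), (1470, 1084, 3), (541, 134, 1), (91, 134, 2), (194, 134, 3),
   (1417, 134, 4), (22, 30, 0), (255, 30, 4), (386, 439, 0), (411, 439, 1), (102, 439, 2),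
   (225, 439, 3), (388, 439, 4), (172, 176, 1), (944, 176, 2), (615, 176, 3), (643, 176, 4),
   (99, 127, 0), (78, 127, 2), (1587, 127, 4), (210, 239, 0), (1241, 239, 1), (458, 239, 2)]

def chainYOrb2_2 : List (ℕ × ℕ × ℕ) :=
  [(382, 239, 3), (627, 239, 4), (1098, 991, 1), (937, 991, 2), (63, 991, 3), (1541, 1711, 0),
   (380, 1711, 3), (546, 1711, 4), (1063, 1581, 1), (1612, 1581, 2), (1166, 1581, 3), (1431, 1581, 4),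
   (621, 1090, 1), (457, 1090, 3), (913, 1090, 4), (281, 465, 0), (1615, 465, 1), (820, 465, 2),
   (180, 465, 3), (1526, 465, 4), (1137, 1498, 0), (878, 1498, 3), (1278, 1498, 4), (666, 607, 0),
   (1445, 607, 1), (1183, 607, 2), (236, 607, 4), (800, 1642, 0), (951, 1642, 2), (1045, 1642, 3),
   (805, 1642, 4), (1121, 1434, 0), (1489, 1434, 1), (1242, 1434, 2), (1469, 1434, 3), (1436, 1434, 4),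
   (1682, 830, 0), (1762, 830, 3), (548, 830, 4), (1485, 723, 0), (1763, 723, 1), (946, 723, 2),
   (1651, 1000, 0), (1158, 1000, 1), (693, 1000, 2), (1676, 1000, 3), (1672, 1000, 4), (1127, 1217, 1),
   (311, 1217, 2), (977, 1217, 3), (613, 278, 0), (39, 278, 2), (644, 278, 4), (828, 1057, 0),
   (181, 1057, 3), (797, 1057, 4), (1207, 910, 0), (651, 910, 1), (513, 910, 2), (1606, 910, 3),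
   (300, 910, 4), (1766, 272, 2), (414, 272, 3), (245, 272, 4), (215, 121, 0), (1237, 121, 1),
   (450, 121, 2), (329, 121, 3), (896, 121, 4), (1253, 362, 3), (347, 288, 0), (1493, 288, 1),
   (332, 288, 4), (219, 70, 0), (113, 70, 1), (175, 70, 3), (249, 70, 4), (1428, 726, 0),
   (680, 726, 2), (497, 726, 3), (1160, 1522, 3), (1748, 1522, 4), (1282, 1131, 0), (620, 1131, 1),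
   (170, 1131, 2), (826, 1131, 4), (1167, 1509, 1), (1058, 1509, 2), (580, 1509, 3), (1584, 1509, 4)]

def chainYOrb2_3 : List (ℕ × ℕ × ℕ) :=
  [(1524, 1405, 0), (1179, 1405, 3), (765, 1405, 4), (378, 1172, 0), (1388, 1172, 1), (684, 1172, 2),
   (799, 1172, 3), (408, 1172, 4), (1165, 589, 1), (663, 589, 2), (834, 589, 3), (790, 1078, 0),
   (1215, 1078, 2), (1686, 1078, 4), (661, 1326, 0), (708, 1326, 2), (1370, 1326, 3), (1366, 1326, 4),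
   (579, 1705, 1), (1703, 1705, 2), (539, 1705, 3), (139, 1705, 4), (822, 1128, 0), (1037, 1128, 1),
   (668, 1128, 2), (1503, 1128, 3), (1460, 1128, 4), (1767, 609, 0), (1680, 609, 3), (886, 609, 4),
   (926, 928, 0), (1674, 928, 1), (832, 928, 2), (1060, 928, 4), (1200, 1290, 0), (1255, 1290, 2),
   (1617, 1290, 4), (818, 1548, 0), (1187, 1548, 1), (1700, 1548, 2), (482, 1548, 3), (1192, 857, 0),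
   (554, 857, 3), (1578, 857, 4), (575, 353, 0), (1083, 353, 4), (1427, 1055, 0), (1624, 1055, 1),
   (1638, 1055, 2), (277, 1055, 3), (998, 1055, 4), (375, 205, 2), (1570, 205, 3), (1359, 205, 4),
   (1338, 295, 0), (373, 295, 2), (1274, 295, 4), (442, 844, 0), (840, 844, 3), (1761, 844, 4),
   (1490, 827, 0), (1404, 827, 2), (788, 827, 4), (1343, 1471, 0), (978, 1471, 2), (424, 1471, 4),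
   (1396, 1709, 4), (553, 1029, 0), (1362, 1029, 1), (817, 1029, 2), (1251, 1029, 4), (634, 535, 1),
   (1298, 535, 3), (1607, 535, 4), (165, 1468, 1), (1271, 1468, 3), (1668, 984, 0), (104, 984, 2),
   (969, 984, 4), (511, 582, 0), (7, 582, 3), (394, 582, 4), (1502, 1556, 1), (1363, 1556, 2),
   (1356, 1556, 3), (1452, 1556, 4), (1133, 813, 1), (716, 813, 2), (426, 813, 3), (1347, 813, 4)]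

def chainYOrb2_4 : List (ℕ × ℕ × ℕ) :=
  [(838, 968, 0), (871, 968, 2), (204, 968, 4), (835, 1104, 0), (1474, 1104, 3), (1360, 819, 0),
   (1513, 819, 1), (1053, 819, 2), (191, 819, 4), (136, 125, 0), (352, 125, 1), (383, 125, 3),
   (49, 125, 4), (1465, 574, 0), (501, 574, 1), (794, 574, 2), (983, 574, 3), (1609, 574, 4),
   (863, 705, 0), (920, 705, 3), (520, 705, 4), (1543, 1644, 0), (682, 1644, 4), (895, 1481, 0),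
   (1140, 1481, 1), (1094, 1544, 1), (1778, 1544, 2), (994, 1544, 3), (50, 885, 3), (1276, 885, 4),
   (1322, 1289, 1), (1655, 1692, 2), (1024, 1692, 3), (735, 1692, 4), (1180, 1184, 0), (1641, 1184, 2),
   (796, 1184, 3), (853, 1184, 4), (677, 1552, 3), (724, 1480, 0), (148, 1480, 1), (1116, 422, 0),
   (1293, 422, 1), (1004, 422, 3), (456, 422, 4), (1412, 960, 3), (578, 960, 4), (279, 1559, 3),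
   (1019, 1559, 4), (1601, 1736, 0), (1667, 1736, 2), (304, 1736, 4), (1491, 1243, 1), (303, 1243, 2),
   (1059, 1243, 4), (1634, 550, 0), (769, 550, 2), (1713, 550, 4), (444, 952, 0), (1516, 952, 1),
   (1742, 952, 2), (1390, 952, 3), (1393, 952, 4), (18, 733, 1), (1671, 733, 3), (1048, 733, 4),
   (759, 631, 0), (1151, 631, 2), (142, 1007, 0), (807, 1007, 4), (1591, 1531, 4), (1461, 866, 0),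
   (1399, 866, 1), (967, 866, 2), (989, 1605, 1), (479, 1605, 3), (1550, 1741, 0), (1683, 1741, 1),
   (1005, 1741, 2), (754, 1741, 4), (505, 77, 0), (6, 77, 1), (598, 77, 2), (9, 77, 3),
   (1673, 1070, 1), (1542, 1070, 2), (612, 1070, 4), (1129, 1645, 2), (943, 1372, 0), (1103, 1372, 3)]

def chainYOrb2_5 : List (ℕ × ℕ × ℕ) :=
  [(483, 1372, 4), (1076, 1032, 2), (202, 1590, 3), (710, 1590, 4), (323, 1621, 1), (364, 1621, 2),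
   (729, 540, 1), (419, 540, 3), (1186, 540, 4), (902, 1378, 1), (1438, 1378, 2), (1291, 1378, 3),
   (137, 1467, 2), (1027, 1467, 4), (158, 381, 3), (478, 420, 0), (736, 420, 2), (1656, 1563, 1),
   (1308, 1563, 2), (676, 1563, 4), (1765, 463, 0), (1177, 463, 2), (1658, 1152, 0), (909, 1152, 3),
   (843, 1265, 4), (10, 84, 1), (345, 84, 3), (266, 1039, 1), (798, 1039, 2), (1723, 1039, 3),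
   (1463, 1039, 4), (903, 987, 0), (335, 987, 2), (1193, 987, 4), (349, 566, 0), (240, 566, 3),
   (65, 566, 4), (1052, 488, 0), (709, 488, 2), (867, 488, 4), (1069, 1640, 0), (1472, 1640, 1),
   (1725, 1640, 2), (106, 1640, 3), (632, 1640, 4), (199, 1341, 1), (816, 1341, 2), (340, 150, 4),
   (1654, 1288, 1), (604, 1288, 2), (1660, 1288, 3), (780, 748, 0), (459, 748, 3), (976, 748, 4),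
   (545, 1025, 0), (1361, 1025, 1), (1512, 1025, 2), (966, 1025, 3), (88, 72, 0), (27, 72, 4),
   (391, 603, 3), (768, 603, 4), (1145, 1470, 0), (94, 1470, 2), (1040, 1470, 4), (1176, 541, 0),
   (52, 541, 1), (1226, 541, 3), (1532, 541, 4), (129, 91, 0), (1687, 91, 4), (355, 194, 0),
   (415, 194, 1), (1379, 194, 2), (737, 1417, 1), (1126, 1417, 3), (778, 1417, 4), (486, 22, 1),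
   (167, 22, 4), (810, 255, 1), (1162, 255, 3), (8, 255, 4), (41, 386, 1), (51, 386, 4),
   (89, 411, 0), (1594, 411, 1), (552, 411, 2), (379, 411, 3), (1457, 411, 4), (358, 102, 0)]

def chainYOrb2_6 : List (ℕ × ℕ × ℕ) :=
  [(1331, 102, 3), (96, 102, 4), (1540, 225, 1), (678, 225, 2), (900, 225, 4), (258, 388, 1),
   (93, 388, 3), (29, 388, 4), (884, 172, 1), (587, 172, 2), (466, 172, 3), (683, 172, 4),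
   (1442, 944, 4), (186, 615, 2), (25, 615, 4), (177, 643, 1), (919, 643, 2), (310, 643, 3),
   (764, 99, 1), (130, 78, 0), (542, 1587, 1), (406, 1587, 3), (1136, 1587, 4), (71, 210, 4),
   (1119, 1241, 0), (409, 1241, 1), (1437, 1241, 2), (503, 1241, 3), (32, 382, 1), (357, 382, 4),
   (1221, 627, 0), (1659, 627, 1), (692, 627, 3), (1269, 627, 4), (653, 1098, 0), (906, 1098, 1),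
   (691, 1098, 3), (1216, 1098, 4), (842, 937, 0), (1303, 937, 4), (15, 63, 4), (1515, 1541, 1),
   (504, 1541, 2), (623, 1541, 3), (1286, 1541, 4), (897, 380, 2), (1031, 380, 4), (1643, 546, 4),
   (492, 1063, 0), (551, 1063, 2), (1750, 1612, 0), (1189, 1166, 0), (1038, 1166, 2), (1476, 1166, 4),
   (1292, 1431, 0), (1015, 1431, 1), (231, 1431, 2), (1446, 621, 0), (1435, 621, 1), (1073, 621, 3),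
   (973, 457, 0), (874, 457, 1), (711, 457, 2), (1109, 457, 4), (1315, 913, 0), (662, 913, 3),
   (1375, 913, 4), (1285, 281, 1), (1718, 281, 2), (1407, 281, 3), (114, 180, 0), (138, 180, 4),
   (1195, 1526, 1), (1224, 1526, 2), (207, 1526, 3), (1130, 1137, 2), (750, 878, 2), (1533, 1278, 4),
   (1236, 1445, 0), (1549, 1445, 4), (715, 1183, 0), (646, 1183, 4), (119, 236, 0), (1306, 236, 2),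
   (1317, 800, 1), (1102, 800, 2), (599, 800, 3), (308, 800, 4), (1518, 951, 3), (642, 805, 4)]

def chainYOrb2_7 : List (ℕ × ℕ × ℕ) :=
  [(1012, 1121, 1), (1205, 1121, 3), (728, 1242, 0), (1020, 1242, 4), (732, 1469, 2), (1595, 1469, 4),
   (1295, 1436, 0), (1239, 1436, 2), (592, 1436, 3), (1527, 1682, 1), (305, 1682, 2), (657, 1682, 3),
   (1724, 1682, 4), (931, 1762, 1), (216, 548, 1), (911, 548, 2), (430, 548, 3), (1107, 1485, 2),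
   (1772, 1485, 3), (1639, 946, 3), (1698, 1651, 2), (1545, 1651, 4), (499, 1158, 0), (1648, 1158, 1),
   (1409, 1158, 2), (1387, 1158, 3), (1002, 693, 0), (1006, 1676, 1), (1275, 1676, 2), (1681, 1676, 4),
   (1142, 1672, 0), (1154, 1672, 2), (718, 1672, 4), (1316, 1127, 1), (1616, 1127, 2), (307, 311, 3),
   (1626, 977, 0), (1424, 977, 2), (893, 977, 4), (45, 613, 4), (11, 39, 3), (1261, 644, 1),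
   (68, 644, 2), (234, 644, 4), (1132, 828, 2), (982, 828, 3), (1454, 828, 4), (377, 181, 2),
   (616, 181, 4), (1429, 797, 4), (1118, 1207, 1), (772, 1207, 3), (280, 651, 1), (697, 651, 2),
   (1036, 651, 3), (1148, 651, 4), (675, 513, 4), (1600, 1606, 1), (1602, 300, 0), (717, 300, 2),
   (1510, 300, 3), (556, 1766, 0), (755, 414, 4), (371, 245, 1), (1585, 245, 2), (892, 450, 0),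
   (608, 329, 0), (1023, 329, 2), (108, 329, 4), (645, 896, 0), (889, 896, 3), (1720, 896, 4),
   (182, 1253, 0), (1209, 1253, 2), (727, 1253, 4), (1589, 347, 3), (1770, 1493, 0), (1661, 1493, 4),
   (1732, 332, 1), (1246, 332, 2), (1156, 332, 3), (506, 332, 4), (233, 219, 4), (1, 113, 1),
   (275, 113, 4), (168, 175, 1), (714, 175, 2), (38, 175, 4), (1478, 249, 0), (1614, 1428, 3)]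

def chainYOrb2_8 : List (ℕ × ℕ × ℕ) :=
  [(1529, 497, 0), (110, 497, 2), (1368, 1160, 1), (1163, 1160, 4), (1739, 1748, 1), (1330, 1748, 3),
   (576, 1282, 1), (1539, 1282, 3), (86, 620, 2), (354, 170, 0), (74, 170, 4), (685, 826, 0),
   (306, 1167, 0), (1505, 1167, 2), (594, 1167, 4), (702, 1058, 4), (1664, 580, 4), (1691, 1584, 2),
   (243, 1584, 3), (745, 1584, 4), (1248, 1179, 0), (1014, 1179, 2), (1064, 765, 2), (1582, 378, 1),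
   (337, 1388, 0), (1588, 1388, 2), (1631, 684, 0), (1051, 799, 0), (1340, 799, 2), (703, 408, 1),
   (939, 408, 2), (1557, 408, 3), (743, 408, 4), (1349, 1165, 4), (891, 790, 2), (847, 1215, 0),
   (1123, 1686, 0), (1106, 1686, 2), (532, 661, 1), (132, 661, 2), (1225, 708, 3), (1047, 1370, 0),
   (1089, 1370, 1), (495, 1366, 0), (1277, 579, 2), (85, 579, 4), (1525, 1703, 0), (1430, 1703, 3),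
   (516, 539, 2), (618, 539, 4), (5, 139, 1), (543, 822, 4), (725, 1037, 0), (1451, 1037, 2),
   (626, 668, 0), (1030, 668, 3), (654, 668, 4), (1188, 1503, 2), (628, 1460, 0), (1398, 1767, 3),
   (220, 1674, 4), (572, 832, 4), (1150, 1060, 4), (1394, 1200, 4), (1466, 1255, 3), (922, 1255, 4),
   (1760, 1617, 0), (990, 1617, 1), (1754, 1617, 3), (585, 818, 1), (1350, 818, 3), (1487, 1187, 0),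
   (1630, 1187, 2), (1623, 1700, 0), (1716, 482, 4), (1046, 1192, 3), (712, 1192, 4), (1138, 554, 0),
   (544, 554, 1), (1067, 1578, 1), (1238, 1578, 3), (953, 1578, 4), (1403, 575, 1), (407, 575, 3),
   (376, 1083, 3), (1420, 1427, 1), (596, 1427, 3), (530, 1427, 4), (1196, 1638, 3), (498, 1638, 4)]

def chainYOrb2_9 : List (ℕ × ℕ × ℕ) :=
  [(461, 277, 1), (55, 277, 2), (856, 998, 0), (694, 1359, 1), (1042, 1359, 2), (1033, 1359, 3),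
   (1173, 1359, 4), (536, 1338, 3), (950, 1274, 0), (1439, 1274, 3), (395, 442, 2), (883, 840, 0),
   (825, 840, 2), (1504, 840, 4), (1551, 1761, 0), (707, 1404, 0), (336, 1404, 3), (1597, 788, 2),
   (257, 1396, 1), (860, 553, 1), (971, 553, 3), (328, 1362, 0), (648, 1251, 1), (1280, 634, 0),
   (76, 634, 1), (1352, 634, 4), (1553, 1607, 0), (992, 1607, 3), (228, 165, 4), (1677, 1271, 4),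
   (155, 104, 0), (1410, 104, 4), (1113, 969, 1), (3, 7, 2), (549, 394, 2), (1414, 1502, 0),
   (1174, 1502, 1), (777, 1502, 4), (370, 1363, 3), (1731, 1356, 0), (997, 1356, 1), (1384, 1356, 2),
   (611, 1452, 1), (1756, 1452, 4), (555, 1133, 0), (367, 1133, 3), (1161, 426, 4), (742, 1347, 2),
   (1448, 1347, 4), (1203, 871, 4), (1653, 1474, 2), (1666, 1360, 2), (1727, 1513, 0), (161, 1513, 2),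
   (1159, 191, 1), (1492, 191, 2), (1608, 191, 4), (24, 136, 1), (147, 136, 3), (265, 352, 0),
   (112, 383, 0), (933, 383, 2), (1373, 383, 4), (1270, 501, 2), (1488, 501, 4), (563, 983, 2),
   (1579, 1609, 0), (859, 1609, 2), (605, 1609, 3), (1627, 1609, 4), (985, 863, 1), (427, 520, 0),
   (870, 520, 2), (638, 1543, 3), (781, 1094, 0), (338, 1094, 1), (276, 1094, 3), (1568, 994, 0),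
   (116, 994, 1), (877, 994, 4), (274, 50, 0), (42, 50, 2), (1374, 1276, 1), (1759, 1276, 2),
   (1670, 1655, 0), (333, 1655, 4), (1367, 1180, 1), (284, 1180, 3), (739, 1641, 3), (792, 853, 0)]

def chainYOrb2_10 : List (ℕ × ℕ × ℕ) :=
  [(1598, 724, 1), (1704, 1116, 4), (1479, 1293, 1), (722, 1412, 2), (1112, 304, 0), (558, 1059, 0),
   (1462, 1059, 2), (98, 1634, 3), (1458, 1713, 4), (403, 1516, 2), (1263, 1516, 3), (507, 1516, 4),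
   (908, 1742, 3), (1062, 1390, 1), (34, 18, 0), (166, 759, 3), (898, 759, 4), (730, 807, 1),
   (619, 807, 3), (686, 1591, 3), (1690, 1461, 3), (963, 1399, 1), (261, 989, 0), (1625, 479, 2),
   (1319, 1683, 2), (713, 754, 0), (58, 6, 3), (17, 6, 4), (1506, 1673, 1), (1141, 612, 2),
   (1244, 483, 0), (741, 483, 1), (1155, 483, 3), (586, 483, 4), (97, 202, 0), (67, 202, 2),
   (179, 202, 4), (40, 710, 1), (1108, 323, 4), (254, 364, 3), (734, 1186, 4), (808, 902, 2),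
   (1044, 1438, 3), (1339, 1291, 2), (1486, 158, 4), (1628, 1656, 0), (1043, 1656, 1), (1555, 1656, 2),
   (1495, 1656, 4), (652, 1765, 2), (629, 1658, 4), (1287, 843, 0), (145, 10, 4), (59, 266, 2),
   (490, 1463, 3), (641, 1463, 4), (1320, 903, 2), (252, 349, 1), (829, 709, 4), (1302, 1472, 1),
   (493, 106, 1), (1214, 632, 1), (133, 340, 3), (1146, 1654, 0), (1715, 1512, 3), (229, 88, 3),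
   (12, 27, 4), (1336, 1145, 2), (1228, 1176, 2), (66, 52, 0), (700, 1687, 0), (1381, 1379, 0),
   (149, 167, 4), (791, 810, 4), (525, 41, 3), (0, 51, 3), (698, 1331, 1), (1010, 1331, 4),
   (1371, 96, 3), (1260, 1540, 0), (955, 900, 1), (1087, 900, 4), (57, 258, 3), (36, 29, 4),
   (747, 884, 2), (1307, 587, 4), (721, 683, 3), (1334, 1442, 3), (1134, 1119, 2), (1229, 1119, 4)]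

def chainYOrb2_11 : List (ℕ × ℕ × ℕ) :=
  [(250, 357, 3), (1768, 692, 4), (1611, 1216, 3), (824, 1216, 4), (1337, 842, 2), (1400, 1643, 3),
   (1449, 711, 4), (1546, 1315, 2), (401, 1285, 0), (1744, 1549, 0), (1264, 1549, 4), (1596, 646, 0),
   (803, 646, 3), (1483, 1306, 3), (515, 1102, 0), (1175, 308, 2), (213, 308, 4), (1500, 1020, 3),
   (160, 1527, 0), (1091, 216, 1), (786, 1387, 0), (1603, 1275, 3), (1342, 1142, 2), (480, 1626, 2),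
   (719, 556, 2), (655, 755, 4), (1018, 727, 1), (962, 275, 1), (446, 1614, 0), (1714, 1047, 1),
   (1613, 628, 4), (1706, 781, 2), (610, 17, 3)]

def chainYOrb2 : List (ℕ × ℕ × ℕ) :=
  chainYOrb2_0 ++ chainYOrb2_1 ++ chainYOrb2_2 ++ chainYOrb2_3 ++ chainYOrb2_4 ++ chainYOrb2_5 ++ chainYOrb2_6 ++ chainYOrb2_7 ++ chainYOrb2_8 ++ chainYOrb2_9 ++ chainYOrb2_10 ++ chainYOrb2_11

def chainYIdx2_0 : List (ℕ × List ℕ) :=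
  [(749, []), (767, [0]), (849, [1]), (368, [2]),
   (1456, [3]), (1432, [4]), (930, [0,2]), (397, [0,3]),
   (1652, [0,4]), (1528, [1,0]), (47, [1,1]), (208, [1,2]),
   (890, [1,3]), (1249, [1,4]), (1411, [2,0]), (1573, [2,3]),
   (237, [2,4]), (1519, [3,0]), (802, [3,1]), (1745, [3,2]),
   (1074, [3,4]), (672, [4,0]), (327, [4,1]), (487, [4,2]),
   (1008, [4,3]), (1028, [4,4]), (1088, [0,2,0]), (1733, [0,2,3]),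
   (1169, [0,2,4]), (1318, [0,3,0]), (522, [0,3,2]), (1496, [0,3,4]),
   (1267, [0,4,0]), (1075, [0,4,1]), (1586, [0,4,2]), (1395, [0,4,3]),
   (1702, [0,4,4]), (1061, [1,0,1]), (1050, [1,0,2]), (1517, [1,0,3]),
   (1084, [1,0,4]), (134, [1,1,0]), (30, [1,1,2]), (439, [1,1,4]),
   (176, [1,2,0]), (127, [1,2,3]), (239, [1,2,4]), (991, [1,3,0]),
   (1711, [1,3,2]), (1581, [1,3,4]), (1090, [1,4,0]), (465, [1,4,1]),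
   (1498, [1,4,2]), (607, [1,4,3]), (1642, [1,4,4]), (1434, [2,0,1]),
   (830, [2,0,2]), (723, [2,0,3]), (1000, [2,0,4]), (1217, [2,3,0]),
   (278, [2,3,1]), (1057, [2,3,2]), (910, [2,3,4]), (272, [2,4,0]),
   (121, [2,4,1]), (362, [2,4,2]), (288, [2,4,3]), (70, [2,4,4]),
   (726, [3,0,1]), (1522, [3,0,2]), (1131, [3,0,3]), (1509, [3,1,0]),
   (1405, [3,1,2]), (1172, [3,1,4]), (589, [3,2,0]), (1078, [3,2,3]),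
   (1326, [3,2,4]), (1705, [3,4,0]), (1128, [3,4,1]), (609, [3,4,2]),
   (928, [3,4,3]), (1290, [3,4,4]), (1548, [4,0,1]), (857, [4,0,2]),
   (353, [4,0,3]), (1055, [4,0,4]), (205, [4,1,0]), (295, [4,1,1]),
   (844, [4,1,2]), (827, [4,1,3])]

def chainYIdx2_1 : List (ℕ × List ℕ) :=
  [(1471, [4,1,4]), (1709, [4,2,0]), (1029, [4,2,3]), (535, [4,2,4]),
   (1468, [4,3,0]), (984, [4,3,1]), (582, [4,3,2]), (1556, [4,3,4]),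
   (813, [4,4,0]), (968, [4,4,1]), (1104, [4,4,2]), (819, [4,4,3]),
   (125, [4,4,4]), (574, [0,2,0,1]), (705, [0,2,0,2]), (1644, [0,2,0,3]),
   (1481, [0,2,0,4]), (1544, [0,2,3,0]), (885, [0,2,3,2]), (1289, [0,2,3,4]),
   (1692, [0,2,4,0]), (1184, [0,2,4,1]), (1552, [0,2,4,2]), (1480, [0,2,4,3]),
   (422, [0,2,4,4]), (960, [0,3,0,1]), (1559, [0,3,0,2]), (1736, [0,3,0,3]),
   (1243, [0,3,2,0]), (550, [0,3,2,3]), (952, [0,3,2,4]), (733, [0,3,4,0]),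
   (631, [0,3,4,1]), (1007, [0,3,4,2]), (1531, [0,3,4,3]), (866, [0,3,4,4]),
   (1605, [0,4,0,1]), (1099, [0,4,0,2]), (1741, [0,4,0,3]), (77, [0,4,0,4]),
   (1070, [0,4,1,0]), (1645, [0,4,1,1]), (1372, [0,4,1,2]), (1032, [0,4,1,3]),
   (1590, [0,4,2,0]), (1621, [0,4,2,3]), (540, [0,4,2,4]), (1378, [0,4,3,0]),
   (1467, [0,4,3,1]), (381, [0,4,3,2]), (420, [0,4,3,4]), (1563, [0,4,4,0]),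
   (463, [0,4,4,1]), (1152, [0,4,4,2]), (1265, [0,4,4,3]), (84, [0,4,4,4]),
   (1039, [1,0,1,0]), (987, [1,0,1,1]), (566, [1,0,1,2]), (488, [1,0,1,3]),
   (1640, [1,0,1,4]), (1341, [1,0,2,3]), (150, [1,0,2,4]), (1288, [1,0,3,0]),
   (748, [1,0,3,2]), (1025, [1,0,3,4]), (912, [1,0,4,0]), (72, [1,0,4,1]),
   (603, [1,0,4,2]), (1470, [1,0,4,3]), (541, [1,1,0,1]), (91, [1,1,0,2]),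
   (194, [1,1,0,3]), (1417, [1,1,0,4]), (22, [1,1,2,0]), (255, [1,1,2,4]),
   (386, [1,1,4,0]), (411, [1,1,4,1]), (102, [1,1,4,2]), (225, [1,1,4,3]),
   (388, [1,1,4,4]), (172, [1,2,0,1]), (944, [1,2,0,2]), (615, [1,2,0,3]),
   (643, [1,2,0,4]), (99, [1,2,3,0]), (78, [1,2,3,2]), (1587, [1,2,3,4]),
   (210, [1,2,4,0]), (1241, [1,2,4,1])]

def chainYIdx2_2 : List (ℕ × List ℕ) :=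
  [(458, [1,2,4,2]), (382, [1,2,4,3]), (627, [1,2,4,4]), (1098, [1,3,0,1]),
   (937, [1,3,0,2]), (63, [1,3,0,3]), (1541, [1,3,2,0]), (380, [1,3,2,3]),
   (546, [1,3,2,4]), (1063, [1,3,4,1]), (1612, [1,3,4,2]), (1166, [1,3,4,3]),
   (1431, [1,3,4,4]), (621, [1,4,0,1]), (457, [1,4,0,3]), (913, [1,4,0,4]),
   (281, [1,4,1,0]), (1615, [1,4,1,1]), (820, [1,4,1,2]), (180, [1,4,1,3]),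
   (1526, [1,4,1,4]), (1137, [1,4,2,0]), (878, [1,4,2,3]), (1278, [1,4,2,4]),
   (666, [1,4,3,0]), (1445, [1,4,3,1]), (1183, [1,4,3,2]), (236, [1,4,3,4]),
   (800, [1,4,4,0]), (951, [1,4,4,2]), (1045, [1,4,4,3]), (805, [1,4,4,4]),
   (1121, [2,0,1,0]), (1489, [2,0,1,1]), (1242, [2,0,1,2]), (1469, [2,0,1,3]),
   (1436, [2,0,1,4]), (1682, [2,0,2,0]), (1762, [2,0,2,3]), (548, [2,0,2,4]),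
   (1485, [2,0,3,0]), (1763, [2,0,3,1]), (946, [2,0,3,2]), (1651, [2,0,4,0]),
   (1158, [2,0,4,1]), (693, [2,0,4,2]), (1676, [2,0,4,3]), (1672, [2,0,4,4]),
   (1127, [2,3,0,1]), (311, [2,3,0,2]), (977, [2,3,0,3]), (613, [2,3,1,0]),
   (39, [2,3,1,2]), (644, [2,3,1,4]), (828, [2,3,2,0]), (181, [2,3,2,3]),
   (797, [2,3,2,4]), (1207, [2,3,4,0]), (651, [2,3,4,1]), (513, [2,3,4,2]),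
   (1606, [2,3,4,3]), (300, [2,3,4,4]), (1766, [2,4,0,2]), (414, [2,4,0,3]),
   (245, [2,4,0,4]), (215, [2,4,1,0]), (1237, [2,4,1,1]), (450, [2,4,1,2]),
   (329, [2,4,1,3]), (896, [2,4,1,4]), (1253, [2,4,2,3]), (347, [2,4,3,0]),
   (1493, [2,4,3,1]), (332, [2,4,3,4]), (219, [2,4,4,0]), (113, [2,4,4,1]),
   (175, [2,4,4,3]), (249, [2,4,4,4]), (1428, [3,0,1,0]), (680, [3,0,1,2]),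
   (497, [3,0,1,3]), (1160, [3,0,2,3]), (1748, [3,0,2,4]), (1282, [3,0,3,0]),
   (620, [3,0,3,1]), (170, [3,0,3,2]), (826, [3,0,3,4]), (1167, [3,1,0,1]),
   (1058, [3,1,0,2]), (580, [3,1,0,3])]

def chainYIdx2_3 : List (ℕ × List ℕ) :=
  [(1584, [3,1,0,4]), (1524, [3,1,2,0]), (1179, [3,1,2,3]), (765, [3,1,2,4]),
   (378, [3,1,4,0]), (1388, [3,1,4,1]), (684, [3,1,4,2]), (799, [3,1,4,3]),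
   (408, [3,1,4,4]), (1165, [3,2,0,1]), (663, [3,2,0,2]), (834, [3,2,0,3]),
   (790, [3,2,3,0]), (1215, [3,2,3,2]), (1686, [3,2,3,4]), (661, [3,2,4,0]),
   (708, [3,2,4,2]), (1370, [3,2,4,3]), (1366, [3,2,4,4]), (579, [3,4,0,1]),
   (1703, [3,4,0,2]), (539, [3,4,0,3]), (139, [3,4,0,4]), (822, [3,4,1,0]),
   (1037, [3,4,1,1]), (668, [3,4,1,2]), (1503, [3,4,1,3]), (1460, [3,4,1,4]),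
   (1767, [3,4,2,0]), (1680, [3,4,2,3]), (886, [3,4,2,4]), (926, [3,4,3,0]),
   (1674, [3,4,3,1]), (832, [3,4,3,2]), (1060, [3,4,3,4]), (1200, [3,4,4,0]),
   (1255, [3,4,4,2]), (1617, [3,4,4,4]), (818, [4,0,1,0]), (1187, [4,0,1,1]),
   (1700, [4,0,1,2]), (482, [4,0,1,3]), (1192, [4,0,2,0]), (554, [4,0,2,3]),
   (1578, [4,0,2,4]), (575, [4,0,3,0]), (1083, [4,0,3,4]), (1427, [4,0,4,0]),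
   (1624, [4,0,4,1]), (1638, [4,0,4,2]), (277, [4,0,4,3]), (998, [4,0,4,4]),
   (375, [4,1,0,2]), (1570, [4,1,0,3]), (1359, [4,1,0,4]), (1338, [4,1,1,0]),
   (373, [4,1,1,2]), (1274, [4,1,1,4]), (442, [4,1,2,0]), (840, [4,1,2,3]),
   (1761, [4,1,2,4]), (1490, [4,1,3,0]), (1404, [4,1,3,2]), (788, [4,1,3,4]),
   (1343, [4,1,4,0]), (978, [4,1,4,2]), (424, [4,1,4,4]), (1396, [4,2,0,4]),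
   (553, [4,2,3,0]), (1362, [4,2,3,1]), (817, [4,2,3,2]), (1251, [4,2,3,4]),
   (634, [4,2,4,1]), (1298, [4,2,4,3]), (1607, [4,2,4,4]), (165, [4,3,0,1]),
   (1271, [4,3,0,3]), (1668, [4,3,1,0]), (104, [4,3,1,2]), (969, [4,3,1,4]),
   (511, [4,3,2,0]), (7, [4,3,2,3]), (394, [4,3,2,4]), (1502, [4,3,4,1]),
   (1363, [4,3,4,2]), (1356, [4,3,4,3]), (1452, [4,3,4,4]), (1133, [4,4,0,1]),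
   (716, [4,4,0,2]), (426, [4,4,0,3])]

def chainYIdx2_4 : List (ℕ × List ℕ) :=
  [(1347, [4,4,0,4]), (838, [4,4,1,0]), (871, [4,4,1,2]), (204, [4,4,1,4]),
   (835, [4,4,2,0]), (1474, [4,4,2,3]), (1360, [4,4,3,0]), (1513, [4,4,3,1]),
   (1053, [4,4,3,2]), (191, [4,4,3,4]), (136, [4,4,4,0]), (352, [4,4,4,1]),
   (383, [4,4,4,3]), (49, [4,4,4,4]), (1465, [0,2,0,1,0]), (501, [0,2,0,1,1]),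
   (794, [0,2,0,1,2]), (983, [0,2,0,1,3]), (1609, [0,2,0,1,4]), (863, [0,2,0,2,0]),
   (920, [0,2,0,2,3]), (520, [0,2,0,2,4]), (1543, [0,2,0,3,0]), (682, [0,2,0,3,4]),
   (895, [0,2,0,4,0]), (1140, [0,2,0,4,1]), (1094, [0,2,3,0,1]), (1778, [0,2,3,0,2]),
   (994, [0,2,3,0,3]), (50, [0,2,3,2,3]), (1276, [0,2,3,2,4]), (1322, [0,2,3,4,1]),
   (1655, [0,2,4,0,2]), (1024, [0,2,4,0,3]), (735, [0,2,4,0,4]), (1180, [0,2,4,1,0]),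
   (1641, [0,2,4,1,2]), (796, [0,2,4,1,3]), (853, [0,2,4,1,4]), (677, [0,2,4,2,3]),
   (724, [0,2,4,3,0]), (148, [0,2,4,3,1]), (1116, [0,2,4,4,0]), (1293, [0,2,4,4,1]),
   (1004, [0,2,4,4,3]), (456, [0,2,4,4,4]), (1412, [0,3,0,1,3]), (578, [0,3,0,1,4]),
   (279, [0,3,0,2,3]), (1019, [0,3,0,2,4]), (1601, [0,3,0,3,0]), (1667, [0,3,0,3,2]),
   (304, [0,3,0,3,4]), (1491, [0,3,2,0,1]), (303, [0,3,2,0,2]), (1059, [0,3,2,0,4]),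
   (1634, [0,3,2,3,0]), (769, [0,3,2,3,2]), (1713, [0,3,2,3,4]), (444, [0,3,2,4,0]),
   (1516, [0,3,2,4,1]), (1742, [0,3,2,4,2]), (1390, [0,3,2,4,3]), (1393, [0,3,2,4,4]),
   (18, [0,3,4,0,1]), (1671, [0,3,4,0,3]), (1048, [0,3,4,0,4]), (759, [0,3,4,1,0]),
   (1151, [0,3,4,1,2]), (142, [0,3,4,2,0]), (807, [0,3,4,2,4]), (1591, [0,3,4,3,4]),
   (1461, [0,3,4,4,0]), (1399, [0,3,4,4,1]), (967, [0,3,4,4,2]), (989, [0,4,0,1,1]),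
   (479, [0,4,0,1,3]), (1550, [0,4,0,3,0]), (1683, [0,4,0,3,1]), (1005, [0,4,0,3,2]),
   (754, [0,4,0,3,4]), (505, [0,4,0,4,0]), (6, [0,4,0,4,1]), (598, [0,4,0,4,2]),
   (9, [0,4,0,4,3]), (1673, [0,4,1,0,1]), (1542, [0,4,1,0,2]), (612, [0,4,1,0,4]),
   (1129, [0,4,1,1,2]), (943, [0,4,1,2,0])]

def chainYIdx2_5 : List (ℕ × List ℕ) :=
  [(1103, [0,4,1,2,3]), (483, [0,4,1,2,4]), (1076, [0,4,1,3,2]), (202, [0,4,2,0,3]),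
   (710, [0,4,2,0,4]), (323, [0,4,2,3,1]), (364, [0,4,2,3,2]), (729, [0,4,2,4,1]),
   (419, [0,4,2,4,3]), (1186, [0,4,2,4,4]), (902, [0,4,3,0,1]), (1438, [0,4,3,0,2]),
   (1291, [0,4,3,0,3]), (137, [0,4,3,1,2]), (1027, [0,4,3,1,4]), (158, [0,4,3,2,3]),
   (478, [0,4,3,4,0]), (736, [0,4,3,4,2]), (1656, [0,4,4,0,1]), (1308, [0,4,4,0,2]),
   (676, [0,4,4,0,4]), (1765, [0,4,4,1,0]), (1177, [0,4,4,1,2]), (1658, [0,4,4,2,0]),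
   (909, [0,4,4,2,3]), (843, [0,4,4,3,4]), (10, [0,4,4,4,1]), (345, [0,4,4,4,3]),
   (266, [1,0,1,0,1]), (798, [1,0,1,0,2]), (1723, [1,0,1,0,3]), (1463, [1,0,1,0,4]),
   (903, [1,0,1,1,0]), (335, [1,0,1,1,2]), (1193, [1,0,1,1,4]), (349, [1,0,1,2,0]),
   (240, [1,0,1,2,3]), (65, [1,0,1,2,4]), (1052, [1,0,1,3,0]), (709, [1,0,1,3,2]),
   (867, [1,0,1,3,4]), (1069, [1,0,1,4,0]), (1472, [1,0,1,4,1]), (1725, [1,0,1,4,2]),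
   (106, [1,0,1,4,3]), (632, [1,0,1,4,4]), (199, [1,0,2,3,1]), (816, [1,0,2,3,2]),
   (340, [1,0,2,4,4]), (1654, [1,0,3,0,1]), (604, [1,0,3,0,2]), (1660, [1,0,3,0,3]),
   (780, [1,0,3,2,0]), (459, [1,0,3,2,3]), (976, [1,0,3,2,4]), (545, [1,0,3,4,0]),
   (1361, [1,0,3,4,1]), (1512, [1,0,3,4,2]), (966, [1,0,3,4,3]), (88, [1,0,4,1,0]),
   (27, [1,0,4,1,4]), (391, [1,0,4,2,3]), (768, [1,0,4,2,4]), (1145, [1,0,4,3,0]),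
   (94, [1,0,4,3,2]), (1040, [1,0,4,3,4]), (1176, [1,1,0,1,0]), (52, [1,1,0,1,1]),
   (1226, [1,1,0,1,3]), (1532, [1,1,0,1,4]), (129, [1,1,0,2,0]), (1687, [1,1,0,2,4]),
   (355, [1,1,0,3,0]), (415, [1,1,0,3,1]), (1379, [1,1,0,3,2]), (737, [1,1,0,4,1]),
   (1126, [1,1,0,4,3]), (778, [1,1,0,4,4]), (486, [1,1,2,0,1]), (167, [1,1,2,0,4]),
   (810, [1,1,2,4,1]), (1162, [1,1,2,4,3]), (8, [1,1,2,4,4]), (41, [1,1,4,0,1]),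
   (51, [1,1,4,0,4]), (89, [1,1,4,1,0]), (1594, [1,1,4,1,1]), (552, [1,1,4,1,2]),
   (379, [1,1,4,1,3]), (1457, [1,1,4,1,4])]

def chainYIdx2_6 : List (ℕ × List ℕ) :=
  [(358, [1,1,4,2,0]), (1331, [1,1,4,2,3]), (96, [1,1,4,2,4]), (1540, [1,1,4,3,1]),
   (678, [1,1,4,3,2]), (900, [1,1,4,3,4]), (258, [1,1,4,4,1]), (93, [1,1,4,4,3]),
   (29, [1,1,4,4,4]), (884, [1,2,0,1,1]), (587, [1,2,0,1,2]), (466, [1,2,0,1,3]),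
   (683, [1,2,0,1,4]), (1442, [1,2,0,2,4]), (186, [1,2,0,3,2]), (25, [1,2,0,3,4]),
   (177, [1,2,0,4,1]), (919, [1,2,0,4,2]), (310, [1,2,0,4,3]), (764, [1,2,3,0,1]),
   (130, [1,2,3,2,0]), (542, [1,2,3,4,1]), (406, [1,2,3,4,3]), (1136, [1,2,3,4,4]),
   (71, [1,2,4,0,4]), (1119, [1,2,4,1,0]), (409, [1,2,4,1,1]), (1437, [1,2,4,1,2]),
   (503, [1,2,4,1,3]), (32, [1,2,4,3,1]), (357, [1,2,4,3,4]), (1221, [1,2,4,4,0]),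
   (1659, [1,2,4,4,1]), (692, [1,2,4,4,3]), (1269, [1,2,4,4,4]), (653, [1,3,0,1,0]),
   (906, [1,3,0,1,1]), (691, [1,3,0,1,3]), (1216, [1,3,0,1,4]), (842, [1,3,0,2,0]),
   (1303, [1,3,0,2,4]), (15, [1,3,0,3,4]), (1515, [1,3,2,0,1]), (504, [1,3,2,0,2]),
   (623, [1,3,2,0,3]), (1286, [1,3,2,0,4]), (897, [1,3,2,3,2]), (1031, [1,3,2,3,4]),
   (1643, [1,3,2,4,4]), (492, [1,3,4,1,0]), (551, [1,3,4,1,2]), (1750, [1,3,4,2,0]),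
   (1189, [1,3,4,3,0]), (1038, [1,3,4,3,2]), (1476, [1,3,4,3,4]), (1292, [1,3,4,4,0]),
   (1015, [1,3,4,4,1]), (231, [1,3,4,4,2]), (1446, [1,4,0,1,0]), (1435, [1,4,0,1,1]),
   (1073, [1,4,0,1,3]), (973, [1,4,0,3,0]), (874, [1,4,0,3,1]), (711, [1,4,0,3,2]),
   (1109, [1,4,0,3,4]), (1315, [1,4,0,4,0]), (662, [1,4,0,4,3]), (1375, [1,4,0,4,4]),
   (1285, [1,4,1,0,1]), (1718, [1,4,1,0,2]), (1407, [1,4,1,0,3]), (114, [1,4,1,3,0]),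
   (138, [1,4,1,3,4]), (1195, [1,4,1,4,1]), (1224, [1,4,1,4,2]), (207, [1,4,1,4,3]),
   (1130, [1,4,2,0,2]), (750, [1,4,2,3,2]), (1533, [1,4,2,4,4]), (1236, [1,4,3,1,0]),
   (1549, [1,4,3,1,4]), (715, [1,4,3,2,0]), (646, [1,4,3,2,4]), (119, [1,4,3,4,0]),
   (1306, [1,4,3,4,2]), (1317, [1,4,4,0,1]), (1102, [1,4,4,0,2]), (599, [1,4,4,0,3]),
   (308, [1,4,4,0,4]), (1518, [1,4,4,2,3])]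

def chainYIdx2_7 : List (ℕ × List ℕ) :=
  [(642, [1,4,4,4,4]), (1012, [2,0,1,0,1]), (1205, [2,0,1,0,3]), (728, [2,0,1,2,0]),
   (1020, [2,0,1,2,4]), (732, [2,0,1,3,2]), (1595, [2,0,1,3,4]), (1295, [2,0,1,4,0]),
   (1239, [2,0,1,4,2]), (592, [2,0,1,4,3]), (1527, [2,0,2,0,1]), (305, [2,0,2,0,2]),
   (657, [2,0,2,0,3]), (1724, [2,0,2,0,4]), (931, [2,0,2,3,1]), (216, [2,0,2,4,1]),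
   (911, [2,0,2,4,2]), (430, [2,0,2,4,3]), (1107, [2,0,3,0,2]), (1772, [2,0,3,0,3]),
   (1639, [2,0,3,2,3]), (1698, [2,0,4,0,2]), (1545, [2,0,4,0,4]), (499, [2,0,4,1,0]),
   (1648, [2,0,4,1,1]), (1409, [2,0,4,1,2]), (1387, [2,0,4,1,3]), (1002, [2,0,4,2,0]),
   (1006, [2,0,4,3,1]), (1275, [2,0,4,3,2]), (1681, [2,0,4,3,4]), (1142, [2,0,4,4,0]),
   (1154, [2,0,4,4,2]), (718, [2,0,4,4,4]), (1316, [2,3,0,1,1]), (1616, [2,3,0,1,2]),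
   (307, [2,3,0,2,3]), (1626, [2,3,0,3,0]), (1424, [2,3,0,3,2]), (893, [2,3,0,3,4]),
   (45, [2,3,1,0,4]), (11, [2,3,1,2,3]), (1261, [2,3,1,4,1]), (68, [2,3,1,4,2]),
   (234, [2,3,1,4,4]), (1132, [2,3,2,0,2]), (982, [2,3,2,0,3]), (1454, [2,3,2,0,4]),
   (377, [2,3,2,3,2]), (616, [2,3,2,3,4]), (1429, [2,3,2,4,4]), (1118, [2,3,4,0,1]),
   (772, [2,3,4,0,3]), (280, [2,3,4,1,1]), (697, [2,3,4,1,2]), (1036, [2,3,4,1,3]),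
   (1148, [2,3,4,1,4]), (675, [2,3,4,2,4]), (1600, [2,3,4,3,1]), (1602, [2,3,4,4,0]),
   (717, [2,3,4,4,2]), (1510, [2,3,4,4,3]), (556, [2,4,0,2,0]), (755, [2,4,0,3,4]),
   (371, [2,4,0,4,1]), (1585, [2,4,0,4,2]), (892, [2,4,1,2,0]), (608, [2,4,1,3,0]),
   (1023, [2,4,1,3,2]), (108, [2,4,1,3,4]), (645, [2,4,1,4,0]), (889, [2,4,1,4,3]),
   (1720, [2,4,1,4,4]), (182, [2,4,2,3,0]), (1209, [2,4,2,3,2]), (727, [2,4,2,3,4]),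
   (1589, [2,4,3,0,3]), (1770, [2,4,3,1,0]), (1661, [2,4,3,1,4]), (1732, [2,4,3,4,1]),
   (1246, [2,4,3,4,2]), (1156, [2,4,3,4,3]), (506, [2,4,3,4,4]), (233, [2,4,4,0,4]),
   (1, [2,4,4,1,1]), (275, [2,4,4,1,4]), (168, [2,4,4,3,1]), (714, [2,4,4,3,2]),
   (38, [2,4,4,3,4]), (1478, [2,4,4,4,0])]

def chainYIdx2_8 : List (ℕ × List ℕ) :=
  [(1614, [3,0,1,0,3]), (1529, [3,0,1,3,0]), (110, [3,0,1,3,2]), (1368, [3,0,2,3,1]),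
   (1163, [3,0,2,3,4]), (1739, [3,0,2,4,1]), (1330, [3,0,2,4,3]), (576, [3,0,3,0,1]),
   (1539, [3,0,3,0,3]), (86, [3,0,3,1,2]), (354, [3,0,3,2,0]), (74, [3,0,3,2,4]),
   (685, [3,0,3,4,0]), (306, [3,1,0,1,0]), (1505, [3,1,0,1,2]), (594, [3,1,0,1,4]),
   (702, [3,1,0,2,4]), (1664, [3,1,0,3,4]), (1691, [3,1,0,4,2]), (243, [3,1,0,4,3]),
   (745, [3,1,0,4,4]), (1248, [3,1,2,3,0]), (1014, [3,1,2,3,2]), (1064, [3,1,2,4,2]),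
   (1582, [3,1,4,0,1]), (337, [3,1,4,1,0]), (1588, [3,1,4,1,2]), (1631, [3,1,4,2,0]),
   (1051, [3,1,4,3,0]), (1340, [3,1,4,3,2]), (703, [3,1,4,4,1]), (939, [3,1,4,4,2]),
   (1557, [3,1,4,4,3]), (743, [3,1,4,4,4]), (1349, [3,2,0,1,4]), (891, [3,2,3,0,2]),
   (847, [3,2,3,2,0]), (1123, [3,2,3,4,0]), (1106, [3,2,3,4,2]), (532, [3,2,4,0,1]),
   (132, [3,2,4,0,2]), (1225, [3,2,4,2,3]), (1047, [3,2,4,3,0]), (1089, [3,2,4,3,1]),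
   (495, [3,2,4,4,0]), (1277, [3,4,0,1,2]), (85, [3,4,0,1,4]), (1525, [3,4,0,2,0]),
   (1430, [3,4,0,2,3]), (516, [3,4,0,3,2]), (618, [3,4,0,3,4]), (5, [3,4,0,4,1]),
   (543, [3,4,1,0,4]), (725, [3,4,1,1,0]), (1451, [3,4,1,1,2]), (626, [3,4,1,2,0]),
   (1030, [3,4,1,2,3]), (654, [3,4,1,2,4]), (1188, [3,4,1,3,2]), (628, [3,4,1,4,0]),
   (1398, [3,4,2,0,3]), (220, [3,4,3,1,4]), (572, [3,4,3,2,4]), (1150, [3,4,3,4,4]),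
   (1394, [3,4,4,0,4]), (1466, [3,4,4,2,3]), (922, [3,4,4,2,4]), (1760, [3,4,4,4,0]),
   (990, [3,4,4,4,1]), (1754, [3,4,4,4,3]), (585, [4,0,1,0,1]), (1350, [4,0,1,0,3]),
   (1487, [4,0,1,1,0]), (1630, [4,0,1,1,2]), (1623, [4,0,1,2,0]), (1716, [4,0,1,3,4]),
   (1046, [4,0,2,0,3]), (712, [4,0,2,0,4]), (1138, [4,0,2,3,0]), (544, [4,0,2,3,1]),
   (1067, [4,0,2,4,1]), (1238, [4,0,2,4,3]), (953, [4,0,2,4,4]), (1403, [4,0,3,0,1]),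
   (407, [4,0,3,0,3]), (376, [4,0,3,4,3]), (1420, [4,0,4,0,1]), (596, [4,0,4,0,3]),
   (530, [4,0,4,0,4]), (1196, [4,0,4,2,3])]

def chainYIdx2_9 : List (ℕ × List ℕ) :=
  [(498, [4,0,4,2,4]), (461, [4,0,4,3,1]), (55, [4,0,4,3,2]), (856, [4,0,4,4,0]),
   (694, [4,1,0,4,1]), (1042, [4,1,0,4,2]), (1033, [4,1,0,4,3]), (1173, [4,1,0,4,4]),
   (536, [4,1,1,0,3]), (950, [4,1,1,4,0]), (1439, [4,1,1,4,3]), (395, [4,1,2,0,2]),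
   (883, [4,1,2,3,0]), (825, [4,1,2,3,2]), (1504, [4,1,2,3,4]), (1551, [4,1,2,4,0]),
   (707, [4,1,3,2,0]), (336, [4,1,3,2,3]), (1597, [4,1,3,4,2]), (257, [4,2,0,4,1]),
   (860, [4,2,3,0,1]), (971, [4,2,3,0,3]), (328, [4,2,3,1,0]), (648, [4,2,3,4,1]),
   (1280, [4,2,4,1,0]), (76, [4,2,4,1,1]), (1352, [4,2,4,1,4]), (1553, [4,2,4,4,0]),
   (992, [4,2,4,4,3]), (228, [4,3,0,1,4]), (1677, [4,3,0,3,4]), (155, [4,3,1,2,0]),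
   (1410, [4,3,1,2,4]), (1113, [4,3,1,4,1]), (3, [4,3,2,3,2]), (549, [4,3,2,4,2]),
   (1414, [4,3,4,1,0]), (1174, [4,3,4,1,1]), (777, [4,3,4,1,4]), (370, [4,3,4,2,3]),
   (1731, [4,3,4,3,0]), (997, [4,3,4,3,1]), (1384, [4,3,4,3,2]), (611, [4,3,4,4,1]),
   (1756, [4,3,4,4,4]), (555, [4,4,0,1,0]), (367, [4,4,0,1,3]), (1161, [4,4,0,3,4]),
   (742, [4,4,0,4,2]), (1448, [4,4,0,4,4]), (1203, [4,4,1,2,4]), (1653, [4,4,2,3,2]),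
   (1666, [4,4,3,0,2]), (1727, [4,4,3,1,0]), (161, [4,4,3,1,2]), (1159, [4,4,3,4,1]),
   (1492, [4,4,3,4,2]), (1608, [4,4,3,4,4]), (24, [4,4,4,0,1]), (147, [4,4,4,0,3]),
   (265, [4,4,4,1,0]), (112, [4,4,4,3,0]), (933, [4,4,4,3,2]), (1373, [4,4,4,3,4]),
   (1270, [0,2,0,1,1,2]), (1488, [0,2,0,1,1,4]), (563, [0,2,0,1,3,2]), (1579, [0,2,0,1,4,0]),
   (859, [0,2,0,1,4,2]), (605, [0,2,0,1,4,3]), (1627, [0,2,0,1,4,4]), (985, [0,2,0,2,0,1]),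
   (427, [0,2,0,2,4,0]), (870, [0,2,0,2,4,2]), (638, [0,2,0,3,0,3]), (781, [0,2,3,0,1,0]),
   (338, [0,2,3,0,1,1]), (276, [0,2,3,0,1,3]), (1568, [0,2,3,0,3,0]), (116, [0,2,3,0,3,1]),
   (877, [0,2,3,0,3,4]), (274, [0,2,3,2,3,0]), (42, [0,2,3,2,3,2]), (1374, [0,2,3,2,4,1]),
   (1759, [0,2,3,2,4,2]), (1670, [0,2,4,0,2,0]), (333, [0,2,4,0,2,4]), (1367, [0,2,4,1,0,1]),
   (284, [0,2,4,1,0,3]), (739, [0,2,4,1,2,3])]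

def chainYIdx2_10 : List (ℕ × List ℕ) :=
  [(792, [0,2,4,1,4,0]), (1598, [0,2,4,3,0,1]), (1704, [0,2,4,4,0,4]), (1479, [0,2,4,4,1,1]),
   (722, [0,3,0,1,3,2]), (1112, [0,3,0,3,4,0]), (558, [0,3,2,0,4,0]), (1462, [0,3,2,0,4,2]),
   (98, [0,3,2,3,0,3]), (1458, [0,3,2,3,4,4]), (403, [0,3,2,4,1,2]), (1263, [0,3,2,4,1,3]),
   (507, [0,3,2,4,1,4]), (908, [0,3,2,4,2,3]), (1062, [0,3,2,4,3,1]), (34, [0,3,4,0,1,0]),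
   (166, [0,3,4,1,0,3]), (898, [0,3,4,1,0,4]), (730, [0,3,4,2,4,1]), (619, [0,3,4,2,4,3]),
   (686, [0,3,4,3,4,3]), (1690, [0,3,4,4,0,3]), (963, [0,3,4,4,1,1]), (261, [0,4,0,1,1,0]),
   (1625, [0,4,0,1,3,2]), (1319, [0,4,0,3,1,2]), (713, [0,4,0,3,4,0]), (58, [0,4,0,4,1,3]),
   (17, [0,4,0,4,1,4]), (1506, [0,4,1,0,1,1]), (1141, [0,4,1,0,4,2]), (1244, [0,4,1,2,4,0]),
   (741, [0,4,1,2,4,1]), (1155, [0,4,1,2,4,3]), (586, [0,4,1,2,4,4]), (97, [0,4,2,0,3,0]),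
   (67, [0,4,2,0,3,2]), (179, [0,4,2,0,3,4]), (40, [0,4,2,0,4,1]), (1108, [0,4,2,3,1,4]),
   (254, [0,4,2,3,2,3]), (734, [0,4,2,4,4,4]), (808, [0,4,3,0,1,2]), (1044, [0,4,3,0,2,3]),
   (1339, [0,4,3,0,3,2]), (1486, [0,4,3,2,3,4]), (1628, [0,4,4,0,1,0]), (1043, [0,4,4,0,1,1]),
   (1555, [0,4,4,0,1,2]), (1495, [0,4,4,0,1,4]), (652, [0,4,4,1,0,2]), (629, [0,4,4,2,0,4]),
   (1287, [0,4,4,3,4,0]), (145, [0,4,4,4,1,4]), (59, [1,0,1,0,1,2]), (490, [1,0,1,0,4,3]),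
   (641, [1,0,1,0,4,4]), (1320, [1,0,1,1,0,2]), (252, [1,0,1,2,0,1]), (829, [1,0,1,3,2,4]),
   (1302, [1,0,1,4,1,1]), (493, [1,0,1,4,3,1]), (1214, [1,0,1,4,4,1]), (133, [1,0,2,4,4,3]),
   (1146, [1,0,3,0,1,0]), (1715, [1,0,3,4,2,3]), (229, [1,0,4,1,0,3]), (12, [1,0,4,1,4,4]),
   (1336, [1,0,4,3,0,2]), (1228, [1,1,0,1,0,2]), (66, [1,1,0,1,1,0]), (700, [1,1,0,2,4,0]),
   (1381, [1,1,0,3,2,0]), (149, [1,1,2,0,4,4]), (791, [1,1,2,4,1,4]), (525, [1,1,4,0,1,3]),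
   (0, [1,1,4,0,4,3]), (698, [1,1,4,2,3,1]), (1010, [1,1,4,2,3,4]), (1371, [1,1,4,2,4,3]),
   (1260, [1,1,4,3,1,0]), (955, [1,1,4,3,4,1]), (1087, [1,1,4,3,4,4]), (57, [1,1,4,4,1,3]),
   (36, [1,1,4,4,4,4]), (747, [1,2,0,1,1,2]), (1307, [1,2,0,1,2,4]), (721, [1,2,0,1,4,3]),
   (1334, [1,2,0,2,4,3]), (1134, [1,2,4,1,0,2])]

def chainYIdx2_11 : List (ℕ × List ℕ) :=
  [(1229, [1,2,4,1,0,4]), (250, [1,2,4,3,4,3]), (1768, [1,2,4,4,3,4]), (1611, [1,3,0,1,4,3]),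
   (824, [1,3,0,1,4,4]), (1337, [1,3,0,2,0,2]), (1400, [1,3,2,4,4,3]), (1449, [1,4,0,3,2,4]),
   (1546, [1,4,0,4,0,2]), (401, [1,4,1,0,1,0]), (1744, [1,4,3,1,4,0]), (1264, [1,4,3,1,4,4]),
   (1596, [1,4,3,2,4,0]), (803, [1,4,3,2,4,3]), (1483, [1,4,3,4,2,3]), (515, [1,4,4,0,2,0]),
   (1175, [1,4,4,0,4,2]), (213, [1,4,4,0,4,4]), (1500, [2,0,1,2,4,3]), (160, [2,0,2,0,1,0]),
   (1091, [2,0,2,4,1,1]), (786, [2,0,4,1,3,0]), (1603, [2,0,4,3,2,3]), (1342, [2,0,4,4,0,2]),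
   (480, [2,3,0,3,0,2]), (719, [2,4,0,2,0,2]), (655, [2,4,0,3,4,4]), (1018, [2,4,2,3,4,1]),
   (962, [2,4,4,1,4,1]), (446, [3,0,1,0,3,0]), (1714, [3,2,4,3,0,1]), (1613, [3,4,1,4,0,4]),
   (1706, [0,2,3,0,1,0,2]), (610, [0,4,0,4,1,4,3])]

def chainYIdx2 : List (ℕ × List ℕ) :=
  chainYIdx2_0 ++ chainYIdx2_1 ++ chainYIdx2_2 ++ chainYIdx2_3 ++ chainYIdx2_4 ++ chainYIdx2_5 ++ chainYIdx2_6 ++ chainYIdx2_7 ++ chainYIdx2_8 ++ chainYIdx2_9 ++ chainYIdx2_10 ++ chainYIdx2_11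

def chainYGens2 : List (List ℕ) :=
  [[4,6,1,0,5,1,6],
   [3,4,1,0,2,1,3,1,2,1,4],
   [1,2,1,3,6,1,2,1,6,3,1,2,1],
   [4,3,1,2,5,1,6,1,5,2,1,3,4,3],
   [3,6,1,0,1,6,1,5,1,6,1,2,0,1,6,1,5,1,6]]

def chainY2 : SLev := ⟨⟨749, chainYGens2, chainYOrb2⟩, chainYIdx2⟩

def chainYOrb3_0 : List (ℕ × ℕ × ℕ) :=
  [(736, 1286, 0), (1288, 1286, 1), (960, 736, 0), (1390, 736, 1), (1343, 1288, 0), (1399, 1288, 1),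
   (41, 960, 1), (1060, 1390, 0), (442, 1390, 1), (1052, 1343, 0), (808, 1343, 1), (962, 1399, 0),
   (1374, 41, 0), (1741, 41, 1), (989, 1060, 0), (1130, 1060, 1), (1160, 442, 0), (394, 1052, 1),
   (1525, 808, 0), (1388, 808, 1), (1461, 962, 0), (175, 962, 1), (236, 1374, 0), (1033, 1374, 1),
   (1403, 1741, 0), (1670, 989, 1), (937, 1130, 0), (1481, 1130, 1), (1709, 1160, 0), (939, 1160, 1),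
   (1087, 394, 0), (229, 394, 1), (1270, 1525, 0), (191, 1525, 1), (1404, 1388, 0), (381, 1461, 1),
   (138, 175, 0), (1705, 175, 1), (1047, 236, 1), (1598, 1033, 0), (17, 1033, 1), (834, 1403, 0),
   (615, 1403, 1), (1471, 1670, 0), (619, 1670, 1), (1518, 937, 0), (1306, 937, 1), (1495, 1709, 1),
   (1435, 939, 1), (1442, 1087, 0), (1, 1087, 1), (415, 229, 0), (1076, 1270, 1), (243, 191, 0),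
   (1031, 191, 1), (1754, 1404, 0), (10, 381, 0), (1750, 381, 1), (913, 138, 0), (1372, 138, 1),
   (822, 1705, 0), (1466, 1047, 0), (968, 1598, 0), (249, 1598, 1), (1036, 615, 1), (628, 1471, 0),
   (643, 1471, 1), (65, 619, 0), (219, 1518, 1), (554, 1306, 0), (1658, 1306, 1), (355, 1495, 0),
   (503, 1495, 1), (1116, 1435, 0), (401, 1442, 1), (755, 1, 1), (610, 415, 1), (910, 1076, 0),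
   (420, 1076, 1), (710, 243, 0), (919, 243, 1), (71, 1754, 1), (336, 10, 1), (551, 1750, 0),
   (1727, 913, 1), (110, 1372, 0), (725, 822, 0), (682, 1466, 0), (1458, 1466, 1), (12, 968, 1)]

def chainYOrb3_1 : List (ℕ × ℕ × ℕ) :=
  [(544, 249, 0), (788, 249, 1), (1512, 1036, 0), (1154, 628, 1), (1765, 643, 1), (963, 65, 1),
   (382, 219, 0), (182, 219, 1), (1337, 554, 0), (1330, 554, 1), (734, 355, 1), (587, 503, 0),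
   (982, 1116, 0), (457, 401, 0), (504, 610, 1), (408, 910, 1), (931, 420, 0), (1672, 710, 1),
   (840, 919, 0), (1666, 919, 1), (1683, 71, 1), (207, 336, 1), (572, 551, 1), (844, 1727, 0),
   (520, 1727, 1), (926, 110, 1), (1469, 725, 1), (680, 682, 1), (1146, 1458, 1), (644, 12, 0),
   (1113, 12, 1), (563, 544, 0), (733, 544, 1), (911, 1512, 0), (1167, 1154, 0), (458, 963, 1),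
   (878, 382, 1), (1563, 182, 0), (898, 1337, 1), (1214, 1330, 0), (353, 1330, 1), (463, 734, 1),
   (1209, 587, 1), (1603, 982, 1), (465, 457, 0), (1360, 457, 1), (1368, 504, 0), (1074, 408, 1),
   (632, 931, 1), (1605, 1672, 0), (750, 1672, 1), (1723, 840, 0), (1010, 840, 1), (540, 1683, 0),
   (388, 572, 1), (367, 844, 1), (1552, 926, 0), (1720, 926, 1), (1134, 1469, 1), (912, 680, 0),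
   (743, 644, 1), (1517, 1113, 0), (759, 733, 0), (976, 733, 1), (1264, 1167, 0), (703, 458, 0),
   (754, 878, 1), (1624, 1563, 1), (403, 898, 0), (250, 898, 1), (1155, 1214, 0), (516, 1214, 1),
   (1025, 1209, 1), (1516, 1603, 1), (1189, 465, 1), (9, 1360, 1), (1778, 632, 1), (558, 1605, 1),
   (257, 750, 0), (329, 1010, 1), (88, 540, 1), (1503, 1552, 0), (364, 1552, 1), (1339, 1134, 0),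
   (303, 743, 1), (631, 759, 1), (1287, 1624, 1), (36, 516, 1), (1591, 1778, 0)]

def chainYOrb3 : List (ℕ × ℕ × ℕ) :=
  chainYOrb3_0 ++ chainYOrb3_1

def chainYIdx3_0 : List (ℕ × List ℕ) :=
  [(1286, []), (736, [0]), (1288, [1]), (960, [0,0]),
   (1390, [0,1]), (1343, [1,0]), (1399, [1,1]), (41, [0,0,1]),
   (1060, [0,1,0]), (442, [0,1,1]), (1052, [1,0,0]), (808, [1,0,1]),
   (962, [1,1,0]), (1374, [0,0,1,0]), (1741, [0,0,1,1]), (989, [0,1,0,0]),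
   (1130, [0,1,0,1]), (1160, [0,1,1,0]), (394, [1,0,0,1]), (1525, [1,0,1,0]),
   (1388, [1,0,1,1]), (1461, [1,1,0,0]), (175, [1,1,0,1]), (236, [0,0,1,0,0]),
   (1033, [0,0,1,0,1]), (1403, [0,0,1,1,0]), (1670, [0,1,0,0,1]), (937, [0,1,0,1,0]),
   (1481, [0,1,0,1,1]), (1709, [0,1,1,0,0]), (939, [0,1,1,0,1]), (1087, [1,0,0,1,0]),
   (229, [1,0,0,1,1]), (1270, [1,0,1,0,0]), (191, [1,0,1,0,1]), (1404, [1,0,1,1,0]),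
   (381, [1,1,0,0,1]), (138, [1,1,0,1,0]), (1705, [1,1,0,1,1]), (1047, [0,0,1,0,0,1]),
   (1598, [0,0,1,0,1,0]), (17, [0,0,1,0,1,1]), (834, [0,0,1,1,0,0]), (615, [0,0,1,1,0,1]),
   (1471, [0,1,0,0,1,0]), (619, [0,1,0,0,1,1]), (1518, [0,1,0,1,0,0]), (1306, [0,1,0,1,0,1]),
   (1495, [0,1,1,0,0,1]), (1435, [0,1,1,0,1,1]), (1442, [1,0,0,1,0,0]), (1, [1,0,0,1,0,1]),
   (415, [1,0,0,1,1,0]), (1076, [1,0,1,0,0,1]), (243, [1,0,1,0,1,0]), (1031, [1,0,1,0,1,1]),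
   (1754, [1,0,1,1,0,0]), (10, [1,1,0,0,1,0]), (1750, [1,1,0,0,1,1]), (913, [1,1,0,1,0,0]),
   (1372, [1,1,0,1,0,1]), (822, [1,1,0,1,1,0]), (1466, [0,0,1,0,0,1,0]), (968, [0,0,1,0,1,0,0]),
   (249, [0,0,1,0,1,0,1]), (1036, [0,0,1,1,0,1,1]), (628, [0,1,0,0,1,0,0]), (643, [0,1,0,0,1,0,1]),
   (65, [0,1,0,0,1,1,0]), (219, [0,1,0,1,0,0,1]), (554, [0,1,0,1,0,1,0]), (1658, [0,1,0,1,0,1,1]),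
   (355, [0,1,1,0,0,1,0]), (503, [0,1,1,0,0,1,1]), (1116, [0,1,1,0,1,1,0]), (401, [1,0,0,1,0,0,1]),
   (755, [1,0,0,1,0,1,1]), (610, [1,0,0,1,1,0,1]), (910, [1,0,1,0,0,1,0]), (420, [1,0,1,0,0,1,1]),
   (710, [1,0,1,0,1,0,0]), (919, [1,0,1,0,1,0,1]), (71, [1,0,1,1,0,0,1]), (336, [1,1,0,0,1,0,1]),
   (551, [1,1,0,0,1,1,0]), (1727, [1,1,0,1,0,0,1]), (110, [1,1,0,1,0,1,0]), (725, [1,1,0,1,1,0,0]),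
   (682, [0,0,1,0,0,1,0,0]), (1458, [0,0,1,0,0,1,0,1])]

def chainYIdx3_1 : List (ℕ × List ℕ) :=
  [(12, [0,0,1,0,1,0,0,1]), (544, [0,0,1,0,1,0,1,0]), (788, [0,0,1,0,1,0,1,1]), (1512, [0,0,1,1,0,1,1,0]),
   (1154, [0,1,0,0,1,0,0,1]), (1765, [0,1,0,0,1,0,1,1]), (963, [0,1,0,0,1,1,0,1]), (382, [0,1,0,1,0,0,1,0]),
   (182, [0,1,0,1,0,0,1,1]), (1337, [0,1,0,1,0,1,0,0]), (1330, [0,1,0,1,0,1,0,1]), (734, [0,1,1,0,0,1,0,1]),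
   (587, [0,1,1,0,0,1,1,0]), (982, [0,1,1,0,1,1,0,0]), (457, [1,0,0,1,0,0,1,0]), (504, [1,0,0,1,1,0,1,1]),
   (408, [1,0,1,0,0,1,0,1]), (931, [1,0,1,0,0,1,1,0]), (1672, [1,0,1,0,1,0,0,1]), (840, [1,0,1,0,1,0,1,0]),
   (1666, [1,0,1,0,1,0,1,1]), (1683, [1,0,1,1,0,0,1,1]), (207, [1,1,0,0,1,0,1,1]), (572, [1,1,0,0,1,1,0,1]),
   (844, [1,1,0,1,0,0,1,0]), (520, [1,1,0,1,0,0,1,1]), (926, [1,1,0,1,0,1,0,1]), (1469, [1,1,0,1,1,0,0,1]),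
   (680, [0,0,1,0,0,1,0,0,1]), (1146, [0,0,1,0,0,1,0,1,1]), (644, [0,0,1,0,1,0,0,1,0]), (1113, [0,0,1,0,1,0,0,1,1]),
   (563, [0,0,1,0,1,0,1,0,0]), (733, [0,0,1,0,1,0,1,0,1]), (911, [0,0,1,1,0,1,1,0,0]), (1167, [0,1,0,0,1,0,0,1,0]),
   (458, [0,1,0,0,1,1,0,1,1]), (878, [0,1,0,1,0,0,1,0,1]), (1563, [0,1,0,1,0,0,1,1,0]), (898, [0,1,0,1,0,1,0,0,1]),
   (1214, [0,1,0,1,0,1,0,1,0]), (353, [0,1,0,1,0,1,0,1,1]), (463, [0,1,1,0,0,1,0,1,1]), (1209, [0,1,1,0,0,1,1,0,1]),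
   (1603, [0,1,1,0,1,1,0,0,1]), (465, [1,0,0,1,0,0,1,0,0]), (1360, [1,0,0,1,0,0,1,0,1]), (1368, [1,0,0,1,1,0,1,1,0]),
   (1074, [1,0,1,0,0,1,0,1,1]), (632, [1,0,1,0,0,1,1,0,1]), (1605, [1,0,1,0,1,0,0,1,0]), (750, [1,0,1,0,1,0,0,1,1]),
   (1723, [1,0,1,0,1,0,1,0,0]), (1010, [1,0,1,0,1,0,1,0,1]), (540, [1,0,1,1,0,0,1,1,0]), (388, [1,1,0,0,1,1,0,1,1]),
   (367, [1,1,0,1,0,0,1,0,1]), (1552, [1,1,0,1,0,1,0,1,0]), (1720, [1,1,0,1,0,1,0,1,1]), (1134, [1,1,0,1,1,0,0,1,1]),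
   (912, [0,0,1,0,0,1,0,0,1,0]), (743, [0,0,1,0,1,0,0,1,0,1]), (1517, [0,0,1,0,1,0,0,1,1,0]), (759, [0,0,1,0,1,0,1,0,1,0]),
   (976, [0,0,1,0,1,0,1,0,1,1]), (1264, [0,1,0,0,1,0,0,1,0,0]), (703, [0,1,0,0,1,1,0,1,1,0]), (754, [0,1,0,1,0,0,1,0,1,1]),
   (1624, [0,1,0,1,0,0,1,1,0,1]), (403, [0,1,0,1,0,1,0,0,1,0]), (250, [0,1,0,1,0,1,0,0,1,1]), (1155, [0,1,0,1,0,1,0,1,0,0]),
   (516, [0,1,0,1,0,1,0,1,0,1]), (1025, [0,1,1,0,0,1,1,0,1,1]), (1516, [0,1,1,0,1,1,0,0,1,1]), (1189, [1,0,0,1,0,0,1,0,0,1]),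
   (9, [1,0,0,1,0,0,1,0,1,1]), (1778, [1,0,1,0,0,1,1,0,1,1]), (558, [1,0,1,0,1,0,0,1,0,1]), (257, [1,0,1,0,1,0,0,1,1,0]),
   (329, [1,0,1,0,1,0,1,0,1,1]), (88, [1,0,1,1,0,0,1,1,0,1]), (1503, [1,1,0,1,0,1,0,1,0,0]), (364, [1,1,0,1,0,1,0,1,0,1]),
   (1339, [1,1,0,1,1,0,0,1,1,0]), (303, [0,0,1,0,1,0,0,1,0,1,1]), (631, [0,0,1,0,1,0,1,0,1,0,1]), (1287, [0,1,0,1,0,0,1,1,0,1,1]),
   (36, [0,1,0,1,0,1,0,1,0,1,1]), (1591, [1,0,1,0,0,1,1,0,1,1,0])]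

def chainYIdx3 : List (ℕ × List ℕ) :=
  chainYIdx3_0 ++ chainYIdx3_1

def chainYGens3 : List (List ℕ) :=
  [[4,6,1,0,5,1,6,3,4,1,0,2,1,3,1,2,1,4,6,1,5,0,1,6,4],
   [4,3,1,2,5,1,6,1,5,2,1,3,4,3,1,2,1,3,6,1,2,1,6,3,1,2,1,4,6,1,0,5,1,6,3,6,1,0,1,6,1,5,1,6,1,2,0,1,6,1,0,1,6,4,3,4,3,1,2,5,1,6,1,5,2,1,3,4,6,1,5,0,1,6,4]]

def chainY3 : SLev := ⟨⟨1286, chainYGens3, chainYOrb3⟩, chainYIdx3⟩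

def chainY : List SLev := [chainY0, chainY1, chainY2, chainY3]

def uWord : List ℕ := [1,4,3,6,5,2]

def yTwoWord : List ℕ := [4,2,3,2,4,3,2,1,0,2,1,0,1,3,2,1,5,3,2,1,5,1,0,5,1,0,1,3,2,3,2,1,0,2,1,0,1,3,2,1,5,3,2,1,5,1,0,5,1,0,1,3,2,4,2,3,1,0,5,1,0,1,2,1,0,2,1,0,1,3,2,1,5,3,2,0,2,1,0,1,3,2,1,5,3,2,1,4,3,2,3,1,0,1,2,3,6,1,0,2,1,3,2,4,3,2,6,1,5,1,0,1]

def yWord : List ℕ := [4,2,3,2,4,3,2,1,0,2,1,0,1,3,2,1,5,3,2,1,5,1,0,5,1,0,1,3,2,3,2,1,0,2,1,0,1,3,2,1,5,3,2,1,5,1,0,5,1,0,1,3,2,4,2,3,2,3,2,1,0,2,1,0,1,3,2,1,5,3,2,1,5,2,4,3,2,1,0,2,1,0,1,3,2,1,5,3,2,1,5,2,3,4,1,0,5,1,2,1,0,1,3,2,1,5,3,2,0,2,1,0,1,3,2,1,5,3,2,1,4,1,2,3,2,4,3,2,1,5,1,0,2,1,0,5,6,1,2,3,2,1,0,4,3,2,1]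

def xWord : List ℕ := [4,2,3,2,4,3,2,1,0,2,1,0,1,3,2,1,5,3,2,1,5,1,0,5,1,0,1,3,2,5,1,0,2,1,0,1,3,2,1,5,3,2,1,4,1,0,2,1,0,1,3,2,1,5,3,2,1,3,4,3,1,0,2,1,3,2,3,4,3,5,1,0,2,6,1,0,1,2,1,3,2,4,3,2,5]

def zWord : List ℕ := [4,2,3,2,4,3,2,1,0,2,1,0,1,3,2,1,5,3,2,1,5,1,0,5,1,0,1,3,2,4,2,3,2,4,3,2,1,0,2,1,0,1,3,2,1,5,3,2,1,5,1,0,5,1,0,1,3,2,4,2,3,2,4,2,3,2,1,0,2,1,0,1,3,2,1,5,3,2,1,4,1,0,2,1,0,1,3,2,1,5,3,2,1,4,3,1,0,5,1,0,1,2,1,2,3,2,1,0,4,3,2,6,1,2,3,2,4,3,2,5,1,0,1,5]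

def candPts_0 : List ℕ :=
  [2, 7, 12, 13, 17, 18, 25, 26, 35, 36, 37, 48, 49, 58, 59, 63, 76, 78, 85, 86,
   99, 105, 106, 118, 128, 134, 145, 154, 155, 159, 169, 173, 181, 184, 187, 196, 198, 200, 202, 204,
   211, 226, 234, 246, 253, 258, 261, 262, 271, 293, 299, 304, 306, 308, 324, 330, 331, 336, 340, 348,
   352, 363, 371, 372, 374, 377, 378, 389, 395, 403, 404, 414, 415, 416, 419, 423, 433, 442, 445, 453,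
   454, 466, 467, 468, 471, 477, 485, 490, 511, 513, 517, 535, 552, 569, 576, 577, 585, 596, 600, 603]

def candPts_1 : List ℕ :=
  [611, 614, 618, 619, 622, 623, 630, 635, 636, 639, 648, 651, 652, 654, 657, 662, 669, 671, 672, 673,
   681, 683, 684, 693, 705, 710, 727, 730, 731, 737, 741, 743, 749, 752, 759, 770, 771, 774, 780, 785,
   795, 796, 803, 816, 821, 823, 828, 829, 832, 838, 854, 861, 866, 881, 882, 888, 898, 909, 918, 920,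
   923, 933, 940, 943, 944, 948, 971, 977, 978, 980, 981, 984, 986, 987, 991, 1003, 1016, 1043, 1049, 1050,
   1061, 1072, 1073, 1074, 1082, 1090, 1097, 1098, 1103, 1105, 1107, 1112, 1124, 1129, 1130, 1137, 1144, 1157, 1167, 1170]

def candPts_2 : List ℕ :=
  [1172, 1179, 1180, 1204, 1206, 1208, 1214, 1218, 1221, 1224, 1229, 1235, 1236, 1237, 1246, 1247, 1252, 1261, 1267, 1285,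
   1286, 1288, 1294, 1297, 1303, 1309, 1317, 1339, 1340, 1349, 1395, 1397, 1398, 1411, 1414, 1435, 1436, 1442, 1455, 1461,
   1464, 1466, 1475, 1479, 1480, 1491, 1493, 1500, 1504, 1508, 1512, 1514, 1522, 1527, 1531, 1541, 1550, 1553, 1556, 1558,
   1572, 1573, 1576, 1578, 1585, 1602, 1630, 1631, 1633, 1639, 1640, 1643, 1646, 1648, 1650, 1653, 1655, 1661, 1664, 1667,
   1669, 1678, 1682, 1685, 1691, 1705, 1707, 1715, 1717, 1726, 1734, 1735, 1740, 1743, 1754, 1763, 1764, 1767, 1772, 1773]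

def candPts : List ℕ :=
  candPts_0 ++ candPts_1 ++ candPts_2

def candWords_0 : List (List ℕ) :=
  [[],
   [4,2,1,0,5,1,0,1,2,1,0,2,1,0,1,3,2,1,5,3,2,0,2,1,0,1,3,2,1,5,3,2,1,4,1,0,2,1,0,1,3,2,1,5,3,2,0,2,1,0,1,3,2,1,5,3,2,1,3,1,0,2,1,3,2,3,2,4,3,2,1,5,1,2,3,6,1,2,3,2,1,4,3,2,5,1],
   [4,2,3,2,4,3,2,1,0,2,1,0,1,3,2,1,5,3,2,1,5,1,0,5,1,0,1,3,2,5,1,0,2,1,0,1,3,2,1,5,3,2,1,4,1,0,2,1,0,1,3,2,1,5,3,2,1,3,4,3,1,0,2,1,3,2,3,4,3,5,1,0,2,6,1,0,1,2,1,3,2,4,3,2,5],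
   [4,2,3,2,4,3,2,1,0,2,1,0,1,3,2,1,5,3,2,1,5,1,0,5,1,0,1,3,1,0,5,1,0,1,2,0,3,4,1,0,5,1,2,1,0,1,3,2,1,5,3,2,0,5,1,2,1,0,1,3,2,1,5,2,1,0,1,4,3,2,1,5,1,0,2,1,6,1,0,1,2,1,3,2,1,4,3,2,1,5,1,0,2],
   [3,2,1,0,2,1,0,1,3,2,1,5,3,2,1,5,1,0,5,1,0,1,3,2,4,3,2,1,0,2,1,0,1,3,2,1,5,3,2,1,5,2,4,3,2,1,0,2,1,0,1,3,2,1,5,3,2,1,5,2,0,1,0,5,1,2,1,0,1,3,2,1,5,3,2,1,3,4,1,0,2,1,0,1,3,2,1,5,3,2,0,2,1,3,2,3,2,4,3,2,5,1,0,2,3,6,1,0,2,1,3,2,1,0,4,3,2,1,0],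
   [4,2,3,2,4,3,2,1,0,2,1,0,1,3,2,1,5,3,2,1,5,1,0,5,1,0,1,3,2,4,2,1,0,5,1,5,1,0,1,2,3,2,1,0,2,1,0,1,3,2,1,5,3,2,1,5,2,3,4,1,0,5,1,0,1,5,1,0,2,1,0,1,3,2,1,5,3,2,1,3,1,2,3,2,1,4,3,2,1,0,5,1,0,1,2,1,6,1,0,2,1,3,2,4,3,5,1,2,3,4,6,5],
   [3,2,1,0,2,1,0,1,3,2,1,5,3,2,1,5,2,1,0,5,1,2,1,0,1,3,2,1,5,3,2,0,2,1,0,1,3,2,1,5,3,2,1,4,1,0,2,1,3,2,3,2,4,3,2,5,1,0,2,1,6,1,0,2,3,2,1,0,4,6],
   [4,2,3,2,4,3,2,1,0,2,1,0,1,3,2,1,5,3,2,1,5,1,0,5,1,0,1,3,2,4,2,3,2,4,3,2,1,0,2,1,0,1,3,2,1,5,3,2,1,5,1,0,5,1,0,1,3,2,4,2,3,2,3,2,1,0,2,1,0,1,3,2,1,5,3,2,1,5,2,4,3,2,1,0,2,1,0,1,3,2,1,5,3,2,1,5,2,0,3,4,1,0,2,1,0,1,3,2,1,5,3,2,0,2,1,0,1,3,2,1,5,3,2,0,5,1,2,1,3,2,4,3,2,1,0,1,0,5,6,1,2,3,2,1,4,3,2,1,3,2,5,1,2],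
   [2,3,2,0,1,0,5,1,2,1,0,1,3,2,1,5,3,2,1,4,1,0,2,1,0,1,3,2,1,5,3,2,1,4,3,1,2,3,2,4,3,5,1,2,6,1,0,2,1,3,2,1,4,3,2,6,1,5],
   [4,2,3,2,4,3,2,1,0,2,1,0,1,3,2,1,5,3,2,1,5,1,0,5,1,0,1,3,2,3,2,1,0,2,1,0,1,3,2,1,5,3,2,1,5,1,0,5,1,0,1,3,2,4,2,3,2,4,3,2,1,0,2,1,0,1,3,2,1,5,3,2,1,5,1,0,5,1,0,1,3,2,4,2,3,2,3,2,1,0,2,1,0,1,3,2,1,5,3,2,1,5,2,4,2,1,0,2,1,0,1,3,2,1,5,3,2,1,4,3,2,3,4,1,0,2,1,3,2,1,3,4,5,1,6,1,0,2,3,2,1,4,3,2,5,1,6,1,0,2],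
   [4,2,3,2,4,3,2,1,0,2,1,0,1,3,2,1,5,3,2,1,5,1,0,5,1,0,1,3,2,3,2,1,0,2,1,0,1,3,2,1,5,3,2,1,5,1,0,5,1,0,1,3,2,0,1,0,2,1,0,1,3,2,1,5,3,2,1,4,1,0,2,1,0,1,3,2,1,5,3,2,1,4,1,0,2,1,0,1,3,2,1,5,3,2,0,5,1,0,1,2,1,2,3,2,4,3,2,6,1,0,2,1,3,2,4,3,5,1,0,1,2],
   [4,3,2,4,3,2,1,0,1,2,3,2,4,3,2,1,0,1,0,2,6,1,0,2,3,2,1,0,4,3,6],
   [3,2,1,0,2,1,0,1,3,2,1,5,3,2,1,5,1,0,5,1,0,1,3,2,4,2,3,1,0,5,1,0,1,2,3,2,1,0,2,1,0,1,3,2,1,5,3,2,1,5,2,4,1,0,2,1,0,1,3,2,1,5,3,2,1,4,1,0,2,1,0,1,3,2,1,5,3,2,1,2,4,1,0,5,1,2,1,3,2,3,2,4,3,2,1,0,5,1,6,1,0,2,1,3,2,1,3,4,3,2,5],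
   [3,2,4,1,0,2,1,0,1,3,2,1,5,3,2,0,2,1,0,1,3,2,1,5,3,2,1,4,1,0,2,1,3,2,4,5,6,1,0,2,1,3,2,1,4,3,2,3,6,5,1],
   [4,2,3,2,4,3,2,1,0,2,1,0,1,3,2,1,5,3,2,1,5,1,0,5,1,0,1,2,3,2,1,0,2,1,0,1,3,2,1,5,3,2,1,5,2,0,3,2,4,1,0,2,1,0,1,3,2,1,5,3,2,0,2,1,0,1,3,2,1,5,3,2,1,4,3,1,2,3,2,1,4,3,5,1,2,6,1,0,2,1,3,2,1,0,1,4,3,2,3,6],
   [4,2,3,2,4,3,2,1,0,2,1,0,1,3,2,1,5,3,2,1,5,2,1,0,2,1,0,1,3,2,1,5,3,2,1,4,1,0,2,1,0,1,3,2,1,5,3,2,0,5,1,2,1,0,1,3,2,1,5,3,2,1,2,1,0,1,2,3,2,4,3,2,1,0,5,1,2,3,6,1,0,2,1,3,2,4,3,5,1,2,3,6,5],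
   [4,2,3,2,4,3,2,1,0,2,1,0,1,3,2,1,5,3,2,1,5,1,0,5,1,0,1,3,2,3,2,1,0,2,1,0,1,3,2,1,5,3,2,1,5,1,0,5,1,0,1,3,2,4,2,3,2,4,3,2,1,0,2,1,0,1,3,2,1,5,3,2,1,5,1,0,5,1,0,1,3,2,4,2,3,1,0,5,1,5,1,0,1,2,3,2,1,0,2,1,0,1,3,2,1,5,3,2,1,5,2,5,1,0,2,1,0,1,3,2,1,5,3,2,1,4,1,0,2,1,0,1,3,2,1,5,3,2,1,3,4,1,0,2,1,0,1,3,2,1,5,3,2,0,2,3,2,1,4,3,2,1,0,1,2,6,1,2,3,2,1,5,6,1,2],
   [4,3,2,4,3,1,0,2,1,0,1,3,2,1,5,3,2,1,0,2,1,2,3,2,1,0,4,3,2,1,3,2,5,1,6,1,0,2,1,3,2,4,3,5,1,2,3,6,5],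
   [4,2,3,2,4,3,2,1,0,2,1,0,1,3,2,1,5,3,2,1,5,1,0,5,1,0,1,3,2,3,2,1,0,2,1,0,1,3,2,1,5,3,2,1,5,1,0,5,1,0,1,3,2,4,2,3,1,0,5,1,5,1,0,1,2,1,0,5,1,2,1,0,1,3,2,1,5,3,2,1,4,3,1,0,2,1,0,1,3,2,1,5,3,2,0,2,1,3,2,1,0,1,4,3,6,1,0,2,1,3,2,6],
   [4,2,3,2,4,3,2,1,0,2,1,0,1,3,2,1,5,3,2,1,5,1,0,5,1,2,1,0,1,3,2,1,5,3,2,1,0,4,3,2,1,0,5,1,2,3,2,4,3,2,1,0,5,1,0,1,2,1,6,1,0,2,1,3,2,1,4,3,2,6,1,5],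
   [4,2,3,2,4,3,2,1,0,2,1,0,1,3,2,1,5,3,2,1,5,1,0,5,1,0,1,3,2,3,2,1,0,2,1,0,1,3,2,1,5,3,2,1,5,1,0,5,1,0,1,3,2,4,2,3,1,0,5,1,0,1,2,1,0,2,1,0,1,3,2,1,5,3,2,1,0,4,1,0,2,1,0,1,3,2,1,5,3,2,1,4,1,0,2,1,0,1,3,2,1,5,3,2,0,5,1,2,1,0,1,3,2,1,5,3,2,0,1,2,1,3,2,4,3,2,5,1,2,3,2,4,6,1,0,2,1,3,2,4,3,6,5],
   [4,2,3,2,4,3,2,1,0,2,1,0,1,3,2,1,5,3,2,1,5,1,0,5,1,0,1,3,2,4,2,3,2,4,2,1,0,5,1,0,1,2,1,0,2,1,0,1,3,2,1,5,3,2,1,2,4,3,1,0,2,1,0,1,3,2,1,5,3,2,1,2,1,0,2,1,3,2,1,3,4,3,2,5,1,0,2,6,1,0,1,2,3,2,1,4,3,2,1,0,1,5,1,2],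
   [4,2,3,2,4,3,2,1,0,2,1,0,1,3,2,1,5,3,2,1,5,1,0,5,1,0,1,3,2,4,2,3,2,4,3,2,1,0,2,1,0,1,3,2,1,5,3,2,1,5,1,0,5,1,0,1,3,2,4,2,1,0,5,1,0,1,2,3,2,1,0,2,1,0,1,3,2,1,5,3,2,1,5,2,5,1,0,2,1,0,1,3,2,1,5,3,2,1,4,1,0,2,1,0,1,3,2,1,5,3,2,1,4,1,0,5,1,2,1,3,2,3,4,3,2,1,3,5,6,1,2,3,2,4,3,2,5,1,0,2,1],
   [4,2,3,2,4,3,2,1,0,2,1,0,1,3,2,1,5,3,2,1,5,1,0,5,1,0,1,3,2,3,2,1,0,2,1,0,1,3,2,1,5,3,2,1,5,1,0,5,1,0,1,3,2,4,2,3,2,4,3,2,1,0,2,1,0,1,3,2,1,5,3,2,1,5,2,3,2,4,1,0,2,1,0,1,3,2,1,5,3,2,0,2,1,0,1,3,2,1,5,3,2,1,4,1,0,2,3,2,1,0,4,3,5,1,0,2,1,0,6,1,2,3,2,1,0,4,3,2,1,3,2,5,1],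
   [4,2,3,2,4,3,2,1,0,2,1,0,1,3,2,1,5,3,2,1,5,1,0,5,1,0,1,3,2,3,2,1,0,2,1,0,1,3,2,1,5,3,2,1,5,1,0,5,1,0,1,3,2,4,2,3,2,4,3,2,1,0,2,1,0,1,3,2,1,5,3,2,1,5,1,0,5,1,0,1,3,2,4,3,2,1,0,2,1,0,1,3,2,1,5,3,2,1,5,2,4,3,2,1,0,2,1,0,1,3,2,1,5,3,2,1,5,2,0,3,2,4,1,0,5,1,2,1,0,1,3,2,1,5,3,2,1,3,1,0,1,2,3,2,1,4,3,2,3,2,5,1,0,6,1,0,2,1,3,2,1,3,4,3,2,5,1,6,1,0],
   [4,2,3,2,4,3,2,1,0,2,1,0,1,3,2,1,5,3,2,1,5,1,0,5,1,0,1,3,2,3,2,1,0,2,1,0,1,3,2,1,5,3,2,1,5,1,0,5,1,0,1,3,2,4,2,3,2,4,3,2,1,0,2,1,0,1,3,2,1,5,3,2,1,5,1,0,5,1,0,1,3,2,4,2,3,2,3,2,1,0,2,1,0,1,3,2,1,5,3,2,1,5,1,0,2,1,0,1,3,2,1,5,3,2,1,4,3,2,3,1,0,2,1,3,2,4,3,5,1,2,3,4,6,1,2,3,2,1,4,3,2,1,5,1,2],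
   [3,2,1,0,2,1,0,1,3,2,1,5,3,2,1,5,1,0,5,1,0,1,3,2,3,2,1,0,2,1,0,1,3,2,1,5,3,2,1,5,2,0,3,4,1,0,5,1,2,1,0,1,3,2,1,5,3,2,0,5,1,5,1,2,1,3,2,4,3,2,5,1,0,2,6,1,0,2,3,2,1,4,3,5,6,1,0,2,1],
   [3,2,1,0,2,1,0,1,3,2,1,5,3,2,1,5,1,0,5,1,0,1,3,2,4,2,3,2,4,3,2,1,0,2,1,0,1,3,2,1,5,3,2,1,5,2,0,3,2,4,1,0,2,1,0,1,3,2,1,5,3,2,1,3,1,0,2,1,3,2,3,4,3,2,5,1,0,1,5,6,1,0,1,2,3,2,1,4,3,2,1,0,1,5,6],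
   [4,2,3,2,4,3,2,1,0,2,1,0,1,3,2,1,5,3,2,1,5,1,0,5,1,0,1,3,2,3,2,1,0,2,1,0,1,3,2,1,5,3,2,1,5,1,0,5,1,0,1,3,2,4,2,3,2,3,2,1,0,2,1,0,1,3,2,1,5,3,2,1,5,2,4,3,2,1,0,2,1,0,1,3,2,1,5,3,2,1,5,2,3,4,1,0,2,1,0,1,3,2,1,5,3,2,1,2,3,1,2,3,2,1,4,3,2,1,0,1,3,2,1,6,1,0,2,1,3,2,4,3,5,1,0,2],
   [4,2,3,2,4,2,3,2,3,2,1,0,2,1,0,1,3,2,1,5,3,2,1,5,2,0,1,0,2,1,0,1,3,2,1,5,3,2,1,4,1,0,2,1,0,1,3,2,1,5,3,2,1,4,3,1,0,5,1,5,2,1,3,2,4,3,2,1,0,1,6,1,2,3,2,1,4,3,2,5,6,1,2,5]]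

def candWords_1 : List (List ℕ) :=
  [[4,2,3,2,0,1,0,5,1,2,1,0,1,3,2,1,5,3,2,1,3,4,3,1,0,2,1,3,2,4,3,5,1,6,1,0,1,2,3,2,1,4,3,2,1,0,1,5,6],
   [4,2,3,2,4,3,2,1,0,2,1,0,1,3,2,1,5,3,2,1,5,1,0,5,1,0,1,3,2,4,2,3,2,4,3,2,1,0,2,1,0,1,3,2,1,5,3,2,1,5,1,0,5,1,0,1,3,2,3,2,1,0,2,1,0,1,3,2,1,5,3,2,1,5,2,1,0,2,1,0,1,3,2,1,5,3,2,1,0,2,4,3,2,1,2,3,2,1,0,4,3,2,1,3,2,3,5,1,6,1,0,2,3,2,1,0,4,3,6],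
   [3,2,1,0,2,1,0,1,3,2,1,5,3,2,1,5,1,0,5,1,0,1,3,2,4,2,3,2,4,5,1,2,3,2,1,4,3,2,1,0,1,0,3,2,6,1,2,3,2,1,0,4,3,2,5,1],
   [4,2,3,2,4,3,2,1,0,2,1,0,1,3,2,1,5,3,2,1,5,1,0,5,1,0,1,3,2,4,2,3,2,4,3,2,1,0,2,1,0,1,3,2,1,5,3,2,1,5,1,0,5,1,0,1,3,2,4,2,3,1,0,5,1,0,1,2,1,0,5,1,2,1,0,1,3,2,1,5,3,2,0,2,1,0,1,3,2,1,5,2,1,0,1,4,3,2,5,1,0,2,1,3,6,1,0,2,3,2,1,4,3,5,6,1,2,5,1,0],
   [3,2,1,0,2,1,0,1,3,2,1,5,3,2,1,5,1,0,5,1,0,1,3,1,0,5,1,0,1,2,3,1,2,3,2,1,4,3,2,1,0,1,0,2,3,6,1,2,3,2,1,5,6,1,2],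
   [3,2,1,0,2,1,0,1,3,2,1,5,3,2,1,5,1,0,5,1,2,1,0,1,3,2,1,5,3,2,1,4,1,0,2,1,0,1,3,2,1,5,3,2,1,3,2,4,1,0,1,2,1,0,3,5,1,6,1,0,2,1,3,2,6],
   [4,2,3,2,4,3,2,1,0,2,1,0,1,3,2,1,5,3,2,1,5,1,0,5,1,5,1,0,1,2,3,4,1,0,2,1,0,1,3,2,1,5,3,2,0,2,1,0,1,3,2,1,5,3,2,1,4,3,1,0,2,1,3,2,3,4,3,2,1,0,5,1,2,6,1,0,2,1,3,2,4,3,2,5,1,0,2,1,6,1],
   [4,2,3,2,4,2,1,0,5,1,0,1,2,3,4,1,0,5,1,0,1,2,1,0,2,1,0,1,3,2,1,5,3,2,0,5,1,5,2,1,3,2,4,3,5,6,1,0,2,1,3,2,4,5],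
   [4,2,3,2,4,3,2,1,0,2,1,0,1,3,2,1,5,3,2,1,5,1,0,5,1,0,1,3,2,4,2,1,0,5,1,0,1,2,3,2,1,0,2,1,0,1,3,2,1,5,3,2,1,5,2,4,1,0,2,1,0,1,3,2,1,5,3,2,1,4,1,0,2,1,0,1,3,2,1,5,3,2,1,4,1,0,5,1,0,1,2,1,0,5,1,2,1,3,2,1,4,3,2,5,1,0,1,5,6,1,0,2,1,3,2,4,3,2,1,0,1,2,5,1],
   [4,2,3,2,4,3,2,1,0,2,1,0,1,3,2,1,5,3,2,1,5,1,0,5,1,0,1,3,2,3,2,1,0,2,1,0,1,3,2,1,5,3,2,1,5,1,0,5,1,0,1,3,2,4,2,1,0,5,1,5,1,0,1,2,3,2,1,0,2,1,0,1,3,2,1,5,3,2,1,5,1,0,2,1,0,1,3,2,1,5,3,2,1,4,1,0,2,1,0,1,3,2,1,5,3,2,0,2,1,0,1,3,2,1,5,3,2,0,5,1,2,1,0,1,3,2,1,5,2,4,3,2,6,1,0,2,3,2,1,0,4,3,2,3,5,1,0,2,6],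
   [4,2,3,2,4,2,3,2,3,4,1,0,2,1,0,1,3,2,1,5,3,2,1,0,2,1,0,2,1,0,1,3,2,1,5,2,1,4,3,2,1,0,1,2,5,6,1,2,3,2,1,4,3,2,5,1],
   [4,2,3,2,4,3,2,1,0,2,1,0,1,3,2,1,5,3,2,1,5,1,0,5,1,0,1,3,2,3,2,1,0,2,1,0,1,3,2,1,5,3,2,1,5,1,0,5,1,0,1,3,2,4,2,3,1,0,5,1,0,1,2,0,3,4,1,0,5,1,0,1,2,3,1,2,3,2,4,3,2,1,5,1,0,1,2,1,3,2,6,1,0,2,1,3,2,4,3,2,1,6,5,1,0,2,3],
   [4,2,3,2,4,3,2,1,0,2,1,0,1,3,2,1,5,3,2,1,5,1,0,5,1,0,1,3,2,3,2,1,0,2,1,0,1,3,2,1,5,3,2,1,5,1,0,5,1,0,1,3,2,4,2,3,2,4,3,2,1,0,2,1,0,1,3,2,1,5,3,2,1,5,1,0,5,1,0,1,3,2,4,2,3,2,3,2,1,0,2,1,0,1,3,2,1,5,3,2,1,5,2,4,3,2,1,0,2,1,0,1,3,2,1,5,3,2,1,5,2,0,3,2,4,1,0,2,1,0,1,3,2,1,5,3,2,0,2,1,0,1,3,2,1,5,3,2,1,4,3,1,0,2,1,3,2,3,4,3,2,5,1,0,1,0,5,6,1,0,1,2,1,3,2,1,4,3,2,5,1],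
   [3,2,1,0,2,1,0,1,3,2,1,5,3,2,1,5,1,0,5,1,0,1,2,1,0,2,1,0,1,3,2,1,5,3,2,1,0,1,0,2,3,2,1,4,6,1,0,2,3,2,4,3,2,1,0,5,1,6],
   [3,2,1,0,2,1,0,1,3,2,1,5,3,2,1,5,1,0,5,1,0,1,3,2,4,2,3,2,3,2,1,0,2,1,0,1,3,2,1,5,3,2,1,5,2,4,3,2,1,0,2,1,0,1,3,2,1,5,3,2,1,5,2,1,0,2,1,0,1,3,2,1,5,3,2,1,4,1,0,2,1,0,1,3,2,1,5,3,2,1,2,4,3,1,0,5,1,0,2,3,2,1,4,3,2,1,0,3,2,6,1,0,2,1,3,2,4,3,2,1,6,5,1,0,2,3],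
   [4,3,2,1,0,2,1,0,1,3,2,1,5,3,2,1,5,2,4,3,2,1,0,2,1,0,1,3,2,1,5,3,2,1,5,2,3,2,4,3,5,1,0,5,1,0,1,2,1,0,5,2,1,3,2,5,6,1,0,1,2,1,3,2,4,3,2,5],
   [4,2,3,2,4,3,2,1,0,2,1,0,1,3,2,1,5,3,2,1,5,1,0,2,1,0,1,3,2,1,5,3,2,1,0,4,1,0,2,1,0,1,3,2,1,5,3,2,1,4,1,0,5,1,2,1,3,2,3,2,4,6,1,0,2,1,3,2,3,4,3,2,1,0,1,5],
   [4,2,3,2,4,3,2,1,0,2,1,0,1,3,2,1,5,3,2,1,5,1,0,5,1,0,1,3,2,4,2,3,2,4,3,2,1,0,2,1,0,1,3,2,1,5,3,2,1,5,1,0,5,1,0,1,3,2,4,2,1,0,5,1,5,1,0,1,2,3,2,1,0,2,1,0,1,3,2,1,5,3,2,1,5,2,0,2,1,0,2,1,0,1,3,2,1,5,3,2,1,4,1,0,2,1,0,1,3,2,1,5,3,2,1,4,3,1,0,2,1,3,2,1,3,4,3,2,3,6,1,0,1,2,1,3,2,1,4,3,2,1,5,1,0,2],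
   [4,2,3,2,4,3,2,1,0,2,1,0,1,3,2,1,5,3,2,1,5,1,0,5,1,0,1,3,2,3,2,1,0,2,1,0,1,3,2,1,5,3,2,1,5,1,0,5,1,0,1,3,2,4,2,3,2,4,3,2,1,0,2,1,0,1,3,2,1,5,3,2,1,5,1,0,5,1,0,1,3,2,4,2,1,0,5,1,0,1,2,3,2,1,0,2,1,0,1,3,2,1,5,3,2,1,5,2,3,4,1,0,2,1,0,1,3,2,1,5,3,2,0,2,1,0,1,3,2,1,5,3,2,0,5,1,2,1,0,1,3,2,1,5,2,1,4,3,2,1,0,6,1,2,3,2,4,3,2,1,5,1,0,1,0,2,1],
   [4,2,3,2,4,3,2,1,0,2,1,0,1,3,2,1,5,3,2,1,5,1,0,5,1,0,1,3,2,4,2,3,2,3,2,1,0,2,1,0,1,3,2,1,5,3,2,1,5,2,0,3,2,4,1,0,5,1,2,1,0,1,3,2,1,5,3,2,1,3,4,3,1,0,2,1,3,2,1,3,4,3,2,5,1,2,3,6,1,0,2,1,3,2,1,4,3,2,1,6,5],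
   [4,2,3,2,4,3,2,1,0,2,1,0,1,3,2,1,5,3,2,1,5,1,0,5,1,0,1,3,2,3,2,1,0,2,1,0,1,3,2,1,5,3,2,1,5,1,0,5,1,0,1,3,2,4,2,3,2,4,3,2,1,0,2,1,0,1,3,2,1,5,3,2,1,5,1,0,5,1,0,1,3,2,4,2,1,0,5,1,0,1,2,3,2,1,0,2,1,0,1,3,2,1,5,3,2,1,5,2,0,3,2,4,3,1,2,3,2,1,4,3,6,1,2,3,2,4,3,2,1,6],
   [4,2,3,2,4,3,2,1,0,2,1,0,1,3,2,1,5,3,2,1,5,2,3,1,2,3,2,4,3,2,1,0,5,1,0,1,0,2,3,6,1,2,3,2,1,0,4,3,2,1],
   [3,2,1,0,2,1,0,1,3,2,1,5,3,2,1,5,1,0,5,1,0,1,3,2,4,2,3,2,4,3,2,1,0,2,1,0,1,3,2,1,5,3,2,1,5,2,1,0,2,1,0,1,3,2,1,5,3,2,1,4,1,0,2,1,0,1,3,2,1,5,3,2,1,4,3,2,1,0,5,1,2,1,3,2,3,4,3,2,1,5,1,6,1,0,1,2,1,3,2,4,3,5,1,2,3],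
   [4,2,3,2,4,3,2,1,0,2,1,0,1,3,2,1,5,3,2,1,5,1,0,5,1,0,1,3,2,3,2,1,0,2,1,0,1,3,2,1,5,3,2,1,5,1,0,5,1,0,1,3,2,4,2,3,2,4,3,2,1,0,2,1,0,1,3,2,1,5,3,2,1,5,1,0,5,1,0,1,3,2,3,2,1,0,2,1,0,1,3,2,1,5,3,2,1,5,2,5,1,0,2,1,0,1,3,2,1,5,3,2,1,4,1,0,2,1,0,1,3,2,1,5,3,2,1,3,4,1,0,1,2,3,2,1,4,3,2,3,5,1,0,2,1,6,1,0,2,1,3,2,5,1,0],
   [4,2,3,2,4,3,2,1,0,2,1,0,1,3,2,1,5,3,2,1,5,1,0,5,1,0,1,2,3,2,1,0,2,1,0,1,3,2,1,5,3,2,1,5,2,3,4,1,0,5,1,0,1,2,1,0,2,1,0,1,3,2,1,5,3,2,1,4,1,0,2,1,0,1,3,2,1,5,3,2,1,3,1,0,1,2,1,3,2,1,4,3,2,3,5,1,0,6,1,0,2,1,3,2,1,3,6],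
   [3,2,1,0,2,1,0,1,3,2,1,5,3,2,1,5,1,0,5,1,0,1,3,2,4,2,1,0,5,1,0,1,2,3,2,1,0,2,1,0,1,3,2,1,5,3,2,1,5,2,5,1,0,2,1,0,1,3,2,1,5,3,2,1,4,1,0,2,1,0,1,3,2,1,5,3,2,0,2,1,0,1,3,2,1,5,3,2,0,2,1,3,2,1,0,1,4,3,2,5,1,0,6,1,0,1,2,3,2,1,4,3,2,1,0,1,5,1,2],
   [4,2,3,2,4,3,2,1,0,2,1,0,1,3,2,1,5,3,2,1,5,1,0,5,1,0,1,3,2,3,2,1,0,2,1,0,1,3,2,1,5,3,2,1,5,1,0,5,1,0,1,3,2,4,2,3,2,4,3,2,1,0,2,1,0,1,3,2,1,5,3,2,1,5,1,0,5,1,0,1,3,1,0,5,1,0,1,2,0,3,4,1,0,2,1,0,1,3,2,1,5,3,2,0,5,1,2,1,0,1,3,2,1,5,3,2,1,2,1,0,5,2,1,3,2,4,3,2,1,5,1,0,2,6,1,2,3,2,1,4,3,2,5],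
   [3,2,1,0,2,1,0,1,3,2,1,5,3,2,1,5,1,0,5,1,0,1,3,2,4,2,3,2,4,2,3,2,3,2,1,0,2,1,0,1,3,2,1,5,3,2,1,5,2,0,1,0,5,1,2,1,0,1,3,2,1,5,3,2,1,4,1,0,2,1,0,1,3,2,1,5,3,2,0,1,2,1,3,2,1,4,3,2,6,1,2,3,2,1,0,4,3,2,6,1,0],
   [4,2,3,2,4,3,2,1,0,2,1,0,1,3,2,1,5,3,2,1,5,1,0,5,1,0,1,3,2,4,2,3,2,4,3,2,1,0,2,1,0,1,3,2,1,5,3,2,1,5,1,0,5,1,0,1,3,2,4,2,1,0,5,1,5,1,0,1,2,3,2,1,0,2,1,0,1,3,2,1,5,3,2,1,5,2,1,0,2,1,0,1,3,2,1,5,3,2,0,2,1,0,1,3,2,1,5,3,2,1,4,3,1,0,5,1,2,3,2,1,5,6,1,2,3,2,1,4,3,2,1,6,1],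
   [4,2,3,2,4,3,2,1,0,2,1,0,1,3,2,1,5,3,2,1,5,1,0,5,1,0,1,3,2,4,2,3,2,4,3,2,1,0,2,1,0,1,3,2,1,5,3,2,1,5,1,0,5,1,0,1,3,2,4,2,3,1,0,5,1,0,1,2,3,2,1,0,2,1,0,1,3,2,1,5,3,2,1,5,2,0,1,0,2,1,0,1,3,2,1,5,3,2,1,2,4,1,0,2,1,0,1,3,2,1,5,3,2,1,4,3,1,0,1,2,3,2,1,4,3,2,1,0,3,5,6,1,0,2,1,3,2,3,4,3,2,5,1,0,2,1]]

def candWords_2 : List (List ℕ) :=
  [[4,2,3,2,4,3,2,1,0,2,1,0,1,3,2,1,5,3,2,1,5,1,0,5,1,0,1,3,2,3,2,1,0,2,1,0,1,3,2,1,5,3,2,1,5,1,0,5,1,0,1,3,2,4,2,3,2,4,3,2,1,0,2,1,0,1,3,2,1,5,3,2,1,5,1,0,5,1,0,1,3,2,4,2,3,2,4,0,1,0,2,1,0,1,3,2,1,5,3,2,0,2,1,0,1,3,2,1,5,3,2,1,4,1,0,2,1,0,1,3,2,1,5,3,2,0,5,1,2,1,3,2,3,2,4,3,2,1,5,1,0,6,1,2,3,2,1,4,3,2,3,6],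
   [4,2,3,2,4,3,2,1,0,2,1,0,1,3,2,1,5,3,2,1,5,1,0,5,1,0,1,3,2,4,2,3,1,0,2,1,0,1,3,2,1,5,3,2,1,0,4,1,0,2,1,0,1,3,2,1,5,3,2,0,5,1,2,1,3,2,4,3,5,1,0,6,1,2,3,2,1,0,5,1],
   [4,2,3,2,4,3,2,1,0,2,1,0,1,3,2,1,5,3,2,1,5,1,0,5,1,0,1,3,2,3,2,1,0,2,1,0,1,3,2,1,5,3,2,1,5,1,0,5,1,0,1,3,2,4,2,3,2,4,3,2,1,0,2,1,0,1,3,2,1,5,3,2,1,5,1,0,5,1,0,1,3,2,4,2,1,0,5,1,5,1,0,1,2,0,3,4,1,0,2,1,0,1,3,2,1,5,3,2,0,2,1,0,1,3,2,1,5,3,2,0,2,1,3,2,1,4,3,2,5,1,0,2,6,1,0,2,1,3,2,1,4,3,2,5,1,0],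
   [3,2,1,0,2,1,0,1,3,2,1,5,3,2,1,5,1,0,5,1,0,1,2,1,0,2,1,0,1,3,2,1,5,3,2,1,0,2,1,2,3,2,1,0,4,3,2,1,0,3,6,1,0,2,3,2,1,6,5,1,6],
   [4,2,3,2,4,3,2,1,0,2,1,0,1,3,2,1,5,3,2,1,5,1,0,5,1,0,1,3,2,4,2,3,2,4,3,2,1,0,2,1,0,1,3,2,1,5,3,2,1,5,1,0,5,1,0,1,3,2,4,2,3,2,3,2,1,0,2,1,0,1,3,2,1,5,3,2,1,5,2,4,1,0,2,1,0,1,3,2,1,5,3,2,0,2,1,0,1,3,2,1,5,3,2,1,4,3,1,0,2,1,3,2,3,4,3,6,1,0,2,1,3,2,3,2,4,3,2,1,0,5],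
   [4,2,3,2,4,3,2,1,0,2,1,0,1,3,2,1,5,3,2,1,5,1,0,5,1,0,1,3,2,3,2,1,0,2,1,0,1,3,2,1,5,3,2,1,5,1,0,5,1,0,1,3,2,4,2,3,2,4,3,2,1,0,2,1,0,1,3,2,1,5,3,2,1,5,1,0,5,1,0,1,3,2,4,2,1,0,5,1,0,1,2,3,2,1,0,2,1,0,1,3,2,1,5,3,2,1,5,2,3,4,1,0,5,1,0,1,2,3,1,0,2,3,2,1,4,3,2,3,2,1,4,3,6,1,0,2,3,2,1,0,4,3,2,3,5,1,0,2,6],
   [3,2,1,0,2,1,0,1,3,2,1,5,3,2,1,5,1,0,5,1,0,1,3,2,4,2,3,1,0,5,1,5,1,0,1,2,3,2,1,0,2,1,0,1,3,2,1,5,3,2,1,5,2,3,1,0,2,1,0,1,3,2,1,5,3,2,0,2,1,0,1,3,2,1,5,3,2,1,4,1,0,1,2,1,3,2,5,6,1,0,2,1,3,2,1,3,4,3,2,5],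
   [4,2,3,2,4,3,2,1,0,2,1,0,1,3,2,1,5,3,2,1,5,1,0,5,1,0,1,3,2,4,2,3,2,4,2,3,1,0,5,1,0,1,2,3,2,4,3,1,0,2,1,0,1,3,2,1,5,3,2,0,2,1,0,1,3,2,1,5,3,2,1,4,1,2,3,2,1,0,4,3,2,3,4,5,1,6,1,0,2,3,2,1,4,3,5,6,1,2,5,1,0],
   [4,2,3,2,4,3,2,1,0,2,1,0,1,3,2,1,5,3,2,1,5,1,0,5,1,0,1,3,2,3,2,1,0,2,1,0,1,3,2,1,5,3,2,1,5,1,0,5,1,0,1,3,2,4,2,3,2,4,2,3,2,1,0,5,1,2,1,0,1,3,2,1,5,3,2,1,4,3,1,0,2,1,0,1,3,2,1,5,3,2,0,2,1,0,1,3,2,1,5,3,2,0,2,1,3,2,3,4,3,2,1,5,1,0,1,5,6,1,2,3,2,1,0,4,3,2,3,6,1,5],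
   [4,2,3,2,4,3,2,1,0,2,1,0,1,3,2,1,5,3,2,1,5,1,0,5,1,0,1,3,2,3,2,1,0,2,1,0,1,3,2,1,5,3,2,1,5,1,0,5,1,0,1,3,2,4,2,3,2,4,3,2,1,0,2,1,0,1,3,2,1,5,3,2,1,5,1,0,5,1,0,1,3,2,4,2,3,2,4,2,3,1,0,2,1,0,1,3,2,1,5,3,2,1,4,1,0,2,1,0,1,3,2,1,5,2,1,4,3,5,1,2,6,1,0,2,1,3,2,5,1,0],
   [4,2,3,2,4,3,2,1,0,2,1,0,1,3,2,1,5,3,2,1,5,1,0,5,1,0,1,3,2,3,2,1,0,2,1,0,1,3,2,1,5,3,2,1,5,1,0,5,1,0,1,3,2,4,2,3,2,4,3,2,1,0,2,1,0,1,3,2,1,5,3,2,1,5,1,0,5,1,0,1,3,2,4,2,1,0,5,1,0,1,2,3,2,1,0,2,1,0,1,3,2,1,5,3,2,1,5,2,4,3,4,1,0,2,1,0,1,3,2,1,5,3,2,1,2,1,0,2,1,0,1,3,2,1,5,3,2,1,4,1,0,2,1,3,2,1,3,4,3,2,1,5,1,0,6,1,0,2,1,3,2,1,4,3,2,1,6,5,1],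
   [4,2,3,2,4,3,2,1,0,2,1,0,1,3,2,1,5,3,2,1,5,1,0,5,1,0,1,3,2,4,2,3,2,4,3,2,1,0,2,1,0,1,3,2,1,5,3,2,1,5,1,0,5,1,0,1,3,1,0,5,1,0,1,2,1,0,2,1,0,1,3,2,1,5,3,2,1,4,1,0,2,1,0,1,3,2,1,5,3,2,1,2,1,0,2,3,2,1,0,4,3,2,1,3,5,1,2,6,1,0,1,2,1,3,2,5,1],
   [4,2,3,2,4,3,2,1,0,2,1,0,1,3,2,1,5,3,2,1,5,1,0,5,1,0,1,3,2,3,2,1,0,2,1,0,1,3,2,1,5,3,2,1,5,1,0,5,1,0,1,3,2,4,2,3,2,4,3,2,1,0,2,1,0,1,3,2,1,5,3,2,1,5,1,0,5,1,0,1,3,2,4,2,1,0,5,1,5,1,0,1,2,0,1,0,2,1,0,1,3,2,1,5,3,2,1,4,1,0,2,1,0,1,3,2,1,5,3,2,1,4,3,1,0,5,1,0,1,2,1,0,1,2,3,2,1,4,3,2,1,0,1,2,6,1,0,2,1,3,2,4,3,5,1,0,1,2],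
   [4,2,3,2,4,3,2,1,0,2,1,0,1,3,2,1,5,3,2,1,5,1,0,5,1,5,1,0,1,2,3,4,1,0,2,1,0,1,3,2,1,5,3,2,0,5,1,2,1,0,1,3,2,1,5,3,2,1,2,1,0,2,1,3,2,3,4,3,2,5,1,0,6,1,2,3,2,4,3,2,5,1,0,2,1],
   [2,3,2,0,3,1,0,5,1,2,1,3,2,1,3,4,3,5,1,6,1,2,3,2,1,0,4,3,2,1,3,2,5,1],
   [4,2,3,2,4,3,2,1,0,2,1,0,1,3,2,1,5,3,2,1,5,1,0,5,1,0,1,2,3,2,4,3,1,0,5,1,0,1,2,5,1,0,5,1,0,2,3,2,1,4,3,2,1,0,1,0,3,6,1,0,2,1,3,2,1,4,3,2,3,5,6],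
   [3,2,4,3,2,1,0,5,1,0,2,3,2,4,3,2,1,0,5,1,6,1,0,2,1,3,2,1,0,1,4,3,2,3,6],
   [3,2,1,0,2,1,0,1,3,2,1,5,3,2,1,5,1,0,5,1,0,1,3,2,4,2,1,0,5,1,5,1,0,1,2,3,2,1,0,2,1,0,1,3,2,1,5,3,2,1,5,2,1,0,5,1,2,1,0,1,3,2,1,5,3,2,1,4,1,2,3,2,1,0,4,3,2,1,5,1,2,3,6,1,2,3,2,1,4,3,2,1,6,1],
   [4,2,3,2,4,3,2,1,0,2,1,0,1,3,2,1,5,3,2,1,5,1,0,5,1,0,1,3,2,4,2,3,2,4,3,2,1,0,2,1,0,1,3,2,1,5,3,2,1,5,1,0,5,1,0,1,3,2,4,2,1,0,5,1,0,1,2,0,1,0,2,1,0,1,3,2,1,5,3,2,1,2,4,1,0,2,1,0,1,3,2,1,5,3,2,1,4,3,1,0,2,1,0,1,3,2,1,5,3,2,0,5,1,2,3,2,4,3,6,1,2,3,2,1,0,5,1],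
   [2,3,1,0,5,1,2,1,0,1,3,2,1,5,3,2,1,4,3,1,0,2,1,0,1,3,2,1,5,3,2,1,4,1,0,2,1,3,2,1,3,4,3,2,1,3,2,5,6,1,0,2,1,3,2,4,3,5,1,0,1,2],
   [4,2,1,0,5,1,5,1,0,1,2,3,2,1,0,2,1,0,1,3,2,1,5,3,2,1,5,2,0,1,0,2,1,0,1,3,2,1,5,3,2,1,4,1,0,2,1,0,1,3,2,1,5,3,2,1,3,4,3,1,2,3,2,1,0,4,3,2,1,3,4,5,1,6,1,0,2,3,2,1,4,3,2,3,4,5,6,1,2,3],
   [4,2,3,1,0,5,1,0,1,2,3,2,1,0,2,1,0,1,3,2,1,5,3,2,1,5,2,1,0,2,1,0,1,3,2,1,5,3,2,1,4,1,0,2,1,0,1,3,2,1,5,3,2,1,3,4,1,0,2,1,0,1,3,2,1,5,3,2,1,4,1,0,2,3,2,1,0,4,3,2,1,3,4,5,1,6,1,0,2,1,3,2,4,3,6,5],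
   [4,2,1,0,5,1,5,1,0,1,2,3,2,4,1,0,2,1,0,1,3,2,1,5,3,2,0,2,1,3,2,4,3,2,1,0,1,5,1,6,1,2,3,2,1,4,6,5,1,2,6,1],
   [4,2,3,2,3,2,1,0,2,1,0,1,3,2,1,5,3,2,1,5,2,4,3,2,1,0,2,1,0,1,3,2,1,5,3,2,1,5,2,1,0,2,1,0,1,3,2,1,5,3,2,0,2,1,0,1,3,2,1,5,3,2,1,4,1,0,5,1,2,1,0,1,3,2,1,5,3,2,0,2,1,3,2,1,4,3,5,1,0,2,1,0,6,1,0,2,1,3,2,1,4,3,2,6,1,5],
   [3,2,1,0,2,1,0,1,3,2,1,5,3,2,1,5,1,0,5,1,5,1,0,1,2,3,4,1,0,5,1,0,1,2,3,1,0,2,1,0,1,3,2,1,5,3,2,1,2,1,0,2,1,3,2,1,4,3,2,3,4,5,1,2,6,1,0,1,2,3,2,1,4,3,2,1,5,1,0],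
   [4,2,3,2,4,2,3,2,3,4,5,1,0,5,1,2,1,0,1,3,2,1,5,3,2,0,2,1,0,1,3,2,1,5,3,2,0,2,1,3,2,1,0,4,3,2,1,5,6,1,0,1,2,1,3,2,4,3,5,1,2,6,1],
   [4,2,3,2,4,3,2,1,0,2,1,0,1,3,2,1,5,3,2,1,5,1,0,5,1,0,1,3,2,3,2,1,0,2,1,0,1,3,2,1,5,3,2,1,5,1,0,5,1,0,1,3,2,4,2,3,2,4,2,3,2,1,0,5,1,2,1,0,1,3,2,1,5,3,2,0,2,1,0,1,3,2,1,5,3,2,1,4,3,2,1,0,2,3,2,1,4,3,2,1,0,3,4,6,1,0,2,3,2,4,3,2,1,5,6,1,2],
   [4,2,3,2,4,3,2,1,0,2,1,0,1,3,2,1,5,3,2,1,5,1,0,5,1,0,1,3,2,3,2,1,0,2,1,0,1,3,2,1,5,3,2,1,5,1,0,5,1,0,1,3,2,4,2,1,0,5,1,0,1,2,1,0,2,1,0,1,3,2,1,5,3,2,0,2,1,0,1,3,2,1,5,3,2,1,4,1,0,2,1,0,1,3,2,1,5,3,2,1,3,1,0,2,1,3,2,4,3,2,5,1,0,1,0,6,1,0,2,1,3,2,1,4,3,2,1,6,5,1],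
   [4,2,3,1,0,5,1,5,1,0,1,2,0,1,0,2,1,0,1,3,2,1,5,3,2,1,2,4,3,1,0,2,1,0,1,3,2,1,5,3,2,1,3,1,0,2,1,3,2,3,2,4,3,2,5,1,2,6,1,0,1,2,3,2,4,3,2,1,6,5,1,0],
   [4,2,3,2,4,3,2,1,0,2,1,0,1,3,2,1,5,3,2,1,5,1,0,5,1,0,1,3,2,3,2,1,0,2,1,0,1,3,2,1,5,3,2,1,5,1,0,5,1,0,1,3,2,4,2,3,1,0,5,1,0,1,2,0,1,0,2,1,0,1,3,2,1,5,3,2,0,2,1,0,1,3,2,1,5,3,2,1,4,1,0,2,1,0,1,3,2,1,5,3,2,0,2,1,3,2,3,4,3,2,5,1,0,2,6,1,0,2,1,3,2,4,3,5,1,0,2]]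

def candWords_3 : List (List ℕ) :=
  [[4,3,4,5,1,0,2,1,0,1,3,2,1,5,3,2,0,5,1,5,1,0,2,3,2,1,0,1,5,1,2,3,6,1,0,2,3,2,1,4,3,6,5,1],
   [4,2,3,2,4,3,2,1,0,2,1,0,1,3,2,1,5,3,2,1,5,1,0,5,1,0,1,3,2,4,2,3,2,4,3,2,1,0,2,1,0,1,3,2,1,5,3,2,1,5,1,0,5,1,0,1,3,2,4,2,3,2,4,2,3,2,3,4,5,1,0,5,1,2,1,0,1,3,2,1,5,3,2,0,2,1,3,2,3,2,4,3,2,1,0,6,1,2,3,2,1,4,6,5,1,2,6,1],
   [3,2,1,0,2,1,0,1,3,2,1,5,3,2,1,5,1,0,5,1,0,1,3,2,4,3,2,1,0,2,1,0,1,3,2,1,5,3,2,1,5,2,4,3,4,1,0,2,1,0,1,3,2,1,5,3,2,1,0,2,1,0,2,1,3,2,1,0,1,6,1,2,3,2,1,0,4,3,2,1,0,1,0,3],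
   [3,2,1,0,2,1,0,1,3,2,1,5,3,2,1,5,1,0,5,1,0,1,3,2,4,2,3,2,4,2,3,1,0,5,1,0,1,2,1,0,2,1,0,1,3,2,1,5,3,2,1,4,1,0,2,1,0,1,3,2,1,5,3,2,1,4,1,0,5,1,0,1,2,3,1,0,1,2,1,3,2,1,4,3,2,1,3,2,6,1,0,1,2,1,3,2,4,3,5,1,2,6,1],
   [4,2,3,2,4,3,2,1,0,2,1,0,1,3,2,1,5,3,2,1,5,1,0,5,1,0,1,3,2,3,2,1,0,2,1,0,1,3,2,1,5,3,2,1,5,1,0,5,1,0,1,3,2,4,2,3,2,4,3,2,1,0,2,1,0,1,3,2,1,5,3,2,1,5,1,0,5,1,0,1,3,2,4,2,3,2,4,2,3,2,1,0,2,1,0,1,3,2,1,5,3,2,1,4,1,0,2,1,0,1,3,2,1,5,3,2,0,5,1,5,1,0,1,2,1,0,2,1,3,2,1,0,4,3,6,1,2,3,2,1,4,3,2,5],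
   [4,2,1,0,5,1,5,1,0,1,2,1,0,2,1,0,1,3,2,1,5,3,2,1,2,4,1,0,2,1,0,1,3,2,1,5,3,2,1,4,1,0,2,1,0,1,3,2,1,5,3,2,0,5,2,1,3,2,1,4,3,2,1,0,5,1,2,6,1,0,2,3,2,1,4,5,6,1],
   [3,2,1,0,2,1,0,1,3,2,1,5,3,2,1,5,1,0,5,1,0,1,2,1,0,2,1,0,1,3,2,1,5,3,2,1,4,1,0,2,1,0,1,3,2,1,5,3,2,1,4,1,0,5,1,5,1,0,1,2,1,2,3,2,4,3,2,1,0,1,5,1,0,2,1,6,1,0,2,3,2,1,4,5,6,1],
   [4,2,1,0,5,1,5,1,0,1,2,0,3,4,1,0,5,1,2,1,0,1,3,2,1,5,3,2,1,4,1,0,2,1,0,1,3,2,1,5,3,2,0,1,2,3,2,1,4,3,2,1,0,5,6,1,0,2,3,2,1,4,3,5,6,1,0,2],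
   [4,2,1,0,5,1,5,1,0,1,2,0,1,0,5,1,2,1,0,1,3,2,1,5,3,2,1,4,3,1,0,2,1,0,1,3,2,1,5,3,2,0,2,1,0,1,3,2,1,5,3,2,0,1,2,3,2,1,4,3,2,3,5,1,2,3,6,1,2,3,2,1,4,3,2,1,3,2,5,1,2],
   [4,2,3,2,4,3,2,1,0,2,1,0,1,3,2,1,5,3,2,1,5,1,0,5,1,0,1,3,2,3,2,1,0,2,1,0,1,3,2,1,5,3,2,1,5,1,0,5,1,0,1,3,2,4,3,2,1,0,2,1,0,1,3,2,1,5,3,2,1,5,2,4,3,4,1,0,2,1,0,1,3,2,1,5,3,2,1,0,2,3,1,0,2,3,2,4,3,2,1,6,1,0,2,3,2,4,3,2,1,0,6,1,0],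
   [4,2,3,1,0,5,1,0,1,2,3,2,1,0,2,1,0,1,3,2,1,5,3,2,1,5,2,5,1,0,2,1,0,1,3,2,1,5,3,2,0,2,1,0,1,3,2,1,5,3,2,1,4,3,2,3,1,0,1,2,1,3,2,1,4,3,2,1,3,5,1,6,1,0,2,1,3,2,4,5],
   [4,2,3,2,4,3,2,1,0,2,1,0,1,3,2,1,5,3,2,1,5,1,0,5,1,0,1,3,1,0,2,1,0,1,3,2,1,5,3,2,1,4,3,2,1,0,2,1,0,1,3,2,1,5,3,2,0,5,1,2,1,3,2,4,3,2,1,0,5,1,2,6,1,0,2,1,3,2,1,4,3,2,3,6,5,1],
   [4,2,3,2,4,3,2,1,0,2,1,0,1,3,2,1,5,3,2,1,5,1,0,5,1,0,1,3,2,3,2,1,0,2,1,0,1,3,2,1,5,3,2,1,5,1,0,5,1,0,1,3,2,4,2,3,2,4,3,2,1,0,2,1,0,1,3,2,1,5,3,2,1,5,1,0,5,1,0,1,3,2,4,2,1,0,5,1,0,1,2,3,2,1,0,2,1,0,1,3,2,1,5,3,2,1,5,2,4,1,0,2,1,0,1,3,2,1,5,3,2,1,4,1,0,2,1,0,1,3,2,1,5,3,2,1,2,3,4,1,0,2,1,3,2,3,4,3,5,1,0,2,3,4,6,1,0,2,1,3,2,4,3,5,1,0,2],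
   [4,2,3,2,4,3,2,1,0,2,1,0,1,3,2,1,5,3,2,1,5,1,0,5,1,0,1,3,2,4,2,3,2,4,3,2,1,0,2,1,0,1,3,2,1,5,3,2,1,5,1,0,5,1,0,1,3,2,4,2,1,0,5,1,5,1,0,1,2,3,2,1,0,2,1,0,1,3,2,1,5,3,2,1,5,2,3,4,1,0,2,1,0,1,3,2,1,5,3,2,1,2,1,0,2,1,0,1,3,2,1,5,3,2,1,3,1,2,3,2,4,3,2,5,1,0,2,1,6,1,2,3,2,1,4,3,2,1,5,1,2],
   [2,3,2,0,3,4,1,0,5,1,2,1,0,1,3,2,1,5,3,2,1,2,3,1,2,3,2,1,0,1,4,3,2,5,1,0,2,1,5,6,1,0,1,2,1,3,2,1,4,3,2,5,1,2],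
   [4,2,3,2,4,3,2,1,0,2,1,0,1,3,2,1,5,3,2,1,5,1,0,5,1,0,1,3,2,4,2,3,2,4,3,2,1,0,2,1,0,1,3,2,1,5,3,2,1,5,1,0,5,1,0,1,3,2,4,2,3,2,4,2,3,2,1,0,2,1,0,1,3,2,1,5,3,2,1,4,1,0,2,1,0,1,3,2,1,5,3,2,1,4,3,1,0,5,1,0,1,2,1,2,3,2,1,0,4,3,2,6,1,2,3,2,4,3,2,5,1,0,1,5],
   [3,2,1,0,2,1,0,1,3,2,1,5,3,2,1,5,1,0,5,1,0,1,3,2,4,2,3,2,4,0,1,0,2,1,0,1,3,2,1,5,3,2,1,2,4,3,1,0,2,1,0,1,3,2,1,5,3,2,0,5,2,3,2,1,4,3,2,1,0,5,1,6,1,2,3,2,1,4,3,2,1,3,2,5,1],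
   [4,2,3,2,4,3,2,1,0,2,1,0,1,3,2,1,5,3,2,1,5,1,0,5,1,0,1,3,2,3,2,1,0,2,1,0,1,3,2,1,5,3,2,1,5,1,0,5,1,0,1,3,2,4,2,3,2,4,3,2,1,0,2,1,0,1,3,2,1,5,3,2,1,5,1,0,5,1,0,1,3,2,4,3,2,1,0,2,1,0,1,3,2,1,5,3,2,1,5,2,4,3,2,1,0,2,1,0,1,3,2,1,5,3,2,1,5,2,1,0,2,1,0,1,3,2,1,5,3,2,1,4,1,0,2,1,0,1,3,2,1,5,3,2,0,5,1,2,1,0,1,3,2,1,5,3,2,1,2,1,0,1,2,1,3,2,4,3,2,6,1,0,1,2,3,2,4,3,2,1,0,1,2,5,1],
   [4,2,3,2,4,3,2,1,0,2,1,0,1,3,2,1,5,3,2,1,5,1,0,5,1,0,1,3,2,3,2,1,0,2,1,0,1,3,2,1,5,3,2,1,5,1,0,5,1,0,1,3,1,0,5,1,2,1,0,1,3,2,1,5,3,2,1,4,1,0,2,1,0,1,3,2,1,5,3,2,1,3,1,0,5,1,0,2,3,2,1,0,1,4,3,2,1,5,1,0,2,3,6,1,2,3,2,1,4,3,2,3,6],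
   [4,2,3,2,4,2,3,2,3,2,1,0,2,1,0,1,3,2,1,5,3,2,1,5,2,3,4,1,0,5,1,0,1,2,1,0,2,1,3,2,4,3,2,1,0,1,2,3,5,6,1,0,2,1,3,2,1,4,3,2,3,5,6],
   [4,2,3,2,4,3,2,1,0,2,1,0,1,3,2,1,5,3,2,1,5,1,0,5,1,0,1,3,2,3,2,1,0,2,1,0,1,3,2,1,5,3,2,1,5,1,0,5,1,0,1,3,2,4,2,3,2,4,3,2,1,0,2,1,0,1,3,2,1,5,3,2,1,5,1,0,5,1,0,1,3,2,4,2,3,2,4,2,1,0,5,1,0,1,2,0,1,0,2,1,0,1,3,2,1,5,3,2,0,2,1,0,1,3,2,1,5,3,2,1,4,3,2,3,1,2,3,2,1,0,1,4,5,1,6,1,0,2,3,2,4,3,2,1,0,6,1,0],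
   [3,2,1,0,2,1,0,1,3,2,1,5,3,2,1,5,1,0,5,1,5,1,0,1,2,3,4,1,0,2,1,0,1,3,2,1,5,3,2,1,2,3,1,0,5,1,0,1,2,1,0,1,2,3,2,4,3,2,1,0,1,2,5,1,0,6,1,2,3,2,1,5,1],
   [3,2,1,0,2,1,0,1,3,2,1,5,3,2,1,5,1,0,5,1,0,1,2,3,4,5,1,0,2,1,0,1,3,2,1,5,3,2,1,3,4,1,0,2,1,3,2,3,2,4,3,2,5,1,2,6,1,0,2,3,2,4,3,2,1,0,5,1,6],
   [4,2,1,0,5,1,5,1,0,1,2,0,1,0,5,1,2,1,0,1,3,2,1,5,3,2,1,4,1,0,2,1,0,1,3,2,1,5,3,2,1,3,1,2,3,2,1,0,4,3,2,1,0,3,2,4,6,1,0,2,3,2,1,4,3,2,3,4,5,6,1,2,3],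
   [4,2,3,2,4,3,2,1,0,2,1,0,1,3,2,1,5,3,2,1,5,1,0,5,1,0,1,3,2,3,2,1,0,2,1,0,1,3,2,1,5,3,2,1,5,1,0,5,1,0,1,3,2,4,2,3,2,4,3,2,1,0,2,1,0,1,3,2,1,5,3,2,1,5,2,1,0,2,1,0,1,3,2,1,5,3,2,1,2,4,1,0,2,1,3,2,3,4,3,5,1,2,3,2,6,1,0,2,3,2,1,0,4,3,2,1,0,3,5],
   [4,2,3,2,4,2,1,0,5,1,0,1,2,3,4,1,0,5,1,2,1,0,1,3,2,1,5,3,2,0,2,1,0,1,3,2,1,5,3,2,1,2,4,1,0,5,1,2,1,3,2,3,4,3,2,1,0,3,6,1,0,2,1,3,2,1,4,3,2,1,6,5],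
   [4,2,3,2,4,3,2,1,0,2,1,0,1,3,2,1,5,3,2,1,5,1,0,5,1,0,1,3,2,4,2,3,2,4,3,2,1,0,2,1,0,1,3,2,1,5,3,2,1,5,1,0,5,1,0,1,3,2,4,2,3,2,4,2,3,1,0,5,1,0,1,2,0,1,0,2,1,0,1,3,2,1,5,3,2,1,2,4,1,0,2,1,0,1,3,2,1,5,3,2,1,4,1,0,2,1,0,1,3,2,1,5,3,2,0,5,1,2,3,2,4,3,2,1,0,5,1,2,6,1,2,3,2,1,0,4,3,2,5,1],
   [4,2,3,2,4,3,2,1,0,2,1,0,1,3,2,1,5,3,2,1,5,1,0,5,1,0,1,3,2,3,2,1,0,2,1,0,1,3,2,1,5,3,2,1,5,1,0,5,1,0,1,3,2,4,2,3,1,0,5,1,0,1,2,3,4,1,0,2,1,0,1,3,2,1,5,3,2,0,2,1,0,1,3,2,1,5,3,2,0,5,1,2,1,0,1,3,2,1,5,3,2,0,5,2,1,3,2,4,3,2,1,5,1,2,6,1,0,1,2,3,2,4,3,2,1,6,5,1,0],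
   [4,2,3,2,4,2,3,2,0,1,0,2,1,0,1,3,2,1,5,3,2,0,2,1,0,1,3,2,1,5,3,2,1,4,1,0,2,1,0,1,3,2,1,5,3,2,1,3,4,1,0,2,1,3,2,4,3,5,1,0,1,6,1,0,1,2,1,3,2,4,3,5,1,2,3],
   [4,2,3,2,4,3,2,1,0,2,1,0,1,3,2,1,5,3,2,1,5,1,0,5,1,0,1,3,2,3,2,1,0,2,1,0,1,3,2,1,5,3,2,1,5,1,0,5,1,0,1,3,2,4,2,3,2,4,3,2,1,0,2,1,0,1,3,2,1,5,3,2,1,5,1,0,5,1,0,1,3,2,4,2,3,2,4,2,3,1,0,5,1,0,1,2,3,4,1,0,2,1,0,1,3,2,1,5,3,2,0,2,1,0,1,3,2,1,5,3,2,1,4,1,0,5,1,2,1,0,1,3,2,1,5,3,2,0,2,1,0,1,3,2,1,5,3,2,0,2,1,3,2,3,2,4,3,2,1,5,1,6,1,0,2,1,3,2,1,4,3,5,1,0,2,1,0,6]]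

def candWords_4 : List (List ℕ) :=
  [[3,2,1,0,2,1,0,1,3,2,1,5,3,2,1,5,1,0,5,1,0,1,3,2,4,2,3,2,4,2,3,2,3,2,1,0,2,1,0,1,3,2,1,5,3,2,1,5,2,1,0,2,1,0,1,3,2,1,5,3,2,1,4,1,0,2,1,0,1,3,2,1,5,3,2,0,5,1,0,1,2,1,0,1,2,3,2,1,4,3,2,3,2,1,0,6,1,0,2,1,3,2,1,4,3,2,3,6,5,1],
   [4,2,3,2,4,3,2,1,0,2,1,0,1,3,2,1,5,3,2,1,5,1,0,5,1,0,1,3,2,4,2,3,2,4,3,2,1,0,2,1,0,1,3,2,1,5,3,2,1,5,1,0,5,1,5,1,0,1,2,3,2,4,1,0,2,1,0,1,3,2,1,5,3,2,0,2,1,3,2,1,3,4,3,2,1,3,5,6,1,0,2,1,3,2,1,0,1,4,3,2,3,5,1,2],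
   [4,2,3,2,4,3,2,1,0,2,1,0,1,3,2,1,5,3,2,1,5,1,0,5,1,0,1,3,2,4,2,3,2,4,3,2,1,0,2,1,0,1,3,2,1,5,3,2,1,5,1,0,5,1,0,1,2,3,2,1,0,2,1,0,1,3,2,1,5,3,2,1,5,2,1,0,2,1,0,1,3,2,1,5,3,2,1,4,1,0,2,1,0,1,3,2,1,5,3,2,1,4,1,0,5,1,5,1,2,1,0,1,3,2,1,5,2,4,3,2,1,5,1,0,1,0,2,3,6,1,2,3,2,1,0,4,3,2,1,3,2,5,1],
   [4,2,1,0,5,1,0,1,2,3,2,1,0,2,1,0,1,3,2,1,5,3,2,1,5,2,3,4,1,0,5,1,2,1,0,1,3,2,1,5,3,2,0,5,1,5,1,0,2,3,2,1,4,3,2,1,0,3,6,1,2,3,2,1,0,5,1],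
   [4,2,3,2,4,3,2,1,0,2,1,0,1,3,2,1,5,3,2,1,5,1,0,5,1,0,1,3,2,4,2,3,2,4,2,1,0,5,1,0,1,2,3,2,4,1,0,2,1,0,1,3,2,1,5,3,2,0,5,1,5,2,3,2,1,4,3,6,1,2,3,2,1,0,4,3,2,3,6,1,5],
   [4,2,3,2,3,4,1,0,2,1,0,1,3,2,1,5,3,2,1,0,2,3,1,0,1,2,3,2,1,4,3,2,1,3,5,1,0,6,1,2,3,2,4,3,2,5,1,0,1],
   [4,2,3,2,4,3,2,1,0,2,1,0,1,3,2,1,5,3,2,1,5,1,0,5,1,0,1,3,2,3,2,1,0,2,1,0,1,3,2,1,5,3,2,1,5,1,0,5,1,0,1,3,2,4,2,3,2,4,3,2,1,0,2,1,0,1,3,2,1,5,3,2,1,5,1,0,5,1,0,1,3,2,4,2,3,1,0,5,1,2,1,0,1,3,2,1,5,3,2,1,4,3,1,0,2,1,0,1,3,2,1,5,3,2,1,2,1,0,2,1,0,1,3,2,1,5,2,4,3,2,1,0,5,1,2,6,1,2,3,2,1,0,4,3,2,1,5,1,2],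
   [4,2,3,2,4,3,2,1,0,2,1,0,1,3,2,1,5,3,2,1,5,1,0,5,1,0,1,3,2,4,2,3,2,4,3,2,1,0,2,1,0,1,3,2,1,5,3,2,1,5,1,0,5,1,0,1,3,2,4,2,3,2,4,3,2,1,0,2,1,0,1,3,2,1,5,3,2,1,5,2,3,4,1,0,5,1,0,1,2,3,2,1,0,2,1,0,1,3,2,1,5,3,2,0,2,1,3,2,1,3,4,3,5,1,0,2,3,4,6,1,2,3,2,1,4,3,2,1,0,3,6],
   [4,2,3,2,4,3,2,1,0,2,1,0,1,3,2,1,5,3,2,1,5,1,0,5,1,0,1,3,2,3,2,1,0,2,1,0,1,3,2,1,5,3,2,1,5,1,0,5,1,0,1,3,2,4,2,3,2,4,2,1,0,5,1,0,1,2,1,0,5,1,2,1,0,1,3,2,1,5,3,2,1,4,3,1,0,2,1,0,1,3,2,1,5,3,2,1,4,1,0,2,1,0,1,3,2,1,5,2,4,3,2,1,0,5,1,0,1,5,6,1,2,3,2,1,5,6],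
   [3,2,1,0,2,1,0,1,3,2,1,5,3,2,1,5,1,0,5,1,0,1,3,2,4,3,4,1,0,2,1,0,1,3,2,1,5,3,2,1,2,3,4,1,0,1,2,1,3,2,6,1,0,2,1,3,2,4,3,2,1,0,1,2,5,1],
   [3,2,1,0,2,1,0,1,3,2,1,5,3,2,1,5,1,0,5,1,0,1,3,2,4,2,1,0,5,1,5,1,0,1,2,3,2,1,0,2,1,0,1,3,2,1,5,3,2,1,5,2,1,0,2,1,0,1,3,2,1,5,3,2,1,0,4,1,0,2,1,0,1,3,2,1,5,3,2,0,5,1,5,2,3,2,4,3,2,1,0,1,2,5,1,6,1,0,2,1,3,2,4,3,5,1,2,6,1],
   [3,2,1,0,2,1,0,1,3,2,1,5,3,2,1,5,1,0,5,1,0,1,3,2,4,3,2,1,0,2,1,0,1,3,2,1,5,3,2,1,5,2,4,3,2,1,0,2,1,0,1,3,2,1,5,3,2,1,5,2,1,0,5,1,2,1,0,1,3,2,1,5,3,2,1,3,4,1,0,2,1,0,1,3,2,1,5,3,2,1,4,3,1,2,3,2,4,3,2,5,1,0,1,2,5,1,0,6,1,0,2,3,2,1,0,4,3,2,3,5,1,0,2,6],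
   [3,2,1,0,2,1,0,1,3,2,1,5,3,2,1,5,1,0,5,1,0,1,3,2,4,2,3,2,4,2,1,0,2,1,0,1,3,2,1,5,3,2,1,4,1,0,2,1,0,1,3,2,1,5,3,2,0,2,1,0,1,3,2,1,5,3,2,0,5,1,0,2,3,2,5,6,1,0,1,2,1,3,2,5,1],
   [3,2,1,0,2,1,0,1,3,2,1,5,3,2,1,5,1,0,5,1,0,1,3,2,4,2,1,0,5,1,0,1,2,0,1,0,2,1,0,1,3,2,1,5,3,2,0,2,1,0,1,3,2,1,5,3,2,1,4,1,2,3,2,1,0,4,3,2,1,0,3,5,6,1,2,3,2,1,0,4,3,2,1,0,1,0,3],
   [4,2,3,2,4,3,2,1,0,2,1,0,1,3,2,1,5,3,2,1,5,1,0,5,1,0,1,3,2,3,2,1,0,2,1,0,1,3,2,1,5,3,2,1,5,1,0,5,1,0,1,3,1,0,5,1,2,1,0,1,3,2,1,5,3,2,1,4,1,0,2,1,0,1,3,2,1,5,3,2,0,2,1,0,1,3,2,1,5,3,2,1,3,1,2,3,2,1,0,4,3,2,1,3,2,3,5,1,2,6,1,0,2,3,2,1,4,3,2,1,3,4,6],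
   [4,2,3,2,4,3,2,1,0,2,1,0,1,3,2,1,5,3,2,1,5,1,0,5,1,0,1,3,2,3,2,1,0,2,1,0,1,3,2,1,5,3,2,1,5,1,0,5,1,0,1,3,2,4,2,3,2,4,3,2,1,0,2,1,0,1,3,2,1,5,3,2,1,5,1,0,5,1,0,1,3,2,4,2,3,2,4,3,2,1,0,2,1,0,1,3,2,1,5,3,2,1,5,2,3,4,1,0,2,1,0,1,3,2,1,5,3,2,1,3,4,1,0,2,1,0,1,3,2,1,5,3,2,1,4,1,0,2,3,2,1,4,3,2,1,6,1,0,2,1,3,2,1,4,3,2,1,5,1,0],
   [4,2,3,2,4,3,2,1,0,2,1,0,1,3,2,1,5,3,2,1,5,1,0,5,1,0,1,3,2,4,2,3,2,3,2,1,0,2,1,0,1,3,2,1,5,3,2,1,5,2,4,3,2,1,0,2,1,0,1,3,2,1,5,3,2,1,5,2,1,0,2,1,0,1,3,2,1,5,3,2,1,4,1,0,2,1,0,1,3,2,1,5,3,2,0,2,1,0,1,3,2,1,5,3,2,0,5,1,2,1,0,1,3,2,1,5,2,1,4,3,2,1,0,1,0,3,2,1,3,6,1,0,2,1,3,2,1,0,6,1],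
   [4,2,3,2,4,3,2,1,0,2,1,0,1,3,2,1,5,3,2,1,5,1,0,5,1,0,1,3,2,3,2,1,0,2,1,0,1,3,2,1,5,3,2,1,5,1,0,5,1,0,1,3,2,4,2,1,0,5,1,5,1,0,1,2,3,1,0,5,1,2,1,0,1,3,2,1,5,2,1,4,3,2,3,4,5,1,0,1,2,6,1,2,3,2,1,0,4,3,2,1,5,1,2],
   [4,2,3,2,4,3,2,1,0,2,1,0,1,3,2,1,5,3,2,1,5,1,0,5,1,0,1,3,2,4,2,3,2,4,3,2,1,0,2,1,0,1,3,2,1,5,3,2,1,5,1,0,5,1,0,1,3,2,4,2,3,1,0,5,1,0,1,2,0,3,4,1,0,2,1,0,1,3,2,1,5,3,2,1,2,3,4,1,0,5,1,2,1,3,2,1,4,3,2,1,5,1,0,6,1,2,3,2,1,4,3,2,1,3,5,6,1,0],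
   [3,2,1,0,2,1,0,1,3,2,1,5,3,2,1,5,1,0,5,1,0,1,3,2,4,3,2,1,0,2,1,0,1,3,2,1,5,3,2,1,5,2,3,4,1,0,2,1,0,1,3,2,1,5,3,2,1,2,3,4,1,0,2,1,0,1,3,2,1,5,3,2,0,2,1,3,2,1,4,3,2,5,1,0,6,1,2,3,2,4,3,2,5,1,0,2,1],
   [4,2,3,2,4,3,2,1,0,2,1,0,1,3,2,1,5,3,2,1,5,1,0,5,1,0,1,3,2,3,2,1,0,2,1,0,1,3,2,1,5,3,2,1,5,1,0,5,1,0,1,3,2,4,2,3,1,0,5,1,0,1,2,1,0,2,1,0,1,3,2,1,5,3,2,0,2,1,0,1,3,2,1,5,3,2,1,4,3,2,3,1,0,1,2,3,6,1,0,2,1,3,2,4,3,2,6,1,5,1,0,1],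
   [4,2,3,2,4,3,2,1,0,2,1,0,1,3,2,1,5,3,2,1,5,1,0,5,1,0,1,3,2,3,2,1,0,2,1,0,1,3,2,1,5,3,2,1,5,1,0,5,1,0,1,3,2,4,2,3,2,4,3,2,1,0,2,1,0,1,3,2,1,5,3,2,1,5,1,0,5,1,0,1,3,2,4,2,1,0,5,1,0,1,2,3,2,1,0,2,1,0,1,3,2,1,5,3,2,1,5,2,1,0,2,1,0,1,3,2,1,5,3,2,1,4,1,0,2,1,0,1,3,2,1,5,3,2,1,4,3,1,0,5,1,0,1,2,1,0,5,1,2,1,3,2,3,4,3,2,5,1,2,3,2,4,3,6,1,0,2,3,2,1,4,3,5,6,1,0,2,1],
   [4,2,3,2,4,3,2,1,0,2,1,0,1,3,2,1,5,3,2,1,5,1,0,5,1,0,1,3,2,3,2,1,0,2,1,0,1,3,2,1,5,3,2,1,5,1,0,5,1,0,1,3,2,4,3,2,1,0,2,1,0,1,3,2,1,5,3,2,1,5,2,4,3,2,1,0,2,1,0,1,3,2,1,5,3,2,1,5,1,0,2,1,0,1,3,2,1,5,3,2,1,0,4,3,1,0,2,1,0,1,3,2,1,5,3,2,1,4,1,0,1,2,3,2,1,4,3,2,3,2,1,0,6,1,0,2,1,3,2,1,4,3,2,3,5,6],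
   [4,2,3,2,4,3,2,1,0,2,1,0,1,3,2,1,5,3,2,1,5,1,0,5,1,0,1,3,2,4,2,3,2,4,3,2,1,0,2,1,0,1,3,2,1,5,3,2,1,5,1,0,5,1,0,1,3,2,4,2,1,0,5,1,0,1,2,3,2,1,0,2,1,0,1,3,2,1,5,3,2,1,5,2,3,4,1,0,2,1,0,1,3,2,1,5,3,2,0,5,1,2,1,0,1,3,2,1,5,3,2,0,5,1,2,1,3,2,1,0,4,3,6,1,0,1,2,1,3,2,4,3,5,1,2,3],
   [4,2,3,2,4,3,2,1,0,2,1,0,1,3,2,1,5,3,2,1,5,1,0,5,1,0,1,3,2,4,2,3,2,4,3,2,1,0,2,1,0,1,3,2,1,5,3,2,1,5,1,0,5,1,0,1,3,2,4,2,3,1,0,5,1,0,1,2,3,2,1,0,2,1,0,1,3,2,1,5,3,2,1,5,2,0,2,1,0,2,1,0,1,3,2,1,5,3,2,1,4,1,0,2,1,0,1,3,2,1,5,3,2,1,3,1,2,3,2,1,0,1,4,3,2,5,1,0,1,5,6,1,0,2,1,3,2,4,3,2,6,1,5,1,0,1],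
   [4,2,3,2,4,3,2,1,0,2,1,0,1,3,2,1,5,3,2,1,5,1,0,5,1,0,1,3,2,4,2,3,2,4,2,3,2,3,2,1,0,2,1,0,1,3,2,1,5,3,2,1,5,2,3,2,4,5,1,0,5,1,2,1,3,2,1,5,1,6,1,2,3,2,4,3,2,1,0,6,1,5,6],
   [4,2,3,2,4,3,2,1,0,2,1,0,1,3,2,1,5,3,2,1,5,1,0,5,1,0,1,3,2,4,2,3,2,3,2,1,0,2,1,0,1,3,2,1,5,3,2,1,5,2,4,0,2,1,0,2,1,0,1,3,2,1,5,3,2,1,4,1,0,2,1,0,1,3,2,1,5,3,2,1,3,4,1,2,3,2,4,3,2,1,5,1,0,1,6,1,0,1,2,3,2,1,4,3,2,1,5,1,0],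
   [4,2,3,2,4,3,2,1,0,2,1,0,1,3,2,1,5,3,2,1,5,1,0,5,1,0,1,3,2,4,2,3,1,0,5,1,5,1,0,1,2,3,2,1,0,2,1,0,1,3,2,1,5,3,2,1,5,2,3,4,1,0,2,1,0,1,3,2,1,5,3,2,1,0,1,0,5,1,2,3,2,4,3,2,1,0,1,0,5,1,6,1,0,2,1,3,2,1,4,3,2,5,1,0],
   [4,2,3,2,4,3,2,1,0,2,1,0,1,3,2,1,5,3,2,1,5,1,0,5,1,0,1,3,2,4,2,3,2,1,0,5,1,2,1,0,1,3,2,1,5,3,2,1,4,1,0,2,1,0,1,3,2,1,5,3,2,0,2,1,0,1,3,2,1,5,3,2,0,2,1,3,2,4,3,2,1,0,5,1,0,1,6,1,0,2,1,3,2,4,3,2,1,0,1,2,5,1],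
   [3,2,1,0,2,1,0,1,3,2,1,5,3,2,1,5,1,0,5,1,0,1,3,2,1,0,2,1,0,1,3,2,1,5,3,2,1,0,4,1,0,2,1,0,1,3,2,1,5,3,2,1,4,1,0,2,1,0,1,3,2,1,5,3,2,0,5,1,0,2,3,2,1,4,3,2,1,0,1,0,2,6,1,2,3,2,1,4,3,2,1,3,2,5,1,2]]

def candWords_5 : List (List ℕ) :=
  [[4,2,3,2,4,3,2,1,0,2,1,0,1,3,2,1,5,3,2,1,5,1,0,5,1,0,1,3,2,4,2,3,2,4,3,2,1,0,2,1,0,1,3,2,1,5,3,2,1,5,1,0,5,1,0,1,3,2,4,2,3,2,4,2,3,2,3,2,1,0,2,1,0,1,3,2,1,5,3,2,1,5,2,1,0,2,1,0,1,3,2,1,5,3,2,1,4,1,0,2,1,0,1,3,2,1,5,3,2,1,3,1,0,5,1,2,3,2,4,3,2,1,0,1,5,1,2,6,1,0,2,3,2,1,4,3,5,6,1,0,2],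
   [4,2,3,2,4,3,2,1,0,2,1,0,1,3,2,1,5,3,2,1,5,1,0,5,1,0,1,3,2,3,2,1,0,2,1,0,1,3,2,1,5,3,2,1,5,1,0,5,1,0,1,2,3,2,1,0,2,1,0,1,3,2,1,5,3,2,1,5,2,0,2,1,0,2,1,0,1,3,2,1,5,3,2,1,4,3,1,0,2,1,0,1,3,2,1,5,3,2,1,4,1,0,2,1,0,1,3,2,1,5,3,2,0,2,1,3,2,1,4,3,5,1,0,2,6,1,2,3,2,1,4,3,2,1,3,2,5,1],
   [3,2,1,0,2,1,0,1,3,2,1,5,3,2,1,5,1,0,5,1,0,1,3,2,4,2,3,2,4,2,1,0,5,1,0,1,2,0,1,0,2,1,0,1,3,2,1,5,3,2,0,2,1,0,1,3,2,1,5,3,2,1,4,1,0,2,1,0,1,3,2,1,5,3,2,1,3,1,0,5,1,0,2,3,2,1,4,3,2,5,1,0,1,6,1,0,2,1,3,2,1,4,3,5,1,0,2,1,0,6],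
   [4,2,3,2,4,3,2,1,0,2,1,0,1,3,2,1,5,3,2,1,5,1,0,5,1,0,1,3,2,3,2,1,0,2,1,0,1,3,2,1,5,3,2,1,5,1,0,5,1,0,1,3,2,4,0,3,2,4,3,1,0,2,1,0,1,3,2,1,5,3,2,0,2,1,0,1,3,2,1,5,3,2,1,4,1,0,2,3,2,1,0,4,3,2,5,1,0,2,6,1,2,3,2,1,4,3,2,1,3,4,5,6,1,2],
   [4,2,3,2,4,3,2,1,0,2,1,0,1,3,2,1,5,3,2,1,5,1,0,5,1,0,1,2,0,1,0,2,1,0,1,3,2,1,5,3,2,1,4,1,0,2,1,0,1,3,2,1,5,3,2,1,4,1,0,2,1,0,1,3,2,1,5,3,2,1,3,1,0,5,1,0,2,3,2,1,0,4,3,2,5,1,0,6,1,0,2,1,3,2,4,3,2,1,6,5,1,0,2,3],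
   [4,2,3,2,4,3,2,1,0,2,1,0,1,3,2,1,5,3,2,1,5,1,0,5,1,0,1,3,2,4,2,3,2,4,3,2,1,0,2,1,0,1,3,2,1,5,3,2,1,5,1,0,5,1,0,1,3,2,4,1,0,2,1,0,1,3,2,1,5,3,2,1,4,1,0,2,1,0,1,3,2,1,5,3,2,1,3,4,1,0,2,1,0,1,3,2,1,5,3,2,1,2,1,0,5,1,0,2,3,2,1,0,4,3,2,3,5,1,0,1,2,1],
   [4,2,3,2,4,3,2,1,0,2,1,0,1,3,2,1,5,3,2,1,5,1,0,5,1,0,1,3,2,4,2,3,2,4,3,2,1,0,2,1,0,1,3,2,1,5,3,2,1,5,1,0,5,1,0,1,3,2,4,3,2,1,0,2,1,0,1,3,2,1,5,3,2,1,5,2,3,2,4,1,0,5,1,2,1,0,1,3,2,1,5,3,2,1,3,4,3,1,0,2,1,3,2,1,3,4,3,2,3,4,5,1,6,1,0,2,1,3,2,4,3,5,1,2,3,4,6,5],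
   [4,2,3,2,4,3,2,1,0,2,1,0,1,3,2,1,5,3,2,1,5,1,0,5,1,0,1,3,2,4,2,3,2,4,3,2,1,0,2,1,0,1,3,2,1,5,3,2,1,5,1,0,5,1,0,1,3,2,4,2,1,0,5,1,0,1,2,3,2,1,0,2,1,0,1,3,2,1,5,3,2,1,5,2,4,3,4,1,0,2,1,0,1,3,2,1,5,3,2,0,2,1,0,1,3,2,1,5,3,2,0,5,1,2,1,0,1,3,2,1,5,3,2,0,5,1,2,1,3,2,4,3,2,5,1,0,1,2,5,6,1,0,2,1,3,2,1,3,4,3,2,5],
   [4,2,3,2,4,3,2,1,0,2,1,0,1,3,2,1,5,3,2,1,5,1,0,5,1,0,1,3,2,3,2,1,0,2,1,0,1,3,2,1,5,3,2,1,5,1,0,5,1,0,1,3,2,4,2,3,2,4,3,2,1,0,2,1,0,1,3,2,1,5,3,2,1,5,1,0,5,1,0,1,3,2,4,2,1,0,5,1,5,1,0,1,2,3,4,1,0,5,1,0,1,2,1,0,2,1,0,1,3,2,1,5,3,2,0,5,1,5,1,2,1,3,2,1,3,5,1,0,6,1,2,3,2,4,3,2,1,5,1,0,2,1],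
   [4,2,3,2,4,3,2,1,0,2,1,0,1,3,2,1,5,3,2,1,5,1,0,5,1,5,1,2,1,0,1,3,2,1,5,3,2,1,4,3,1,0,2,1,0,1,3,2,1,5,3,2,0,2,1,0,1,3,2,1,5,3,2,0,2,1,3,2,1,5,6,1,0,2,1,3,2,1,4,3,5,1,0,2,1,0,6],
   [4,2,3,2,4,3,2,1,0,2,1,0,1,3,2,1,5,3,2,1,5,1,0,5,1,0,1,2,0,3,4,1,0,5,1,2,1,0,1,3,2,1,5,3,2,1,2,3,4,1,0,1,2,1,3,2,4,3,5,1,2,3,4,6,1,2,3,2,1,0,4,3,2,1,3,5,6],
   [4,2,3,2,4,3,2,1,0,2,1,0,1,3,2,1,5,3,2,1,5,1,0,5,1,0,1,3,2,4,2,3,2,4,3,2,1,0,2,1,0,1,3,2,1,5,3,2,1,5,1,0,5,1,0,1,3,2,4,2,3,1,0,5,1,0,1,2,3,2,1,0,2,1,0,1,3,2,1,5,3,2,1,5,2,4,1,0,2,1,0,1,3,2,1,5,3,2,1,0,1,0,2,1,0,1,3,2,1,5,3,2,1,4,1,0,2,1,0,1,3,2,1,5,3,2,0,5,1,2,3,2,1,0,6,1,0,2,1,3,2,3,4,3,2,1,0,1,5],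
   [4,2,3,2,4,3,2,1,0,2,1,0,1,3,2,1,5,3,2,1,5,1,0,5,1,0,1,3,2,4,2,3,2,4,2,1,0,5,1,0,1,2,1,0,5,1,2,1,0,1,3,2,1,5,3,2,1,3,4,1,0,2,1,0,1,3,2,1,5,3,2,1,4,3,1,0,2,1,3,2,4,3,2,5,1,0,1,2,5,1,6,1,0,2,1,3,2,1,4,3,2,3],
   [4,2,3,2,4,3,2,1,0,2,1,0,1,3,2,1,5,3,2,1,5,1,0,5,1,0,1,3,2,3,2,1,0,2,1,0,1,3,2,1,5,3,2,1,5,1,0,5,1,0,1,3,2,4,2,1,0,5,1,5,1,0,1,2,3,2,1,0,2,1,0,1,3,2,1,5,3,2,1,5,2,0,2,1,0,2,1,0,1,3,2,1,5,3,2,1,4,1,0,2,1,0,1,3,2,1,5,3,2,0,5,1,5,1,0,2,3,2,1,0,4,3,2,1,3,5,1,0,1,6,1,0,2,1,3,2,4,5],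
   [4,2,3,2,4,3,2,1,0,2,1,0,1,3,2,1,5,3,2,1,5,1,0,5,1,5,1,0,1,2,3,4,5,1,0,2,1,0,1,3,2,1,5,3,2,1,3,4,1,0,2,1,0,1,3,2,1,5,3,2,0,1,2,3,2,4,3,2,1,0,6,1,0,2,3,2,1,4,5,6,1],
   [4,2,3,2,4,3,2,1,0,2,1,0,1,3,2,1,5,3,2,1,5,1,0,5,1,0,1,3,2,3,2,1,0,2,1,0,1,3,2,1,5,3,2,1,5,1,0,5,1,0,1,3,2,4,2,3,2,4,3,2,1,0,2,1,0,1,3,2,1,5,3,2,1,5,1,0,5,1,0,1,3,2,4,2,3,2,3,2,1,0,2,1,0,1,3,2,1,5,3,2,1,5,2,3,2,4,3,1,0,2,1,0,1,3,2,1,5,3,2,0,2,1,0,1,3,2,1,5,3,2,1,4,1,0,2,1,0,1,3,2,1,5,2,1,0,5,1,2,6,1,2,3,2,1,4,3,2,1,5,6,1,0,1],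
   [4,2,3,1,0,5,1,0,1,2,3,2,1,0,2,1,0,1,3,2,1,5,3,2,1,5,2,4,3,4,5,1,0,5,1,2,1,0,1,3,2,1,5,3,2,1,3,2,4,1,0,2,1,3,2,1,3,4,3,2,5,1,2,3,6,1,0,1,2,1,3,2,1,4,3,2,1,5,1,0,2],
   [4,2,3,2,4,3,2,1,0,2,1,0,1,3,2,1,5,3,2,1,5,1,0,5,1,0,1,3,2,4,3,2,1,0,2,1,0,1,3,2,1,5,3,2,1,5,2,1,0,2,1,0,1,3,2,1,5,3,2,1,4,1,0,2,1,0,1,3,2,1,5,3,2,1,4,1,0,5,1,5,1,2,1,0,1,3,2,1,5,3,2,1,3,1,0,1,2,3,2,1,4,3,2,1,3,2,1,6,1,0,2,1,3,2,1,0,6,1],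
   [4,2,3,2,4,3,2,1,0,2,1,0,1,3,2,1,5,3,2,1,5,1,0,5,1,0,1,3,2,3,2,1,0,2,1,0,1,3,2,1,5,3,2,1,5,1,0,5,1,0,1,3,2,4,2,3,1,0,5,1,0,1,2,3,2,1,0,2,1,0,1,3,2,1,5,3,2,1,5,2,1,0,2,1,0,1,3,2,1,5,3,2,1,2,4,1,0,2,1,0,1,3,2,1,5,3,2,1,4,1,0,5,1,5,1,2,1,0,1,3,2,1,5,2,4,3,2,5,1,0,6,1,0,1,2,1,3,2,1,4,3,2,5,1],
   [4,2,3,2,4,3,2,1,0,2,1,0,1,3,2,1,5,3,2,1,5,1,0,5,1,0,1,3,2,4,2,3,2,4,3,2,1,0,2,1,0,1,3,2,1,5,3,2,1,5,1,0,5,1,0,1,3,2,4,2,1,0,5,1,5,1,0,1,2,3,2,1,0,2,1,0,1,3,2,1,5,3,2,1,5,2,3,4,1,0,2,1,0,1,3,2,1,5,3,2,1,3,1,0,2,3,2,1,4,3,2,1,5,1,6,1,0,2,1,3,2,1,4,3,2,1,5,1,0],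
   [3,2,1,0,2,1,0,1,3,2,1,5,3,2,1,5,1,0,5,1,0,1,3,2,4,2,3,2,3,2,1,0,2,1,0,1,3,2,1,5,3,2,1,5,2,4,3,2,1,0,2,1,0,1,3,2,1,5,3,2,1,5,2,0,1,0,2,1,0,1,3,2,1,5,3,2,1,2,4,1,0,2,1,0,1,3,2,1,5,3,2,0,5,1,5,2,1,3,2,1,4,3,2,5,1,0,2,6,1,2,3,2,1,4,3,2,1,3,5,6,1,0],
   [4,2,3,1,0,5,1,5,1,0,1,2,3,2,1,0,2,1,0,1,3,2,1,5,3,2,1,5,2,3,4,1,0,2,1,0,1,3,2,1,5,3,2,0,5,1,0,1,2,1,0,2,1,3,2,4,3,2,1,0,1,5,1,6,1,0,2,1,3,2,3,2,4,3,2,1,0,5],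
   [4,2,3,2,4,3,2,1,0,2,1,0,1,3,2,1,5,3,2,1,5,1,0,5,1,0,1,3,2,4,2,3,2,4,3,2,1,0,2,1,0,1,3,2,1,5,3,2,1,5,1,0,5,1,0,1,3,2,4,2,3,1,0,5,1,5,1,0,1,2,3,2,1,0,2,1,0,1,3,2,1,5,3,2,1,5,2,5,1,0,5,1,2,1,0,1,3,2,1,5,2,1,4,3,2,1,0,1,2,5,6,1,0,2,1,3,2,4,3,2,6,1,0,5,1,0],
   [3,2,1,0,2,1,0,1,3,2,1,5,3,2,1,5,1,0,5,1,0,1,3,2,3,2,1,0,2,1,0,1,3,2,1,5,3,2,1,5,2,0,3,2,4,3,2,1,0,5,1,0,2,3,2,1,0,1,4,3,2,5,1,0,6,1,0,2,1,3,2,4,3,2,5,1,0,2,1,6,1],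
   [4,2,3,2,4,3,2,1,0,2,1,0,1,3,2,1,5,3,2,1,5,1,0,5,1,0,1,3,2,3,2,1,0,2,1,0,1,3,2,1,5,3,2,1,5,1,0,5,1,0,1,3,2,4,2,3,2,3,2,1,0,2,1,0,1,3,2,1,5,3,2,1,5,2,4,3,2,1,0,2,1,0,1,3,2,1,5,3,2,1,5,2,0,3,4,1,0,5,1,2,1,0,1,3,2,1,5,3,2,1,3,4,1,0,2,1,0,1,3,2,1,5,3,2,0,2,1,3,2,3,4,3,2,1,0,5,6,1,2,3,2,1,4,3,2,1,3,2,4,5,6,1,2],
   [4,2,3,2,4,3,2,1,0,2,1,0,1,3,2,1,5,3,2,1,5,1,0,5,1,0,1,3,2,3,2,1,0,2,1,0,1,3,2,1,5,3,2,1,5,1,0,5,1,0,1,3,2,4,2,3,2,4,3,2,1,0,2,1,0,1,3,2,1,5,3,2,1,5,1,0,5,1,0,1,3,2,4,2,1,0,5,1,5,1,0,1,2,3,2,1,0,2,1,0,1,3,2,1,5,3,2,1,5,2,3,4,1,0,2,1,0,1,3,2,1,5,3,2,1,3,2,1,0,2,1,0,1,3,2,1,5,3,2,0,5,1,2,3,2,1,0,4,5,1,2,3,2,1,0,6,1,2,3,2,1,4,3,2,1,6,1],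
   [4,2,3,2,4,3,2,1,0,2,1,0,1,3,2,1,5,3,2,1,5,1,0,5,1,0,1,3,2,4,2,3,2,4,3,2,1,0,2,1,0,1,3,2,1,5,3,2,1,5,1,0,5,1,0,1,3,2,4,2,3,2,3,2,1,0,2,1,0,1,3,2,1,5,3,2,1,5,2,4,3,2,1,0,2,1,0,1,3,2,1,5,3,2,1,5,2,0,1,0,2,1,0,1,3,2,1,5,3,2,0,2,1,0,1,3,2,1,5,3,2,1,4,1,0,2,1,0,1,3,2,1,5,3,2,1,3,1,0,2,3,2,1,0,4,6,1,2,3,2,1,4,3,2,1,0,3,6],
   [3,2,1,0,2,1,0,1,3,2,1,5,3,2,1,5,1,0,5,1,0,1,3,2,4,2,1,0,5,1,5,1,0,1,2,3,2,1,0,2,1,0,1,3,2,1,5,3,2,1,5,2,1,0,2,1,0,1,3,2,1,5,3,2,0,2,1,0,1,3,2,1,5,3,2,1,4,1,0,5,1,2,1,0,1,3,2,1,5,3,2,1,4,1,0,2,3,2,1,4,3,2,1,5,1,0,6,1,0,2,1,3,2,1,0,4,3,2,1,0],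
   [4,2,3,2,4,3,2,1,0,2,1,0,1,3,2,1,5,3,2,1,5,1,0,5,1,0,1,3,2,3,2,1,0,2,1,0,1,3,2,1,5,3,2,1,5,1,0,5,1,0,1,3,2,4,2,1,0,5,1,5,1,0,1,2,0,2,1,0,2,1,0,1,3,2,1,5,3,2,1,4,1,0,2,1,0,1,3,2,1,5,3,2,1,4,1,0,5,1,2,1,3,2,1,3,4,3,2,1,3,4,6,1,0,2,1,3,2,1,3,4,3,2,5,1,6,1,0],
   [4,2,3,2,4,3,2,1,0,2,1,0,1,3,2,1,5,3,2,1,5,1,0,5,1,0,1,3,2,4,2,3,1,0,5,1,0,1,2,3,2,4,3,1,0,2,1,0,1,3,2,1,5,3,2,0,2,1,0,1,3,2,1,5,3,2,1,4,1,0,2,3,2,4,3,2,6,1,2,3,2,1,4,3,2,1,3,2,4,5,6,1,2]]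

def candWords_6 : List (List ℕ) :=
  [[4,2,3,2,4,3,2,1,0,2,1,0,1,3,2,1,5,3,2,1,5,1,0,5,1,0,1,3,2,3,2,1,0,2,1,0,1,3,2,1,5,3,2,1,5,1,0,5,1,0,1,3,2,4,2,3,2,4,3,2,1,0,2,1,0,1,3,2,1,5,3,2,1,5,1,0,5,1,0,1,3,2,4,3,2,1,0,2,1,0,1,3,2,1,5,3,2,1,5,2,4,3,4,1,0,5,1,2,1,0,1,3,2,1,5,3,2,1,4,1,0,2,1,0,1,3,2,1,5,3,2,1,4,1,0,2,3,2,1,4,3,2,3,5,1,2,6,1,0,2,3,2,4,3,2,1,0,6,1,0],
   [4,2,3,2,4,3,2,1,0,2,1,0,1,3,2,1,5,3,2,1,5,1,0,5,1,0,1,3,2,3,2,1,0,2,1,0,1,3,2,1,5,3,2,1,5,1,0,5,1,0,1,3,2,4,2,3,1,0,5,1,0,1,2,3,2,1,0,2,1,0,1,3,2,1,5,3,2,1,5,2,1,0,2,1,0,1,3,2,1,5,3,2,0,2,1,0,1,3,2,1,5,3,2,1,4,1,0,2,1,3,2,1,4,3,2,5,1,0,6,1,2,3,2,4,3,2,1,6],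
   [3,2,1,0,2,1,0,1,3,2,1,5,3,2,1,5,1,0,5,1,0,1,3,2,4,2,3,2,4,2,3,1,0,5,1,0,1,2,3,2,4,1,0,1,2,3,2,1,4,3,2,5,1,6,1,0,2,3,2,1,4,3,2,5,1,6,1,0,2],
   [4,2,1,0,5,1,0,1,2,3,2,1,0,2,1,0,1,3,2,1,5,3,2,1,5,2,3,2,4,3,1,0,2,1,0,1,3,2,1,5,3,2,0,2,1,0,1,3,2,1,5,3,2,1,2,1,2,3,2,1,4,3,5,6,1,0,2,1,3,2,3,4,3,2,5,1,0,2,1],
   [4,2,3,2,4,3,2,1,0,2,1,0,1,3,2,1,5,3,2,1,5,1,0,5,1,0,1,3,2,4,2,3,2,4,3,2,1,0,2,1,0,1,3,2,1,5,3,2,1,5,2,0,1,0,2,1,0,1,3,2,1,5,3,2,0,2,1,0,1,3,2,1,5,3,2,1,4,3,1,0,2,3,2,1,4,3,2,1,0,5,1,0,1,2,6,1,2,3,2,1,4,3,2,1,5,6,1,0,1],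
   [4,2,3,2,4,3,2,1,0,2,1,0,1,3,2,1,5,3,2,1,5,1,0,5,1,0,1,3,2,4,2,3,2,4,3,2,1,0,2,1,0,1,3,2,1,5,3,2,1,5,1,0,5,1,0,1,3,2,4,2,3,2,3,2,1,0,2,1,0,1,3,2,1,5,3,2,1,5,2,3,2,4,1,0,2,1,0,1,3,2,1,5,3,2,0,2,1,0,1,3,2,1,5,3,2,1,4,3,2,1,2,3,2,4,3,2,1,5,1,0,1,2,5,6,1,2,3,2,1,5,6,1,2],
   [4,2,3,2,4,3,2,1,0,2,1,0,1,3,2,1,5,3,2,1,5,1,0,5,1,0,1,3,2,3,2,1,0,2,1,0,1,3,2,1,5,3,2,1,5,1,0,5,1,0,1,3,2,4,2,1,0,5,1,0,1,2,3,2,1,0,2,1,0,1,3,2,1,5,3,2,1,5,2,0,3,4,1,0,2,1,0,1,3,2,1,5,3,2,1,3,4,1,0,2,1,3,2,1,4,3,2,3,5,1,0,1,6,1,2,3,2,1,4,3,2,1,3,5,6,1,2,5],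
   [4,2,3,2,4,3,2,1,0,2,1,0,1,3,2,1,5,3,2,1,5,1,0,5,1,0,1,3,2,4,2,3,2,4,3,2,1,0,2,1,0,1,3,2,1,5,3,2,1,5,1,0,5,1,0,1,3,2,4,2,3,2,4,2,3,2,3,2,1,0,2,1,0,1,3,2,1,5,3,2,1,5,2,3,4,1,0,2,1,0,1,3,2,1,5,3,2,1,2,1,0,5,1,0,2,3,2,1,4,3,5,6,1,2,3,2,1,4,3,2,1,5,1,2],
   [4,2,3,2,4,3,2,1,0,2,1,0,1,3,2,1,5,3,2,1,5,1,0,5,1,0,1,3,2,3,2,1,0,2,1,0,1,3,2,1,5,3,2,1,5,1,0,5,1,0,1,3,2,4,2,3,2,4,3,2,1,0,2,1,0,1,3,2,1,5,3,2,1,5,1,0,5,1,0,1,3,2,4,2,3,2,4,2,3,2,0,3,4,1,0,5,1,2,1,0,1,3,2,1,5,3,2,1,2,1,0,2,1,0,1,3,2,1,5,3,2,0,2,1,3,2,4,3,5,1,0,1,2,1,6,1,0,1,2,3,2,4,3,2,1,0,1,2,5,1],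
   [4,2,3,2,4,3,2,1,0,2,1,0,1,3,2,1,5,3,2,1,5,1,0,5,1,0,1,3,2,4,3,4,1,0,5,1,0,1,2,1,0,2,1,0,1,3,2,1,5,3,2,0,5,1,2,3,2,1,0,4,3,2,1,0,5,6,1,2,3,2,1,4,3,2,5],
   [4,2,3,2,4,3,2,1,0,2,1,0,1,3,2,1,5,3,2,1,5,1,0,5,1,0,1,3,2,3,2,1,0,2,1,0,1,3,2,1,5,3,2,1,5,1,0,5,1,0,1,3,2,4,2,3,2,4,3,2,1,0,2,1,0,1,3,2,1,5,3,2,1,5,1,0,5,1,0,1,3,2,4,2,3,2,4,0,3,4,1,0,5,1,2,1,0,1,3,2,1,5,3,2,1,3,1,2,3,2,4,3,2,1,0,5,1,2,6,1,2,3,2,1,4,3,2,1,3,2,5,1],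
   [4,2,3,2,4,3,2,1,0,2,1,0,1,3,2,1,5,3,2,1,5,1,0,5,1,0,1,3,2,4,2,3,2,4,3,2,1,0,2,1,0,1,3,2,1,5,3,2,1,5,1,0,5,1,0,1,3,2,4,2,3,2,4,3,2,1,0,2,1,0,1,3,2,1,5,3,2,1,5,2,1,0,2,1,0,1,3,2,1,5,3,2,1,0,4,1,0,2,1,0,1,3,2,1,5,3,2,0,5,1,2,1,0,1,3,2,1,5,2,1,4,3,2,1,5,1,0,1,6,1,0,2,1,3,2,1,4,3,2,1,5,1,0],
   [3,2,1,0,2,1,0,1,3,2,1,5,3,2,1,5,1,0,5,1,0,1,3,2,4,2,3,1,0,5,1,0,1,2,3,2,1,0,2,1,0,1,3,2,1,5,3,2,1,5,2,0,1,0,5,1,2,1,0,1,3,2,1,5,3,2,1,4,1,0,2,1,0,1,3,2,1,5,3,2,0,5,1,0,2,3,2,1,4,3,2,1,5,6,1,0,2,3,2,1,4,3,6,5,1],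
   [4,2,3,2,4,3,2,1,0,2,1,0,1,3,2,1,5,3,2,1,5,1,0,5,1,0,1,3,2,3,2,1,0,2,1,0,1,3,2,1,5,3,2,1,5,1,0,5,1,0,1,3,2,4,2,3,2,4,3,2,1,0,2,1,0,1,3,2,1,5,3,2,1,5,1,0,5,1,0,1,3,2,4,2,3,2,4,2,3,2,3,2,1,0,2,1,0,1,3,2,1,5,3,2,1,5,2,3,1,0,2,1,0,1,3,2,1,5,3,2,1,0,1,0,2,1,3,2,3,4,3,2,1,3,2,3,6,1,0,2,1,3,2,4,3,5,1,2,3,4,6,5],
   [4,2,3,2,4,3,2,1,0,2,1,0,1,3,2,1,5,3,2,1,5,1,0,5,1,0,1,3,2,3,2,1,0,2,1,0,1,3,2,1,5,3,2,1,5,1,0,5,1,0,1,3,2,4,2,1,0,5,1,5,1,0,1,2,1,0,2,1,0,1,3,2,1,5,3,2,1,4,1,0,2,1,0,1,3,2,1,5,3,2,1,4,1,0,5,1,5,1,2,1,0,1,3,2,1,5,3,2,1,2,1,0,2,3,2,1,4,3,2,1,0,5,1,0,1,6,1,0,1,2,3,2,4,3,2,1,0,1,2,5,1],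
   [4,2,3,2,4,3,2,1,0,2,1,0,1,3,2,1,5,3,2,1,5,1,0,5,1,0,1,3,2,4,2,3,2,4,3,2,1,0,2,1,0,1,3,2,1,5,3,2,1,5,1,0,5,1,0,1,3,2,4,2,1,0,5,1,0,1,2,3,2,4,1,0,2,1,0,1,3,2,1,5,3,2,1,2,3,4,1,0,2,1,3,2,3,4,3,2,3,5,1,6,1,2,3,2,1,0,4,3,2,5,1],
   [4,2,3,2,4,3,2,1,0,2,1,0,1,3,2,1,5,3,2,1,5,1,0,5,1,0,1,3,2,3,2,1,0,2,1,0,1,3,2,1,5,3,2,1,5,1,0,5,1,0,1,3,2,4,2,3,2,4,3,2,1,0,2,1,0,1,3,2,1,5,3,2,1,5,1,0,5,1,0,1,3,2,4,2,1,0,5,1,5,1,0,1,2,3,2,1,0,2,1,0,1,3,2,1,5,3,2,1,5,2,0,3,5,1,2,3,2,1,0,1,4,3,2,5,1,0,1,2,6,1,2,3,2,1,5,6],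
   [4,2,3,2,4,3,2,1,0,2,1,0,1,3,2,1,5,3,2,1,5,1,0,5,1,0,1,3,2,3,2,1,0,2,1,0,1,3,2,1,5,3,2,1,5,1,0,5,1,0,1,3,2,4,2,3,2,4,3,2,1,0,2,1,0,1,3,2,1,5,3,2,1,5,1,0,5,1,0,1,3,2,4,2,3,2,4,2,3,1,0,5,1,0,1,2,1,0,2,1,0,1,3,2,1,5,3,2,1,4,1,0,2,1,0,1,3,2,1,5,3,2,1,4,1,0,5,1,5,1,2,1,0,1,3,2,1,5,3,2,1,2,1,2,3,2,4,3,2,1,5,1,2,6,1,2,3,2,1,5,1],
   [4,2,3,2,4,3,2,1,0,2,1,0,1,3,2,1,5,3,2,1,5,1,0,5,1,0,1,3,2,3,2,1,0,2,1,0,1,3,2,1,5,3,2,1,5,1,0,5,1,0,1,3,2,4,2,3,2,4,3,2,1,0,2,1,0,1,3,2,1,5,3,2,1,5,1,0,5,1,0,1,3,2,4,2,3,2,3,2,1,0,2,1,0,1,3,2,1,5,3,2,1,5,1,0,2,1,0,1,3,2,1,5,3,2,1,4,3,1,0,2,1,0,1,3,2,1,5,3,2,1,4,1,0,2,1,0,1,3,2,1,5,3,2,0,2,1,0,1,3,2,1,5,2,1,4,3,2,5,1,6,1,2,3,2,4,3,2,5,1,0,1,5],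
   [4,2,3,2,4,3,2,1,0,2,1,0,1,3,2,1,5,3,2,1,5,1,0,5,1,0,1,3,2,4,2,3,2,4,3,2,1,0,2,1,0,1,3,2,1,5,3,2,1,5,1,0,5,1,0,1,3,2,4,2,3,1,0,5,1,0,1,2,3,2,1,0,2,1,0,1,3,2,1,5,3,2,1,5,2,4,3,1,0,2,1,0,1,3,2,1,5,3,2,0,2,1,0,1,3,2,1,5,3,2,1,4,3,2,1,0,2,1,0,1,3,2,1,5,3,2,0,2,1,3,2,1,3,4,3,2,3,5,1,6,1,2,3,2,1,0,4,3,2,6,1,0],
   [4,2,3,2,4,3,2,1,0,2,1,0,1,3,2,1,5,3,2,1,5,1,0,5,1,0,1,3,2,3,2,1,0,2,1,0,1,3,2,1,5,3,2,1,5,1,0,5,1,0,1,3,2,4,2,3,2,4,3,2,1,0,2,1,0,1,3,2,1,5,3,2,1,5,1,0,5,1,0,1,3,2,4,1,0,2,1,0,1,3,2,1,5,3,2,1,2,4,1,0,2,1,0,1,3,2,1,5,3,2,1,4,3,1,0,2,1,3,2,4,3,2,1,0,5,1,0,6,1,0,1,2,1,3,2,4,3,2,5],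
   [3,2,1,0,2,1,0,1,3,2,1,5,3,2,1,5,1,0,5,1,0,1,3,2,4,2,1,0,5,1,0,1,2,3,2,1,0,2,1,0,1,3,2,1,5,3,2,1,5,2,4,1,0,5,1,2,1,0,1,3,2,1,5,3,2,1,3,4,1,0,2,1,0,1,3,2,1,5,3,2,0,5,1,2,1,3,2,3,2,4,3,2,1,5,1,0,1,0,6,1,2,3,2,1,6,5,1,2,3],
   [4,2,3,2,4,3,2,1,0,2,1,0,1,3,2,1,5,3,2,1,5,1,0,5,1,0,1,3,2,3,2,1,0,2,1,0,1,3,2,1,5,3,2,1,5,1,0,5,1,0,1,3,2,4,2,1,0,5,1,0,1,2,0,1,0,2,1,0,1,3,2,1,5,3,2,1,4,1,0,2,1,0,1,3,2,1,5,3,2,1,4,3,1,0,5,1,0,1,2,1,0,5,2,1,3,2,4,5,1,0,6,1,0,2,3,2,1,4,3,5,6,1,0,2],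
   [4,2,3,2,4,3,2,1,0,2,1,0,1,3,2,1,5,3,2,1,5,1,0,5,1,0,1,3,2,3,2,1,0,2,1,0,1,3,2,1,5,3,2,1,5,1,0,5,1,0,1,3,2,4,2,3,2,4,3,2,1,0,2,1,0,1,3,2,1,5,3,2,1,5,1,0,5,1,0,1,3,2,4,2,3,2,4,3,2,1,0,2,1,0,1,3,2,1,5,3,2,1,5,2,1,0,2,1,0,1,3,2,1,5,3,2,1,4,1,0,2,1,0,1,3,2,1,5,3,2,1,2,4,3,1,0,5,2,3,4,6,1,2,3,2,1,4,3,2,1,3,5,6,1,0],
   [3,2,1,0,2,1,0,1,3,2,1,5,3,2,1,5,1,0,5,1,0,1,3,1,0,5,1,2,1,0,1,3,2,1,5,3,2,1,0,4,1,0,2,1,0,1,3,2,1,5,3,2,0,2,1,0,1,3,2,1,5,3,2,0,2,1,3,2,4,3,2,5,1,0,1,0,6,1,0,1,2,3,2,1,4,3,2,1,0,1,5,6],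
   [2,3,2,0,1,0,2,1,0,1,3,2,1,5,3,2,1,2,4,1,0,2,1,0,1,3,2,1,5,3,2,1,4,3,1,0,2,1,0,1,3,2,1,5,3,2,0,5,1,2,1,3,2,1,4,3,2,1,3,5,1,2],
   [4,2,3,2,4,3,2,1,0,2,1,0,1,3,2,1,5,3,2,1,5,1,0,5,1,0,1,3,2,3,2,1,0,2,1,0,1,3,2,1,5,3,2,1,5,1,0,5,1,0,1,3,2,4,2,3,2,4,3,2,1,0,2,1,0,1,3,2,1,5,3,2,1,5,1,0,5,1,0,1,3,2,4,3,2,1,0,2,1,0,1,3,2,1,5,3,2,1,5,2,5,1,0,2,1,0,1,3,2,1,5,3,2,1,4,1,0,2,1,0,1,3,2,1,5,3,2,1,3,4,1,0,2,1,0,1,3,2,1,5,3,2,0,5,1,0,2,3,2,1,0,1,4,3,2,5,1,6,1,2,3,2,1,4,3,2,1,5,6,1,0,1],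
   [4,2,3,2,4,3,2,1,0,2,1,0,1,3,2,1,5,3,2,1,5,1,0,5,1,0,1,3,2,4,2,3,2,4,3,2,1,0,2,1,0,1,3,2,1,5,3,2,1,5,1,0,5,1,0,1,3,2,4,3,2,1,0,2,1,0,1,3,2,1,5,3,2,1,5,2,4,1,0,5,1,2,1,0,1,3,2,1,5,3,2,1,3,4,1,0,2,1,0,1,3,2,1,5,3,2,0,2,3,2,1,4,3,2,1,5,1,0,1,0,6,1,2,3,2,1,4,6,5,1,2,6,1],
   [4,2,3,2,4,3,2,1,0,2,1,0,1,3,2,1,5,3,2,1,5,1,0,5,1,0,1,3,2,4,2,3,2,4,3,2,1,0,2,1,0,1,3,2,1,5,3,2,1,5,1,0,5,1,0,1,2,3,2,1,0,2,1,0,1,3,2,1,5,3,2,1,5,1,0,2,1,0,1,3,2,1,5,3,2,1,0,4,1,0,2,1,0,1,3,2,1,5,3,2,0,2,1,0,1,3,2,1,5,3,2,0,5,1,0,2,3,2,1,0,6,1,2,3,2,4,3,2,1,5,1,0,2,1],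
   [3,2,1,0,2,1,0,1,3,2,1,5,3,2,1,5,1,0,5,1,0,1,3,2,4,2,3,1,0,5,1,5,1,0,1,2,0,3,4,1,0,5,1,2,1,0,1,3,2,1,5,3,2,1,4,1,0,2,1,0,1,3,2,1,5,3,2,0,2,3,2,1,0,4,5,1,6,1,2,3,2,1,4,3,2,1,3,5,6,1,2,5]]

def candWords_7 : List (List ℕ) :=
  [[4,2,3,2,4,3,2,1,0,2,1,0,1,3,2,1,5,3,2,1,5,1,0,5,1,0,1,3,2,4,2,3,2,4,3,2,1,0,2,1,0,1,3,2,1,5,3,2,1,5,1,0,5,1,0,1,3,2,4,2,1,0,5,1,0,1,2,3,2,1,0,2,1,0,1,3,2,1,5,3,2,1,5,2,3,4,1,0,2,1,0,1,3,2,1,5,3,2,0,5,1,0,1,2,1,0,5,1,0,2,3,2,1,4,3,2,5,6,1,0,2,1,3,2,6],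
   [4,2,3,2,4,3,2,1,0,2,1,0,1,3,2,1,5,3,2,1,5,1,0,5,1,0,1,3,2,4,2,3,2,4,3,2,1,0,2,1,0,1,3,2,1,5,3,2,1,5,1,0,5,1,0,1,3,2,4,2,3,1,0,5,1,5,1,0,1,2,3,2,1,0,2,1,0,1,3,2,1,5,3,2,1,5,2,1,0,2,1,0,1,3,2,1,5,3,2,1,4,1,0,2,1,0,1,3,2,1,5,3,2,1,3,4,1,0,2,1,0,1,3,2,1,5,3,2,0,2,1,0,1,3,2,1,5,3,2,0,2,1,3,2,1,0,4,3,5,6,1,0,1,2,1,3,2,1,4,3,2,5,1],
   [2,3,2,0,3,2,4,1,0,5,1,2,3,2,1,0,4,3,5,6,1,0,2,3,2,1,4,3,2,3,4,5,6,1,2,3],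
   [4,2,3,2,4,3,2,1,0,2,1,0,1,3,2,1,5,3,2,1,5,1,0,5,1,0,1,3,2,3,2,1,0,2,1,0,1,3,2,1,5,3,2,1,5,1,0,5,1,0,1,3,2,4,3,2,1,0,2,1,0,1,3,2,1,5,3,2,1,5,2,3,4,1,0,5,1,2,1,0,1,3,2,1,5,3,2,0,2,1,0,1,3,2,1,5,3,2,1,4,3,1,2,3,2,1,4,3,2,1,3,2,3,4,6,1,0,2,1,3,2,4,3,6,5],
   [3,2,1,0,2,1,0,1,3,2,1,5,3,2,1,5,1,0,5,1,0,1,3,2,4,2,3,2,4,1,0,2,1,0,1,3,2,1,5,3,2,1,4,1,0,2,1,0,1,3,2,1,5,3,2,1,3,4,1,0,2,1,0,1,3,2,1,5,3,2,1,2,1,0,5,1,0,2,3,2,4,3,2,1,5,1,0,6,1,2,3,2,4,3,2,1,5,1,0,2,1],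
   [4,2,3,2,4,3,2,1,0,2,1,0,1,3,2,1,5,3,2,1,5,1,0,5,1,0,1,3,2,4,2,3,2,4,2,5,1,0,2,1,0,1,3,2,1,5,3,2,1,4,3,1,0,2,1,0,1,3,2,1,5,3,2,0,1,2,1,3,2,4,3,2,1,6,1,0,2,1,3,2,1,0,6,1],
   [4,2,3,2,4,3,2,1,0,2,1,0,1,3,2,1,5,3,2,1,5,1,0,5,1,0,1,3,2,3,2,1,0,2,1,0,1,3,2,1,5,3,2,1,5,1,0,5,1,0,1,3,2,4,3,2,1,0,2,1,0,1,3,2,1,5,3,2,1,5,2,4,1,0,2,1,0,1,3,2,1,5,3,2,1,4,1,0,2,1,0,1,3,2,1,5,3,2,1,4,1,0,5,1,5,1,2,1,0,1,3,2,1,5,3,2,0,2,1,3,2,4,3,6,1,2,3,2,4,3,2,1,5,1,0,1,0,2,1],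
   [4,2,3,2,4,3,2,1,0,2,1,0,1,3,2,1,5,3,2,1,5,1,0,5,1,0,1,3,2,4,2,3,2,4,3,2,1,0,2,1,0,1,3,2,1,5,3,2,1,5,1,0,5,1,0,1,2,1,0,2,1,0,1,3,2,1,5,3,2,0,2,1,0,1,3,2,1,5,3,2,1,4,1,0,2,1,0,1,3,2,1,5,3,2,0,2,1,0,1,3,2,1,5,3,2,1,4,1,0,5,1,2,3,2,1,0,4,3,5,1,2,3,6,1,0,2,1,3,2,1,0,1,4,3,2,3,5,1,2],
   [3,2,1,0,2,1,0,1,3,2,1,5,3,2,1,5,1,0,5,1,0,1,3,2,4,2,3,1,0,5,1,5,1,0,1,2,3,4,1,0,2,1,0,1,3,2,1,5,3,2,0,5,1,2,1,0,1,3,2,1,5,3,2,0,5,1,2,1,0,1,3,2,1,5,2,1,4,6,1,2,3,2,4,3,2,5,1,0,1],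
   [4,2,3,2,1,0,2,1,0,1,3,2,1,5,3,2,1,2,4,3,1,0,2,1,0,1,3,2,1,5,3,2,1,3,1,0,2,3,2,1,0,4,3,5,1,2,3,6,1,0,2,1,3,2,1,0,1,4,3,2,3,6],
   [4,2,3,2,4,3,2,1,0,2,1,0,1,3,2,1,5,3,2,1,5,1,0,5,1,0,1,3,1,0,2,1,0,1,3,2,1,5,3,2,1,0,4,1,0,2,1,0,1,3,2,1,5,3,2,1,4,3,1,0,1,2,1,3,2,1,4,3,2,1,0,5,6,1,0,2,1,3,2,1,0,4,3,2,1,0],
   [3,2,1,0,2,1,0,1,3,2,1,5,3,2,1,5,1,0,5,1,0,1,3,2,4,3,2,1,0,2,1,0,1,3,2,1,5,3,2,1,5,2,3,2,4,1,0,2,1,0,1,3,2,1,5,3,2,1,3,1,0,2,1,0,1,3,2,1,5,2,1,0,4,3,5,1,0,6,1,0,2,3,2,1,0,4,6],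
   [4,2,3,2,4,3,2,1,0,2,1,0,1,3,2,1,5,3,2,1,5,1,0,5,1,0,1,3,2,3,2,1,0,2,1,0,1,3,2,1,5,3,2,1,5,1,0,5,1,0,1,3,2,4,2,3,2,4,3,2,1,0,2,1,0,1,3,2,1,5,3,2,1,5,1,0,5,1,0,1,3,2,1,0,2,1,0,1,3,2,1,5,3,2,1,0,2,4,1,0,2,1,0,1,3,2,1,5,3,2,1,4,1,0,2,1,3,2,1,3,5,1,6,1,0,2,1,3,2,1,4,3,2,5,1,0],
   [3,2,1,0,2,1,0,1,3,2,1,5,3,2,1,5,1,0,5,1,0,1,3,1,0,2,1,0,1,3,2,1,5,3,2,1,4,1,0,2,1,0,1,3,2,1,5,3,2,1,4,1,0,2,1,0,1,3,2,1,5,3,2,0,5,1,2,1,3,2,3,4,3,2,1,5,1,0,1,5,6,1,2,3,2,1,0,4,3,2,1,5,1,2],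
   [4,2,3,2,4,3,2,1,0,2,1,0,1,3,2,1,5,3,2,1,5,1,0,5,1,0,1,3,2,4,2,3,2,4,3,2,1,0,2,1,0,1,3,2,1,5,3,2,1,5,1,0,5,1,0,1,3,2,4,2,1,0,5,1,0,1,2,3,2,1,0,2,1,0,1,3,2,1,5,3,2,1,5,1,0,2,1,0,1,3,2,1,5,3,2,1,0,4,1,0,2,1,0,1,3,2,1,5,3,2,0,2,1,0,1,3,2,1,5,3,2,1,3,1,0,2,1,3,2,1,3,4,3,2,1,3,5,1,6,1,2,3,2,1,0,4,3,2,1],
   [4,2,3,2,4,3,2,1,0,2,1,0,1,3,2,1,5,3,2,1,5,1,0,5,1,0,1,3,2,3,2,1,0,2,1,0,1,3,2,1,5,3,2,1,5,1,0,5,1,0,1,3,2,4,2,1,0,5,1,5,1,2,1,0,1,3,2,1,5,3,2,1,0,4,1,0,2,1,3,2,3,2,4,3,5,1,6,1,0,2,3,2,1,6,5,1,6],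
   [4,2,3,2,4,3,2,1,0,2,1,0,1,3,2,1,5,3,2,1,5,1,0,5,1,0,1,3,1,0,5,1,0,1,2,3,4,5,1,0,1,2,1,3,2,4,3,5,6,1,2,3,2,1,4,3,2,5,1],
   [4,2,3,2,4,3,2,1,0,2,1,0,1,3,2,1,5,3,2,1,5,1,0,5,1,0,1,3,2,3,2,1,0,2,1,0,1,3,2,1,5,3,2,1,5,1,0,5,1,0,1,3,2,4,2,3,1,0,5,1,2,1,0,1,3,2,1,5,3,2,1,0,4,3,2,3,1,0,2,1,3,2,4,5,1,0,6,1,0,2,1,3,2,1,4,3,2,5,1],
   [4,2,3,2,4,3,2,1,0,2,1,0,1,3,2,1,5,3,2,1,5,1,0,5,1,0,1,3,2,4,3,2,1,0,2,1,0,1,3,2,1,5,3,2,1,5,2,4,3,2,1,0,2,1,0,1,3,2,1,5,3,2,1,5,2,0,1,0,2,1,0,1,3,2,1,5,3,2,1,4,1,0,2,1,0,1,3,2,1,5,3,2,1,3,4,1,0,2,1,0,1,3,2,1,5,3,2,0,2,1,3,2,1,4,3,5,6,1,0,1,2,3,2,1,4,3,2,1,0,1,5,1,2],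
   [4,2,3,2,4,3,2,1,0,2,1,0,1,3,2,1,5,3,2,1,5,1,0,5,1,0,1,3,2,3,2,1,0,2,1,0,1,3,2,1,5,3,2,1,5,1,0,5,1,0,1,3,2,4,2,1,0,5,1,5,1,0,1,2,3,4,1,0,5,1,2,1,0,1,3,2,1,5,3,2,1,4,3,1,0,5,1,0,1,2,1,0,2,1,3,2,1,0,4,3,5,1,2,6,1,0,2,1,3,2,3,2,4,3,2,1,0,5],
   [4,3,2,1,0,2,1,0,1,3,2,1,5,3,2,1,5,1,0,2,1,0,1,3,2,1,5,3,2,1,4,3,1,0,2,1,0,1,3,2,1,5,3,2,1,4,1,0,2,1,3,2,1,4,3,5,1,0,2,3,4,6,1,0,2,3,2,1,0,4,3,6],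
   [4,2,1,0,5,1,0,1,2,3,2,1,0,2,1,0,1,3,2,1,5,3,2,1,5,2,3,4,1,0,2,1,0,1,3,2,1,5,3,2,0,2,1,0,1,3,2,1,5,3,2,1,4,1,0,5,1,2,1,0,1,3,2,1,5,3,2,0,2,1,3,2,1,3,4,3,5,1,0,2,3,4,6,1,0,2,1,3,2,4,3,5,1,2,3,6,5],
   [4,2,3,2,4,3,2,1,0,2,1,0,1,3,2,1,5,3,2,1,5,1,0,5,1,0,1,3,2,3,2,1,0,2,1,0,1,3,2,1,5,3,2,1,5,1,0,5,1,0,1,3,2,4,2,3,2,5,1,0,2,1,0,1,3,2,1,5,3,2,1,4,1,0,2,1,0,1,3,2,1,5,3,2,1,4,1,0,5,1,5,1,2,1,0,1,3,2,1,5,3,2,0,2,3,2,1,0,4,3,2,3,5,1,0,2,6,1,0,2,3,2,1,4,3,6,5,1],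
   [3,2,1,0,2,1,0,1,3,2,1,5,3,2,1,5,1,0,5,1,0,1,3,2,4,2,3,1,0,5,1,0,1,2,3,2,1,0,2,1,0,1,3,2,1,5,3,2,1,5,2,4,1,0,2,1,0,1,3,2,1,5,3,2,1,4,1,0,2,1,0,1,3,2,1,5,3,2,1,4,1,0,5,1,5,1,0,1,2,1,0,2,3,2,1,0,4,3,2,1,3,5,6,1,0,2,1,3,2,4,3,5,1,2,6,1],
   [4,2,3,2,4,3,2,1,0,2,1,0,1,3,2,1,5,3,2,1,5,1,0,5,1,0,1,3,2,4,2,3,2,4,3,2,1,0,2,1,0,1,3,2,1,5,3,2,1,5,1,0,5,1,5,1,0,1,2,1,0,5,1,2,1,0,1,3,2,1,5,3,2,1,3,1,0,2,3,2,1,4,3,2,1,0,1,2,6,1,0,2,3,2,1,0,4,6],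
   [4,2,3,2,4,3,2,1,0,2,1,0,1,3,2,1,5,3,2,1,5,1,0,5,1,0,1,3,2,3,2,1,0,2,1,0,1,3,2,1,5,3,2,1,5,1,0,5,1,0,1,3,2,4,2,3,2,4,2,3,2,1,0,2,1,0,1,3,2,1,5,3,2,1,4,1,0,2,1,0,1,3,2,1,5,3,2,1,4,3,1,0,5,1,2,1,0,1,3,2,1,5,3,2,0,2,1,3,2,1,0,4,3,2,1,6,1,0,2,1,3,2,1,4,3,2,3],
   [4,2,3,2,4,3,2,1,0,2,1,0,1,3,2,1,5,3,2,1,5,1,0,5,1,0,1,3,2,3,2,1,0,2,1,0,1,3,2,1,5,3,2,1,5,1,0,5,1,0,1,3,2,4,2,3,2,4,3,2,1,0,2,1,0,1,3,2,1,5,3,2,1,5,1,0,5,1,0,1,2,3,2,1,0,2,1,0,1,3,2,1,5,3,2,1,5,2,0,3,4,1,0,5,1,2,1,0,1,3,2,1,5,3,2,1,3,4,1,0,1,2,3,2,1,4,3,2,1,0,1,5,1,2,6,1,2,3,2,4,3,2,5,1,0,1,5],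
   [4,2,3,2,4,3,2,1,0,2,1,0,1,3,2,1,5,3,2,1,5,1,0,5,1,0,1,3,2,3,2,1,0,2,1,0,1,3,2,1,5,3,2,1,5,1,0,5,1,0,1,3,2,4,2,3,2,4,3,2,1,0,2,1,0,1,3,2,1,5,3,2,1,5,1,0,5,1,0,1,3,2,4,3,2,1,0,2,1,0,1,3,2,1,5,3,2,1,5,2,4,3,2,1,0,2,1,0,1,3,2,1,5,3,2,1,5,2,3,4,1,0,2,1,0,1,3,2,1,5,3,2,0,2,1,0,1,3,2,1,5,3,2,1,2,4,1,0,5,1,0,2,3,2,1,4,3,2,3,5,1,0,1,6,1,0,2,1,3,2,1,4,3,2,3],
   [3,2,1,0,2,1,0,1,3,2,1,5,3,2,1,5,1,0,5,1,5,1,0,1,2,0,3,4,1,0,2,1,0,1,3,2,1,5,3,2,1,3,1,0,2,1,0,1,3,2,1,5,3,2,0,2,1,0,1,3,2,1,5,3,2,0,2,1,3,2,1,0,1,4,3,2,1,5,6,1,0,2,1,3,2,4,3,2,6,5,1,0,2,6],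
   [4,2,3,2,4,3,2,1,0,2,1,0,1,3,2,1,5,3,2,1,5,1,0,5,1,0,1,3,2,4,2,3,2,4,3,2,1,0,2,1,0,1,3,2,1,5,3,2,1,5,1,0,5,1,0,1,3,2,4,3,2,1,0,2,1,0,1,3,2,1,5,3,2,1,5,2,4,3,2,1,0,2,1,0,1,3,2,1,5,3,2,1,5,2,1,0,5,1,2,1,0,1,3,2,1,5,3,2,1,4,1,0,2,1,0,1,3,2,1,5,3,2,1,3,4,1,2,3,2,4,3,2,1,0,5,1,0,1,2,6,1,2,3,2,1,4,3,2,1,3,4,5,6,1,2]]

def candWords_8 : List (List ℕ) :=
  [[4,2,1,0,5,1,0,1,2,3,2,1,0,2,1,0,1,3,2,1,5,3,2,1,5,2,3,4,1,0,2,1,0,1,3,2,1,5,3,2,1,3,4,1,2,3,2,1,0,4,3,2,3,5,1,0,1,0,6,1,2,3,2,1,4,3,2,1,3,4,5,6,1,2],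
   [2,1,0,5,1,0,1,2,3,2,4,3,1,0,2,1,0,1,3,2,1,5,3,2,1,0,2,1,0,2,1,3,2,1,0,1,4,3,2,1,3,5,6,1,0,2,3,2,1,4,3,2,1,3,4,6],
   [3,2,1,0,2,1,0,1,3,2,1,5,3,2,1,5,1,0,5,1,0,1,3,2,4,2,3,2,4,3,2,1,0,2,1,0,1,3,2,1,5,3,2,1,5,2,0,3,1,0,5,1,2,1,0,1,3,2,1,5,3,2,1,4,1,0,2,1,0,1,3,2,1,5,3,2,0,2,1,3,2,1,3,4,3,2,1,3,2,5,1,2,6,1,2,3,2,1,4,3,2,5,6,1,2,5],
   [4,2,3,2,4,3,2,1,0,2,1,0,1,3,2,1,5,3,2,1,5,1,0,5,1,0,1,3,2,4,2,3,2,4,3,2,1,0,2,1,0,1,3,2,1,5,3,2,1,5,1,0,5,1,0,1,3,2,4,2,3,2,4,2,3,2,3,2,1,0,2,1,0,1,3,2,1,5,3,2,1,5,2,0,3,4,1,0,2,1,0,1,3,2,1,5,3,2,1,3,2,1,0,2,1,0,1,3,2,1,5,3,2,0,2,1,3,2,1,3,6,1,0,2,3,2,1,4,3,5,6,1,2,5,1,0],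
   [4,2,3,2,4,3,2,1,0,2,1,0,1,3,2,1,5,3,2,1,5,1,0,5,1,0,1,2,0,3,2,4,3,1,0,2,1,0,1,3,2,1,5,3,2,0,2,3,2,1,0,4,3,2,1,0,5,6,1,0,2,3,2,1,6,5,1,6],
   [4,2,3,2,4,3,2,1,0,2,1,0,1,3,2,1,5,3,2,1,5,1,0,5,1,0,1,3,2,3,2,1,0,2,1,0,1,3,2,1,5,3,2,1,5,1,0,5,1,0,1,3,2,4,2,3,2,4,3,2,1,0,2,1,0,1,3,2,1,5,3,2,1,5,1,0,5,1,0,1,3,2,4,2,3,2,4,2,3,2,3,2,1,0,2,1,0,1,3,2,1,5,3,2,1,5,2,1,0,2,1,0,1,3,2,1,5,3,2,1,4,1,0,2,1,0,1,3,2,1,5,3,2,1,4,1,0,5,1,0,1,2,3,1,2,3,2,1,0,4,3,2,1,3,4,6,1,0,2,3,2,1,0,4,3,2,1,0,3,5],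
   [4,2,3,1,0,5,1,5,1,0,1,2,3,2,1,0,2,1,0,1,3,2,1,5,3,2,1,5,2,1,0,5,1,2,1,0,1,3,2,1,5,3,2,1,4,1,0,2,1,0,1,3,2,1,5,3,2,1,4,3,1,0,2,1,3,2,4,3,2,1,0,1,5,1,2,3,6,1,2,3,2,4,3,2,1,0,6,1,5,6],
   [4,2,3,2,4,3,2,1,0,2,1,0,1,3,2,1,5,3,2,1,5,1,0,5,1,0,1,3,2,4,3,2,1,0,2,1,0,1,3,2,1,5,3,2,1,5,2,4,2,1,0,2,1,0,1,3,2,1,5,3,2,1,4,3,1,0,2,1,0,1,3,2,1,5,3,2,0,1,2,3,2,1,4,3,2,3,2,1,5,6,1,0,1,2,1,3,2,1,4,3,2,5,1,2],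
   [4,3,2,1,0,2,1,0,1,3,2,1,5,3,2,1,5,2,3,4,5,1,0,2,1,0,1,3,2,1,5,3,2,0,5,1,2,1,0,1,3,2,1,5,3,2,0,2,1,0,1,3,2,1,5,3,2,0,1,2,1,0,3,4,5,6,1,2,3,2,1,5,6],
   [4,2,3,2,4,3,2,1,0,2,1,0,1,3,2,1,5,3,2,1,5,1,0,5,1,0,1,3,2,4,2,3,2,4,3,2,1,0,2,1,0,1,3,2,1,5,3,2,1,5,1,0,5,1,0,1,3,2,4,2,3,1,0,5,1,5,1,0,1,2,3,2,4,1,0,5,1,2,1,0,1,3,2,1,5,2,1,0,4,3,2,1,5,1,0,2,3,6,1,0,2,1,3,2,4,3,2,6,5,1,0,2,6],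
   [4,2,3,2,4,3,2,1,0,2,1,0,1,3,2,1,5,3,2,1,5,1,0,5,1,0,1,3,2,3,2,1,0,2,1,0,1,3,2,1,5,3,2,1,5,1,0,5,1,0,1,3,2,4,2,5,1,0,2,1,0,1,3,2,1,5,3,2,1,4,3,1,0,2,1,3,2,1,3,4,3,2,3,4,5,1,6,1,0,2,1,3,2,5,1,0],
   [4,2,3,2,4,3,2,1,0,2,1,0,1,3,2,1,5,3,2,1,5,1,0,5,1,0,1,3,2,4,2,3,1,0,2,1,0,1,3,2,1,5,3,2,1,4,1,0,2,1,0,1,3,2,1,5,3,2,1,3,4,3,1,0,1,2,1,0,3,4,5,6,1,0,2,1,3,2,3,4,3,2,5,1,0,2,1],
   [4,2,3,2,4,3,2,1,0,2,1,0,1,3,2,1,5,3,2,1,5,1,0,5,1,0,1,3,2,3,2,1,0,2,1,0,1,3,2,1,5,3,2,1,5,1,0,5,1,0,1,3,2,4,3,2,1,0,2,1,0,1,3,2,1,5,3,2,1,5,2,4,3,4,1,0,2,1,0,1,3,2,1,5,3,2,0,5,1,0,1,2,3,1,2,3,2,1,0,4,3,2,5,1,0,2,6,1,0,2,1,3,2,4,3,2,5,1,0,2,1,6,1],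
   [4,2,3,2,4,3,2,1,0,2,1,0,1,3,2,1,5,3,2,1,5,1,0,5,1,0,1,3,2,4,2,3,2,4,3,2,1,0,2,1,0,1,3,2,1,5,3,2,1,5,1,0,5,1,0,1,3,2,4,2,3,2,3,2,1,0,2,1,0,1,3,2,1,5,3,2,1,5,2,5,1,0,2,1,0,1,3,2,1,5,3,2,1,4,1,0,2,1,0,1,3,2,1,5,3,2,1,4,1,0,2,1,0,1,3,2,1,5,3,2,0,1,2,1,3,2,1,4,3,2,5,1,6,1,0,1,2,1,3,2,1,4,3,2,5,1,0,2],
   [4,2,3,2,4,3,2,1,0,2,1,0,1,3,2,1,5,3,2,1,5,1,0,5,1,0,1,3,2,3,2,1,0,2,1,0,1,3,2,1,5,3,2,1,5,1,0,5,1,0,1,3,2,4,2,3,2,4,3,2,1,0,2,1,0,1,3,2,1,5,3,2,1,5,1,0,5,1,0,1,3,2,0,3,5,1,2,3,2,4,3,2,1,0,5,1,0,2,1,0,6,1,0,2,3,2,4,3,2,1,5,6,1,2],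
   [4,2,3,2,4,1,0,2,1,0,1,3,2,1,5,3,2,1,4,1,0,2,1,0,1,3,2,1,5,3,2,1,4,1,0,5,1,5,1,2,1,0,1,3,2,1,5,2,1,4,3,2,1,3,4,5,1,2,6,1,2,3,2,1,4,3,2,1,3,5,6,1,2,5],
   [3,2,1,0,2,1,0,1,3,2,1,5,3,2,1,5,2,3,2,4,1,0,2,1,0,1,3,2,1,5,3,2,1,0,3,1,0,2,3,2,1,4,3,2,1,0,1,3,6,1,0,2,1,3,2,4,3,2,6,1,0,5,1,0],
   [4,2,3,2,4,3,2,1,0,2,1,0,1,3,2,1,5,3,2,1,5,1,0,5,1,0,1,3,2,3,2,1,0,2,1,0,1,3,2,1,5,3,2,1,5,1,0,5,1,0,1,3,2,4,2,3,2,4,2,3,2,0,1,0,2,1,0,1,3,2,1,5,3,2,1,4,1,0,2,1,0,1,3,2,1,5,3,2,1,3,1,0,2,1,0,1,3,2,1,5,3,2,0,2,1,0,1,3,2,1,5,3,2,0,2,1,3,2,3,4,3,2,3,5,1,6,1,2,3,2,1,5,1],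
   [4,2,3,2,4,3,2,1,0,2,1,0,1,3,2,1,5,3,2,1,5,1,0,5,1,0,1,3,2,3,2,1,0,2,1,0,1,3,2,1,5,3,2,1,5,1,0,5,1,0,1,3,2,4,2,3,2,4,3,2,1,0,2,1,0,1,3,2,1,5,3,2,1,5,1,0,5,1,0,1,3,2,4,2,1,0,5,1,5,1,0,1,2,3,2,1,0,2,1,0,1,3,2,1,5,3,2,1,5,2,3,4,1,0,2,1,0,1,3,2,1,5,3,2,0,2,1,0,1,3,2,1,5,3,2,1,4,3,1,2,3,2,1,0,4,3,2,1,3,2,6,1,2,3,2,1,0,4,3,2,1,3,5,6],
   [4,2,3,2,4,3,2,1,0,2,1,0,1,3,2,1,5,3,2,1,5,1,0,5,1,0,1,3,2,3,2,1,0,2,1,0,1,3,2,1,5,3,2,1,5,1,0,5,1,0,1,3,2,4,2,3,2,4,3,2,1,0,2,1,0,1,3,2,1,5,3,2,1,5,1,0,5,1,0,1,3,2,3,2,1,0,2,1,0,1,3,2,1,5,3,2,1,5,2,3,4,1,0,2,1,0,1,3,2,1,5,3,2,1,0,2,1,0,2,1,0,1,3,2,1,5,2,1,0,1,4,3,5,1,6,1,0,2,3,2,4,3,2,1,5,6,1,2],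
   [4,2,3,2,3,2,1,0,2,1,0,1,3,2,1,5,3,2,1,5,2,1,0,2,1,0,1,3,2,1,5,3,2,1,4,1,0,2,1,0,1,3,2,1,5,3,2,1,4,3,2,1,0,5,1,2,1,3,2,3,4,3,2,5,1,0,2,1,6,1,2,3,2,1,6,5,1,2,3],
   [4,2,3,2,4,3,2,1,0,2,1,0,1,3,2,1,5,3,2,1,5,1,0,5,1,0,1,3,2,3,2,1,0,2,1,0,1,3,2,1,5,3,2,1,5,1,0,5,1,0,1,3,2,4,2,3,2,4,3,2,1,0,2,1,0,1,3,2,1,5,3,2,1,5,1,0,5,1,0,1,3,2,4,2,1,0,5,1,0,1,2,3,2,1,0,2,1,0,1,3,2,1,5,3,2,1,5,2,4,5,1,0,2,1,0,1,3,2,1,5,3,2,1,4,1,0,2,1,0,1,3,2,1,5,3,2,0,2,3,2,1,4,3,2,1,0,1,5,1,6,1,2,3,2,1,0,4,3,2,3,6,1,5],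
   [3,2,1,0,2,1,0,1,3,2,1,5,3,2,1,5,1,0,5,1,0,1,3,2,4,2,1,0,5,1,0,1,2,1,0,2,1,0,1,3,2,1,5,3,2,0,2,1,0,1,3,2,1,5,3,2,1,4,1,0,5,2,1,3,2,1,4,3,2,5,1,0,2,1,6,1,0,2,3,2,4,3,2,1,0,5,1,6],
   [4,2,3,2,4,3,2,1,0,2,1,0,1,3,2,1,5,3,2,1,5,1,0,5,1,0,1,3,2,4,2,1,0,5,1,0,1,2,0,1,0,2,1,0,1,3,2,1,5,3,2,1,2,4,1,0,2,1,0,1,3,2,1,5,3,2,1,4,3,1,0,2,1,3,2,1,3,4,3,2,3,4,5,6,1,0,2,3,2,1,0,4,3,2,1,0,3,5],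
   [4,2,3,2,4,3,2,1,0,2,1,0,1,3,2,1,5,3,2,1,5,1,0,5,1,0,1,3,2,4,2,1,0,5,1,0,1,2,0,3,2,4,1,0,5,1,2,1,3,2,4,3,5,1,2,3,2,6,1,2,3,2,1,0,4,3,2,1,3,5,6],
   [4,2,3,2,3,2,1,0,2,1,0,1,3,2,1,5,3,2,1,5,2,0,1,0,2,1,0,1,3,2,1,5,3,2,0,2,1,0,1,3,2,1,5,3,2,1,4,3,2,3,1,0,2,1,0,3,4,5,6,1,0,2,1,3,2,1,3,6],
   [4,2,3,2,4,3,2,1,0,2,1,0,1,3,2,1,5,3,2,1,5,1,0,5,1,0,1,3,2,3,2,1,0,2,1,0,1,3,2,1,5,3,2,1,5,1,0,5,1,0,1,3,2,4,2,3,2,4,3,2,1,0,2,1,0,1,3,2,1,5,3,2,1,5,2,0,1,0,2,1,0,1,3,2,1,5,3,2,1,4,1,0,2,1,0,1,3,2,1,5,3,2,1,4,3,1,0,5,1,0,1,2,1,0,5,1,2,1,3,2,4,3,2,1,0,1,5,1,0,6,1,0,1,2,1,3,2,5,1],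
   [4,2,3,2,4,3,2,1,0,2,1,0,1,3,2,1,5,3,2,1,5,1,0,5,1,0,1,3,2,4,2,3,2,4,3,2,1,0,2,1,0,1,3,2,1,5,3,2,1,5,1,0,5,1,0,1,3,2,4,2,3,2,4,1,0,2,1,0,1,3,2,1,5,3,2,1,0,2,4,1,0,2,1,0,1,3,2,1,5,3,2,1,4,3,1,0,2,1,0,1,3,2,1,5,3,2,0,2,3,2,1,4,3,2,1,3,4,5,1,0,6,1,2,3,2,1,4,3,2,5,6,1,2,5],
   [3,2,1,0,2,1,0,1,3,2,1,5,3,2,1,5,1,0,5,1,0,1,3,2,4,2,1,0,5,1,0,1,2,3,2,1,0,2,1,0,1,3,2,1,5,3,2,1,5,2,0,1,0,2,1,0,1,3,2,1,5,3,2,1,4,1,0,2,1,0,1,3,2,1,5,3,2,1,3,4,3,1,0,1,2,1,3,2,1,4,3,2,1,3,5,1,0,6,1,2,3,2,1,4,3,2,3,6],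
   [3,2,1,0,2,1,0,1,3,2,1,5,3,2,1,5,1,0,5,1,0,1,3,2,4,2,1,0,5,1,0,1,2,3,2,1,0,2,1,0,1,3,2,1,5,3,2,1,5,2,3,2,4,1,0,2,1,0,1,3,2,1,5,3,2,0,5,1,5,1,2,3,2,4,3,2,1,0,5,1,0,2,1,6,1,2,3,2,1,6,5,1,2,3]]

def candWords_9 : List (List ℕ) :=
  [[4,2,3,2,4,2,3,1,0,5,1,0,1,2,3,5,1,0,5,1,0,1,2,1,0,1,2,1,3,2,1,4,3,5,1,2,3,4,6,1,0,1,2,1,3,2,1,4,3,2,5,1,0,2],
   [4,2,3,2,4,3,2,1,0,2,1,0,1,3,2,1,5,3,2,1,5,1,0,5,1,0,1,3,2,3,2,1,0,2,1,0,1,3,2,1,5,3,2,1,5,1,0,5,1,0,1,3,2,4,3,2,1,0,2,1,0,1,3,2,1,5,3,2,1,5,2,3,2,4,1,0,2,1,0,1,3,2,1,5,3,2,0,2,1,0,1,3,2,1,5,3,2,0,2,1,3,2,3,4,3,2,1,0,6,1,0,2,3,2,1,4,3,5,6,1,0,2,1],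
   [4,2,3,2,4,3,2,1,0,2,1,0,1,3,2,1,5,3,2,1,5,1,0,5,1,0,1,3,2,3,2,1,0,2,1,0,1,3,2,1,5,3,2,1,5,1,0,5,1,0,1,3,2,4,2,1,0,5,1,0,1,2,3,2,1,0,2,1,0,1,3,2,1,5,3,2,1,5,2,4,3,4,5,1,0,2,1,0,1,3,2,1,5,3,2,0,2,1,0,1,3,2,1,5,3,2,1,4,1,2,3,2,4,6,1,0,2,1,3,2,1,4,3,2,5,1],
   [4,2,3,2,4,3,2,1,0,2,1,0,1,3,2,1,5,3,2,1,5,1,0,5,1,0,1,3,2,3,2,1,0,2,1,0,1,3,2,1,5,3,2,1,5,1,0,5,1,0,1,3,2,4,2,3,2,4,3,2,1,0,2,1,0,1,3,2,1,5,3,2,1,5,1,0,5,1,0,1,3,2,4,2,3,1,0,5,1,0,1,2,3,2,1,0,2,1,0,1,3,2,1,5,3,2,1,5,2,4,1,0,2,1,0,1,3,2,1,5,3,2,1,4,1,0,2,1,0,1,3,2,1,5,3,2,1,4,1,0,5,1,5,1,0,1,2,1,0,2,3,2,4,3,2,1,0,1,2,6,1,0,1,2,1,3,2,1,4,3,2,5,1,2],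
   [4,2,3,2,4,3,2,1,0,2,1,0,1,3,2,1,5,3,2,1,5,1,0,5,1,5,1,2,1,0,1,3,2,1,5,3,2,1,4,3,2,1,0,2,1,0,1,3,2,1,5,3,2,1,4,1,0,5,1,2,1,0,1,3,2,1,5,2,4,3,2,1,5,1,0,1,0,2,1,3,6,1,2,3,2,4,3,2,5,1,0,1],
   [4,2,3,2,4,3,2,1,0,2,1,0,1,3,2,1,5,3,2,1,5,1,0,5,1,0,1,3,2,3,2,1,0,2,1,0,1,3,2,1,5,3,2,1,5,1,0,5,1,0,1,3,2,4,2,3,2,3,2,1,0,2,1,0,1,3,2,1,5,3,2,1,5,2,4,3,2,1,0,2,1,0,1,3,2,1,5,3,2,1,5,2,3,4,1,0,5,1,2,1,0,1,3,2,1,5,3,2,0,2,1,0,1,3,2,1,5,3,2,1,4,1,2,3,2,4,3,2,1,5,1,0,2,1,0,5,6,1,2,3,2,1,0,4,3,2,1],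
   [4,2,3,2,4,3,2,1,0,2,1,0,1,3,2,1,5,3,2,1,5,1,0,5,1,0,1,3,2,4,2,3,2,4,3,2,1,0,2,1,0,1,3,2,1,5,3,2,1,5,1,0,5,1,0,1,3,2,4,2,1,0,5,1,0,1,2,1,0,5,1,2,1,0,1,3,2,1,5,3,2,1,4,1,0,2,1,0,1,3,2,1,5,3,2,0,5,1,5,1,2,1,3,2,1,0,4,3,2,5,1,0,1,6,1,2,3,2,1,4,3,2,1,0,3,6],
   [4,2,1,0,5,1,5,1,0,1,2,3,2,1,0,2,1,0,1,3,2,1,5,3,2,1,5,2,3,2,4,1,0,2,1,0,1,3,2,1,5,3,2,0,5,1,2,1,3,2,5,1,0,6,1,0,1,2,1,3,2,1,4,3,2,5,1,0,2],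
   [3,2,1,0,2,1,0,1,3,2,1,5,3,2,1,5,1,0,5,1,0,1,3,2,4,3,2,1,0,2,1,0,1,3,2,1,5,3,2,1,5,2,0,1,0,2,1,0,1,3,2,1,5,3,2,1,4,1,0,2,1,0,1,3,2,1,5,3,2,0,5,1,2,1,0,1,3,2,1,5,3,2,0,1,2,1,3,2,4,3,2,5,1,0,1,2,5,6,1,0,2,1,3,2,4,3,2,6,1,0,5,1,0],
   [4,2,3,2,4,3,2,1,0,2,1,0,1,3,2,1,5,3,2,1,5,1,0,5,1,0,1,3,2,3,2,1,0,2,1,0,1,3,2,1,5,3,2,1,5,1,0,5,1,0,1,3,2,4,2,3,2,0,1,0,5,1,2,1,0,1,3,2,1,5,3,2,1,4,3,2,1,0,5,1,0,2,3,2,4,3,2,5,1,0,1,2,5,1,0,6,1,0,2,3,2,1,4,3,2,5,1,6,1,0,2],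
   [4,2,3,2,4,3,1,0,2,1,0,1,3,2,1,5,3,2,0,2,1,3,2,4,3,2,5,1,0,1,0,2,6,1,0,1,2,3,2,1,4,3,2,1,5,1,0],
   [4,2,3,2,3,4,1,0,2,1,0,1,3,2,1,5,3,2,1,0,2,3,4,1,0,2,1,3,2,1,4,3,2,3,5,1,2,6,1,0,2,1,3,2,1,3,4,3,2,5,1,6,1,0],
   [4,2,3,2,4,3,2,1,0,2,1,0,1,3,2,1,5,3,2,1,5,1,0,5,1,0,1,3,1,0,5,1,0,1,2,3,2,4,1,0,1,2,3,2,4,3,2,1,0,5,1,0,2,1,6,1,2,3,2,1,0,4,3,2,6,1,0],
   [4,2,3,2,4,3,2,1,0,2,1,0,1,3,2,1,5,3,2,1,5,1,0,5,1,0,1,3,2,3,2,1,0,2,1,0,1,3,2,1,5,3,2,1,5,1,0,5,1,0,1,3,2,4,2,1,0,5,1,0,1,2,3,2,1,0,2,1,0,1,3,2,1,5,3,2,1,5,2,4,1,0,2,1,0,1,3,2,1,5,3,2,1,4,1,0,2,1,0,1,3,2,1,5,3,2,1,2,3,4,1,2,3,2,1,0,4,3,2,5,1,0,1,0,6,1,0,2,1,3,2,4,3,2,6,1,5,1,0,1],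
   [4,2,3,2,4,3,2,1,0,2,1,0,1,3,2,1,5,3,2,1,5,1,0,5,1,0,1,3,2,4,2,3,2,4,2,3,2,3,2,1,0,2,1,0,1,3,2,1,5,3,2,1,5,1,0,2,1,0,1,3,2,1,5,3,2,1,4,3,2,1,0,2,1,0,1,3,2,1,5,3,2,0,5,1,0,2,3,2,1,0,1,4,3,2,5,1,0,2,1,0,6,1,0,2,1,3,2,1,4,3,2,1,6,5,1],
   [4,2,3,2,4,3,2,1,0,2,1,0,1,3,2,1,5,3,2,1,5,1,0,5,1,0,1,3,2,3,2,1,0,2,1,0,1,3,2,1,5,3,2,1,5,1,0,5,1,0,1,3,2,4,2,3,2,4,3,2,1,0,2,1,0,1,3,2,1,5,3,2,1,5,1,0,5,1,0,1,3,2,4,2,3,1,0,5,1,0,1,2,3,2,1,0,2,1,0,1,3,2,1,5,3,2,1,5,2,4,0,1,0,2,1,0,1,3,2,1,5,3,2,1,2,4,1,0,2,1,0,1,3,2,1,5,3,2,1,4,3,1,0,2,1,0,1,3,2,1,5,3,2,0,5,2,3,2,4,3,2,6,1,2,3,2,4,3,2,1,5,1,0,1,0,2,1],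
   [4,2,3,2,4,3,2,1,0,2,1,0,1,3,2,1,5,3,2,1,5,1,0,5,1,0,1,3,2,3,2,1,0,2,1,0,1,3,2,1,5,3,2,1,5,1,0,5,1,0,1,3,2,4,2,3,2,4,3,2,1,0,2,1,0,1,3,2,1,5,3,2,1,5,1,0,5,1,0,1,3,2,4,2,1,0,5,1,0,1,2,3,4,1,0,5,1,2,1,0,1,3,2,1,5,3,2,1,4,3,1,0,5,1,0,1,2,1,2,3,2,1,4,3,2,3,5,1,0,6,1,0,2,1,3,2,1,4,3,2,1,6,5],
   [3,2,1,0,2,1,0,1,3,2,1,5,3,2,1,5,1,0,5,1,0,1,3,2,4,2,3,2,4,2,3,1,0,5,1,0,1,2,3,4,1,0,5,1,2,1,0,1,3,2,1,5,3,2,0,2,1,0,1,3,2,1,5,3,2,1,4,1,0,5,1,0,2,3,2,1,0,4,3,2,1,0,3,2,4,5,6,1,0,2,1,3,2,4,3,2,6,5,1,0,2,6],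
   [2,3,1,0,5,1,0,1,2,1,0,2,1,0,1,3,2,1,5,3,2,1,4,1,0,2,1,0,1,3,2,1,5,3,2,1,4,1,0,2,1,0,1,3,2,1,5,3,2,0,5,1,2,1,3,2,4,3,5,1,0,2,1,0,1,6,1,0,1,2,3,2,4,3,2,1,6,5,1,0],
   [4,2,3,1,0,5,1,5,1,0,1,2,3,4,1,0,5,1,2,1,0,1,3,2,1,5,3,2,1,3,4,3,1,0,2,1,0,1,3,2,1,5,2,1,0,4,3,2,3,5,1,2,6,1,0,2,1,3,2,3,4,3,2,1,0,1,5],
   [4,2,3,2,4,3,2,1,0,2,1,0,1,3,2,1,5,3,2,1,5,1,0,5,1,0,1,3,2,3,2,1,0,2,1,0,1,3,2,1,5,3,2,1,5,1,0,5,1,0,1,3,2,4,2,1,0,5,1,0,1,2,3,4,1,0,5,1,0,1,2,3,1,0,2,1,0,1,3,2,1,5,3,2,0,1,2,3,2,1,4,3,2,5,6,1,2,3,2,4,3,2,1,6],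
   [3,2,1,0,2,1,0,1,3,2,1,5,3,2,1,5,1,0,5,1,0,1,3,2,4,2,3,2,4,2,3,2,3,2,1,0,2,1,0,1,3,2,1,5,3,2,1,5,2,3,4,1,0,5,1,2,1,0,1,3,2,1,5,3,2,1,4,1,0,5,1,2,1,3,2,1,4,3,2,5,1,6,1,2,3,2,4,3,2,1,0,6,1,5,6],
   [4,2,3,2,4,3,2,1,0,2,1,0,1,3,2,1,5,3,2,1,5,1,0,5,1,0,1,3,2,4,2,3,1,0,5,1,0,1,2,3,2,1,0,2,1,0,1,3,2,1,5,3,2,1,5,2,0,3,2,4,3,1,0,2,1,0,1,3,2,1,5,3,2,1,2,1,0,2,3,2,1,4,3,2,1,3,5,1,2,6,1,0,2,1,3,2,1,4,3,2,5,1],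
   [4,2,3,2,4,3,2,1,0,2,1,0,1,3,2,1,5,3,2,1,5,1,0,5,1,5,1,0,1,2,3,4,1,0,5,1,0,1,5,1,0,2,1,0,1,3,2,1,5,3,2,0,2,1,0,1,3,2,1,5,3,2,0,5,1,2,1,3,2,4,3,2,5,1,0,1,2,1,6,1,2,3,2,1,0,4,3,2,1,0,1,0,3],
   [3,2,1,0,2,1,0,1,3,2,1,5,3,2,1,5,2,0,3,2,4,3,2,1,0,2,3,2,1,0,4,3,2,5,1,2,3,4,6,1,0,2,1,3,2,4,3,5,1,2,6,1],
   [4,2,3,2,4,3,2,1,0,2,1,0,1,3,2,1,5,3,2,1,5,1,0,5,1,0,1,3,2,3,2,1,0,2,1,0,1,3,2,1,5,3,2,1,5,1,0,5,1,0,1,3,2,4,2,3,2,4,3,2,1,0,2,1,0,1,3,2,1,5,3,2,1,5,2,0,3,2,4,1,0,2,1,0,1,3,2,1,5,3,2,0,2,3,2,1,0,4,3,2,3,4,5,1,2,6,1,0,1,2,1,3,2,4,3,5,1,2,6,1],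
   [4,2,3,2,4,3,2,1,0,2,1,0,1,3,2,1,5,3,2,1,5,1,0,5,1,0,1,3,2,3,2,1,0,2,1,0,1,3,2,1,5,3,2,1,5,1,0,5,1,0,1,3,2,4,2,3,2,4,3,2,1,0,2,1,0,1,3,2,1,5,3,2,1,5,1,0,5,1,0,1,3,2,4,2,3,2,0,2,1,0,2,1,0,1,3,2,1,5,3,2,1,4,3,1,0,2,1,0,1,3,2,1,5,3,2,0,1,2,3,2,1,4,3,2,3,2,1,5,1,0,6,1,2,3,2,1,4,3,2,1,3,2,4,5,6,1,2],
   [3,2,1,0,2,1,0,1,3,2,1,5,3,2,1,5,1,0,5,1,0,1,3,2,4,3,2,1,0,2,1,0,1,3,2,1,5,3,2,1,5,2,4,0,3,2,4,1,0,2,1,0,1,3,2,1,5,2,1,0,4,3,2,5,1,0,2,3,2,6,1,0,2,3,2,1,4,3,2,1,3,4,6],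
   [4,2,3,2,4,3,2,1,0,2,1,0,1,3,2,1,5,3,2,1,5,1,0,5,1,0,1,3,2,3,2,1,0,2,1,0,1,3,2,1,5,3,2,1,5,1,0,5,1,0,1,3,2,4,2,3,2,4,3,2,1,0,2,1,0,1,3,2,1,5,3,2,1,5,1,0,5,1,0,1,3,2,4,2,3,1,0,5,1,0,1,2,1,0,2,1,0,1,3,2,1,5,3,2,1,0,4,1,0,2,1,0,1,3,2,1,5,3,2,1,4,3,1,0,5,1,2,1,3,2,1,0,4,3,2,5,1,0,1,2,6,1,0,2,1,3,2,1,0,1,4,3,2,3,5,1,2],
   [4,2,3,2,4,3,2,1,0,2,1,0,1,3,2,1,5,3,2,1,5,1,0,5,1,0,1,3,2,4,2,3,2,4,3,2,1,0,2,1,0,1,3,2,1,5,3,2,1,5,1,0,5,1,0,1,3,2,4,2,1,0,5,1,0,1,5,1,0,2,1,0,1,3,2,1,5,3,2,1,4,1,0,2,1,0,1,3,2,1,5,3,2,1,4,1,0,2,1,0,1,3,2,1,5,3,2,0,5,1,2,1,3,2,4,3,5,1,0,2,1,5,6,1,0,2,1,3,2,1,3,6]]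

def candWords : List (List ℕ) :=
  candWords_0 ++ candWords_1 ++ candWords_2 ++ candWords_3 ++ candWords_4 ++ candWords_5 ++ candWords_6 ++ candWords_7 ++ candWords_8 ++ candWords_9

def candKill_0 : List (ℕ × ℕ) :=
  [(0, 0), (0, 0), (99, 0), (1, 0), (2, 0), (0, 0), (0, 0), (0, 0), (1, 0), (0, 0), (0, 0), (0, 0),
   (2, 0), (0, 0), (0, 0), (0, 0), (0, 0), (0, 0), (0, 0), (0, 0), (0, 0), (1, 0), (1, 0), (0, 0),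
   (0, 0), (2, 0), (0, 0), (0, 0), (1, 0), (0, 0), (0, 0), (0, 0), (0, 0), (0, 0), (1, 0), (2, 0),
   (0, 0), (0, 0), (0, 0), (0, 0), (0, 0), (0, 0), (1, 0), (0, 0), (1, 0), (0, 0), (0, 0), (1, 0),
   (0, 0), (0, 0), (0, 0), (2, 0), (0, 0), (1, 0), (0, 0), (0, 0), (0, 0), (0, 0), (0, 0), (0, 0),
   (0, 0), (0, 0), (0, 0), (1, 0), (0, 0), (0, 0), (2, 0), (0, 0), (0, 0), (0, 0), (0, 0), (2, 0),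
   (0, 0), (0, 0), (0, 0), (0, 0), (0, 0), (0, 0), (0, 0), (0, 0), (0, 0), (3, 0), (0, 0), (0, 0),
   (0, 0), (1, 0), (0, 0), (0, 0), (1, 0), (1, 0), (0, 0), (0, 0), (1, 0), (1, 0), (0, 0), (0, 0),
   (0, 0), (1, 0), (0, 0), (0, 0)]

def candKill_1 : List (ℕ × ℕ) :=
  [(0, 0), (0, 0), (0, 0), (0, 0), (0, 0), (99, 0), (0, 0), (0, 0), (0, 0), (0, 0), (0, 0), (0, 0),
   (0, 0), (0, 0), (0, 0), (0, 0), (0, 0), (0, 0), (0, 0), (0, 0), (0, 0), (0, 0), (0, 0), (1, 0),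
   (0, 0), (0, 0), (0, 0), (0, 0), (0, 0), (0, 0), (0, 0), (0, 0), (0, 0), (0, 0), (0, 0), (0, 0),
   (0, 0), (1, 0), (2, 0), (1, 0), (0, 0), (0, 0), (0, 0), (0, 0), (0, 0), (0, 0), (0, 0), (0, 0),
   (2, 0), (1, 0), (0, 0), (0, 0), (0, 0), (1, 0), (0, 0), (0, 0), (1, 0), (0, 0), (0, 0), (0, 0),
   (0, 0), (0, 0), (0, 0), (0, 0), (0, 0), (0, 0), (0, 0), (0, 0), (0, 0), (0, 0), (0, 0), (0, 0),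
   (0, 0), (0, 0), (0, 0), (0, 0), (1, 0), (0, 0), (0, 0), (0, 0), (1, 0), (0, 0), (1, 0), (0, 0),
   (0, 0), (0, 0), (0, 0), (2, 0), (1, 0), (0, 0), (1, 0), (0, 0), (0, 0), (0, 0), (1, 0), (0, 0),
   (0, 0), (0, 0), (0, 1), (0, 0)]

def candKill_2 : List (ℕ × ℕ) :=
  [(0, 0), (0, 0), (0, 0), (0, 0), (1, 0), (0, 0), (0, 0), (0, 0), (1, 0), (0, 0), (0, 0), (0, 0),
   (0, 0), (0, 0), (1, 0), (0, 0), (0, 0), (2, 0), (0, 0), (1, 0), (0, 0), (0, 0), (1, 0), (0, 0),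
   (0, 0), (0, 0), (0, 0), (0, 0), (0, 0), (0, 0), (0, 0), (1, 0), (0, 0), (0, 0), (2, 0), (0, 0),
   (0, 0), (1, 0), (0, 0), (0, 0), (0, 0), (1, 0), (0, 0), (0, 0), (3, 0), (0, 0), (0, 0), (0, 0),
   (0, 1), (1, 0), (0, 0), (0, 0), (0, 0), (0, 0), (2, 0), (0, 0), (0, 0), (0, 0), (0, 0), (0, 0),
   (0, 0), (0, 0), (0, 0), (0, 0), (1, 0), (0, 0), (0, 0), (0, 0), (0, 0), (0, 0), (0, 0), (0, 0),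
   (0, 0), (0, 0), (0, 0), (0, 0), (0, 0), (0, 0), (0, 0), (0, 0), (0, 0), (0, 0), (0, 1), (0, 0),
   (1, 0), (1, 0), (0, 0), (0, 0), (1, 0), (0, 0), (0, 0), (0, 0), (1, 0), (1, 1), (0, 0), (0, 0),
   (0, 0), (0, 0), (0, 0), (0, 0)]

def candKill : List (ℕ × ℕ) :=
  candKill_0 ++ candKill_1 ++ candKill_2

def relData : List (ℕ × List ℕ) := [(18, [1]), (18, [2]), (9, [1,3]), (6, [2,3,9])]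

def survX : ℕ := 2

def survZ : ℕ := 105

def genWords_0 : List (List ℕ) :=
  [[7,17,10,17,12,17,14,17,7,17,15,17,7,17,9,17,10,17,7,17,12,17,13],
   [12,17,14,17,12,17,13,17,13,17,8,17,9,17,10,17,14,17,10,17,9,17,9],
   [10,17,16,17,9,17,11,17,12,17,10,17,11,17,16,17,9,17,8,17,9],
   [9,17,16,17,16,17,12,17,8,17,16,17,7,17,15,17,11,17,7,17,7,17,14],
   [8,17,16,17,16,17,12,17,8,17,16,17,7,17,15,17,11,17,7,17,7,17,15],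
   [10,17,7,17,7,17,16,17,7,17,8,17,9,17,13,17,12,17,9,17,10],
   [15,17,16,17,7,17,7,17,15,17,9,17,12,17,10,17,9,17,13,17,11,17,10,17]]

def genWords : List (List ℕ) :=
  genWords_0

def outWords_0 : List (List ℕ) :=
  [[7,18,10,18,12,18,14,18,7,18,15,18,7,18,9,18,10,18,7,18,12,18,13],
   [12,18,14,18,12,18,13,18,13,18,8,18,9,18,10,18,14,18,10,18,9,18,9],
   [10,18,16,18,9,18,11,18,12,18,10,18,11,18,16,18,9,18,8,18,9],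
   [9,18,16,18,16,18,12,18,8,18,16,18,7,18,15,18,11,18,7,18,7,18,14],
   [8,18,16,18,16,18,12,18,8,18,16,18,7,18,15,18,11,18,7,18,7,18,15],
   [10,18,7,18,7,18,16,18,7,18,8,18,9,18,13,18,12,18,9,18,10],
   [15,18,16,18,7,18,7,18,15,18,9,18,12,18,10,18,9,18,13,18,11,18,10,18]]

def outWords : List (List ℕ) :=
  outWords_0

end Cfsg.Lib.SuzPres
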