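import Cfsg.Agent.SuzPres.Simple
import Cfsg.Agent.SuzPres.AutTabs
import Cfsg.Agent.SuzPres.AutData

/-!
A larger alphabet for the presented Suzuki group and uniqueness from the images of base points.
-/

set_option autoImplicit false
set_option Elab.async false

namespace Cfsg.Lib.SuzPres

open Cfsg.Lib.CosetCert Cfsg.Lib.PermCert

theorem tabledSuz : Tabled im psi tabs where
  act := psi_im
  sq l hl := good_im.inv hl

/-- All tables: the letters, ten powers and four elements. -/
def xTabs : List PP := tabs ++ autTabs

/-- The element of order eleven. -/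
def uEl : Cfsg.Spor.Suz := wval im uWord

/-- The words of the four elements. -/
def specialWord (k : ℕ) : List ℕ := [xWord, zWord, yTwoWord, yWord].getD k []

/-- The value of a letter. -/
def imX (l : ℕ) : Cfsg.Spor.Suz :=
  if l < 7 then im l else if l < 17 then uEl ^ (l - 6) else wval im (specialWord (l - 17))

theorem aut_valid : autTabs.all (valid 1782) = true := by decide +kernel

/-- A word has a table. -/
def wordTab (w : List ℕ) (t : PP) : Bool :=
  w.all (fun l => decide (l < 7)) && (List.range 1782).all fun x => evalW tabs w x == ap t.2 x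

theorem u_tab : wordTab uWord (autTabs.getD 0 (0, 0)) = true := by decide +kernel
theorem x_tab : wordTab (specialWord 0) (autTabs.getD 10 (0, 0)) = true := by decide +kernel
theorem z_tab : wordTab (specialWord 1) (autTabs.getD 11 (0, 0)) = true := by decide +kernel
theorem ytwo_tab : wordTab (specialWord 2) (autTabs.getD 12 (0, 0)) = true := by decide +kernel
theorem y_tab : wordTab (specialWord 3) (autTabs.getD 13 (0, 0)) = true := by decide +kernel

theorem pow_step : ((List.range 9).all fun i => (List.range 1782).all fun x =>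
    ap (autTabs.getD (i + 1) (0, 0)).2 x == ap (autTabs.getD 0 (0, 0)).2 (ap (autTabs.getD i (0, 0)).2 x)) = true := by
  decide +kernel

theorem aut_valid_get {k : ℕ} (hk : k < 14) : valid 1782 (autTabs.getD k (0, 0)) = true := by
  have h : k < autTabs.length := hk
  rw [List.getD_eq_getElem _ _ h]
  exact List.all_eq_true.1 aut_valid _ (List.getElem_mem h)

theorem tab_of_inv {g : Cfsg.Spor.Suz} {t : PP} (hv : valid 1782 t = true)
    (h : ∀ x : Fin 1782, ((psi g)⁻¹ x : ℕ) = ap t.2 x) : psi g = perm 1782 t := by
  have e : (psi g)⁻¹ = (perm 1782 t)⁻¹ := by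
    refine Equiv.ext fun x => Fin.ext ?_
    rw [h, ← perm_pinv hv, perm_apply (valid_pinv hv)]
    rfl
  exact inv_injective e

theorem tab_wval {w : List ℕ} {t : PP} (hv : valid 1782 t = true) (h : wordTab w t = true) :
    psi (wval im w) = perm 1782 t := by
  simp only [wordTab, Bool.and_eq_true, List.all_eq_true, decide_eq_true_eq, beq_iff_eq, List.mem_range] at h
  exact tab_of_inv hv fun x =>
    (evalW_apply im psi tabs psi_im w h.1 x).trans (h.2 x.val x.isLt)

theorem psi_uPow : ∀ i, i < 10 → psi (uEl ^ (i + 1)) = perm 1782 (autTabs.getD i (0, 0)) := by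
  intro i
  induction i with
  | zero =>
    intro _
    rw [zero_add, pow_one]
    exact tab_wval (aut_valid_get (by norm_num)) u_tab
  | succ i ih =>
    intro hi
    refine tab_of_inv (aut_valid_get (by omega)) fun x => ?_
    have h := List.all_eq_true.1 (List.all_eq_true.1 pow_step i (List.mem_range.2 (by omega))) x.val
      (List.mem_range.2 x.isLt)
    rw [beq_iff_eq] at h
    have h1 := ih (by omega)
    have h0 : psi uEl = perm 1782 (autTabs.getD 0 (0, 0)) := tab_wval (aut_valid_get (by norm_num)) u_tab
    have v0 := aut_valid_get (show 0 < 14 by norm_num)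
    have vi := aut_valid_get (show i < 14 by omega)
    rw [h, pow_succ (n := i + 1), map_mul, mul_inv_rev, Equiv.Perm.mul_apply, h0, h1, ← perm_pinv v0,
      ← perm_pinv vi, perm_apply (valid_pinv v0), perm_apply (valid_pinv vi)]
    rfl

theorem xTabs_getD {l : ℕ} (hl : l < 21) :
    xTabs.getD l (0, 0) = if l < 7 then tabs.getD l (0, 0) else autTabs.getD (l - 7) (0, 0) := by
  interval_cases l <;> rfl

theorem psi_imX (l : ℕ) (hl : l < xTabs.length) :
    valid 1782 (xTabs.getD l (0, 0)) = true ∧ psi (imX l) = perm 1782 (xTabs.getD l (0, 0)) := by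
  have hl' : l < 21 := hl
  rw [xTabs_getD hl', imX]
  split_ifs with h7 h17
  · exact psi_im l h7
  · refine ⟨aut_valid_get (by omega), ?_⟩
    rw [show l - 6 = l - 7 + 1 by omega]
    exact psi_uPow _ (by omega)
  · refine ⟨aut_valid_get (by omega), tab_wval (aut_valid_get (by omega)) ?_⟩
    interval_cases l
    exacts [x_tab, z_tab, ytwo_tab, y_tab]

/-- All letters are in the alphabet. -/
def inX (w : List ℕ) : Bool := w.all fun l => Nat.blt l 21

theorem inX_lt {w : List ℕ} (h : inX w = true) : ∀ l ∈ w, l < xTabs.length := fun l hl => by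
  have := List.all_eq_true.1 h l hl
  exact Nat.le_of_ble_eq_true this

theorem evalX_apply {w : List ℕ} (h : inX w = true) (x : Fin 1782) :
    ((psi (wval imX w))⁻¹ x : ℕ) = evalW xTabs w x :=
  evalW_apply imX psi xTabs psi_imX w (inX_lt h) x

theorem eval_eq {w v : List ℕ} (hw : inX w = true) (hv : inX v = true) (h : wval imX w = wval imX v) {x : ℕ}
    (hx : x < 1782) : evalW xTabs w x = evalW xTabs v x := by
  rw [← evalX_apply hw ⟨x, hx⟩, h, evalX_apply hv ⟨x, hx⟩]

theorem chains_ok : chainOK tabs 1782 7 (chainU.map SLev.lev) = true ∧ chainU.all (SLev.ok tabs) = true ∧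
    chainSize (chainU.map SLev.lev) = 448345497600 ∧ chainOK tabs 1782 7 (chainY.map SLev.lev) = true ∧
    chainY.all (SLev.ok tabs) = true ∧ chainSize (chainY.map SLev.lev) = 448345497600 := by decide +kernel

instance finiteSuz : Finite Cfsg.Spor.Suz := Nat.finite_of_card_ne_zero (by rw [card_suz]; norm_num)

/-- The images of the base points of a chain. -/
def Images (c : List SLev) (x : Cfsg.Spor.Suz) (ts : List ℕ) : Prop :=
  List.Forall₂ (fun S t => ∀ p : Fin 1782, p.val = S.lev.b → ((psi x)⁻¹ p).val = t) c ts

theorem found {c : List SLev} (hc : c = chainU ∨ c = chainY) {x : Cfsg.Spor.Suz} {ts : List ℕ} (h : Images c x ts) :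
    ∃ w, sift tabs c ts = some w ∧ wval im w = x := by
  obtain ⟨h1, h2, h3, h4, h5, h6⟩ := chains_ok
  rcases hc with rfl | rfl
  · exact sift_complete tabledSuz _ ⊤ inferInstance h1 h2 (fun _ _ _ _ => Subgroup.mem_top _)
      (by rw [Subgroup.card_top, card_suz, h3]) x (Subgroup.mem_top x) ts h
  · exact sift_complete tabledSuz _ ⊤ inferInstance h4 h5 (fun _ _ _ _ => Subgroup.mem_top _)
      (by rw [Subgroup.card_top, card_suz, h6]) x (Subgroup.mem_top x) ts h

theorem images_unique {c : List SLev} (hc : c = chainU ∨ c = chainY) {x y : Cfsg.Spor.Suz} {ts : List ℕ}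
    (hx : Images c x ts) (hy : Images c y ts) : x = y := by
  obtain ⟨w, hw, ex⟩ := found hc hx
  obtain ⟨v, hv, ey⟩ := found hc hy
  rw [hw, Option.some.injEq] at hv
  rw [← ex, ← ey, hv]

theorem base_lt : chainU.all (fun S => Nat.blt S.lev.b 1782) = true := by decide +kernel

/-- Two words agree on the base points. -/
def sameW (w v : List ℕ) : Bool :=
  inX w && inX v && chainU.all fun S => evalW xTabs w S.lev.b == evalW xTabs v S.lev.b

theorem images_map {c : List SLev} {x : Cfsg.Spor.Suz} (f : SLev → ℕ)
    (h : ∀ S ∈ c, ∀ p : Fin 1782, p.val = S.lev.b → ((psi x)⁻¹ p).val = f S) : Images c x (c.map f) := by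
  rw [Images, List.forall₂_map_right_iff]
  exact List.forall₂_same.2 h

theorem sameW_sound {w v : List ℕ} (h : sameW w v = true) : wval imX w = wval imX v := by
  simp only [sameW, Bool.and_eq_true, List.all_eq_true, beq_iff_eq] at h
  refine images_unique (Or.inl rfl) (images_map (fun S => evalW xTabs w S.lev.b) fun S _ p hp => ?_)
    (images_map _ fun S hS p hp => ?_)
  · rw [evalX_apply h.1.1, hp]
  · rw [evalX_apply h.1.2, hp, h.2 S hS]

theorem wvalX_append (v w : List ℕ) : wval imX (v ++ w) = wval imX v * wval imX w := wval_append imX v w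

theorem imX_low {l : ℕ} (h : l < 7) : imX l = im l := if_pos h

theorem imX_pow {i : ℕ} (h0 : 1 ≤ i) (h : i ≤ 10) : imX (6 + i) = uEl ^ i := by
  rw [imX, if_neg (by omega), if_pos (by omega), show 6 + i - 6 = i by omega]

theorem wvalX_low {w : List ℕ} (h : (w.all fun l => Nat.blt l 7) = true) : wval imX w = wval im w :=
  congrArg List.prod (List.map_congr_left fun l hl => imX_low (Nat.le_of_ble_eq_true (List.all_eq_true.1 h l hl)))

theorem wvalX_reverse {w : List ℕ} (h : (w.all fun l => Nat.blt l 7) = true) :
    wval imX w.reverse = (wval imX w)⁻¹ := by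
  refine wval_reverse imX fun l hl => ?_
  have := Nat.le_of_ble_eq_true (List.all_eq_true.1 h l hl)
  rw [imX_low this]
  exact good_im.inv this

end Cfsg.Lib.SuzPres
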