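import Cfsg.Agent.SuzPres.Alpha

/-!
Word checks for the automorphisms of the presented Suzuki group.
-/

set_option autoImplicit false
set_option Elab.async false

namespace Cfsg.Lib.SuzPres

open Cfsg.Lib.CosetCert Cfsg.Lib.PermCert

/-- A power as a word. -/
def powWord (i : ℕ) : List ℕ := if i = 0 then [] else [6 + i]

/-- The images of the first base points under an element taking the first to `r` and commuting with the element of
order eleven. -/
def imagesU (r : ℕ) : List ℕ := (List.range 6).map fun j => evalW xTabs (powWord j) r

/-- The same for the element of order five. -/
def imagesY (r : ℕ) : List ℕ := (List.range 4).map fun j => evalW xTabs (List.replicate j 19) r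

theorem bases_ok : (chainU.map fun S => S.lev.b) = imagesU 0 ∧
    (chainY.map fun S => S.lev.b) = imagesY 2 ∧ inX (xWord ++ zWord ++ yTwoWord ++ yWord ++ uWord) = true := by
  decide +kernel

/-- The test for the centraliser of the element of order eleven. -/
def testU (r : ℕ) : Bool :=
  match sift tabs chainU (imagesU r) with
  | none => true
  | some w => ((List.range 11).any fun i => evalW xTabs (powWord i) 0 == r) || !sameW (w ++ [7]) (7 :: w) || !inX w

/-- The test for the centraliser of the element of order five. -/
def testY (r : ℕ) : Bool :=
  match sift tabs chainY (imagesY r) with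
  | none => true
  | some w => candPts.contains r || !sameW (w ++ [19]) (19 :: w) || !inX w

theorem testU0 : (List.range' 0 500).all testU = true := by decide +kernel
theorem testU1 : (List.range' 500 500).all testU = true := by decide +kernel
theorem testU2 : (List.range' 1000 400).all testU = true := by decide +kernel
theorem testU3 : (List.range' 1400 382).all testU = true := by decide +kernel
theorem testY0 : (List.range' 0 500).all testY = true := by decide +kernel
theorem testY1 : (List.range' 500 500).all testY = true := by decide +kernel
theorem testY2 : (List.range' 1000 400).all testY = true := by decide +kernel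
theorem testY3 : (List.range' 1400 382).all testY = true := by decide +kernel

theorem powImages_ok : ((List.range 11).all fun i => inX (powWord i) && (List.range 6).all fun j =>
    evalW xTabs (powWord j) (evalW xTabs (powWord i) 0) == evalW xTabs (powWord i) (evalW xTabs (powWord j) 0)) = true := by
  decide +kernel

/-- A candidate has the listed images. -/
def candOK (k : ℕ) : Bool :=
  inX (candWords.getD k []) && (List.range 4).all fun j =>
    evalW xTabs (List.replicate j 19) (candPts.getD k 0) ==
      evalW xTabs (candWords.getD k []) (evalW xTabs (List.replicate j 19) 2)

theorem cand_ok : (List.range 300).all candOK = true ∧ candPts.length = 300 := by decide +kernel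

/-- A relation. -/
def relWord (r : ℕ) (x : List ℕ) : List ℕ :=
  rpt (relData.getD r (0, [])).1 ((relData.getD r (0, [])).2.flatMap fun i => x ++ powWord i)

theorem rel_ok : ((List.range 4).all fun r => sameW (relWord r [17]) [] &&
    ((relData.getD r (0, [])).2.all fun i => Nat.blt i 11)) = true := by decide +kernel

/-- A candidate breaks a relation. -/
def killOK (k : ℕ) : Bool :=
  ((k == survX) && sameW (candWords.getD k []) [17]) || ((k == survZ) && sameW (candWords.getD k []) [18]) ||
    (Nat.blt (candKill.getD k (0, 0)).1 4 && Nat.blt (candKill.getD k (0, 0)).2 1782 &&
      inX (relWord (candKill.getD k (0, 0)).1 (candWords.getD k [])) &&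
      (evalW xTabs (relWord (candKill.getD k (0, 0)).1 (candWords.getD k [])) (candKill.getD k (0, 0)).2 !=
        (candKill.getD k (0, 0)).2))

theorem kill0 : (List.range' 0 150).all killOK = true := by decide +kernel
theorem kill1 : (List.range' 150 150).all killOK = true := by decide +kernel

theorem local_ok : sameW (rpt 11 [7]) [] = true ∧ (evalW xTabs [7] 0 != 0) = true ∧
    sameW (yWord.reverse ++ [7] ++ yWord) [8] = true ∧
    sameW (19 :: 7 :: yTwoWord.reverse) [9] = true ∧ sameW [19] yTwoWord = true ∧
    (yWord ++ yTwoWord ++ xWord).all (fun l => Nat.blt l 7) = true ∧ sameW [17, 19] [19, 17] = true ∧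
    (evalW xTabs [18] 2 != evalW xTabs [17] 2) = true := by decide +kernel

theorem gen_ok : ((List.range 7).all fun l => sameW (genWords.getD l []) [l] &&
    (genWords.getD l []).all fun x => (x == 17) || (Nat.blt 6 x && Nat.blt x 17)) = true := by decide +kernel

/-- A word after substitution. -/
def substW (w : List ℕ) : List ℕ := w.flatMap fun l => outWords.getD l []

theorem out_rel : (allWords.all fun w => sameW (substW w) []) = true := by decide +kernel

theorem out_vals : sameW (substW uWord) [7] = true ∧ sameW (substW yTwoWord) [19] = true ∧
    sameW (substW xWord) [18] = true ∧ (uWord ++ yTwoWord ++ xWord).all (fun l => Nat.blt l 7) = true := by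
  decide +kernel

end Cfsg.Lib.SuzPres
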