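import Cfsg.Agent.SuzPres.Simple
import Cfsg.Agent.SuzPres.JTwoData
import Cfsg.Agent.Spor.J2.LinesData

/-!
Kernel checks: suborbits of the subgroup on five letters, and five involutions on 315 lines satisfying its
relations.
-/

set_option autoImplicit false
set_option Elab.async false

namespace Cfsg.Lib.SuzPres.JTwo

open Cfsg.Lib.CosetCert Cfsg.Lib.PermCert

/-- The letters of a word are among the first five. -/
def fiveWord (w : List ℕ) : Bool := w.all fun l => decide (l < 5)

/-- The one-letter words among the first five. -/
def fiveLetters : List (List ℕ) := [[0], [1], [2], [3], [4]]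

/-- The mask of a tree. -/
def treeMask (o : ℕ × List (ℕ × ℕ × ℕ)) : ℕ := maskOf o.2 (1 <<< o.1)

/-- The number of points of a mask. -/
def cnt (m : ℕ) : ℕ := ((List.range 1782).filter fun x => m.testBit x).length

/-- The union of some parts with a point. -/
def joinMask (p : ℕ) (l : List ℕ) : ℕ := l.foldl (fun a m => a ||| m) (1 <<< p)

/-- No union of parts with the point has a proper divisor of the orbit length as size. -/
def sizesOK (p N : ℕ) (ms : List ℕ) : Bool :=
  ms.sublists.all fun l => cnt (joinMask p l) == 1 || cnt (joinMask p l) == N || N % cnt (joinMask p l) != 0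

/-- The parts cover the orbit apart from the point, and each is reached by the words given. -/
def partsOK (p om : ℕ) (gens : List (List ℕ)) (ps : List (ℕ × List (ℕ × ℕ × ℕ))) : Bool :=
  (gens.all fun w => (w.all fun l => decide (l < 7)) && evalW tabs w p == p) &&
    (ps.all fun o => decide (o.1 < 1782) && scanOrb tabs 1782 gens (1 <<< o.1) o.2) &&
    (List.range 1782).all fun x => !om.testBit x || x == p || (ps.map treeMask).any fun m => m.testBit x

/-- An orbit of the five letters with a point stabiliser acting primitively. -/
def orbitOK (o : ℕ × List (ℕ × ℕ × ℕ)) (gens : List (List ℕ)) (ps : List (ℕ × List (ℕ × ℕ × ℕ))) (N : ℕ) : Bool :=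
  decide (o.1 < 1782) && scanOrb tabs 1782 fiveLetters (1 <<< o.1) o.2 && gens.all fiveWord &&
    ((List.range 1782).all fun x => !(treeMask o).testBit x ||
      fiveLetters.all fun w => (treeMask o).testBit (evalW tabs w x)) &&
    cnt (treeMask o) == N && partsOK o.1 (treeMask o) gens ps && sizesOK o.1 N (ps.map treeMask)

theorem orbit0_ok : orbitOK orbit0 stabGens0 parts0 100 = true := by decide +kernel

theorem orbit1_ok : orbitOK orbit1 stabGens1 parts1 315 = true := by decide +kernel

theorem top_ok : mask1.testBit 995 = true ∧ partsOK 995 mask1 fiveLetters [orbit0, orbit1] = true ∧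
    sizesOK 995 416 ([orbit0, orbit1].map treeMask) = true := by decide +kernel

theorem line_valid : lineGens.all (valid 315) = true ∧ Cfsg.Lib.J2.genPP.all (valid 315) = true := by
  decide +kernel

theorem line_rels : (words.all fun w => !fiveWord w ||
    isId 315 (w.map fun l => lineGens.getD l (0, 0))) = true := by decide +kernel

theorem line_mem : lineGens.length = 5 ∧ Cfsg.Lib.J2.genPP.length = 4 ∧
    ((List.range 5).all fun l => (toFour.getD l []).all (fun k => decide (k < 4)) &&
      isId 315 ((toFour.getD l []).map (fun k => Cfsg.Lib.J2.genPP.getD k (0, 0)) ++ [lineGens.getD l (0, 0)])) = true ∧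
    ((List.range 4).all fun k => (toFive.getD k []).all (fun l => decide (l < 5)) &&
      isId 315 ((toFive.getD k []).map (fun l => lineGens.getD l (0, 0)) ++
        [pinv (Cfsg.Lib.J2.genPP.getD k (0, 0))])) = true := by decide +kernel

theorem low_rels : ((L1.rels ++ L2.rels).all fiveWord && L0.rels.all fun r => fiveWord (r.map (2 + ·))) = true := by
  decide +kernel

theorem five_self : ∀ l : Fin 5, [l.val, l.val] ∈ words := by decide +kernel

end Cfsg.Lib.SuzPres.JTwo
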