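import Cfsg.Agent.CosetCert.Basic

/-!
Generated coset enumeration certificate: index 16, letters cd, subgroup .
-/

set_option autoImplicit false

namespace Cfsg.Lib.SuzPres.L0

open Cfsg.Lib.CosetCert

def edgeTL0 : ℕ :=
  0xe00000f100000f00000d100000e00000c000000d00000b000000c00000a100000b000009100000a000008000000900000700000080000061000007000005100000600000400000050000030000004000002100000300000110000020000000000001000000

def edgeT : BT :=
  .leaf edgeTL0

def parTL0 : ℕ :=
  0xe00000d00000c00000b00000a000009000008000007000006000005000004000003000002000001000000000000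

def parT : BT :=
  .leaf parTL0

def rotTL0 : ℕ :=
  0x2121212121212121

def rotT : BT :=
  .leaf rotTL0

def finsTL0 : ℕ :=
  0xf00000e00000d00000c00000b00000a000009000008000007000006000005000004000003000002000001000000

def finsT : BT :=
  .leaf finsTL0

def tabTL0 : ℕ :=
  0xd00001d00000e00001e00000c00001b00000f00001f00000f00001c00000b00001900000e00001a00000a00001700000900001500000d00001800000800001300000c00001600000b00001400000700001100000a00001200000600000f00000500000d00000900001000000400000b00000800000e00000700000c00000300000900000600000a000002000007000001000005000005000008000000000003000004000006000003000004000000000001000002000002000001000000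

def tabT : BT :=
  .leaf tabTL0

def cert : Cert where
  ng := 2
  depth := 0
  edges := edgeT
  pars := parT
  subs := []
  rots := rotT
  m := 16
  finT := finsT
  tab := tabT

def rels : List (List ℕ) :=
  [[0,0],
   [1,1],
   [0,1,0,1,0,1,0,1,0,1,0,1,0,1,0,1]]

def spec : List (ℕ × ℕ × Bool) :=
  [(2,1,false)]

def steps0 : List (ℕ × ℕ) :=
  [(0,0x0),
   (0,0x0),
   (0,0x0),
   (0,0x0),
   (0,0x0),
   (0,0x0),
   (0,0x0),
   (0,0x0),
   (0,0x0),
   (0,0x0),
   (0,0x0),
   (0,0x0),
   (0,0x0),
   (0,0x0),
   (0,0x0),
   (2,0x1b00001700001300000f00000b00000700000300000200000600000a00000e00001200001600001a00001e)]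

end Cfsg.Lib.SuzPres.L0
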