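import Cfsg.Agent.SuzPres.Relators
import Cfsg.Agent.SuzPres.Action
import Cfsg.Agent.SuzPres.L0Check
import Cfsg.Agent.SuzPres.L1Check
import Cfsg.Agent.SuzPres.L2Check
import Cfsg.Agent.SuzPres.L3Check
import Cfsg.Agent.SuzPres.L4Check
import Cfsg.Agent.CosetCert.Lower

/-!
The order of the presented Suzuki group and of the subgroups of its chain.
-/

set_option autoImplicit false

namespace Cfsg.Lib.SuzPres

open Cfsg.Lib.CosetCert Cfsg.Lib.PermCert

/-- The subgroup on the first `k` letters. -/
def first (k : ℕ) : Subgroup Cfsg.Spor.Suz := Subgroup.closure (im '' Set.Iio k)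

/-- The letters shifted by two. -/
def imCD (n : ℕ) : Cfsg.Spor.Suz := im (2 + n)

/-- The dihedral subgroup at the bottom. -/
def bottom : Subgroup Cfsg.Spor.Suz := Subgroup.closure (imCD '' Set.Iio 2)

theorem rels_mem1 : ∀ r ∈ L1.rels, r ∈ words := by decide +kernel
theorem rels_mem2 : ∀ r ∈ L2.rels, r ∈ words := by decide +kernel
theorem rels_mem3 : ∀ r ∈ L3.rels, r ∈ words := by decide +kernel
theorem rels_mem4 : ∀ r ∈ L4.rels, r ∈ words := by decide +kernel
theorem rels_mem0 : ∀ r ∈ L0.rels, r.map (2 + ·) ∈ words := by decide +kernel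

theorem rels_small : ((L0.rels.all fun r => r.all fun l => decide (l < 2)) &&
    (L1.rels ++ L2.rels ++ L3.rels ++ L4.rels).all fun r => r.all fun l => decide (l < 7)) = true := by decide +kernel

theorem im_words {r : List ℕ} (hr : r ∈ words) : wval im r = 1 := by
  rcases List.mem_cons.1 hr with rfl | hr
  · rfl
  · exact good_im r hr

theorem cert_bound {C : Cert} {R : List (List ℕ)} (hC : C.Valid R) (hR : ∀ r ∈ R, r ∈ words)
    (hlet : ∀ r ∈ R, ∀ l ∈ r, l < 7) (hng : C.ng ≤ 7) {K L : Subgroup Cfsg.Spor.Suz} [Finite K]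
    (hsub : ∀ s ∈ C.subs, im s ∈ K) (hL : L ≤ first C.ng) :
    Finite L ∧ Nat.card L ≤ C.fin.length * Nat.card K :=
  card_le C im hC (fun l hl => good_im.inv (by omega)) (fun r hr => im_words (hR r hr))
    (fun r hr l hl => good_im.inv (hlet r hr l hl)) hsub hL

theorem letters_high : ∀ r ∈ L1.rels ++ L2.rels ++ L3.rels ++ L4.rels, ∀ l ∈ r, l < 7 := fun r hr l hl => by
  have := (Bool.and_eq_true_iff.1 rels_small).2
  simp only [List.all_eq_true, decide_eq_true_eq] at this
  exact this r hr l hl

theorem im_mem {k n : ℕ} (h : n < k) : im n ∈ first k := Subgroup.subset_closure ⟨n, h, rfl⟩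

theorem bottom_bound : Finite bottom ∧ Nat.card bottom ≤ 16 := by
  have hR : ∀ r ∈ L0.rels, wval imCD r = 1 := fun r hr => by
    have := im_words (rels_mem0 r hr)
    rwa [wval, List.map_map] at this
  have hinv : ∀ l, l < 2 → imCD l * imCD l = 1 := fun l hl => good_im.inv (by omega)
  have h := card_le (K := (⊥ : Subgroup Cfsg.Spor.Suz)) (L := bottom) L0.cert imCD L0.valid hinv hR
    (fun r hr l hl => by
      have := (Bool.and_eq_true_iff.1 rels_small).1
      simp only [List.all_eq_true, decide_eq_true_eq] at this
      exact hinv l (this r hr l hl))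
    (by simp [L0.cert]) le_rfl
  rw [Subgroup.card_bot, L0.fins_length] at h
  simpa using h

theorem bound4 : Finite (first 4) ∧ Nat.card (first 4) ≤ 2160 := by
  haveI := bottom_bound.1
  obtain ⟨h1, h2⟩ := cert_bound L1.valid rels_mem1 (fun r hr => letters_high r (by simp [hr])) (by decide)
    (K := bottom) (L := first 4) (by
      intro s hs
      simp only [L1.cert, List.mem_cons, List.mem_nil_iff, or_false] at hs
      rcases hs with rfl | rfl
      · exact Subgroup.subset_closure ⟨0, by norm_num, rfl⟩
      · exact Subgroup.subset_closure ⟨1, by norm_num, rfl⟩) le_rfl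
  rw [L1.fins_length] at h2
  exact ⟨h1, h2.trans (by have := bottom_bound.2; omega)⟩

theorem bound5 : Finite (first 5) ∧ Nat.card (first 5) ≤ 604800 := by
  haveI := bound4.1
  obtain ⟨h1, h2⟩ := cert_bound L2.valid rels_mem2 (fun r hr => letters_high r (by simp [hr])) (by decide)
    (K := first 4) (L := first 5) (fun s hs => im_mem (by
      simp only [L2.cert, List.mem_cons, List.mem_nil_iff, or_false] at hs; omega)) le_rfl
  rw [L2.fins_length] at h2
  exact ⟨h1, h2.trans (by have := bound4.2; omega)⟩

theorem bound6 : Finite (first 6) ∧ Nat.card (first 6) ≤ 251596800 := by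
  haveI := bound5.1
  obtain ⟨h1, h2⟩ := cert_bound L3.valid rels_mem3 (fun r hr => letters_high r (by simp [hr])) (by decide)
    (K := first 5) (L := first 6) (fun s hs => im_mem (by
      simp only [L3.cert, List.mem_cons, List.mem_nil_iff, or_false] at hs; omega)) le_rfl
  rw [L3.fins_length] at h2
  exact ⟨h1, h2.trans (by have := bound5.2; omega)⟩

theorem bound7 : Finite (first 7) ∧ Nat.card (first 7) ≤ 448345497600 := by
  haveI := bound6.1
  obtain ⟨h1, h2⟩ := cert_bound L4.valid rels_mem4 (fun r hr => letters_high r (by simp [hr])) (by decide)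
    (K := first 6) (L := first 7) (fun s hs => im_mem (by
      simp only [L4.cert, List.mem_cons, List.mem_nil_iff, or_false] at hs; omega)) le_rfl
  rw [L4.fins_length] at h2
  exact ⟨h1, h2.trans (by have := bound6.2; omega)⟩

theorem first_top : first 7 = ⊤ := closure_im

instance finite_suz : Finite Cfsg.Spor.Suz := by
  haveI := bound7.1
  haveI : Finite (⊤ : Subgroup Cfsg.Spor.Suz) := first_top ▸ bound7.1
  exact Finite.of_equiv _ Subgroup.topEquiv.toEquiv

/-- The action on the cosets of the subgroup on six letters. -/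
def psi : Cfsg.Spor.Suz →* Equiv.Perm (Fin 1782) := toGrp good_act

theorem psi_im (l : ℕ) (hl : l < tabs.length) :
    valid 1782 (tabs.getD l (0, 0)) = true ∧ psi (im l) = perm 1782 (tabs.getD l (0, 0)) := by
  have h7 : l < 7 := hl
  exact ⟨List.all_eq_true.1 tabs_valid l (List.mem_range.2 h7), toGrp_im good_act h7⟩

theorem chain_ok : chainOK tabs 1782 7 chain = true ∧ chainOK tabs 1782 7 chain.tail = true ∧
    chainOK tabs 1782 7 chain.tail.tail = true := by decide +kernel

theorem chain_sizes : chainSize chain = 448345497600 ∧ chainSize chain.tail = 251596800 ∧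
    chainSize chain.tail.tail = 604800 := by decide +kernel

theorem gens_letters : ((chain.tail.tail.all fun K => K.gens.all fun w => w.all fun l => decide (l < 5)) &&
    (chain.tail.all fun K => K.gens.all fun w => w.all fun l => decide (l < 6))) = true := by decide +kernel

theorem wval_mem {k : ℕ} : ∀ {w : List ℕ}, (∀ l ∈ w, l < k) → wval im w ∈ first k
  | [], _ => (first k).one_mem
  | l :: w, h => by
    rw [wval_cons]
    exact mul_mem (im_mem (h l List.mem_cons_self)) (wval_mem fun a ha => h a (List.mem_cons_of_mem l ha))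

theorem card_first_six : Nat.card (first 6) = 251596800 := by
  refine le_antisymm bound6.2 (chain_sizes.2.1 ▸ chain_bound im psi tabs psi_im _ _ chain_ok.2.1 bound6.1 ?_)
  intro K hK w hw
  have := (Bool.and_eq_true_iff.1 gens_letters).2
  simp only [List.all_eq_true, decide_eq_true_eq] at this
  exact wval_mem (this K hK w hw)

theorem card_first_five : Nat.card (first 5) = 604800 := by
  refine le_antisymm bound5.2 (chain_sizes.2.2 ▸ chain_bound im psi tabs psi_im _ _ chain_ok.2.2 bound5.1 ?_)
  intro K hK w hw
  have := (Bool.and_eq_true_iff.1 gens_letters).1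
  simp only [List.all_eq_true, decide_eq_true_eq] at this
  exact wval_mem (this K hK w hw)

theorem card_suz : Nat.card Cfsg.Spor.Suz = 448345497600 := by
  rw [← Subgroup.card_top, ← first_top]
  refine le_antisymm bound7.2 (chain_sizes.1 ▸ chain_bound im psi tabs psi_im _ _ chain_ok.1 bound7.1 ?_)
  intro K _ w _
  rw [first_top]
  trivial

theorem index_first_six : (first 6).index = 1782 := by
  have h := Subgroup.card_mul_index (first 6)
  rw [card_first_six, card_suz] at h
  omega

end Cfsg.Lib.SuzPres
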